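import Cfsg.Agent.Lib.Helper4.TC7
import Cfsg.Agent.Lib.Helper4.TCP_SU52pp2
import Cfsg.Agent.Lib.Helper4.TCD_SU52pp2A_D0
import Cfsg.Agent.Lib.Helper4.TCD_SU52pp2A_D1
import Cfsg.Agent.Lib.Helper4.TCD_SU52pp2A_D2
import Cfsg.Agent.Lib.Helper4.TCD_SU52pp2A_D3
import Cfsg.Agent.Lib.Helper4.TCD_SU52pp2A_D4
import Cfsg.Agent.Lib.Helper4.TCD_SU52pp2A_D5
import Cfsg.Agent.Lib.Helper4.TCD_SU52pp2A_D6
import Cfsg.Agent.Lib.Helper4.TCD_SU52pp2A_D7
import Cfsg.Agent.Lib.Helper4.TCD_SU52pp2A_D8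
import Cfsg.Agent.Lib.Helper4.TCD_SU52pp2A_D9
import Cfsg.Agent.Lib.Helper4.TCD_SU52pp2A_D10
import Cfsg.Agent.Lib.Helper4.TCD_SU52pp2A_D11
import Cfsg.Agent.Lib.Helper4.TCD_SU52pp2A_D12
import Cfsg.Agent.Lib.Helper4.TCD_SU52pp2A_D13
import Cfsg.Agent.Lib.Helper4.TCD_SU52pp2A_D14
import Cfsg.Agent.Lib.Helper4.TCD_SU52pp2A_D15
import Cfsg.Agent.Lib.Helper4.TCD_SU52pp2A_D16
import Cfsg.Agent.Lib.Helper4.TCD_SU52pp2A_D17
import Cfsg.Agent.Lib.Helper4.TCD_SU52pp2A_D18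
import Cfsg.Agent.Lib.Helper4.TCD_SU52pp2A_D19
import Cfsg.Agent.Lib.Helper4.TCD_SU52pp2A_D20
import Cfsg.Agent.Lib.Helper4.TCD_SU52pp2A_D21
import Cfsg.Agent.Lib.Helper4.TCD_SU52pp2A_D22
import Cfsg.Agent.Lib.Helper4.TCD_SU52pp2A_D23
import Cfsg.Agent.Lib.Helper4.TCD_SU52pp2A_D24
import Cfsg.Agent.Lib.Helper4.TCD_SU52pp2A_D25
import Cfsg.Agent.Lib.Helper4.TCD_SU52pp2A_D26
import Cfsg.Agent.Lib.Helper4.TCD_SU52pp2A_D27
import Cfsg.Agent.Lib.Helper4.TCD_SU52pp2A_D28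
import Cfsg.Agent.Lib.Helper4.TCD_SU52pp2A_D29
import Cfsg.Agent.Lib.Helper4.TCD_SU52pp2A_D30
import Cfsg.Agent.Lib.Helper4.TCD_SU52pp2A_D31
import Cfsg.Agent.Lib.Helper4.TCD_SU52pp2A_D32
import Cfsg.Agent.Lib.Helper4.TCD_SU52pp2A_D33
import Cfsg.Agent.Lib.Helper4.TCD_SU52pp2A_D34
import Cfsg.Agent.Lib.Helper4.TCD_SU52pp2A_D35
import Cfsg.Agent.Lib.Helper4.TCD_SU52pp2A_D36
import Cfsg.Agent.Lib.Helper4.TCD_SU52pp2A_D37
import Cfsg.Agent.Lib.Helper4.TCD_SU52pp2A_D38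
import Cfsg.Agent.Lib.Helper4.TCD_SU52pp2A_D39
import Cfsg.Agent.Lib.Helper4.TCD_SU52pp2A_D40
import Cfsg.Agent.Lib.Helper4.TCD_SU52pp2A_D41
import Cfsg.Agent.Lib.Helper4.TCD_SU52pp2A_D42
import Cfsg.Agent.Lib.Helper4.TCD_SU52pp2A_D43
import Cfsg.Agent.Lib.Helper4.TCD_SU52pp2A_D44
import Cfsg.Agent.Lib.Helper4.TCD_SU52pp2A_D45
import Cfsg.Agent.Lib.Helper4.TCD_SU52pp2A_D46
import Cfsg.Agent.Lib.Helper4.TCD_SU52pp2A_D47
import Cfsg.Agent.Lib.Helper4.TCD_SU52pp2A_D48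
import Cfsg.Agent.Lib.Helper4.TCD_SU52pp2A_D49
import Cfsg.Agent.Lib.Helper4.TCD_SU52pp2A_D50
import Cfsg.Agent.Lib.Helper4.TCD_SU52pp2A_D51
import Cfsg.Agent.Lib.Helper4.TCD_SU52pp2A_D52
import Cfsg.Agent.Lib.Helper4.TCD_SU52pp2A_D53
import Cfsg.Agent.Lib.Helper4.TCD_SU52pp2A_D54
import Cfsg.Agent.Lib.Helper4.TCD_SU52pp2A_D55
import Cfsg.Agent.Lib.Helper4.TCD_SU52pp2A_D56
import Cfsg.Agent.Lib.Helper4.TCD_SU52pp2A_D57
import Cfsg.Agent.Lib.Helper4.TCD_SU52pp2A_D58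
import Cfsg.Agent.Lib.Helper4.TCD_SU52pp2A_D59
import Cfsg.Agent.Lib.Helper4.TCD_SU52pp2A_D60
import Cfsg.Agent.Lib.Helper4.TCD_SU52pp2A_D61
import Cfsg.Agent.Lib.Helper4.TCD_SU52pp2A_D62
import Cfsg.Agent.Lib.Helper4.TCD_SU52pp2A_D63
import Cfsg.Agent.Lib.Helper4.TCD_SU52pp2A_D64
import Cfsg.Agent.Lib.Helper4.TCD_SU52pp2A_D65
import Cfsg.Agent.Lib.Helper4.TCD_SU52pp2A_D66
import Cfsg.Agent.Lib.Helper4.TCD_SU52pp2A_D67
import Cfsg.Agent.Lib.Helper4.TCD_SU52pp2A_D68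
import Cfsg.Agent.Lib.Helper4.TCD_SU52pp2A_D69
import Cfsg.Agent.Lib.Helper4.TCD_SU52pp2A_D70
import Cfsg.Agent.Lib.Helper4.TCD_SU52pp2A_D71

namespace Cfsg.Agent.Lib.Helper4.TCD.SU52pp2A

open Cfsg.Agent.Lib.Helper4.TC

set_option maxRecDepth 100000

noncomputable def Atab_s_0_2 (c : Nat) : Nat := @Bool.rec (fun _ => Nat) (Atab_0) (Atab_1) (Nat.ble 1 c)
noncomputable def Atab_s_2_4 (c : Nat) : Nat := @Bool.rec (fun _ => Nat) (Atab_2) (Atab_3) (Nat.ble 3 c)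
noncomputable def Atab_s_0_4 (c : Nat) : Nat := @Bool.rec (fun _ => Nat) (Atab_s_0_2 c) (Atab_s_2_4 c) (Nat.ble 2 c)
noncomputable def Atab_s_4_6 (c : Nat) : Nat := @Bool.rec (fun _ => Nat) (Atab_4) (Atab_5) (Nat.ble 5 c)
noncomputable def Atab_s_6_8 (c : Nat) : Nat := @Bool.rec (fun _ => Nat) (Atab_6) (Atab_7) (Nat.ble 7 c)
noncomputable def Atab_s_4_8 (c : Nat) : Nat := @Bool.rec (fun _ => Nat) (Atab_s_4_6 c) (Atab_s_6_8 c) (Nat.ble 6 c)
noncomputable def Atab_s_0_8 (c : Nat) : Nat := @Bool.rec (fun _ => Nat) (Atab_s_0_4 c) (Atab_s_4_8 c) (Nat.ble 4 c)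
noncomputable def Atab_s_8_10 (c : Nat) : Nat := @Bool.rec (fun _ => Nat) (Atab_8) (Atab_9) (Nat.ble 9 c)
noncomputable def Atab_s_10_12 (c : Nat) : Nat := @Bool.rec (fun _ => Nat) (Atab_10) (Atab_11) (Nat.ble 11 c)
noncomputable def Atab_s_8_12 (c : Nat) : Nat := @Bool.rec (fun _ => Nat) (Atab_s_8_10 c) (Atab_s_10_12 c) (Nat.ble 10 c)
noncomputable def Atab_s_12_14 (c : Nat) : Nat := @Bool.rec (fun _ => Nat) (Atab_12) (Atab_13) (Nat.ble 13 c)
noncomputable def Atab_s_15_17 (c : Nat) : Nat := @Bool.rec (fun _ => Nat) (Atab_15) (Atab_16) (Nat.ble 16 c)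
noncomputable def Atab_s_14_17 (c : Nat) : Nat := @Bool.rec (fun _ => Nat) (Atab_14) (Atab_s_15_17 c) (Nat.ble 15 c)
noncomputable def Atab_s_12_17 (c : Nat) : Nat := @Bool.rec (fun _ => Nat) (Atab_s_12_14 c) (Atab_s_14_17 c) (Nat.ble 14 c)
noncomputable def Atab_s_8_17 (c : Nat) : Nat := @Bool.rec (fun _ => Nat) (Atab_s_8_12 c) (Atab_s_12_17 c) (Nat.ble 12 c)
noncomputable def Atab_s_0_17 (c : Nat) : Nat := @Bool.rec (fun _ => Nat) (Atab_s_0_8 c) (Atab_s_8_17 c) (Nat.ble 8 c)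
noncomputable def Atab_s_17_19 (c : Nat) : Nat := @Bool.rec (fun _ => Nat) (Atab_17) (Atab_18) (Nat.ble 18 c)
noncomputable def Atab_s_19_21 (c : Nat) : Nat := @Bool.rec (fun _ => Nat) (Atab_19) (Atab_20) (Nat.ble 20 c)
noncomputable def Atab_s_17_21 (c : Nat) : Nat := @Bool.rec (fun _ => Nat) (Atab_s_17_19 c) (Atab_s_19_21 c) (Nat.ble 19 c)
noncomputable def Atab_s_21_23 (c : Nat) : Nat := @Bool.rec (fun _ => Nat) (Atab_21) (Atab_22) (Nat.ble 22 c)
noncomputable def Atab_s_24_26 (c : Nat) : Nat := @Bool.rec (fun _ => Nat) (Atab_24) (Atab_25) (Nat.ble 25 c)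
noncomputable def Atab_s_23_26 (c : Nat) : Nat := @Bool.rec (fun _ => Nat) (Atab_23) (Atab_s_24_26 c) (Nat.ble 24 c)
noncomputable def Atab_s_21_26 (c : Nat) : Nat := @Bool.rec (fun _ => Nat) (Atab_s_21_23 c) (Atab_s_23_26 c) (Nat.ble 23 c)
noncomputable def Atab_s_17_26 (c : Nat) : Nat := @Bool.rec (fun _ => Nat) (Atab_s_17_21 c) (Atab_s_21_26 c) (Nat.ble 21 c)
noncomputable def Atab_s_26_28 (c : Nat) : Nat := @Bool.rec (fun _ => Nat) (Atab_26) (Atab_27) (Nat.ble 27 c)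
noncomputable def Atab_s_28_30 (c : Nat) : Nat := @Bool.rec (fun _ => Nat) (Atab_28) (Atab_29) (Nat.ble 29 c)
noncomputable def Atab_s_26_30 (c : Nat) : Nat := @Bool.rec (fun _ => Nat) (Atab_s_26_28 c) (Atab_s_28_30 c) (Nat.ble 28 c)
noncomputable def Atab_s_30_32 (c : Nat) : Nat := @Bool.rec (fun _ => Nat) (Atab_30) (Atab_31) (Nat.ble 31 c)
noncomputable def Atab_s_33_35 (c : Nat) : Nat := @Bool.rec (fun _ => Nat) (Atab_33) (Atab_34) (Nat.ble 34 c)
noncomputable def Atab_s_32_35 (c : Nat) : Nat := @Bool.rec (fun _ => Nat) (Atab_32) (Atab_s_33_35 c) (Nat.ble 33 c)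
noncomputable def Atab_s_30_35 (c : Nat) : Nat := @Bool.rec (fun _ => Nat) (Atab_s_30_32 c) (Atab_s_32_35 c) (Nat.ble 32 c)
noncomputable def Atab_s_26_35 (c : Nat) : Nat := @Bool.rec (fun _ => Nat) (Atab_s_26_30 c) (Atab_s_30_35 c) (Nat.ble 30 c)
noncomputable def Atab_s_17_35 (c : Nat) : Nat := @Bool.rec (fun _ => Nat) (Atab_s_17_26 c) (Atab_s_26_35 c) (Nat.ble 26 c)
noncomputable def Atab_s_0_35 (c : Nat) : Nat := @Bool.rec (fun _ => Nat) (Atab_s_0_17 c) (Atab_s_17_35 c) (Nat.ble 17 c)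
noncomputable def Atab_s_35_37 (c : Nat) : Nat := @Bool.rec (fun _ => Nat) (Atab_35) (Atab_36) (Nat.ble 36 c)
noncomputable def Atab_s_37_39 (c : Nat) : Nat := @Bool.rec (fun _ => Nat) (Atab_37) (Atab_38) (Nat.ble 38 c)
noncomputable def Atab_s_35_39 (c : Nat) : Nat := @Bool.rec (fun _ => Nat) (Atab_s_35_37 c) (Atab_s_37_39 c) (Nat.ble 37 c)
noncomputable def Atab_s_39_41 (c : Nat) : Nat := @Bool.rec (fun _ => Nat) (Atab_39) (Atab_40) (Nat.ble 40 c)
noncomputable def Atab_s_42_44 (c : Nat) : Nat := @Bool.rec (fun _ => Nat) (Atab_42) (Atab_43) (Nat.ble 43 c)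
noncomputable def Atab_s_41_44 (c : Nat) : Nat := @Bool.rec (fun _ => Nat) (Atab_41) (Atab_s_42_44 c) (Nat.ble 42 c)
noncomputable def Atab_s_39_44 (c : Nat) : Nat := @Bool.rec (fun _ => Nat) (Atab_s_39_41 c) (Atab_s_41_44 c) (Nat.ble 41 c)
noncomputable def Atab_s_35_44 (c : Nat) : Nat := @Bool.rec (fun _ => Nat) (Atab_s_35_39 c) (Atab_s_39_44 c) (Nat.ble 39 c)
noncomputable def Atab_s_44_46 (c : Nat) : Nat := @Bool.rec (fun _ => Nat) (Atab_44) (Atab_45) (Nat.ble 45 c)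
noncomputable def Atab_s_46_48 (c : Nat) : Nat := @Bool.rec (fun _ => Nat) (Atab_46) (Atab_47) (Nat.ble 47 c)
noncomputable def Atab_s_44_48 (c : Nat) : Nat := @Bool.rec (fun _ => Nat) (Atab_s_44_46 c) (Atab_s_46_48 c) (Nat.ble 46 c)
noncomputable def Atab_s_48_50 (c : Nat) : Nat := @Bool.rec (fun _ => Nat) (Atab_48) (Atab_49) (Nat.ble 49 c)
noncomputable def Atab_s_51_53 (c : Nat) : Nat := @Bool.rec (fun _ => Nat) (Atab_51) (Atab_52) (Nat.ble 52 c)
noncomputable def Atab_s_50_53 (c : Nat) : Nat := @Bool.rec (fun _ => Nat) (Atab_50) (Atab_s_51_53 c) (Nat.ble 51 c)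
noncomputable def Atab_s_48_53 (c : Nat) : Nat := @Bool.rec (fun _ => Nat) (Atab_s_48_50 c) (Atab_s_50_53 c) (Nat.ble 50 c)
noncomputable def Atab_s_44_53 (c : Nat) : Nat := @Bool.rec (fun _ => Nat) (Atab_s_44_48 c) (Atab_s_48_53 c) (Nat.ble 48 c)
noncomputable def Atab_s_35_53 (c : Nat) : Nat := @Bool.rec (fun _ => Nat) (Atab_s_35_44 c) (Atab_s_44_53 c) (Nat.ble 44 c)
noncomputable def Atab_s_53_55 (c : Nat) : Nat := @Bool.rec (fun _ => Nat) (Atab_53) (Atab_54) (Nat.ble 54 c)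
noncomputable def Atab_s_55_57 (c : Nat) : Nat := @Bool.rec (fun _ => Nat) (Atab_55) (Atab_56) (Nat.ble 56 c)
noncomputable def Atab_s_53_57 (c : Nat) : Nat := @Bool.rec (fun _ => Nat) (Atab_s_53_55 c) (Atab_s_55_57 c) (Nat.ble 55 c)
noncomputable def Atab_s_57_59 (c : Nat) : Nat := @Bool.rec (fun _ => Nat) (Atab_57) (Atab_58) (Nat.ble 58 c)
noncomputable def Atab_s_60_62 (c : Nat) : Nat := @Bool.rec (fun _ => Nat) (Atab_60) (Atab_61) (Nat.ble 61 c)
noncomputable def Atab_s_59_62 (c : Nat) : Nat := @Bool.rec (fun _ => Nat) (Atab_59) (Atab_s_60_62 c) (Nat.ble 60 c)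
noncomputable def Atab_s_57_62 (c : Nat) : Nat := @Bool.rec (fun _ => Nat) (Atab_s_57_59 c) (Atab_s_59_62 c) (Nat.ble 59 c)
noncomputable def Atab_s_53_62 (c : Nat) : Nat := @Bool.rec (fun _ => Nat) (Atab_s_53_57 c) (Atab_s_57_62 c) (Nat.ble 57 c)
noncomputable def Atab_s_62_64 (c : Nat) : Nat := @Bool.rec (fun _ => Nat) (Atab_62) (Atab_63) (Nat.ble 63 c)
noncomputable def Atab_s_64_66 (c : Nat) : Nat := @Bool.rec (fun _ => Nat) (Atab_64) (Atab_65) (Nat.ble 65 c)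
noncomputable def Atab_s_62_66 (c : Nat) : Nat := @Bool.rec (fun _ => Nat) (Atab_s_62_64 c) (Atab_s_64_66 c) (Nat.ble 64 c)
noncomputable def Atab_s_66_68 (c : Nat) : Nat := @Bool.rec (fun _ => Nat) (Atab_66) (Atab_67) (Nat.ble 67 c)
noncomputable def Atab_s_69_71 (c : Nat) : Nat := @Bool.rec (fun _ => Nat) (Atab_69) (Atab_70) (Nat.ble 70 c)
noncomputable def Atab_s_68_71 (c : Nat) : Nat := @Bool.rec (fun _ => Nat) (Atab_68) (Atab_s_69_71 c) (Nat.ble 69 c)
noncomputable def Atab_s_66_71 (c : Nat) : Nat := @Bool.rec (fun _ => Nat) (Atab_s_66_68 c) (Atab_s_68_71 c) (Nat.ble 68 c)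
noncomputable def Atab_s_62_71 (c : Nat) : Nat := @Bool.rec (fun _ => Nat) (Atab_s_62_66 c) (Atab_s_66_71 c) (Nat.ble 66 c)
noncomputable def Atab_s_53_71 (c : Nat) : Nat := @Bool.rec (fun _ => Nat) (Atab_s_53_62 c) (Atab_s_62_71 c) (Nat.ble 62 c)
noncomputable def Atab_s_35_71 (c : Nat) : Nat := @Bool.rec (fun _ => Nat) (Atab_s_35_53 c) (Atab_s_53_71 c) (Nat.ble 53 c)
noncomputable def Atab_s_0_71 (c : Nat) : Nat := @Bool.rec (fun _ => Nat) (Atab_s_0_35 c) (Atab_s_35_71 c) (Nat.ble 35 c)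
noncomputable def Atab_s_71_73 (c : Nat) : Nat := @Bool.rec (fun _ => Nat) (Atab_71) (Atab_72) (Nat.ble 72 c)
noncomputable def Atab_s_73_75 (c : Nat) : Nat := @Bool.rec (fun _ => Nat) (Atab_73) (Atab_74) (Nat.ble 74 c)
noncomputable def Atab_s_71_75 (c : Nat) : Nat := @Bool.rec (fun _ => Nat) (Atab_s_71_73 c) (Atab_s_73_75 c) (Nat.ble 73 c)
noncomputable def Atab_s_75_77 (c : Nat) : Nat := @Bool.rec (fun _ => Nat) (Atab_75) (Atab_76) (Nat.ble 76 c)
noncomputable def Atab_s_78_80 (c : Nat) : Nat := @Bool.rec (fun _ => Nat) (Atab_78) (Atab_79) (Nat.ble 79 c)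
noncomputable def Atab_s_77_80 (c : Nat) : Nat := @Bool.rec (fun _ => Nat) (Atab_77) (Atab_s_78_80 c) (Nat.ble 78 c)
noncomputable def Atab_s_75_80 (c : Nat) : Nat := @Bool.rec (fun _ => Nat) (Atab_s_75_77 c) (Atab_s_77_80 c) (Nat.ble 77 c)
noncomputable def Atab_s_71_80 (c : Nat) : Nat := @Bool.rec (fun _ => Nat) (Atab_s_71_75 c) (Atab_s_75_80 c) (Nat.ble 75 c)
noncomputable def Atab_s_80_82 (c : Nat) : Nat := @Bool.rec (fun _ => Nat) (Atab_80) (Atab_81) (Nat.ble 81 c)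
noncomputable def Atab_s_82_84 (c : Nat) : Nat := @Bool.rec (fun _ => Nat) (Atab_82) (Atab_83) (Nat.ble 83 c)
noncomputable def Atab_s_80_84 (c : Nat) : Nat := @Bool.rec (fun _ => Nat) (Atab_s_80_82 c) (Atab_s_82_84 c) (Nat.ble 82 c)
noncomputable def Atab_s_84_86 (c : Nat) : Nat := @Bool.rec (fun _ => Nat) (Atab_84) (Atab_85) (Nat.ble 85 c)
noncomputable def Atab_s_87_89 (c : Nat) : Nat := @Bool.rec (fun _ => Nat) (Atab_87) (Atab_88) (Nat.ble 88 c)
noncomputable def Atab_s_86_89 (c : Nat) : Nat := @Bool.rec (fun _ => Nat) (Atab_86) (Atab_s_87_89 c) (Nat.ble 87 c)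
noncomputable def Atab_s_84_89 (c : Nat) : Nat := @Bool.rec (fun _ => Nat) (Atab_s_84_86 c) (Atab_s_86_89 c) (Nat.ble 86 c)
noncomputable def Atab_s_80_89 (c : Nat) : Nat := @Bool.rec (fun _ => Nat) (Atab_s_80_84 c) (Atab_s_84_89 c) (Nat.ble 84 c)
noncomputable def Atab_s_71_89 (c : Nat) : Nat := @Bool.rec (fun _ => Nat) (Atab_s_71_80 c) (Atab_s_80_89 c) (Nat.ble 80 c)
noncomputable def Atab_s_89_91 (c : Nat) : Nat := @Bool.rec (fun _ => Nat) (Atab_89) (Atab_90) (Nat.ble 90 c)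
noncomputable def Atab_s_91_93 (c : Nat) : Nat := @Bool.rec (fun _ => Nat) (Atab_91) (Atab_92) (Nat.ble 92 c)
noncomputable def Atab_s_89_93 (c : Nat) : Nat := @Bool.rec (fun _ => Nat) (Atab_s_89_91 c) (Atab_s_91_93 c) (Nat.ble 91 c)
noncomputable def Atab_s_93_95 (c : Nat) : Nat := @Bool.rec (fun _ => Nat) (Atab_93) (Atab_94) (Nat.ble 94 c)
noncomputable def Atab_s_96_98 (c : Nat) : Nat := @Bool.rec (fun _ => Nat) (Atab_96) (Atab_97) (Nat.ble 97 c)
noncomputable def Atab_s_95_98 (c : Nat) : Nat := @Bool.rec (fun _ => Nat) (Atab_95) (Atab_s_96_98 c) (Nat.ble 96 c)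
noncomputable def Atab_s_93_98 (c : Nat) : Nat := @Bool.rec (fun _ => Nat) (Atab_s_93_95 c) (Atab_s_95_98 c) (Nat.ble 95 c)
noncomputable def Atab_s_89_98 (c : Nat) : Nat := @Bool.rec (fun _ => Nat) (Atab_s_89_93 c) (Atab_s_93_98 c) (Nat.ble 93 c)
noncomputable def Atab_s_98_100 (c : Nat) : Nat := @Bool.rec (fun _ => Nat) (Atab_98) (Atab_99) (Nat.ble 99 c)
noncomputable def Atab_s_100_102 (c : Nat) : Nat := @Bool.rec (fun _ => Nat) (Atab_100) (Atab_101) (Nat.ble 101 c)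
noncomputable def Atab_s_98_102 (c : Nat) : Nat := @Bool.rec (fun _ => Nat) (Atab_s_98_100 c) (Atab_s_100_102 c) (Nat.ble 100 c)
noncomputable def Atab_s_102_104 (c : Nat) : Nat := @Bool.rec (fun _ => Nat) (Atab_102) (Atab_103) (Nat.ble 103 c)
noncomputable def Atab_s_105_107 (c : Nat) : Nat := @Bool.rec (fun _ => Nat) (Atab_105) (Atab_106) (Nat.ble 106 c)
noncomputable def Atab_s_104_107 (c : Nat) : Nat := @Bool.rec (fun _ => Nat) (Atab_104) (Atab_s_105_107 c) (Nat.ble 105 c)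
noncomputable def Atab_s_102_107 (c : Nat) : Nat := @Bool.rec (fun _ => Nat) (Atab_s_102_104 c) (Atab_s_104_107 c) (Nat.ble 104 c)
noncomputable def Atab_s_98_107 (c : Nat) : Nat := @Bool.rec (fun _ => Nat) (Atab_s_98_102 c) (Atab_s_102_107 c) (Nat.ble 102 c)
noncomputable def Atab_s_89_107 (c : Nat) : Nat := @Bool.rec (fun _ => Nat) (Atab_s_89_98 c) (Atab_s_98_107 c) (Nat.ble 98 c)
noncomputable def Atab_s_71_107 (c : Nat) : Nat := @Bool.rec (fun _ => Nat) (Atab_s_71_89 c) (Atab_s_89_107 c) (Nat.ble 89 c)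
noncomputable def Atab_s_107_109 (c : Nat) : Nat := @Bool.rec (fun _ => Nat) (Atab_107) (Atab_108) (Nat.ble 108 c)
noncomputable def Atab_s_109_111 (c : Nat) : Nat := @Bool.rec (fun _ => Nat) (Atab_109) (Atab_110) (Nat.ble 110 c)
noncomputable def Atab_s_107_111 (c : Nat) : Nat := @Bool.rec (fun _ => Nat) (Atab_s_107_109 c) (Atab_s_109_111 c) (Nat.ble 109 c)
noncomputable def Atab_s_111_113 (c : Nat) : Nat := @Bool.rec (fun _ => Nat) (Atab_111) (Atab_112) (Nat.ble 112 c)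
noncomputable def Atab_s_114_116 (c : Nat) : Nat := @Bool.rec (fun _ => Nat) (Atab_114) (Atab_115) (Nat.ble 115 c)
noncomputable def Atab_s_113_116 (c : Nat) : Nat := @Bool.rec (fun _ => Nat) (Atab_113) (Atab_s_114_116 c) (Nat.ble 114 c)
noncomputable def Atab_s_111_116 (c : Nat) : Nat := @Bool.rec (fun _ => Nat) (Atab_s_111_113 c) (Atab_s_113_116 c) (Nat.ble 113 c)
noncomputable def Atab_s_107_116 (c : Nat) : Nat := @Bool.rec (fun _ => Nat) (Atab_s_107_111 c) (Atab_s_111_116 c) (Nat.ble 111 c)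
noncomputable def Atab_s_116_118 (c : Nat) : Nat := @Bool.rec (fun _ => Nat) (Atab_116) (Atab_117) (Nat.ble 117 c)
noncomputable def Atab_s_118_120 (c : Nat) : Nat := @Bool.rec (fun _ => Nat) (Atab_118) (Atab_119) (Nat.ble 119 c)
noncomputable def Atab_s_116_120 (c : Nat) : Nat := @Bool.rec (fun _ => Nat) (Atab_s_116_118 c) (Atab_s_118_120 c) (Nat.ble 118 c)
noncomputable def Atab_s_120_122 (c : Nat) : Nat := @Bool.rec (fun _ => Nat) (Atab_120) (Atab_121) (Nat.ble 121 c)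
noncomputable def Atab_s_123_125 (c : Nat) : Nat := @Bool.rec (fun _ => Nat) (Atab_123) (Atab_124) (Nat.ble 124 c)
noncomputable def Atab_s_122_125 (c : Nat) : Nat := @Bool.rec (fun _ => Nat) (Atab_122) (Atab_s_123_125 c) (Nat.ble 123 c)
noncomputable def Atab_s_120_125 (c : Nat) : Nat := @Bool.rec (fun _ => Nat) (Atab_s_120_122 c) (Atab_s_122_125 c) (Nat.ble 122 c)
noncomputable def Atab_s_116_125 (c : Nat) : Nat := @Bool.rec (fun _ => Nat) (Atab_s_116_120 c) (Atab_s_120_125 c) (Nat.ble 120 c)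
noncomputable def Atab_s_107_125 (c : Nat) : Nat := @Bool.rec (fun _ => Nat) (Atab_s_107_116 c) (Atab_s_116_125 c) (Nat.ble 116 c)
noncomputable def Atab_s_125_127 (c : Nat) : Nat := @Bool.rec (fun _ => Nat) (Atab_125) (Atab_126) (Nat.ble 126 c)
noncomputable def Atab_s_127_129 (c : Nat) : Nat := @Bool.rec (fun _ => Nat) (Atab_127) (Atab_128) (Nat.ble 128 c)
noncomputable def Atab_s_125_129 (c : Nat) : Nat := @Bool.rec (fun _ => Nat) (Atab_s_125_127 c) (Atab_s_127_129 c) (Nat.ble 127 c)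
noncomputable def Atab_s_129_131 (c : Nat) : Nat := @Bool.rec (fun _ => Nat) (Atab_129) (Atab_130) (Nat.ble 130 c)
noncomputable def Atab_s_132_134 (c : Nat) : Nat := @Bool.rec (fun _ => Nat) (Atab_132) (Atab_133) (Nat.ble 133 c)
noncomputable def Atab_s_131_134 (c : Nat) : Nat := @Bool.rec (fun _ => Nat) (Atab_131) (Atab_s_132_134 c) (Nat.ble 132 c)
noncomputable def Atab_s_129_134 (c : Nat) : Nat := @Bool.rec (fun _ => Nat) (Atab_s_129_131 c) (Atab_s_131_134 c) (Nat.ble 131 c)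
noncomputable def Atab_s_125_134 (c : Nat) : Nat := @Bool.rec (fun _ => Nat) (Atab_s_125_129 c) (Atab_s_129_134 c) (Nat.ble 129 c)
noncomputable def Atab_s_134_136 (c : Nat) : Nat := @Bool.rec (fun _ => Nat) (Atab_134) (Atab_135) (Nat.ble 135 c)
noncomputable def Atab_s_136_138 (c : Nat) : Nat := @Bool.rec (fun _ => Nat) (Atab_136) (Atab_137) (Nat.ble 137 c)
noncomputable def Atab_s_134_138 (c : Nat) : Nat := @Bool.rec (fun _ => Nat) (Atab_s_134_136 c) (Atab_s_136_138 c) (Nat.ble 136 c)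
noncomputable def Atab_s_138_140 (c : Nat) : Nat := @Bool.rec (fun _ => Nat) (Atab_138) (Atab_139) (Nat.ble 139 c)
noncomputable def Atab_s_141_143 (c : Nat) : Nat := @Bool.rec (fun _ => Nat) (Atab_141) (Atab_142) (Nat.ble 142 c)
noncomputable def Atab_s_140_143 (c : Nat) : Nat := @Bool.rec (fun _ => Nat) (Atab_140) (Atab_s_141_143 c) (Nat.ble 141 c)
noncomputable def Atab_s_138_143 (c : Nat) : Nat := @Bool.rec (fun _ => Nat) (Atab_s_138_140 c) (Atab_s_140_143 c) (Nat.ble 140 c)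
noncomputable def Atab_s_134_143 (c : Nat) : Nat := @Bool.rec (fun _ => Nat) (Atab_s_134_138 c) (Atab_s_138_143 c) (Nat.ble 138 c)
noncomputable def Atab_s_125_143 (c : Nat) : Nat := @Bool.rec (fun _ => Nat) (Atab_s_125_134 c) (Atab_s_134_143 c) (Nat.ble 134 c)
noncomputable def Atab_s_107_143 (c : Nat) : Nat := @Bool.rec (fun _ => Nat) (Atab_s_107_125 c) (Atab_s_125_143 c) (Nat.ble 125 c)
noncomputable def Atab_s_71_143 (c : Nat) : Nat := @Bool.rec (fun _ => Nat) (Atab_s_71_107 c) (Atab_s_107_143 c) (Nat.ble 107 c)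
noncomputable def Atab_s_0_143 (c : Nat) : Nat := @Bool.rec (fun _ => Nat) (Atab_s_0_71 c) (Atab_s_71_143 c) (Nat.ble 71 c)
noncomputable def Atab_s_143_145 (c : Nat) : Nat := @Bool.rec (fun _ => Nat) (Atab_143) (Atab_144) (Nat.ble 144 c)
noncomputable def Atab_s_145_147 (c : Nat) : Nat := @Bool.rec (fun _ => Nat) (Atab_145) (Atab_146) (Nat.ble 146 c)
noncomputable def Atab_s_143_147 (c : Nat) : Nat := @Bool.rec (fun _ => Nat) (Atab_s_143_145 c) (Atab_s_145_147 c) (Nat.ble 145 c)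
noncomputable def Atab_s_147_149 (c : Nat) : Nat := @Bool.rec (fun _ => Nat) (Atab_147) (Atab_148) (Nat.ble 148 c)
noncomputable def Atab_s_149_151 (c : Nat) : Nat := @Bool.rec (fun _ => Nat) (Atab_149) (Atab_150) (Nat.ble 150 c)
noncomputable def Atab_s_147_151 (c : Nat) : Nat := @Bool.rec (fun _ => Nat) (Atab_s_147_149 c) (Atab_s_149_151 c) (Nat.ble 149 c)
noncomputable def Atab_s_143_151 (c : Nat) : Nat := @Bool.rec (fun _ => Nat) (Atab_s_143_147 c) (Atab_s_147_151 c) (Nat.ble 147 c)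
noncomputable def Atab_s_151_153 (c : Nat) : Nat := @Bool.rec (fun _ => Nat) (Atab_151) (Atab_152) (Nat.ble 152 c)
noncomputable def Atab_s_153_155 (c : Nat) : Nat := @Bool.rec (fun _ => Nat) (Atab_153) (Atab_154) (Nat.ble 154 c)
noncomputable def Atab_s_151_155 (c : Nat) : Nat := @Bool.rec (fun _ => Nat) (Atab_s_151_153 c) (Atab_s_153_155 c) (Nat.ble 153 c)
noncomputable def Atab_s_155_157 (c : Nat) : Nat := @Bool.rec (fun _ => Nat) (Atab_155) (Atab_156) (Nat.ble 156 c)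
noncomputable def Atab_s_158_160 (c : Nat) : Nat := @Bool.rec (fun _ => Nat) (Atab_158) (Atab_159) (Nat.ble 159 c)
noncomputable def Atab_s_157_160 (c : Nat) : Nat := @Bool.rec (fun _ => Nat) (Atab_157) (Atab_s_158_160 c) (Nat.ble 158 c)
noncomputable def Atab_s_155_160 (c : Nat) : Nat := @Bool.rec (fun _ => Nat) (Atab_s_155_157 c) (Atab_s_157_160 c) (Nat.ble 157 c)
noncomputable def Atab_s_151_160 (c : Nat) : Nat := @Bool.rec (fun _ => Nat) (Atab_s_151_155 c) (Atab_s_155_160 c) (Nat.ble 155 c)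
noncomputable def Atab_s_143_160 (c : Nat) : Nat := @Bool.rec (fun _ => Nat) (Atab_s_143_151 c) (Atab_s_151_160 c) (Nat.ble 151 c)
noncomputable def Atab_s_160_162 (c : Nat) : Nat := @Bool.rec (fun _ => Nat) (Atab_160) (Atab_161) (Nat.ble 161 c)
noncomputable def Atab_s_162_164 (c : Nat) : Nat := @Bool.rec (fun _ => Nat) (Atab_162) (Atab_163) (Nat.ble 163 c)
noncomputable def Atab_s_160_164 (c : Nat) : Nat := @Bool.rec (fun _ => Nat) (Atab_s_160_162 c) (Atab_s_162_164 c) (Nat.ble 162 c)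
noncomputable def Atab_s_164_166 (c : Nat) : Nat := @Bool.rec (fun _ => Nat) (Atab_164) (Atab_165) (Nat.ble 165 c)
noncomputable def Atab_s_167_169 (c : Nat) : Nat := @Bool.rec (fun _ => Nat) (Atab_167) (Atab_168) (Nat.ble 168 c)
noncomputable def Atab_s_166_169 (c : Nat) : Nat := @Bool.rec (fun _ => Nat) (Atab_166) (Atab_s_167_169 c) (Nat.ble 167 c)
noncomputable def Atab_s_164_169 (c : Nat) : Nat := @Bool.rec (fun _ => Nat) (Atab_s_164_166 c) (Atab_s_166_169 c) (Nat.ble 166 c)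
noncomputable def Atab_s_160_169 (c : Nat) : Nat := @Bool.rec (fun _ => Nat) (Atab_s_160_164 c) (Atab_s_164_169 c) (Nat.ble 164 c)
noncomputable def Atab_s_169_171 (c : Nat) : Nat := @Bool.rec (fun _ => Nat) (Atab_169) (Atab_170) (Nat.ble 170 c)
noncomputable def Atab_s_171_173 (c : Nat) : Nat := @Bool.rec (fun _ => Nat) (Atab_171) (Atab_172) (Nat.ble 172 c)
noncomputable def Atab_s_169_173 (c : Nat) : Nat := @Bool.rec (fun _ => Nat) (Atab_s_169_171 c) (Atab_s_171_173 c) (Nat.ble 171 c)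
noncomputable def Atab_s_173_175 (c : Nat) : Nat := @Bool.rec (fun _ => Nat) (Atab_173) (Atab_174) (Nat.ble 174 c)
noncomputable def Atab_s_176_178 (c : Nat) : Nat := @Bool.rec (fun _ => Nat) (Atab_176) (Atab_177) (Nat.ble 177 c)
noncomputable def Atab_s_175_178 (c : Nat) : Nat := @Bool.rec (fun _ => Nat) (Atab_175) (Atab_s_176_178 c) (Nat.ble 176 c)
noncomputable def Atab_s_173_178 (c : Nat) : Nat := @Bool.rec (fun _ => Nat) (Atab_s_173_175 c) (Atab_s_175_178 c) (Nat.ble 175 c)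
noncomputable def Atab_s_169_178 (c : Nat) : Nat := @Bool.rec (fun _ => Nat) (Atab_s_169_173 c) (Atab_s_173_178 c) (Nat.ble 173 c)
noncomputable def Atab_s_160_178 (c : Nat) : Nat := @Bool.rec (fun _ => Nat) (Atab_s_160_169 c) (Atab_s_169_178 c) (Nat.ble 169 c)
noncomputable def Atab_s_143_178 (c : Nat) : Nat := @Bool.rec (fun _ => Nat) (Atab_s_143_160 c) (Atab_s_160_178 c) (Nat.ble 160 c)
noncomputable def Atab_s_178_180 (c : Nat) : Nat := @Bool.rec (fun _ => Nat) (Atab_178) (Atab_179) (Nat.ble 179 c)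
noncomputable def Atab_s_180_182 (c : Nat) : Nat := @Bool.rec (fun _ => Nat) (Atab_180) (Atab_181) (Nat.ble 181 c)
noncomputable def Atab_s_178_182 (c : Nat) : Nat := @Bool.rec (fun _ => Nat) (Atab_s_178_180 c) (Atab_s_180_182 c) (Nat.ble 180 c)
noncomputable def Atab_s_182_184 (c : Nat) : Nat := @Bool.rec (fun _ => Nat) (Atab_182) (Atab_183) (Nat.ble 183 c)
noncomputable def Atab_s_185_187 (c : Nat) : Nat := @Bool.rec (fun _ => Nat) (Atab_185) (Atab_186) (Nat.ble 186 c)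
noncomputable def Atab_s_184_187 (c : Nat) : Nat := @Bool.rec (fun _ => Nat) (Atab_184) (Atab_s_185_187 c) (Nat.ble 185 c)
noncomputable def Atab_s_182_187 (c : Nat) : Nat := @Bool.rec (fun _ => Nat) (Atab_s_182_184 c) (Atab_s_184_187 c) (Nat.ble 184 c)
noncomputable def Atab_s_178_187 (c : Nat) : Nat := @Bool.rec (fun _ => Nat) (Atab_s_178_182 c) (Atab_s_182_187 c) (Nat.ble 182 c)
noncomputable def Atab_s_187_189 (c : Nat) : Nat := @Bool.rec (fun _ => Nat) (Atab_187) (Atab_188) (Nat.ble 188 c)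
noncomputable def Atab_s_189_191 (c : Nat) : Nat := @Bool.rec (fun _ => Nat) (Atab_189) (Atab_190) (Nat.ble 190 c)
noncomputable def Atab_s_187_191 (c : Nat) : Nat := @Bool.rec (fun _ => Nat) (Atab_s_187_189 c) (Atab_s_189_191 c) (Nat.ble 189 c)
noncomputable def Atab_s_191_193 (c : Nat) : Nat := @Bool.rec (fun _ => Nat) (Atab_191) (Atab_192) (Nat.ble 192 c)
noncomputable def Atab_s_194_196 (c : Nat) : Nat := @Bool.rec (fun _ => Nat) (Atab_194) (Atab_195) (Nat.ble 195 c)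
noncomputable def Atab_s_193_196 (c : Nat) : Nat := @Bool.rec (fun _ => Nat) (Atab_193) (Atab_s_194_196 c) (Nat.ble 194 c)
noncomputable def Atab_s_191_196 (c : Nat) : Nat := @Bool.rec (fun _ => Nat) (Atab_s_191_193 c) (Atab_s_193_196 c) (Nat.ble 193 c)
noncomputable def Atab_s_187_196 (c : Nat) : Nat := @Bool.rec (fun _ => Nat) (Atab_s_187_191 c) (Atab_s_191_196 c) (Nat.ble 191 c)
noncomputable def Atab_s_178_196 (c : Nat) : Nat := @Bool.rec (fun _ => Nat) (Atab_s_178_187 c) (Atab_s_187_196 c) (Nat.ble 187 c)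
noncomputable def Atab_s_196_198 (c : Nat) : Nat := @Bool.rec (fun _ => Nat) (Atab_196) (Atab_197) (Nat.ble 197 c)
noncomputable def Atab_s_198_200 (c : Nat) : Nat := @Bool.rec (fun _ => Nat) (Atab_198) (Atab_199) (Nat.ble 199 c)
noncomputable def Atab_s_196_200 (c : Nat) : Nat := @Bool.rec (fun _ => Nat) (Atab_s_196_198 c) (Atab_s_198_200 c) (Nat.ble 198 c)
noncomputable def Atab_s_200_202 (c : Nat) : Nat := @Bool.rec (fun _ => Nat) (Atab_200) (Atab_201) (Nat.ble 201 c)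
noncomputable def Atab_s_203_205 (c : Nat) : Nat := @Bool.rec (fun _ => Nat) (Atab_203) (Atab_204) (Nat.ble 204 c)
noncomputable def Atab_s_202_205 (c : Nat) : Nat := @Bool.rec (fun _ => Nat) (Atab_202) (Atab_s_203_205 c) (Nat.ble 203 c)
noncomputable def Atab_s_200_205 (c : Nat) : Nat := @Bool.rec (fun _ => Nat) (Atab_s_200_202 c) (Atab_s_202_205 c) (Nat.ble 202 c)
noncomputable def Atab_s_196_205 (c : Nat) : Nat := @Bool.rec (fun _ => Nat) (Atab_s_196_200 c) (Atab_s_200_205 c) (Nat.ble 200 c)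
noncomputable def Atab_s_205_207 (c : Nat) : Nat := @Bool.rec (fun _ => Nat) (Atab_205) (Atab_206) (Nat.ble 206 c)
noncomputable def Atab_s_207_209 (c : Nat) : Nat := @Bool.rec (fun _ => Nat) (Atab_207) (Atab_208) (Nat.ble 208 c)
noncomputable def Atab_s_205_209 (c : Nat) : Nat := @Bool.rec (fun _ => Nat) (Atab_s_205_207 c) (Atab_s_207_209 c) (Nat.ble 207 c)
noncomputable def Atab_s_209_211 (c : Nat) : Nat := @Bool.rec (fun _ => Nat) (Atab_209) (Atab_210) (Nat.ble 210 c)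
noncomputable def Atab_s_212_214 (c : Nat) : Nat := @Bool.rec (fun _ => Nat) (Atab_212) (Atab_213) (Nat.ble 213 c)
noncomputable def Atab_s_211_214 (c : Nat) : Nat := @Bool.rec (fun _ => Nat) (Atab_211) (Atab_s_212_214 c) (Nat.ble 212 c)
noncomputable def Atab_s_209_214 (c : Nat) : Nat := @Bool.rec (fun _ => Nat) (Atab_s_209_211 c) (Atab_s_211_214 c) (Nat.ble 211 c)
noncomputable def Atab_s_205_214 (c : Nat) : Nat := @Bool.rec (fun _ => Nat) (Atab_s_205_209 c) (Atab_s_209_214 c) (Nat.ble 209 c)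
noncomputable def Atab_s_196_214 (c : Nat) : Nat := @Bool.rec (fun _ => Nat) (Atab_s_196_205 c) (Atab_s_205_214 c) (Nat.ble 205 c)
noncomputable def Atab_s_178_214 (c : Nat) : Nat := @Bool.rec (fun _ => Nat) (Atab_s_178_196 c) (Atab_s_196_214 c) (Nat.ble 196 c)
noncomputable def Atab_s_143_214 (c : Nat) : Nat := @Bool.rec (fun _ => Nat) (Atab_s_143_178 c) (Atab_s_178_214 c) (Nat.ble 178 c)
noncomputable def Atab_s_214_216 (c : Nat) : Nat := @Bool.rec (fun _ => Nat) (Atab_214) (Atab_215) (Nat.ble 215 c)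
noncomputable def Atab_s_216_218 (c : Nat) : Nat := @Bool.rec (fun _ => Nat) (Atab_216) (Atab_217) (Nat.ble 217 c)
noncomputable def Atab_s_214_218 (c : Nat) : Nat := @Bool.rec (fun _ => Nat) (Atab_s_214_216 c) (Atab_s_216_218 c) (Nat.ble 216 c)
noncomputable def Atab_s_218_220 (c : Nat) : Nat := @Bool.rec (fun _ => Nat) (Atab_218) (Atab_219) (Nat.ble 219 c)
noncomputable def Atab_s_221_223 (c : Nat) : Nat := @Bool.rec (fun _ => Nat) (Atab_221) (Atab_222) (Nat.ble 222 c)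
noncomputable def Atab_s_220_223 (c : Nat) : Nat := @Bool.rec (fun _ => Nat) (Atab_220) (Atab_s_221_223 c) (Nat.ble 221 c)
noncomputable def Atab_s_218_223 (c : Nat) : Nat := @Bool.rec (fun _ => Nat) (Atab_s_218_220 c) (Atab_s_220_223 c) (Nat.ble 220 c)
noncomputable def Atab_s_214_223 (c : Nat) : Nat := @Bool.rec (fun _ => Nat) (Atab_s_214_218 c) (Atab_s_218_223 c) (Nat.ble 218 c)
noncomputable def Atab_s_223_225 (c : Nat) : Nat := @Bool.rec (fun _ => Nat) (Atab_223) (Atab_224) (Nat.ble 224 c)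
noncomputable def Atab_s_225_227 (c : Nat) : Nat := @Bool.rec (fun _ => Nat) (Atab_225) (Atab_226) (Nat.ble 226 c)
noncomputable def Atab_s_223_227 (c : Nat) : Nat := @Bool.rec (fun _ => Nat) (Atab_s_223_225 c) (Atab_s_225_227 c) (Nat.ble 225 c)
noncomputable def Atab_s_227_229 (c : Nat) : Nat := @Bool.rec (fun _ => Nat) (Atab_227) (Atab_228) (Nat.ble 228 c)
noncomputable def Atab_s_230_232 (c : Nat) : Nat := @Bool.rec (fun _ => Nat) (Atab_230) (Atab_231) (Nat.ble 231 c)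
noncomputable def Atab_s_229_232 (c : Nat) : Nat := @Bool.rec (fun _ => Nat) (Atab_229) (Atab_s_230_232 c) (Nat.ble 230 c)
noncomputable def Atab_s_227_232 (c : Nat) : Nat := @Bool.rec (fun _ => Nat) (Atab_s_227_229 c) (Atab_s_229_232 c) (Nat.ble 229 c)
noncomputable def Atab_s_223_232 (c : Nat) : Nat := @Bool.rec (fun _ => Nat) (Atab_s_223_227 c) (Atab_s_227_232 c) (Nat.ble 227 c)
noncomputable def Atab_s_214_232 (c : Nat) : Nat := @Bool.rec (fun _ => Nat) (Atab_s_214_223 c) (Atab_s_223_232 c) (Nat.ble 223 c)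
noncomputable def Atab_s_232_234 (c : Nat) : Nat := @Bool.rec (fun _ => Nat) (Atab_232) (Atab_233) (Nat.ble 233 c)
noncomputable def Atab_s_234_236 (c : Nat) : Nat := @Bool.rec (fun _ => Nat) (Atab_234) (Atab_235) (Nat.ble 235 c)
noncomputable def Atab_s_232_236 (c : Nat) : Nat := @Bool.rec (fun _ => Nat) (Atab_s_232_234 c) (Atab_s_234_236 c) (Nat.ble 234 c)
noncomputable def Atab_s_236_238 (c : Nat) : Nat := @Bool.rec (fun _ => Nat) (Atab_236) (Atab_237) (Nat.ble 237 c)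
noncomputable def Atab_s_239_241 (c : Nat) : Nat := @Bool.rec (fun _ => Nat) (Atab_239) (Atab_240) (Nat.ble 240 c)
noncomputable def Atab_s_238_241 (c : Nat) : Nat := @Bool.rec (fun _ => Nat) (Atab_238) (Atab_s_239_241 c) (Nat.ble 239 c)
noncomputable def Atab_s_236_241 (c : Nat) : Nat := @Bool.rec (fun _ => Nat) (Atab_s_236_238 c) (Atab_s_238_241 c) (Nat.ble 238 c)
noncomputable def Atab_s_232_241 (c : Nat) : Nat := @Bool.rec (fun _ => Nat) (Atab_s_232_236 c) (Atab_s_236_241 c) (Nat.ble 236 c)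
noncomputable def Atab_s_241_243 (c : Nat) : Nat := @Bool.rec (fun _ => Nat) (Atab_241) (Atab_242) (Nat.ble 242 c)
noncomputable def Atab_s_243_245 (c : Nat) : Nat := @Bool.rec (fun _ => Nat) (Atab_243) (Atab_244) (Nat.ble 244 c)
noncomputable def Atab_s_241_245 (c : Nat) : Nat := @Bool.rec (fun _ => Nat) (Atab_s_241_243 c) (Atab_s_243_245 c) (Nat.ble 243 c)
noncomputable def Atab_s_245_247 (c : Nat) : Nat := @Bool.rec (fun _ => Nat) (Atab_245) (Atab_246) (Nat.ble 246 c)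
noncomputable def Atab_s_248_250 (c : Nat) : Nat := @Bool.rec (fun _ => Nat) (Atab_248) (Atab_249) (Nat.ble 249 c)
noncomputable def Atab_s_247_250 (c : Nat) : Nat := @Bool.rec (fun _ => Nat) (Atab_247) (Atab_s_248_250 c) (Nat.ble 248 c)
noncomputable def Atab_s_245_250 (c : Nat) : Nat := @Bool.rec (fun _ => Nat) (Atab_s_245_247 c) (Atab_s_247_250 c) (Nat.ble 247 c)
noncomputable def Atab_s_241_250 (c : Nat) : Nat := @Bool.rec (fun _ => Nat) (Atab_s_241_245 c) (Atab_s_245_250 c) (Nat.ble 245 c)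
noncomputable def Atab_s_232_250 (c : Nat) : Nat := @Bool.rec (fun _ => Nat) (Atab_s_232_241 c) (Atab_s_241_250 c) (Nat.ble 241 c)
noncomputable def Atab_s_214_250 (c : Nat) : Nat := @Bool.rec (fun _ => Nat) (Atab_s_214_232 c) (Atab_s_232_250 c) (Nat.ble 232 c)
noncomputable def Atab_s_250_252 (c : Nat) : Nat := @Bool.rec (fun _ => Nat) (Atab_250) (Atab_251) (Nat.ble 251 c)
noncomputable def Atab_s_252_254 (c : Nat) : Nat := @Bool.rec (fun _ => Nat) (Atab_252) (Atab_253) (Nat.ble 253 c)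
noncomputable def Atab_s_250_254 (c : Nat) : Nat := @Bool.rec (fun _ => Nat) (Atab_s_250_252 c) (Atab_s_252_254 c) (Nat.ble 252 c)
noncomputable def Atab_s_254_256 (c : Nat) : Nat := @Bool.rec (fun _ => Nat) (Atab_254) (Atab_255) (Nat.ble 255 c)
noncomputable def Atab_s_257_259 (c : Nat) : Nat := @Bool.rec (fun _ => Nat) (Atab_257) (Atab_258) (Nat.ble 258 c)
noncomputable def Atab_s_256_259 (c : Nat) : Nat := @Bool.rec (fun _ => Nat) (Atab_256) (Atab_s_257_259 c) (Nat.ble 257 c)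
noncomputable def Atab_s_254_259 (c : Nat) : Nat := @Bool.rec (fun _ => Nat) (Atab_s_254_256 c) (Atab_s_256_259 c) (Nat.ble 256 c)
noncomputable def Atab_s_250_259 (c : Nat) : Nat := @Bool.rec (fun _ => Nat) (Atab_s_250_254 c) (Atab_s_254_259 c) (Nat.ble 254 c)
noncomputable def Atab_s_259_261 (c : Nat) : Nat := @Bool.rec (fun _ => Nat) (Atab_259) (Atab_260) (Nat.ble 260 c)
noncomputable def Atab_s_261_263 (c : Nat) : Nat := @Bool.rec (fun _ => Nat) (Atab_261) (Atab_262) (Nat.ble 262 c)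
noncomputable def Atab_s_259_263 (c : Nat) : Nat := @Bool.rec (fun _ => Nat) (Atab_s_259_261 c) (Atab_s_261_263 c) (Nat.ble 261 c)
noncomputable def Atab_s_263_265 (c : Nat) : Nat := @Bool.rec (fun _ => Nat) (Atab_263) (Atab_264) (Nat.ble 264 c)
noncomputable def Atab_s_266_268 (c : Nat) : Nat := @Bool.rec (fun _ => Nat) (Atab_266) (Atab_267) (Nat.ble 267 c)
noncomputable def Atab_s_265_268 (c : Nat) : Nat := @Bool.rec (fun _ => Nat) (Atab_265) (Atab_s_266_268 c) (Nat.ble 266 c)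
noncomputable def Atab_s_263_268 (c : Nat) : Nat := @Bool.rec (fun _ => Nat) (Atab_s_263_265 c) (Atab_s_265_268 c) (Nat.ble 265 c)
noncomputable def Atab_s_259_268 (c : Nat) : Nat := @Bool.rec (fun _ => Nat) (Atab_s_259_263 c) (Atab_s_263_268 c) (Nat.ble 263 c)
noncomputable def Atab_s_250_268 (c : Nat) : Nat := @Bool.rec (fun _ => Nat) (Atab_s_250_259 c) (Atab_s_259_268 c) (Nat.ble 259 c)
noncomputable def Atab_s_268_270 (c : Nat) : Nat := @Bool.rec (fun _ => Nat) (Atab_268) (Atab_269) (Nat.ble 269 c)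
noncomputable def Atab_s_270_272 (c : Nat) : Nat := @Bool.rec (fun _ => Nat) (Atab_270) (Atab_271) (Nat.ble 271 c)
noncomputable def Atab_s_268_272 (c : Nat) : Nat := @Bool.rec (fun _ => Nat) (Atab_s_268_270 c) (Atab_s_270_272 c) (Nat.ble 270 c)
noncomputable def Atab_s_272_274 (c : Nat) : Nat := @Bool.rec (fun _ => Nat) (Atab_272) (Atab_273) (Nat.ble 273 c)
noncomputable def Atab_s_275_277 (c : Nat) : Nat := @Bool.rec (fun _ => Nat) (Atab_275) (Atab_276) (Nat.ble 276 c)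
noncomputable def Atab_s_274_277 (c : Nat) : Nat := @Bool.rec (fun _ => Nat) (Atab_274) (Atab_s_275_277 c) (Nat.ble 275 c)
noncomputable def Atab_s_272_277 (c : Nat) : Nat := @Bool.rec (fun _ => Nat) (Atab_s_272_274 c) (Atab_s_274_277 c) (Nat.ble 274 c)
noncomputable def Atab_s_268_277 (c : Nat) : Nat := @Bool.rec (fun _ => Nat) (Atab_s_268_272 c) (Atab_s_272_277 c) (Nat.ble 272 c)
noncomputable def Atab_s_277_279 (c : Nat) : Nat := @Bool.rec (fun _ => Nat) (Atab_277) (Atab_278) (Nat.ble 278 c)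
noncomputable def Atab_s_279_281 (c : Nat) : Nat := @Bool.rec (fun _ => Nat) (Atab_279) (Atab_280) (Nat.ble 280 c)
noncomputable def Atab_s_277_281 (c : Nat) : Nat := @Bool.rec (fun _ => Nat) (Atab_s_277_279 c) (Atab_s_279_281 c) (Nat.ble 279 c)
noncomputable def Atab_s_281_283 (c : Nat) : Nat := @Bool.rec (fun _ => Nat) (Atab_281) (Atab_282) (Nat.ble 282 c)
noncomputable def Atab_s_284_286 (c : Nat) : Nat := @Bool.rec (fun _ => Nat) (Atab_284) (Atab_285) (Nat.ble 285 c)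
noncomputable def Atab_s_283_286 (c : Nat) : Nat := @Bool.rec (fun _ => Nat) (Atab_283) (Atab_s_284_286 c) (Nat.ble 284 c)
noncomputable def Atab_s_281_286 (c : Nat) : Nat := @Bool.rec (fun _ => Nat) (Atab_s_281_283 c) (Atab_s_283_286 c) (Nat.ble 283 c)
noncomputable def Atab_s_277_286 (c : Nat) : Nat := @Bool.rec (fun _ => Nat) (Atab_s_277_281 c) (Atab_s_281_286 c) (Nat.ble 281 c)
noncomputable def Atab_s_268_286 (c : Nat) : Nat := @Bool.rec (fun _ => Nat) (Atab_s_268_277 c) (Atab_s_277_286 c) (Nat.ble 277 c)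
noncomputable def Atab_s_250_286 (c : Nat) : Nat := @Bool.rec (fun _ => Nat) (Atab_s_250_268 c) (Atab_s_268_286 c) (Nat.ble 268 c)
noncomputable def Atab_s_214_286 (c : Nat) : Nat := @Bool.rec (fun _ => Nat) (Atab_s_214_250 c) (Atab_s_250_286 c) (Nat.ble 250 c)
noncomputable def Atab_s_143_286 (c : Nat) : Nat := @Bool.rec (fun _ => Nat) (Atab_s_143_214 c) (Atab_s_214_286 c) (Nat.ble 214 c)
noncomputable def Atab_s_0_286 (c : Nat) : Nat := @Bool.rec (fun _ => Nat) (Atab_s_0_143 c) (Atab_s_143_286 c) (Nat.ble 143 c)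
noncomputable def Atab_s_286_288 (c : Nat) : Nat := @Bool.rec (fun _ => Nat) (Atab_286) (Atab_287) (Nat.ble 287 c)
noncomputable def Atab_s_288_290 (c : Nat) : Nat := @Bool.rec (fun _ => Nat) (Atab_288) (Atab_289) (Nat.ble 289 c)
noncomputable def Atab_s_286_290 (c : Nat) : Nat := @Bool.rec (fun _ => Nat) (Atab_s_286_288 c) (Atab_s_288_290 c) (Nat.ble 288 c)
noncomputable def Atab_s_290_292 (c : Nat) : Nat := @Bool.rec (fun _ => Nat) (Atab_290) (Atab_291) (Nat.ble 291 c)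
noncomputable def Atab_s_292_294 (c : Nat) : Nat := @Bool.rec (fun _ => Nat) (Atab_292) (Atab_293) (Nat.ble 293 c)
noncomputable def Atab_s_290_294 (c : Nat) : Nat := @Bool.rec (fun _ => Nat) (Atab_s_290_292 c) (Atab_s_292_294 c) (Nat.ble 292 c)
noncomputable def Atab_s_286_294 (c : Nat) : Nat := @Bool.rec (fun _ => Nat) (Atab_s_286_290 c) (Atab_s_290_294 c) (Nat.ble 290 c)
noncomputable def Atab_s_294_296 (c : Nat) : Nat := @Bool.rec (fun _ => Nat) (Atab_294) (Atab_295) (Nat.ble 295 c)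
noncomputable def Atab_s_296_298 (c : Nat) : Nat := @Bool.rec (fun _ => Nat) (Atab_296) (Atab_297) (Nat.ble 297 c)
noncomputable def Atab_s_294_298 (c : Nat) : Nat := @Bool.rec (fun _ => Nat) (Atab_s_294_296 c) (Atab_s_296_298 c) (Nat.ble 296 c)
noncomputable def Atab_s_298_300 (c : Nat) : Nat := @Bool.rec (fun _ => Nat) (Atab_298) (Atab_299) (Nat.ble 299 c)
noncomputable def Atab_s_301_303 (c : Nat) : Nat := @Bool.rec (fun _ => Nat) (Atab_301) (Atab_302) (Nat.ble 302 c)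
noncomputable def Atab_s_300_303 (c : Nat) : Nat := @Bool.rec (fun _ => Nat) (Atab_300) (Atab_s_301_303 c) (Nat.ble 301 c)
noncomputable def Atab_s_298_303 (c : Nat) : Nat := @Bool.rec (fun _ => Nat) (Atab_s_298_300 c) (Atab_s_300_303 c) (Nat.ble 300 c)
noncomputable def Atab_s_294_303 (c : Nat) : Nat := @Bool.rec (fun _ => Nat) (Atab_s_294_298 c) (Atab_s_298_303 c) (Nat.ble 298 c)
noncomputable def Atab_s_286_303 (c : Nat) : Nat := @Bool.rec (fun _ => Nat) (Atab_s_286_294 c) (Atab_s_294_303 c) (Nat.ble 294 c)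
noncomputable def Atab_s_303_305 (c : Nat) : Nat := @Bool.rec (fun _ => Nat) (Atab_303) (Atab_304) (Nat.ble 304 c)
noncomputable def Atab_s_305_307 (c : Nat) : Nat := @Bool.rec (fun _ => Nat) (Atab_305) (Atab_306) (Nat.ble 306 c)
noncomputable def Atab_s_303_307 (c : Nat) : Nat := @Bool.rec (fun _ => Nat) (Atab_s_303_305 c) (Atab_s_305_307 c) (Nat.ble 305 c)
noncomputable def Atab_s_307_309 (c : Nat) : Nat := @Bool.rec (fun _ => Nat) (Atab_307) (Atab_308) (Nat.ble 308 c)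
noncomputable def Atab_s_310_312 (c : Nat) : Nat := @Bool.rec (fun _ => Nat) (Atab_310) (Atab_311) (Nat.ble 311 c)
noncomputable def Atab_s_309_312 (c : Nat) : Nat := @Bool.rec (fun _ => Nat) (Atab_309) (Atab_s_310_312 c) (Nat.ble 310 c)
noncomputable def Atab_s_307_312 (c : Nat) : Nat := @Bool.rec (fun _ => Nat) (Atab_s_307_309 c) (Atab_s_309_312 c) (Nat.ble 309 c)
noncomputable def Atab_s_303_312 (c : Nat) : Nat := @Bool.rec (fun _ => Nat) (Atab_s_303_307 c) (Atab_s_307_312 c) (Nat.ble 307 c)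
noncomputable def Atab_s_312_314 (c : Nat) : Nat := @Bool.rec (fun _ => Nat) (Atab_312) (Atab_313) (Nat.ble 313 c)
noncomputable def Atab_s_314_316 (c : Nat) : Nat := @Bool.rec (fun _ => Nat) (Atab_314) (Atab_315) (Nat.ble 315 c)
noncomputable def Atab_s_312_316 (c : Nat) : Nat := @Bool.rec (fun _ => Nat) (Atab_s_312_314 c) (Atab_s_314_316 c) (Nat.ble 314 c)
noncomputable def Atab_s_316_318 (c : Nat) : Nat := @Bool.rec (fun _ => Nat) (Atab_316) (Atab_317) (Nat.ble 317 c)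
noncomputable def Atab_s_319_321 (c : Nat) : Nat := @Bool.rec (fun _ => Nat) (Atab_319) (Atab_320) (Nat.ble 320 c)
noncomputable def Atab_s_318_321 (c : Nat) : Nat := @Bool.rec (fun _ => Nat) (Atab_318) (Atab_s_319_321 c) (Nat.ble 319 c)
noncomputable def Atab_s_316_321 (c : Nat) : Nat := @Bool.rec (fun _ => Nat) (Atab_s_316_318 c) (Atab_s_318_321 c) (Nat.ble 318 c)
noncomputable def Atab_s_312_321 (c : Nat) : Nat := @Bool.rec (fun _ => Nat) (Atab_s_312_316 c) (Atab_s_316_321 c) (Nat.ble 316 c)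
noncomputable def Atab_s_303_321 (c : Nat) : Nat := @Bool.rec (fun _ => Nat) (Atab_s_303_312 c) (Atab_s_312_321 c) (Nat.ble 312 c)
noncomputable def Atab_s_286_321 (c : Nat) : Nat := @Bool.rec (fun _ => Nat) (Atab_s_286_303 c) (Atab_s_303_321 c) (Nat.ble 303 c)
noncomputable def Atab_s_321_323 (c : Nat) : Nat := @Bool.rec (fun _ => Nat) (Atab_321) (Atab_322) (Nat.ble 322 c)
noncomputable def Atab_s_323_325 (c : Nat) : Nat := @Bool.rec (fun _ => Nat) (Atab_323) (Atab_324) (Nat.ble 324 c)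
noncomputable def Atab_s_321_325 (c : Nat) : Nat := @Bool.rec (fun _ => Nat) (Atab_s_321_323 c) (Atab_s_323_325 c) (Nat.ble 323 c)
noncomputable def Atab_s_325_327 (c : Nat) : Nat := @Bool.rec (fun _ => Nat) (Atab_325) (Atab_326) (Nat.ble 326 c)
noncomputable def Atab_s_328_330 (c : Nat) : Nat := @Bool.rec (fun _ => Nat) (Atab_328) (Atab_329) (Nat.ble 329 c)
noncomputable def Atab_s_327_330 (c : Nat) : Nat := @Bool.rec (fun _ => Nat) (Atab_327) (Atab_s_328_330 c) (Nat.ble 328 c)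
noncomputable def Atab_s_325_330 (c : Nat) : Nat := @Bool.rec (fun _ => Nat) (Atab_s_325_327 c) (Atab_s_327_330 c) (Nat.ble 327 c)
noncomputable def Atab_s_321_330 (c : Nat) : Nat := @Bool.rec (fun _ => Nat) (Atab_s_321_325 c) (Atab_s_325_330 c) (Nat.ble 325 c)
noncomputable def Atab_s_330_332 (c : Nat) : Nat := @Bool.rec (fun _ => Nat) (Atab_330) (Atab_331) (Nat.ble 331 c)
noncomputable def Atab_s_332_334 (c : Nat) : Nat := @Bool.rec (fun _ => Nat) (Atab_332) (Atab_333) (Nat.ble 333 c)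
noncomputable def Atab_s_330_334 (c : Nat) : Nat := @Bool.rec (fun _ => Nat) (Atab_s_330_332 c) (Atab_s_332_334 c) (Nat.ble 332 c)
noncomputable def Atab_s_334_336 (c : Nat) : Nat := @Bool.rec (fun _ => Nat) (Atab_334) (Atab_335) (Nat.ble 335 c)
noncomputable def Atab_s_337_339 (c : Nat) : Nat := @Bool.rec (fun _ => Nat) (Atab_337) (Atab_338) (Nat.ble 338 c)
noncomputable def Atab_s_336_339 (c : Nat) : Nat := @Bool.rec (fun _ => Nat) (Atab_336) (Atab_s_337_339 c) (Nat.ble 337 c)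
noncomputable def Atab_s_334_339 (c : Nat) : Nat := @Bool.rec (fun _ => Nat) (Atab_s_334_336 c) (Atab_s_336_339 c) (Nat.ble 336 c)
noncomputable def Atab_s_330_339 (c : Nat) : Nat := @Bool.rec (fun _ => Nat) (Atab_s_330_334 c) (Atab_s_334_339 c) (Nat.ble 334 c)
noncomputable def Atab_s_321_339 (c : Nat) : Nat := @Bool.rec (fun _ => Nat) (Atab_s_321_330 c) (Atab_s_330_339 c) (Nat.ble 330 c)
noncomputable def Atab_s_339_341 (c : Nat) : Nat := @Bool.rec (fun _ => Nat) (Atab_339) (Atab_340) (Nat.ble 340 c)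
noncomputable def Atab_s_341_343 (c : Nat) : Nat := @Bool.rec (fun _ => Nat) (Atab_341) (Atab_342) (Nat.ble 342 c)
noncomputable def Atab_s_339_343 (c : Nat) : Nat := @Bool.rec (fun _ => Nat) (Atab_s_339_341 c) (Atab_s_341_343 c) (Nat.ble 341 c)
noncomputable def Atab_s_343_345 (c : Nat) : Nat := @Bool.rec (fun _ => Nat) (Atab_343) (Atab_344) (Nat.ble 344 c)
noncomputable def Atab_s_346_348 (c : Nat) : Nat := @Bool.rec (fun _ => Nat) (Atab_346) (Atab_347) (Nat.ble 347 c)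
noncomputable def Atab_s_345_348 (c : Nat) : Nat := @Bool.rec (fun _ => Nat) (Atab_345) (Atab_s_346_348 c) (Nat.ble 346 c)
noncomputable def Atab_s_343_348 (c : Nat) : Nat := @Bool.rec (fun _ => Nat) (Atab_s_343_345 c) (Atab_s_345_348 c) (Nat.ble 345 c)
noncomputable def Atab_s_339_348 (c : Nat) : Nat := @Bool.rec (fun _ => Nat) (Atab_s_339_343 c) (Atab_s_343_348 c) (Nat.ble 343 c)
noncomputable def Atab_s_348_350 (c : Nat) : Nat := @Bool.rec (fun _ => Nat) (Atab_348) (Atab_349) (Nat.ble 349 c)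
noncomputable def Atab_s_350_352 (c : Nat) : Nat := @Bool.rec (fun _ => Nat) (Atab_350) (Atab_351) (Nat.ble 351 c)
noncomputable def Atab_s_348_352 (c : Nat) : Nat := @Bool.rec (fun _ => Nat) (Atab_s_348_350 c) (Atab_s_350_352 c) (Nat.ble 350 c)
noncomputable def Atab_s_352_354 (c : Nat) : Nat := @Bool.rec (fun _ => Nat) (Atab_352) (Atab_353) (Nat.ble 353 c)
noncomputable def Atab_s_355_357 (c : Nat) : Nat := @Bool.rec (fun _ => Nat) (Atab_355) (Atab_356) (Nat.ble 356 c)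
noncomputable def Atab_s_354_357 (c : Nat) : Nat := @Bool.rec (fun _ => Nat) (Atab_354) (Atab_s_355_357 c) (Nat.ble 355 c)
noncomputable def Atab_s_352_357 (c : Nat) : Nat := @Bool.rec (fun _ => Nat) (Atab_s_352_354 c) (Atab_s_354_357 c) (Nat.ble 354 c)
noncomputable def Atab_s_348_357 (c : Nat) : Nat := @Bool.rec (fun _ => Nat) (Atab_s_348_352 c) (Atab_s_352_357 c) (Nat.ble 352 c)
noncomputable def Atab_s_339_357 (c : Nat) : Nat := @Bool.rec (fun _ => Nat) (Atab_s_339_348 c) (Atab_s_348_357 c) (Nat.ble 348 c)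
noncomputable def Atab_s_321_357 (c : Nat) : Nat := @Bool.rec (fun _ => Nat) (Atab_s_321_339 c) (Atab_s_339_357 c) (Nat.ble 339 c)
noncomputable def Atab_s_286_357 (c : Nat) : Nat := @Bool.rec (fun _ => Nat) (Atab_s_286_321 c) (Atab_s_321_357 c) (Nat.ble 321 c)
noncomputable def Atab_s_357_359 (c : Nat) : Nat := @Bool.rec (fun _ => Nat) (Atab_357) (Atab_358) (Nat.ble 358 c)
noncomputable def Atab_s_359_361 (c : Nat) : Nat := @Bool.rec (fun _ => Nat) (Atab_359) (Atab_360) (Nat.ble 360 c)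
noncomputable def Atab_s_357_361 (c : Nat) : Nat := @Bool.rec (fun _ => Nat) (Atab_s_357_359 c) (Atab_s_359_361 c) (Nat.ble 359 c)
noncomputable def Atab_s_361_363 (c : Nat) : Nat := @Bool.rec (fun _ => Nat) (Atab_361) (Atab_362) (Nat.ble 362 c)
noncomputable def Atab_s_364_366 (c : Nat) : Nat := @Bool.rec (fun _ => Nat) (Atab_364) (Atab_365) (Nat.ble 365 c)
noncomputable def Atab_s_363_366 (c : Nat) : Nat := @Bool.rec (fun _ => Nat) (Atab_363) (Atab_s_364_366 c) (Nat.ble 364 c)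
noncomputable def Atab_s_361_366 (c : Nat) : Nat := @Bool.rec (fun _ => Nat) (Atab_s_361_363 c) (Atab_s_363_366 c) (Nat.ble 363 c)
noncomputable def Atab_s_357_366 (c : Nat) : Nat := @Bool.rec (fun _ => Nat) (Atab_s_357_361 c) (Atab_s_361_366 c) (Nat.ble 361 c)
noncomputable def Atab_s_366_368 (c : Nat) : Nat := @Bool.rec (fun _ => Nat) (Atab_366) (Atab_367) (Nat.ble 367 c)
noncomputable def Atab_s_368_370 (c : Nat) : Nat := @Bool.rec (fun _ => Nat) (Atab_368) (Atab_369) (Nat.ble 369 c)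
noncomputable def Atab_s_366_370 (c : Nat) : Nat := @Bool.rec (fun _ => Nat) (Atab_s_366_368 c) (Atab_s_368_370 c) (Nat.ble 368 c)
noncomputable def Atab_s_370_372 (c : Nat) : Nat := @Bool.rec (fun _ => Nat) (Atab_370) (Atab_371) (Nat.ble 371 c)
noncomputable def Atab_s_373_375 (c : Nat) : Nat := @Bool.rec (fun _ => Nat) (Atab_373) (Atab_374) (Nat.ble 374 c)
noncomputable def Atab_s_372_375 (c : Nat) : Nat := @Bool.rec (fun _ => Nat) (Atab_372) (Atab_s_373_375 c) (Nat.ble 373 c)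
noncomputable def Atab_s_370_375 (c : Nat) : Nat := @Bool.rec (fun _ => Nat) (Atab_s_370_372 c) (Atab_s_372_375 c) (Nat.ble 372 c)
noncomputable def Atab_s_366_375 (c : Nat) : Nat := @Bool.rec (fun _ => Nat) (Atab_s_366_370 c) (Atab_s_370_375 c) (Nat.ble 370 c)
noncomputable def Atab_s_357_375 (c : Nat) : Nat := @Bool.rec (fun _ => Nat) (Atab_s_357_366 c) (Atab_s_366_375 c) (Nat.ble 366 c)
noncomputable def Atab_s_375_377 (c : Nat) : Nat := @Bool.rec (fun _ => Nat) (Atab_375) (Atab_376) (Nat.ble 376 c)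
noncomputable def Atab_s_377_379 (c : Nat) : Nat := @Bool.rec (fun _ => Nat) (Atab_377) (Atab_378) (Nat.ble 378 c)
noncomputable def Atab_s_375_379 (c : Nat) : Nat := @Bool.rec (fun _ => Nat) (Atab_s_375_377 c) (Atab_s_377_379 c) (Nat.ble 377 c)
noncomputable def Atab_s_379_381 (c : Nat) : Nat := @Bool.rec (fun _ => Nat) (Atab_379) (Atab_380) (Nat.ble 380 c)
noncomputable def Atab_s_382_384 (c : Nat) : Nat := @Bool.rec (fun _ => Nat) (Atab_382) (Atab_383) (Nat.ble 383 c)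
noncomputable def Atab_s_381_384 (c : Nat) : Nat := @Bool.rec (fun _ => Nat) (Atab_381) (Atab_s_382_384 c) (Nat.ble 382 c)
noncomputable def Atab_s_379_384 (c : Nat) : Nat := @Bool.rec (fun _ => Nat) (Atab_s_379_381 c) (Atab_s_381_384 c) (Nat.ble 381 c)
noncomputable def Atab_s_375_384 (c : Nat) : Nat := @Bool.rec (fun _ => Nat) (Atab_s_375_379 c) (Atab_s_379_384 c) (Nat.ble 379 c)
noncomputable def Atab_s_384_386 (c : Nat) : Nat := @Bool.rec (fun _ => Nat) (Atab_384) (Atab_385) (Nat.ble 385 c)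
noncomputable def Atab_s_386_388 (c : Nat) : Nat := @Bool.rec (fun _ => Nat) (Atab_386) (Atab_387) (Nat.ble 387 c)
noncomputable def Atab_s_384_388 (c : Nat) : Nat := @Bool.rec (fun _ => Nat) (Atab_s_384_386 c) (Atab_s_386_388 c) (Nat.ble 386 c)
noncomputable def Atab_s_388_390 (c : Nat) : Nat := @Bool.rec (fun _ => Nat) (Atab_388) (Atab_389) (Nat.ble 389 c)
noncomputable def Atab_s_391_393 (c : Nat) : Nat := @Bool.rec (fun _ => Nat) (Atab_391) (Atab_392) (Nat.ble 392 c)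
noncomputable def Atab_s_390_393 (c : Nat) : Nat := @Bool.rec (fun _ => Nat) (Atab_390) (Atab_s_391_393 c) (Nat.ble 391 c)
noncomputable def Atab_s_388_393 (c : Nat) : Nat := @Bool.rec (fun _ => Nat) (Atab_s_388_390 c) (Atab_s_390_393 c) (Nat.ble 390 c)
noncomputable def Atab_s_384_393 (c : Nat) : Nat := @Bool.rec (fun _ => Nat) (Atab_s_384_388 c) (Atab_s_388_393 c) (Nat.ble 388 c)
noncomputable def Atab_s_375_393 (c : Nat) : Nat := @Bool.rec (fun _ => Nat) (Atab_s_375_384 c) (Atab_s_384_393 c) (Nat.ble 384 c)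
noncomputable def Atab_s_357_393 (c : Nat) : Nat := @Bool.rec (fun _ => Nat) (Atab_s_357_375 c) (Atab_s_375_393 c) (Nat.ble 375 c)
noncomputable def Atab_s_393_395 (c : Nat) : Nat := @Bool.rec (fun _ => Nat) (Atab_393) (Atab_394) (Nat.ble 394 c)
noncomputable def Atab_s_395_397 (c : Nat) : Nat := @Bool.rec (fun _ => Nat) (Atab_395) (Atab_396) (Nat.ble 396 c)
noncomputable def Atab_s_393_397 (c : Nat) : Nat := @Bool.rec (fun _ => Nat) (Atab_s_393_395 c) (Atab_s_395_397 c) (Nat.ble 395 c)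
noncomputable def Atab_s_397_399 (c : Nat) : Nat := @Bool.rec (fun _ => Nat) (Atab_397) (Atab_398) (Nat.ble 398 c)
noncomputable def Atab_s_400_402 (c : Nat) : Nat := @Bool.rec (fun _ => Nat) (Atab_400) (Atab_401) (Nat.ble 401 c)
noncomputable def Atab_s_399_402 (c : Nat) : Nat := @Bool.rec (fun _ => Nat) (Atab_399) (Atab_s_400_402 c) (Nat.ble 400 c)
noncomputable def Atab_s_397_402 (c : Nat) : Nat := @Bool.rec (fun _ => Nat) (Atab_s_397_399 c) (Atab_s_399_402 c) (Nat.ble 399 c)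
noncomputable def Atab_s_393_402 (c : Nat) : Nat := @Bool.rec (fun _ => Nat) (Atab_s_393_397 c) (Atab_s_397_402 c) (Nat.ble 397 c)
noncomputable def Atab_s_402_404 (c : Nat) : Nat := @Bool.rec (fun _ => Nat) (Atab_402) (Atab_403) (Nat.ble 403 c)
noncomputable def Atab_s_404_406 (c : Nat) : Nat := @Bool.rec (fun _ => Nat) (Atab_404) (Atab_405) (Nat.ble 405 c)
noncomputable def Atab_s_402_406 (c : Nat) : Nat := @Bool.rec (fun _ => Nat) (Atab_s_402_404 c) (Atab_s_404_406 c) (Nat.ble 404 c)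
noncomputable def Atab_s_406_408 (c : Nat) : Nat := @Bool.rec (fun _ => Nat) (Atab_406) (Atab_407) (Nat.ble 407 c)
noncomputable def Atab_s_409_411 (c : Nat) : Nat := @Bool.rec (fun _ => Nat) (Atab_409) (Atab_410) (Nat.ble 410 c)
noncomputable def Atab_s_408_411 (c : Nat) : Nat := @Bool.rec (fun _ => Nat) (Atab_408) (Atab_s_409_411 c) (Nat.ble 409 c)
noncomputable def Atab_s_406_411 (c : Nat) : Nat := @Bool.rec (fun _ => Nat) (Atab_s_406_408 c) (Atab_s_408_411 c) (Nat.ble 408 c)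
noncomputable def Atab_s_402_411 (c : Nat) : Nat := @Bool.rec (fun _ => Nat) (Atab_s_402_406 c) (Atab_s_406_411 c) (Nat.ble 406 c)
noncomputable def Atab_s_393_411 (c : Nat) : Nat := @Bool.rec (fun _ => Nat) (Atab_s_393_402 c) (Atab_s_402_411 c) (Nat.ble 402 c)
noncomputable def Atab_s_411_413 (c : Nat) : Nat := @Bool.rec (fun _ => Nat) (Atab_411) (Atab_412) (Nat.ble 412 c)
noncomputable def Atab_s_413_415 (c : Nat) : Nat := @Bool.rec (fun _ => Nat) (Atab_413) (Atab_414) (Nat.ble 414 c)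
noncomputable def Atab_s_411_415 (c : Nat) : Nat := @Bool.rec (fun _ => Nat) (Atab_s_411_413 c) (Atab_s_413_415 c) (Nat.ble 413 c)
noncomputable def Atab_s_415_417 (c : Nat) : Nat := @Bool.rec (fun _ => Nat) (Atab_415) (Atab_416) (Nat.ble 416 c)
noncomputable def Atab_s_418_420 (c : Nat) : Nat := @Bool.rec (fun _ => Nat) (Atab_418) (Atab_419) (Nat.ble 419 c)
noncomputable def Atab_s_417_420 (c : Nat) : Nat := @Bool.rec (fun _ => Nat) (Atab_417) (Atab_s_418_420 c) (Nat.ble 418 c)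
noncomputable def Atab_s_415_420 (c : Nat) : Nat := @Bool.rec (fun _ => Nat) (Atab_s_415_417 c) (Atab_s_417_420 c) (Nat.ble 417 c)
noncomputable def Atab_s_411_420 (c : Nat) : Nat := @Bool.rec (fun _ => Nat) (Atab_s_411_415 c) (Atab_s_415_420 c) (Nat.ble 415 c)
noncomputable def Atab_s_420_422 (c : Nat) : Nat := @Bool.rec (fun _ => Nat) (Atab_420) (Atab_421) (Nat.ble 421 c)
noncomputable def Atab_s_422_424 (c : Nat) : Nat := @Bool.rec (fun _ => Nat) (Atab_422) (Atab_423) (Nat.ble 423 c)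
noncomputable def Atab_s_420_424 (c : Nat) : Nat := @Bool.rec (fun _ => Nat) (Atab_s_420_422 c) (Atab_s_422_424 c) (Nat.ble 422 c)
noncomputable def Atab_s_424_426 (c : Nat) : Nat := @Bool.rec (fun _ => Nat) (Atab_424) (Atab_425) (Nat.ble 425 c)
noncomputable def Atab_s_427_429 (c : Nat) : Nat := @Bool.rec (fun _ => Nat) (Atab_427) (Atab_428) (Nat.ble 428 c)
noncomputable def Atab_s_426_429 (c : Nat) : Nat := @Bool.rec (fun _ => Nat) (Atab_426) (Atab_s_427_429 c) (Nat.ble 427 c)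
noncomputable def Atab_s_424_429 (c : Nat) : Nat := @Bool.rec (fun _ => Nat) (Atab_s_424_426 c) (Atab_s_426_429 c) (Nat.ble 426 c)
noncomputable def Atab_s_420_429 (c : Nat) : Nat := @Bool.rec (fun _ => Nat) (Atab_s_420_424 c) (Atab_s_424_429 c) (Nat.ble 424 c)
noncomputable def Atab_s_411_429 (c : Nat) : Nat := @Bool.rec (fun _ => Nat) (Atab_s_411_420 c) (Atab_s_420_429 c) (Nat.ble 420 c)
noncomputable def Atab_s_393_429 (c : Nat) : Nat := @Bool.rec (fun _ => Nat) (Atab_s_393_411 c) (Atab_s_411_429 c) (Nat.ble 411 c)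
noncomputable def Atab_s_357_429 (c : Nat) : Nat := @Bool.rec (fun _ => Nat) (Atab_s_357_393 c) (Atab_s_393_429 c) (Nat.ble 393 c)
noncomputable def Atab_s_286_429 (c : Nat) : Nat := @Bool.rec (fun _ => Nat) (Atab_s_286_357 c) (Atab_s_357_429 c) (Nat.ble 357 c)
noncomputable def Atab_s_429_431 (c : Nat) : Nat := @Bool.rec (fun _ => Nat) (Atab_429) (Atab_430) (Nat.ble 430 c)
noncomputable def Atab_s_431_433 (c : Nat) : Nat := @Bool.rec (fun _ => Nat) (Atab_431) (Atab_432) (Nat.ble 432 c)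
noncomputable def Atab_s_429_433 (c : Nat) : Nat := @Bool.rec (fun _ => Nat) (Atab_s_429_431 c) (Atab_s_431_433 c) (Nat.ble 431 c)
noncomputable def Atab_s_433_435 (c : Nat) : Nat := @Bool.rec (fun _ => Nat) (Atab_433) (Atab_434) (Nat.ble 434 c)
noncomputable def Atab_s_436_438 (c : Nat) : Nat := @Bool.rec (fun _ => Nat) (Atab_436) (Atab_437) (Nat.ble 437 c)
noncomputable def Atab_s_435_438 (c : Nat) : Nat := @Bool.rec (fun _ => Nat) (Atab_435) (Atab_s_436_438 c) (Nat.ble 436 c)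
noncomputable def Atab_s_433_438 (c : Nat) : Nat := @Bool.rec (fun _ => Nat) (Atab_s_433_435 c) (Atab_s_435_438 c) (Nat.ble 435 c)
noncomputable def Atab_s_429_438 (c : Nat) : Nat := @Bool.rec (fun _ => Nat) (Atab_s_429_433 c) (Atab_s_433_438 c) (Nat.ble 433 c)
noncomputable def Atab_s_438_440 (c : Nat) : Nat := @Bool.rec (fun _ => Nat) (Atab_438) (Atab_439) (Nat.ble 439 c)
noncomputable def Atab_s_440_442 (c : Nat) : Nat := @Bool.rec (fun _ => Nat) (Atab_440) (Atab_441) (Nat.ble 441 c)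
noncomputable def Atab_s_438_442 (c : Nat) : Nat := @Bool.rec (fun _ => Nat) (Atab_s_438_440 c) (Atab_s_440_442 c) (Nat.ble 440 c)
noncomputable def Atab_s_442_444 (c : Nat) : Nat := @Bool.rec (fun _ => Nat) (Atab_442) (Atab_443) (Nat.ble 443 c)
noncomputable def Atab_s_445_447 (c : Nat) : Nat := @Bool.rec (fun _ => Nat) (Atab_445) (Atab_446) (Nat.ble 446 c)
noncomputable def Atab_s_444_447 (c : Nat) : Nat := @Bool.rec (fun _ => Nat) (Atab_444) (Atab_s_445_447 c) (Nat.ble 445 c)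
noncomputable def Atab_s_442_447 (c : Nat) : Nat := @Bool.rec (fun _ => Nat) (Atab_s_442_444 c) (Atab_s_444_447 c) (Nat.ble 444 c)
noncomputable def Atab_s_438_447 (c : Nat) : Nat := @Bool.rec (fun _ => Nat) (Atab_s_438_442 c) (Atab_s_442_447 c) (Nat.ble 442 c)
noncomputable def Atab_s_429_447 (c : Nat) : Nat := @Bool.rec (fun _ => Nat) (Atab_s_429_438 c) (Atab_s_438_447 c) (Nat.ble 438 c)
noncomputable def Atab_s_447_449 (c : Nat) : Nat := @Bool.rec (fun _ => Nat) (Atab_447) (Atab_448) (Nat.ble 448 c)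
noncomputable def Atab_s_449_451 (c : Nat) : Nat := @Bool.rec (fun _ => Nat) (Atab_449) (Atab_450) (Nat.ble 450 c)
noncomputable def Atab_s_447_451 (c : Nat) : Nat := @Bool.rec (fun _ => Nat) (Atab_s_447_449 c) (Atab_s_449_451 c) (Nat.ble 449 c)
noncomputable def Atab_s_451_453 (c : Nat) : Nat := @Bool.rec (fun _ => Nat) (Atab_451) (Atab_452) (Nat.ble 452 c)
noncomputable def Atab_s_454_456 (c : Nat) : Nat := @Bool.rec (fun _ => Nat) (Atab_454) (Atab_455) (Nat.ble 455 c)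
noncomputable def Atab_s_453_456 (c : Nat) : Nat := @Bool.rec (fun _ => Nat) (Atab_453) (Atab_s_454_456 c) (Nat.ble 454 c)
noncomputable def Atab_s_451_456 (c : Nat) : Nat := @Bool.rec (fun _ => Nat) (Atab_s_451_453 c) (Atab_s_453_456 c) (Nat.ble 453 c)
noncomputable def Atab_s_447_456 (c : Nat) : Nat := @Bool.rec (fun _ => Nat) (Atab_s_447_451 c) (Atab_s_451_456 c) (Nat.ble 451 c)
noncomputable def Atab_s_456_458 (c : Nat) : Nat := @Bool.rec (fun _ => Nat) (Atab_456) (Atab_457) (Nat.ble 457 c)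
noncomputable def Atab_s_458_460 (c : Nat) : Nat := @Bool.rec (fun _ => Nat) (Atab_458) (Atab_459) (Nat.ble 459 c)
noncomputable def Atab_s_456_460 (c : Nat) : Nat := @Bool.rec (fun _ => Nat) (Atab_s_456_458 c) (Atab_s_458_460 c) (Nat.ble 458 c)
noncomputable def Atab_s_460_462 (c : Nat) : Nat := @Bool.rec (fun _ => Nat) (Atab_460) (Atab_461) (Nat.ble 461 c)
noncomputable def Atab_s_463_465 (c : Nat) : Nat := @Bool.rec (fun _ => Nat) (Atab_463) (Atab_464) (Nat.ble 464 c)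
noncomputable def Atab_s_462_465 (c : Nat) : Nat := @Bool.rec (fun _ => Nat) (Atab_462) (Atab_s_463_465 c) (Nat.ble 463 c)
noncomputable def Atab_s_460_465 (c : Nat) : Nat := @Bool.rec (fun _ => Nat) (Atab_s_460_462 c) (Atab_s_462_465 c) (Nat.ble 462 c)
noncomputable def Atab_s_456_465 (c : Nat) : Nat := @Bool.rec (fun _ => Nat) (Atab_s_456_460 c) (Atab_s_460_465 c) (Nat.ble 460 c)
noncomputable def Atab_s_447_465 (c : Nat) : Nat := @Bool.rec (fun _ => Nat) (Atab_s_447_456 c) (Atab_s_456_465 c) (Nat.ble 456 c)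
noncomputable def Atab_s_429_465 (c : Nat) : Nat := @Bool.rec (fun _ => Nat) (Atab_s_429_447 c) (Atab_s_447_465 c) (Nat.ble 447 c)
noncomputable def Atab_s_465_467 (c : Nat) : Nat := @Bool.rec (fun _ => Nat) (Atab_465) (Atab_466) (Nat.ble 466 c)
noncomputable def Atab_s_467_469 (c : Nat) : Nat := @Bool.rec (fun _ => Nat) (Atab_467) (Atab_468) (Nat.ble 468 c)
noncomputable def Atab_s_465_469 (c : Nat) : Nat := @Bool.rec (fun _ => Nat) (Atab_s_465_467 c) (Atab_s_467_469 c) (Nat.ble 467 c)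
noncomputable def Atab_s_469_471 (c : Nat) : Nat := @Bool.rec (fun _ => Nat) (Atab_469) (Atab_470) (Nat.ble 470 c)
noncomputable def Atab_s_472_474 (c : Nat) : Nat := @Bool.rec (fun _ => Nat) (Atab_472) (Atab_473) (Nat.ble 473 c)
noncomputable def Atab_s_471_474 (c : Nat) : Nat := @Bool.rec (fun _ => Nat) (Atab_471) (Atab_s_472_474 c) (Nat.ble 472 c)
noncomputable def Atab_s_469_474 (c : Nat) : Nat := @Bool.rec (fun _ => Nat) (Atab_s_469_471 c) (Atab_s_471_474 c) (Nat.ble 471 c)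
noncomputable def Atab_s_465_474 (c : Nat) : Nat := @Bool.rec (fun _ => Nat) (Atab_s_465_469 c) (Atab_s_469_474 c) (Nat.ble 469 c)
noncomputable def Atab_s_474_476 (c : Nat) : Nat := @Bool.rec (fun _ => Nat) (Atab_474) (Atab_475) (Nat.ble 475 c)
noncomputable def Atab_s_476_478 (c : Nat) : Nat := @Bool.rec (fun _ => Nat) (Atab_476) (Atab_477) (Nat.ble 477 c)
noncomputable def Atab_s_474_478 (c : Nat) : Nat := @Bool.rec (fun _ => Nat) (Atab_s_474_476 c) (Atab_s_476_478 c) (Nat.ble 476 c)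
noncomputable def Atab_s_478_480 (c : Nat) : Nat := @Bool.rec (fun _ => Nat) (Atab_478) (Atab_479) (Nat.ble 479 c)
noncomputable def Atab_s_481_483 (c : Nat) : Nat := @Bool.rec (fun _ => Nat) (Atab_481) (Atab_482) (Nat.ble 482 c)
noncomputable def Atab_s_480_483 (c : Nat) : Nat := @Bool.rec (fun _ => Nat) (Atab_480) (Atab_s_481_483 c) (Nat.ble 481 c)
noncomputable def Atab_s_478_483 (c : Nat) : Nat := @Bool.rec (fun _ => Nat) (Atab_s_478_480 c) (Atab_s_480_483 c) (Nat.ble 480 c)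
noncomputable def Atab_s_474_483 (c : Nat) : Nat := @Bool.rec (fun _ => Nat) (Atab_s_474_478 c) (Atab_s_478_483 c) (Nat.ble 478 c)
noncomputable def Atab_s_465_483 (c : Nat) : Nat := @Bool.rec (fun _ => Nat) (Atab_s_465_474 c) (Atab_s_474_483 c) (Nat.ble 474 c)
noncomputable def Atab_s_483_485 (c : Nat) : Nat := @Bool.rec (fun _ => Nat) (Atab_483) (Atab_484) (Nat.ble 484 c)
noncomputable def Atab_s_485_487 (c : Nat) : Nat := @Bool.rec (fun _ => Nat) (Atab_485) (Atab_486) (Nat.ble 486 c)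
noncomputable def Atab_s_483_487 (c : Nat) : Nat := @Bool.rec (fun _ => Nat) (Atab_s_483_485 c) (Atab_s_485_487 c) (Nat.ble 485 c)
noncomputable def Atab_s_487_489 (c : Nat) : Nat := @Bool.rec (fun _ => Nat) (Atab_487) (Atab_488) (Nat.ble 488 c)
noncomputable def Atab_s_490_492 (c : Nat) : Nat := @Bool.rec (fun _ => Nat) (Atab_490) (Atab_491) (Nat.ble 491 c)
noncomputable def Atab_s_489_492 (c : Nat) : Nat := @Bool.rec (fun _ => Nat) (Atab_489) (Atab_s_490_492 c) (Nat.ble 490 c)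
noncomputable def Atab_s_487_492 (c : Nat) : Nat := @Bool.rec (fun _ => Nat) (Atab_s_487_489 c) (Atab_s_489_492 c) (Nat.ble 489 c)
noncomputable def Atab_s_483_492 (c : Nat) : Nat := @Bool.rec (fun _ => Nat) (Atab_s_483_487 c) (Atab_s_487_492 c) (Nat.ble 487 c)
noncomputable def Atab_s_492_494 (c : Nat) : Nat := @Bool.rec (fun _ => Nat) (Atab_492) (Atab_493) (Nat.ble 493 c)
noncomputable def Atab_s_494_496 (c : Nat) : Nat := @Bool.rec (fun _ => Nat) (Atab_494) (Atab_495) (Nat.ble 495 c)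
noncomputable def Atab_s_492_496 (c : Nat) : Nat := @Bool.rec (fun _ => Nat) (Atab_s_492_494 c) (Atab_s_494_496 c) (Nat.ble 494 c)
noncomputable def Atab_s_496_498 (c : Nat) : Nat := @Bool.rec (fun _ => Nat) (Atab_496) (Atab_497) (Nat.ble 497 c)
noncomputable def Atab_s_499_501 (c : Nat) : Nat := @Bool.rec (fun _ => Nat) (Atab_499) (Atab_500) (Nat.ble 500 c)
noncomputable def Atab_s_498_501 (c : Nat) : Nat := @Bool.rec (fun _ => Nat) (Atab_498) (Atab_s_499_501 c) (Nat.ble 499 c)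
noncomputable def Atab_s_496_501 (c : Nat) : Nat := @Bool.rec (fun _ => Nat) (Atab_s_496_498 c) (Atab_s_498_501 c) (Nat.ble 498 c)
noncomputable def Atab_s_492_501 (c : Nat) : Nat := @Bool.rec (fun _ => Nat) (Atab_s_492_496 c) (Atab_s_496_501 c) (Nat.ble 496 c)
noncomputable def Atab_s_483_501 (c : Nat) : Nat := @Bool.rec (fun _ => Nat) (Atab_s_483_492 c) (Atab_s_492_501 c) (Nat.ble 492 c)
noncomputable def Atab_s_465_501 (c : Nat) : Nat := @Bool.rec (fun _ => Nat) (Atab_s_465_483 c) (Atab_s_483_501 c) (Nat.ble 483 c)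
noncomputable def Atab_s_429_501 (c : Nat) : Nat := @Bool.rec (fun _ => Nat) (Atab_s_429_465 c) (Atab_s_465_501 c) (Nat.ble 465 c)
noncomputable def Atab_s_501_503 (c : Nat) : Nat := @Bool.rec (fun _ => Nat) (Atab_501) (Atab_502) (Nat.ble 502 c)
noncomputable def Atab_s_503_505 (c : Nat) : Nat := @Bool.rec (fun _ => Nat) (Atab_503) (Atab_504) (Nat.ble 504 c)
noncomputable def Atab_s_501_505 (c : Nat) : Nat := @Bool.rec (fun _ => Nat) (Atab_s_501_503 c) (Atab_s_503_505 c) (Nat.ble 503 c)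
noncomputable def Atab_s_505_507 (c : Nat) : Nat := @Bool.rec (fun _ => Nat) (Atab_505) (Atab_506) (Nat.ble 506 c)
noncomputable def Atab_s_508_510 (c : Nat) : Nat := @Bool.rec (fun _ => Nat) (Atab_508) (Atab_509) (Nat.ble 509 c)
noncomputable def Atab_s_507_510 (c : Nat) : Nat := @Bool.rec (fun _ => Nat) (Atab_507) (Atab_s_508_510 c) (Nat.ble 508 c)
noncomputable def Atab_s_505_510 (c : Nat) : Nat := @Bool.rec (fun _ => Nat) (Atab_s_505_507 c) (Atab_s_507_510 c) (Nat.ble 507 c)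
noncomputable def Atab_s_501_510 (c : Nat) : Nat := @Bool.rec (fun _ => Nat) (Atab_s_501_505 c) (Atab_s_505_510 c) (Nat.ble 505 c)
noncomputable def Atab_s_510_512 (c : Nat) : Nat := @Bool.rec (fun _ => Nat) (Atab_510) (Atab_511) (Nat.ble 511 c)
noncomputable def Atab_s_512_514 (c : Nat) : Nat := @Bool.rec (fun _ => Nat) (Atab_512) (Atab_513) (Nat.ble 513 c)
noncomputable def Atab_s_510_514 (c : Nat) : Nat := @Bool.rec (fun _ => Nat) (Atab_s_510_512 c) (Atab_s_512_514 c) (Nat.ble 512 c)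
noncomputable def Atab_s_514_516 (c : Nat) : Nat := @Bool.rec (fun _ => Nat) (Atab_514) (Atab_515) (Nat.ble 515 c)
noncomputable def Atab_s_517_519 (c : Nat) : Nat := @Bool.rec (fun _ => Nat) (Atab_517) (Atab_518) (Nat.ble 518 c)
noncomputable def Atab_s_516_519 (c : Nat) : Nat := @Bool.rec (fun _ => Nat) (Atab_516) (Atab_s_517_519 c) (Nat.ble 517 c)
noncomputable def Atab_s_514_519 (c : Nat) : Nat := @Bool.rec (fun _ => Nat) (Atab_s_514_516 c) (Atab_s_516_519 c) (Nat.ble 516 c)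
noncomputable def Atab_s_510_519 (c : Nat) : Nat := @Bool.rec (fun _ => Nat) (Atab_s_510_514 c) (Atab_s_514_519 c) (Nat.ble 514 c)
noncomputable def Atab_s_501_519 (c : Nat) : Nat := @Bool.rec (fun _ => Nat) (Atab_s_501_510 c) (Atab_s_510_519 c) (Nat.ble 510 c)
noncomputable def Atab_s_519_521 (c : Nat) : Nat := @Bool.rec (fun _ => Nat) (Atab_519) (Atab_520) (Nat.ble 520 c)
noncomputable def Atab_s_521_523 (c : Nat) : Nat := @Bool.rec (fun _ => Nat) (Atab_521) (Atab_522) (Nat.ble 522 c)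
noncomputable def Atab_s_519_523 (c : Nat) : Nat := @Bool.rec (fun _ => Nat) (Atab_s_519_521 c) (Atab_s_521_523 c) (Nat.ble 521 c)
noncomputable def Atab_s_523_525 (c : Nat) : Nat := @Bool.rec (fun _ => Nat) (Atab_523) (Atab_524) (Nat.ble 524 c)
noncomputable def Atab_s_526_528 (c : Nat) : Nat := @Bool.rec (fun _ => Nat) (Atab_526) (Atab_527) (Nat.ble 527 c)
noncomputable def Atab_s_525_528 (c : Nat) : Nat := @Bool.rec (fun _ => Nat) (Atab_525) (Atab_s_526_528 c) (Nat.ble 526 c)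
noncomputable def Atab_s_523_528 (c : Nat) : Nat := @Bool.rec (fun _ => Nat) (Atab_s_523_525 c) (Atab_s_525_528 c) (Nat.ble 525 c)
noncomputable def Atab_s_519_528 (c : Nat) : Nat := @Bool.rec (fun _ => Nat) (Atab_s_519_523 c) (Atab_s_523_528 c) (Nat.ble 523 c)
noncomputable def Atab_s_528_530 (c : Nat) : Nat := @Bool.rec (fun _ => Nat) (Atab_528) (Atab_529) (Nat.ble 529 c)
noncomputable def Atab_s_530_532 (c : Nat) : Nat := @Bool.rec (fun _ => Nat) (Atab_530) (Atab_531) (Nat.ble 531 c)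
noncomputable def Atab_s_528_532 (c : Nat) : Nat := @Bool.rec (fun _ => Nat) (Atab_s_528_530 c) (Atab_s_530_532 c) (Nat.ble 530 c)
noncomputable def Atab_s_532_534 (c : Nat) : Nat := @Bool.rec (fun _ => Nat) (Atab_532) (Atab_533) (Nat.ble 533 c)
noncomputable def Atab_s_535_537 (c : Nat) : Nat := @Bool.rec (fun _ => Nat) (Atab_535) (Atab_536) (Nat.ble 536 c)
noncomputable def Atab_s_534_537 (c : Nat) : Nat := @Bool.rec (fun _ => Nat) (Atab_534) (Atab_s_535_537 c) (Nat.ble 535 c)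
noncomputable def Atab_s_532_537 (c : Nat) : Nat := @Bool.rec (fun _ => Nat) (Atab_s_532_534 c) (Atab_s_534_537 c) (Nat.ble 534 c)
noncomputable def Atab_s_528_537 (c : Nat) : Nat := @Bool.rec (fun _ => Nat) (Atab_s_528_532 c) (Atab_s_532_537 c) (Nat.ble 532 c)
noncomputable def Atab_s_519_537 (c : Nat) : Nat := @Bool.rec (fun _ => Nat) (Atab_s_519_528 c) (Atab_s_528_537 c) (Nat.ble 528 c)
noncomputable def Atab_s_501_537 (c : Nat) : Nat := @Bool.rec (fun _ => Nat) (Atab_s_501_519 c) (Atab_s_519_537 c) (Nat.ble 519 c)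
noncomputable def Atab_s_537_539 (c : Nat) : Nat := @Bool.rec (fun _ => Nat) (Atab_537) (Atab_538) (Nat.ble 538 c)
noncomputable def Atab_s_539_541 (c : Nat) : Nat := @Bool.rec (fun _ => Nat) (Atab_539) (Atab_540) (Nat.ble 540 c)
noncomputable def Atab_s_537_541 (c : Nat) : Nat := @Bool.rec (fun _ => Nat) (Atab_s_537_539 c) (Atab_s_539_541 c) (Nat.ble 539 c)
noncomputable def Atab_s_541_543 (c : Nat) : Nat := @Bool.rec (fun _ => Nat) (Atab_541) (Atab_542) (Nat.ble 542 c)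
noncomputable def Atab_s_544_546 (c : Nat) : Nat := @Bool.rec (fun _ => Nat) (Atab_544) (Atab_545) (Nat.ble 545 c)
noncomputable def Atab_s_543_546 (c : Nat) : Nat := @Bool.rec (fun _ => Nat) (Atab_543) (Atab_s_544_546 c) (Nat.ble 544 c)
noncomputable def Atab_s_541_546 (c : Nat) : Nat := @Bool.rec (fun _ => Nat) (Atab_s_541_543 c) (Atab_s_543_546 c) (Nat.ble 543 c)
noncomputable def Atab_s_537_546 (c : Nat) : Nat := @Bool.rec (fun _ => Nat) (Atab_s_537_541 c) (Atab_s_541_546 c) (Nat.ble 541 c)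
noncomputable def Atab_s_546_548 (c : Nat) : Nat := @Bool.rec (fun _ => Nat) (Atab_546) (Atab_547) (Nat.ble 547 c)
noncomputable def Atab_s_548_550 (c : Nat) : Nat := @Bool.rec (fun _ => Nat) (Atab_548) (Atab_549) (Nat.ble 549 c)
noncomputable def Atab_s_546_550 (c : Nat) : Nat := @Bool.rec (fun _ => Nat) (Atab_s_546_548 c) (Atab_s_548_550 c) (Nat.ble 548 c)
noncomputable def Atab_s_550_552 (c : Nat) : Nat := @Bool.rec (fun _ => Nat) (Atab_550) (Atab_551) (Nat.ble 551 c)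
noncomputable def Atab_s_553_555 (c : Nat) : Nat := @Bool.rec (fun _ => Nat) (Atab_553) (Atab_554) (Nat.ble 554 c)
noncomputable def Atab_s_552_555 (c : Nat) : Nat := @Bool.rec (fun _ => Nat) (Atab_552) (Atab_s_553_555 c) (Nat.ble 553 c)
noncomputable def Atab_s_550_555 (c : Nat) : Nat := @Bool.rec (fun _ => Nat) (Atab_s_550_552 c) (Atab_s_552_555 c) (Nat.ble 552 c)
noncomputable def Atab_s_546_555 (c : Nat) : Nat := @Bool.rec (fun _ => Nat) (Atab_s_546_550 c) (Atab_s_550_555 c) (Nat.ble 550 c)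
noncomputable def Atab_s_537_555 (c : Nat) : Nat := @Bool.rec (fun _ => Nat) (Atab_s_537_546 c) (Atab_s_546_555 c) (Nat.ble 546 c)
noncomputable def Atab_s_555_557 (c : Nat) : Nat := @Bool.rec (fun _ => Nat) (Atab_555) (Atab_556) (Nat.ble 556 c)
noncomputable def Atab_s_557_559 (c : Nat) : Nat := @Bool.rec (fun _ => Nat) (Atab_557) (Atab_558) (Nat.ble 558 c)
noncomputable def Atab_s_555_559 (c : Nat) : Nat := @Bool.rec (fun _ => Nat) (Atab_s_555_557 c) (Atab_s_557_559 c) (Nat.ble 557 c)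
noncomputable def Atab_s_559_561 (c : Nat) : Nat := @Bool.rec (fun _ => Nat) (Atab_559) (Atab_560) (Nat.ble 560 c)
noncomputable def Atab_s_562_564 (c : Nat) : Nat := @Bool.rec (fun _ => Nat) (Atab_562) (Atab_563) (Nat.ble 563 c)
noncomputable def Atab_s_561_564 (c : Nat) : Nat := @Bool.rec (fun _ => Nat) (Atab_561) (Atab_s_562_564 c) (Nat.ble 562 c)
noncomputable def Atab_s_559_564 (c : Nat) : Nat := @Bool.rec (fun _ => Nat) (Atab_s_559_561 c) (Atab_s_561_564 c) (Nat.ble 561 c)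
noncomputable def Atab_s_555_564 (c : Nat) : Nat := @Bool.rec (fun _ => Nat) (Atab_s_555_559 c) (Atab_s_559_564 c) (Nat.ble 559 c)
noncomputable def Atab_s_564_566 (c : Nat) : Nat := @Bool.rec (fun _ => Nat) (Atab_564) (Atab_565) (Nat.ble 565 c)
noncomputable def Atab_s_566_568 (c : Nat) : Nat := @Bool.rec (fun _ => Nat) (Atab_566) (Atab_567) (Nat.ble 567 c)
noncomputable def Atab_s_564_568 (c : Nat) : Nat := @Bool.rec (fun _ => Nat) (Atab_s_564_566 c) (Atab_s_566_568 c) (Nat.ble 566 c)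
noncomputable def Atab_s_568_570 (c : Nat) : Nat := @Bool.rec (fun _ => Nat) (Atab_568) (Atab_569) (Nat.ble 569 c)
noncomputable def Atab_s_571_573 (c : Nat) : Nat := @Bool.rec (fun _ => Nat) (Atab_571) (Atab_572) (Nat.ble 572 c)
noncomputable def Atab_s_570_573 (c : Nat) : Nat := @Bool.rec (fun _ => Nat) (Atab_570) (Atab_s_571_573 c) (Nat.ble 571 c)
noncomputable def Atab_s_568_573 (c : Nat) : Nat := @Bool.rec (fun _ => Nat) (Atab_s_568_570 c) (Atab_s_570_573 c) (Nat.ble 570 c)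
noncomputable def Atab_s_564_573 (c : Nat) : Nat := @Bool.rec (fun _ => Nat) (Atab_s_564_568 c) (Atab_s_568_573 c) (Nat.ble 568 c)
noncomputable def Atab_s_555_573 (c : Nat) : Nat := @Bool.rec (fun _ => Nat) (Atab_s_555_564 c) (Atab_s_564_573 c) (Nat.ble 564 c)
noncomputable def Atab_s_537_573 (c : Nat) : Nat := @Bool.rec (fun _ => Nat) (Atab_s_537_555 c) (Atab_s_555_573 c) (Nat.ble 555 c)
noncomputable def Atab_s_501_573 (c : Nat) : Nat := @Bool.rec (fun _ => Nat) (Atab_s_501_537 c) (Atab_s_537_573 c) (Nat.ble 537 c)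
noncomputable def Atab_s_429_573 (c : Nat) : Nat := @Bool.rec (fun _ => Nat) (Atab_s_429_501 c) (Atab_s_501_573 c) (Nat.ble 501 c)
noncomputable def Atab_s_286_573 (c : Nat) : Nat := @Bool.rec (fun _ => Nat) (Atab_s_286_429 c) (Atab_s_429_573 c) (Nat.ble 429 c)
noncomputable def Atab_s_0_573 (c : Nat) : Nat := @Bool.rec (fun _ => Nat) (Atab_s_0_286 c) (Atab_s_286_573 c) (Nat.ble 286 c)
noncomputable def Atab_s_573_575 (c : Nat) : Nat := @Bool.rec (fun _ => Nat) (Atab_573) (Atab_574) (Nat.ble 574 c)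
noncomputable def Atab_s_575_577 (c : Nat) : Nat := @Bool.rec (fun _ => Nat) (Atab_575) (Atab_576) (Nat.ble 576 c)
noncomputable def Atab_s_573_577 (c : Nat) : Nat := @Bool.rec (fun _ => Nat) (Atab_s_573_575 c) (Atab_s_575_577 c) (Nat.ble 575 c)
noncomputable def Atab_s_577_579 (c : Nat) : Nat := @Bool.rec (fun _ => Nat) (Atab_577) (Atab_578) (Nat.ble 578 c)
noncomputable def Atab_s_579_581 (c : Nat) : Nat := @Bool.rec (fun _ => Nat) (Atab_579) (Atab_580) (Nat.ble 580 c)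
noncomputable def Atab_s_577_581 (c : Nat) : Nat := @Bool.rec (fun _ => Nat) (Atab_s_577_579 c) (Atab_s_579_581 c) (Nat.ble 579 c)
noncomputable def Atab_s_573_581 (c : Nat) : Nat := @Bool.rec (fun _ => Nat) (Atab_s_573_577 c) (Atab_s_577_581 c) (Nat.ble 577 c)
noncomputable def Atab_s_581_583 (c : Nat) : Nat := @Bool.rec (fun _ => Nat) (Atab_581) (Atab_582) (Nat.ble 582 c)
noncomputable def Atab_s_583_585 (c : Nat) : Nat := @Bool.rec (fun _ => Nat) (Atab_583) (Atab_584) (Nat.ble 584 c)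
noncomputable def Atab_s_581_585 (c : Nat) : Nat := @Bool.rec (fun _ => Nat) (Atab_s_581_583 c) (Atab_s_583_585 c) (Nat.ble 583 c)
noncomputable def Atab_s_585_587 (c : Nat) : Nat := @Bool.rec (fun _ => Nat) (Atab_585) (Atab_586) (Nat.ble 586 c)
noncomputable def Atab_s_588_590 (c : Nat) : Nat := @Bool.rec (fun _ => Nat) (Atab_588) (Atab_589) (Nat.ble 589 c)
noncomputable def Atab_s_587_590 (c : Nat) : Nat := @Bool.rec (fun _ => Nat) (Atab_587) (Atab_s_588_590 c) (Nat.ble 588 c)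
noncomputable def Atab_s_585_590 (c : Nat) : Nat := @Bool.rec (fun _ => Nat) (Atab_s_585_587 c) (Atab_s_587_590 c) (Nat.ble 587 c)
noncomputable def Atab_s_581_590 (c : Nat) : Nat := @Bool.rec (fun _ => Nat) (Atab_s_581_585 c) (Atab_s_585_590 c) (Nat.ble 585 c)
noncomputable def Atab_s_573_590 (c : Nat) : Nat := @Bool.rec (fun _ => Nat) (Atab_s_573_581 c) (Atab_s_581_590 c) (Nat.ble 581 c)
noncomputable def Atab_s_590_592 (c : Nat) : Nat := @Bool.rec (fun _ => Nat) (Atab_590) (Atab_591) (Nat.ble 591 c)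
noncomputable def Atab_s_592_594 (c : Nat) : Nat := @Bool.rec (fun _ => Nat) (Atab_592) (Atab_593) (Nat.ble 593 c)
noncomputable def Atab_s_590_594 (c : Nat) : Nat := @Bool.rec (fun _ => Nat) (Atab_s_590_592 c) (Atab_s_592_594 c) (Nat.ble 592 c)
noncomputable def Atab_s_594_596 (c : Nat) : Nat := @Bool.rec (fun _ => Nat) (Atab_594) (Atab_595) (Nat.ble 595 c)
noncomputable def Atab_s_597_599 (c : Nat) : Nat := @Bool.rec (fun _ => Nat) (Atab_597) (Atab_598) (Nat.ble 598 c)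
noncomputable def Atab_s_596_599 (c : Nat) : Nat := @Bool.rec (fun _ => Nat) (Atab_596) (Atab_s_597_599 c) (Nat.ble 597 c)
noncomputable def Atab_s_594_599 (c : Nat) : Nat := @Bool.rec (fun _ => Nat) (Atab_s_594_596 c) (Atab_s_596_599 c) (Nat.ble 596 c)
noncomputable def Atab_s_590_599 (c : Nat) : Nat := @Bool.rec (fun _ => Nat) (Atab_s_590_594 c) (Atab_s_594_599 c) (Nat.ble 594 c)
noncomputable def Atab_s_599_601 (c : Nat) : Nat := @Bool.rec (fun _ => Nat) (Atab_599) (Atab_600) (Nat.ble 600 c)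
noncomputable def Atab_s_601_603 (c : Nat) : Nat := @Bool.rec (fun _ => Nat) (Atab_601) (Atab_602) (Nat.ble 602 c)
noncomputable def Atab_s_599_603 (c : Nat) : Nat := @Bool.rec (fun _ => Nat) (Atab_s_599_601 c) (Atab_s_601_603 c) (Nat.ble 601 c)
noncomputable def Atab_s_603_605 (c : Nat) : Nat := @Bool.rec (fun _ => Nat) (Atab_603) (Atab_604) (Nat.ble 604 c)
noncomputable def Atab_s_606_608 (c : Nat) : Nat := @Bool.rec (fun _ => Nat) (Atab_606) (Atab_607) (Nat.ble 607 c)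
noncomputable def Atab_s_605_608 (c : Nat) : Nat := @Bool.rec (fun _ => Nat) (Atab_605) (Atab_s_606_608 c) (Nat.ble 606 c)
noncomputable def Atab_s_603_608 (c : Nat) : Nat := @Bool.rec (fun _ => Nat) (Atab_s_603_605 c) (Atab_s_605_608 c) (Nat.ble 605 c)
noncomputable def Atab_s_599_608 (c : Nat) : Nat := @Bool.rec (fun _ => Nat) (Atab_s_599_603 c) (Atab_s_603_608 c) (Nat.ble 603 c)
noncomputable def Atab_s_590_608 (c : Nat) : Nat := @Bool.rec (fun _ => Nat) (Atab_s_590_599 c) (Atab_s_599_608 c) (Nat.ble 599 c)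
noncomputable def Atab_s_573_608 (c : Nat) : Nat := @Bool.rec (fun _ => Nat) (Atab_s_573_590 c) (Atab_s_590_608 c) (Nat.ble 590 c)
noncomputable def Atab_s_608_610 (c : Nat) : Nat := @Bool.rec (fun _ => Nat) (Atab_608) (Atab_609) (Nat.ble 609 c)
noncomputable def Atab_s_610_612 (c : Nat) : Nat := @Bool.rec (fun _ => Nat) (Atab_610) (Atab_611) (Nat.ble 611 c)
noncomputable def Atab_s_608_612 (c : Nat) : Nat := @Bool.rec (fun _ => Nat) (Atab_s_608_610 c) (Atab_s_610_612 c) (Nat.ble 610 c)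
noncomputable def Atab_s_612_614 (c : Nat) : Nat := @Bool.rec (fun _ => Nat) (Atab_612) (Atab_613) (Nat.ble 613 c)
noncomputable def Atab_s_615_617 (c : Nat) : Nat := @Bool.rec (fun _ => Nat) (Atab_615) (Atab_616) (Nat.ble 616 c)
noncomputable def Atab_s_614_617 (c : Nat) : Nat := @Bool.rec (fun _ => Nat) (Atab_614) (Atab_s_615_617 c) (Nat.ble 615 c)
noncomputable def Atab_s_612_617 (c : Nat) : Nat := @Bool.rec (fun _ => Nat) (Atab_s_612_614 c) (Atab_s_614_617 c) (Nat.ble 614 c)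
noncomputable def Atab_s_608_617 (c : Nat) : Nat := @Bool.rec (fun _ => Nat) (Atab_s_608_612 c) (Atab_s_612_617 c) (Nat.ble 612 c)
noncomputable def Atab_s_617_619 (c : Nat) : Nat := @Bool.rec (fun _ => Nat) (Atab_617) (Atab_618) (Nat.ble 618 c)
noncomputable def Atab_s_619_621 (c : Nat) : Nat := @Bool.rec (fun _ => Nat) (Atab_619) (Atab_620) (Nat.ble 620 c)
noncomputable def Atab_s_617_621 (c : Nat) : Nat := @Bool.rec (fun _ => Nat) (Atab_s_617_619 c) (Atab_s_619_621 c) (Nat.ble 619 c)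
noncomputable def Atab_s_621_623 (c : Nat) : Nat := @Bool.rec (fun _ => Nat) (Atab_621) (Atab_622) (Nat.ble 622 c)
noncomputable def Atab_s_624_626 (c : Nat) : Nat := @Bool.rec (fun _ => Nat) (Atab_624) (Atab_625) (Nat.ble 625 c)
noncomputable def Atab_s_623_626 (c : Nat) : Nat := @Bool.rec (fun _ => Nat) (Atab_623) (Atab_s_624_626 c) (Nat.ble 624 c)
noncomputable def Atab_s_621_626 (c : Nat) : Nat := @Bool.rec (fun _ => Nat) (Atab_s_621_623 c) (Atab_s_623_626 c) (Nat.ble 623 c)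
noncomputable def Atab_s_617_626 (c : Nat) : Nat := @Bool.rec (fun _ => Nat) (Atab_s_617_621 c) (Atab_s_621_626 c) (Nat.ble 621 c)
noncomputable def Atab_s_608_626 (c : Nat) : Nat := @Bool.rec (fun _ => Nat) (Atab_s_608_617 c) (Atab_s_617_626 c) (Nat.ble 617 c)
noncomputable def Atab_s_626_628 (c : Nat) : Nat := @Bool.rec (fun _ => Nat) (Atab_626) (Atab_627) (Nat.ble 627 c)
noncomputable def Atab_s_628_630 (c : Nat) : Nat := @Bool.rec (fun _ => Nat) (Atab_628) (Atab_629) (Nat.ble 629 c)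
noncomputable def Atab_s_626_630 (c : Nat) : Nat := @Bool.rec (fun _ => Nat) (Atab_s_626_628 c) (Atab_s_628_630 c) (Nat.ble 628 c)
noncomputable def Atab_s_630_632 (c : Nat) : Nat := @Bool.rec (fun _ => Nat) (Atab_630) (Atab_631) (Nat.ble 631 c)
noncomputable def Atab_s_633_635 (c : Nat) : Nat := @Bool.rec (fun _ => Nat) (Atab_633) (Atab_634) (Nat.ble 634 c)
noncomputable def Atab_s_632_635 (c : Nat) : Nat := @Bool.rec (fun _ => Nat) (Atab_632) (Atab_s_633_635 c) (Nat.ble 633 c)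
noncomputable def Atab_s_630_635 (c : Nat) : Nat := @Bool.rec (fun _ => Nat) (Atab_s_630_632 c) (Atab_s_632_635 c) (Nat.ble 632 c)
noncomputable def Atab_s_626_635 (c : Nat) : Nat := @Bool.rec (fun _ => Nat) (Atab_s_626_630 c) (Atab_s_630_635 c) (Nat.ble 630 c)
noncomputable def Atab_s_635_637 (c : Nat) : Nat := @Bool.rec (fun _ => Nat) (Atab_635) (Atab_636) (Nat.ble 636 c)
noncomputable def Atab_s_637_639 (c : Nat) : Nat := @Bool.rec (fun _ => Nat) (Atab_637) (Atab_638) (Nat.ble 638 c)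
noncomputable def Atab_s_635_639 (c : Nat) : Nat := @Bool.rec (fun _ => Nat) (Atab_s_635_637 c) (Atab_s_637_639 c) (Nat.ble 637 c)
noncomputable def Atab_s_639_641 (c : Nat) : Nat := @Bool.rec (fun _ => Nat) (Atab_639) (Atab_640) (Nat.ble 640 c)
noncomputable def Atab_s_642_644 (c : Nat) : Nat := @Bool.rec (fun _ => Nat) (Atab_642) (Atab_643) (Nat.ble 643 c)
noncomputable def Atab_s_641_644 (c : Nat) : Nat := @Bool.rec (fun _ => Nat) (Atab_641) (Atab_s_642_644 c) (Nat.ble 642 c)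
noncomputable def Atab_s_639_644 (c : Nat) : Nat := @Bool.rec (fun _ => Nat) (Atab_s_639_641 c) (Atab_s_641_644 c) (Nat.ble 641 c)
noncomputable def Atab_s_635_644 (c : Nat) : Nat := @Bool.rec (fun _ => Nat) (Atab_s_635_639 c) (Atab_s_639_644 c) (Nat.ble 639 c)
noncomputable def Atab_s_626_644 (c : Nat) : Nat := @Bool.rec (fun _ => Nat) (Atab_s_626_635 c) (Atab_s_635_644 c) (Nat.ble 635 c)
noncomputable def Atab_s_608_644 (c : Nat) : Nat := @Bool.rec (fun _ => Nat) (Atab_s_608_626 c) (Atab_s_626_644 c) (Nat.ble 626 c)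
noncomputable def Atab_s_573_644 (c : Nat) : Nat := @Bool.rec (fun _ => Nat) (Atab_s_573_608 c) (Atab_s_608_644 c) (Nat.ble 608 c)
noncomputable def Atab_s_644_646 (c : Nat) : Nat := @Bool.rec (fun _ => Nat) (Atab_644) (Atab_645) (Nat.ble 645 c)
noncomputable def Atab_s_646_648 (c : Nat) : Nat := @Bool.rec (fun _ => Nat) (Atab_646) (Atab_647) (Nat.ble 647 c)
noncomputable def Atab_s_644_648 (c : Nat) : Nat := @Bool.rec (fun _ => Nat) (Atab_s_644_646 c) (Atab_s_646_648 c) (Nat.ble 646 c)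
noncomputable def Atab_s_648_650 (c : Nat) : Nat := @Bool.rec (fun _ => Nat) (Atab_648) (Atab_649) (Nat.ble 649 c)
noncomputable def Atab_s_651_653 (c : Nat) : Nat := @Bool.rec (fun _ => Nat) (Atab_651) (Atab_652) (Nat.ble 652 c)
noncomputable def Atab_s_650_653 (c : Nat) : Nat := @Bool.rec (fun _ => Nat) (Atab_650) (Atab_s_651_653 c) (Nat.ble 651 c)
noncomputable def Atab_s_648_653 (c : Nat) : Nat := @Bool.rec (fun _ => Nat) (Atab_s_648_650 c) (Atab_s_650_653 c) (Nat.ble 650 c)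
noncomputable def Atab_s_644_653 (c : Nat) : Nat := @Bool.rec (fun _ => Nat) (Atab_s_644_648 c) (Atab_s_648_653 c) (Nat.ble 648 c)
noncomputable def Atab_s_653_655 (c : Nat) : Nat := @Bool.rec (fun _ => Nat) (Atab_653) (Atab_654) (Nat.ble 654 c)
noncomputable def Atab_s_655_657 (c : Nat) : Nat := @Bool.rec (fun _ => Nat) (Atab_655) (Atab_656) (Nat.ble 656 c)
noncomputable def Atab_s_653_657 (c : Nat) : Nat := @Bool.rec (fun _ => Nat) (Atab_s_653_655 c) (Atab_s_655_657 c) (Nat.ble 655 c)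
noncomputable def Atab_s_657_659 (c : Nat) : Nat := @Bool.rec (fun _ => Nat) (Atab_657) (Atab_658) (Nat.ble 658 c)
noncomputable def Atab_s_660_662 (c : Nat) : Nat := @Bool.rec (fun _ => Nat) (Atab_660) (Atab_661) (Nat.ble 661 c)
noncomputable def Atab_s_659_662 (c : Nat) : Nat := @Bool.rec (fun _ => Nat) (Atab_659) (Atab_s_660_662 c) (Nat.ble 660 c)
noncomputable def Atab_s_657_662 (c : Nat) : Nat := @Bool.rec (fun _ => Nat) (Atab_s_657_659 c) (Atab_s_659_662 c) (Nat.ble 659 c)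
noncomputable def Atab_s_653_662 (c : Nat) : Nat := @Bool.rec (fun _ => Nat) (Atab_s_653_657 c) (Atab_s_657_662 c) (Nat.ble 657 c)
noncomputable def Atab_s_644_662 (c : Nat) : Nat := @Bool.rec (fun _ => Nat) (Atab_s_644_653 c) (Atab_s_653_662 c) (Nat.ble 653 c)
noncomputable def Atab_s_662_664 (c : Nat) : Nat := @Bool.rec (fun _ => Nat) (Atab_662) (Atab_663) (Nat.ble 663 c)
noncomputable def Atab_s_664_666 (c : Nat) : Nat := @Bool.rec (fun _ => Nat) (Atab_664) (Atab_665) (Nat.ble 665 c)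
noncomputable def Atab_s_662_666 (c : Nat) : Nat := @Bool.rec (fun _ => Nat) (Atab_s_662_664 c) (Atab_s_664_666 c) (Nat.ble 664 c)
noncomputable def Atab_s_666_668 (c : Nat) : Nat := @Bool.rec (fun _ => Nat) (Atab_666) (Atab_667) (Nat.ble 667 c)
noncomputable def Atab_s_669_671 (c : Nat) : Nat := @Bool.rec (fun _ => Nat) (Atab_669) (Atab_670) (Nat.ble 670 c)
noncomputable def Atab_s_668_671 (c : Nat) : Nat := @Bool.rec (fun _ => Nat) (Atab_668) (Atab_s_669_671 c) (Nat.ble 669 c)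
noncomputable def Atab_s_666_671 (c : Nat) : Nat := @Bool.rec (fun _ => Nat) (Atab_s_666_668 c) (Atab_s_668_671 c) (Nat.ble 668 c)
noncomputable def Atab_s_662_671 (c : Nat) : Nat := @Bool.rec (fun _ => Nat) (Atab_s_662_666 c) (Atab_s_666_671 c) (Nat.ble 666 c)
noncomputable def Atab_s_671_673 (c : Nat) : Nat := @Bool.rec (fun _ => Nat) (Atab_671) (Atab_672) (Nat.ble 672 c)
noncomputable def Atab_s_673_675 (c : Nat) : Nat := @Bool.rec (fun _ => Nat) (Atab_673) (Atab_674) (Nat.ble 674 c)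
noncomputable def Atab_s_671_675 (c : Nat) : Nat := @Bool.rec (fun _ => Nat) (Atab_s_671_673 c) (Atab_s_673_675 c) (Nat.ble 673 c)
noncomputable def Atab_s_675_677 (c : Nat) : Nat := @Bool.rec (fun _ => Nat) (Atab_675) (Atab_676) (Nat.ble 676 c)
noncomputable def Atab_s_678_680 (c : Nat) : Nat := @Bool.rec (fun _ => Nat) (Atab_678) (Atab_679) (Nat.ble 679 c)
noncomputable def Atab_s_677_680 (c : Nat) : Nat := @Bool.rec (fun _ => Nat) (Atab_677) (Atab_s_678_680 c) (Nat.ble 678 c)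
noncomputable def Atab_s_675_680 (c : Nat) : Nat := @Bool.rec (fun _ => Nat) (Atab_s_675_677 c) (Atab_s_677_680 c) (Nat.ble 677 c)
noncomputable def Atab_s_671_680 (c : Nat) : Nat := @Bool.rec (fun _ => Nat) (Atab_s_671_675 c) (Atab_s_675_680 c) (Nat.ble 675 c)
noncomputable def Atab_s_662_680 (c : Nat) : Nat := @Bool.rec (fun _ => Nat) (Atab_s_662_671 c) (Atab_s_671_680 c) (Nat.ble 671 c)
noncomputable def Atab_s_644_680 (c : Nat) : Nat := @Bool.rec (fun _ => Nat) (Atab_s_644_662 c) (Atab_s_662_680 c) (Nat.ble 662 c)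
noncomputable def Atab_s_680_682 (c : Nat) : Nat := @Bool.rec (fun _ => Nat) (Atab_680) (Atab_681) (Nat.ble 681 c)
noncomputable def Atab_s_682_684 (c : Nat) : Nat := @Bool.rec (fun _ => Nat) (Atab_682) (Atab_683) (Nat.ble 683 c)
noncomputable def Atab_s_680_684 (c : Nat) : Nat := @Bool.rec (fun _ => Nat) (Atab_s_680_682 c) (Atab_s_682_684 c) (Nat.ble 682 c)
noncomputable def Atab_s_684_686 (c : Nat) : Nat := @Bool.rec (fun _ => Nat) (Atab_684) (Atab_685) (Nat.ble 685 c)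
noncomputable def Atab_s_687_689 (c : Nat) : Nat := @Bool.rec (fun _ => Nat) (Atab_687) (Atab_688) (Nat.ble 688 c)
noncomputable def Atab_s_686_689 (c : Nat) : Nat := @Bool.rec (fun _ => Nat) (Atab_686) (Atab_s_687_689 c) (Nat.ble 687 c)
noncomputable def Atab_s_684_689 (c : Nat) : Nat := @Bool.rec (fun _ => Nat) (Atab_s_684_686 c) (Atab_s_686_689 c) (Nat.ble 686 c)
noncomputable def Atab_s_680_689 (c : Nat) : Nat := @Bool.rec (fun _ => Nat) (Atab_s_680_684 c) (Atab_s_684_689 c) (Nat.ble 684 c)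
noncomputable def Atab_s_689_691 (c : Nat) : Nat := @Bool.rec (fun _ => Nat) (Atab_689) (Atab_690) (Nat.ble 690 c)
noncomputable def Atab_s_691_693 (c : Nat) : Nat := @Bool.rec (fun _ => Nat) (Atab_691) (Atab_692) (Nat.ble 692 c)
noncomputable def Atab_s_689_693 (c : Nat) : Nat := @Bool.rec (fun _ => Nat) (Atab_s_689_691 c) (Atab_s_691_693 c) (Nat.ble 691 c)
noncomputable def Atab_s_693_695 (c : Nat) : Nat := @Bool.rec (fun _ => Nat) (Atab_693) (Atab_694) (Nat.ble 694 c)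
noncomputable def Atab_s_696_698 (c : Nat) : Nat := @Bool.rec (fun _ => Nat) (Atab_696) (Atab_697) (Nat.ble 697 c)
noncomputable def Atab_s_695_698 (c : Nat) : Nat := @Bool.rec (fun _ => Nat) (Atab_695) (Atab_s_696_698 c) (Nat.ble 696 c)
noncomputable def Atab_s_693_698 (c : Nat) : Nat := @Bool.rec (fun _ => Nat) (Atab_s_693_695 c) (Atab_s_695_698 c) (Nat.ble 695 c)
noncomputable def Atab_s_689_698 (c : Nat) : Nat := @Bool.rec (fun _ => Nat) (Atab_s_689_693 c) (Atab_s_693_698 c) (Nat.ble 693 c)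
noncomputable def Atab_s_680_698 (c : Nat) : Nat := @Bool.rec (fun _ => Nat) (Atab_s_680_689 c) (Atab_s_689_698 c) (Nat.ble 689 c)
noncomputable def Atab_s_698_700 (c : Nat) : Nat := @Bool.rec (fun _ => Nat) (Atab_698) (Atab_699) (Nat.ble 699 c)
noncomputable def Atab_s_700_702 (c : Nat) : Nat := @Bool.rec (fun _ => Nat) (Atab_700) (Atab_701) (Nat.ble 701 c)
noncomputable def Atab_s_698_702 (c : Nat) : Nat := @Bool.rec (fun _ => Nat) (Atab_s_698_700 c) (Atab_s_700_702 c) (Nat.ble 700 c)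
noncomputable def Atab_s_702_704 (c : Nat) : Nat := @Bool.rec (fun _ => Nat) (Atab_702) (Atab_703) (Nat.ble 703 c)
noncomputable def Atab_s_705_707 (c : Nat) : Nat := @Bool.rec (fun _ => Nat) (Atab_705) (Atab_706) (Nat.ble 706 c)
noncomputable def Atab_s_704_707 (c : Nat) : Nat := @Bool.rec (fun _ => Nat) (Atab_704) (Atab_s_705_707 c) (Nat.ble 705 c)
noncomputable def Atab_s_702_707 (c : Nat) : Nat := @Bool.rec (fun _ => Nat) (Atab_s_702_704 c) (Atab_s_704_707 c) (Nat.ble 704 c)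
noncomputable def Atab_s_698_707 (c : Nat) : Nat := @Bool.rec (fun _ => Nat) (Atab_s_698_702 c) (Atab_s_702_707 c) (Nat.ble 702 c)
noncomputable def Atab_s_707_709 (c : Nat) : Nat := @Bool.rec (fun _ => Nat) (Atab_707) (Atab_708) (Nat.ble 708 c)
noncomputable def Atab_s_709_711 (c : Nat) : Nat := @Bool.rec (fun _ => Nat) (Atab_709) (Atab_710) (Nat.ble 710 c)
noncomputable def Atab_s_707_711 (c : Nat) : Nat := @Bool.rec (fun _ => Nat) (Atab_s_707_709 c) (Atab_s_709_711 c) (Nat.ble 709 c)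
noncomputable def Atab_s_711_713 (c : Nat) : Nat := @Bool.rec (fun _ => Nat) (Atab_711) (Atab_712) (Nat.ble 712 c)
noncomputable def Atab_s_714_716 (c : Nat) : Nat := @Bool.rec (fun _ => Nat) (Atab_714) (Atab_715) (Nat.ble 715 c)
noncomputable def Atab_s_713_716 (c : Nat) : Nat := @Bool.rec (fun _ => Nat) (Atab_713) (Atab_s_714_716 c) (Nat.ble 714 c)
noncomputable def Atab_s_711_716 (c : Nat) : Nat := @Bool.rec (fun _ => Nat) (Atab_s_711_713 c) (Atab_s_713_716 c) (Nat.ble 713 c)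
noncomputable def Atab_s_707_716 (c : Nat) : Nat := @Bool.rec (fun _ => Nat) (Atab_s_707_711 c) (Atab_s_711_716 c) (Nat.ble 711 c)
noncomputable def Atab_s_698_716 (c : Nat) : Nat := @Bool.rec (fun _ => Nat) (Atab_s_698_707 c) (Atab_s_707_716 c) (Nat.ble 707 c)
noncomputable def Atab_s_680_716 (c : Nat) : Nat := @Bool.rec (fun _ => Nat) (Atab_s_680_698 c) (Atab_s_698_716 c) (Nat.ble 698 c)
noncomputable def Atab_s_644_716 (c : Nat) : Nat := @Bool.rec (fun _ => Nat) (Atab_s_644_680 c) (Atab_s_680_716 c) (Nat.ble 680 c)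
noncomputable def Atab_s_573_716 (c : Nat) : Nat := @Bool.rec (fun _ => Nat) (Atab_s_573_644 c) (Atab_s_644_716 c) (Nat.ble 644 c)
noncomputable def Atab_s_716_718 (c : Nat) : Nat := @Bool.rec (fun _ => Nat) (Atab_716) (Atab_717) (Nat.ble 717 c)
noncomputable def Atab_s_718_720 (c : Nat) : Nat := @Bool.rec (fun _ => Nat) (Atab_718) (Atab_719) (Nat.ble 719 c)
noncomputable def Atab_s_716_720 (c : Nat) : Nat := @Bool.rec (fun _ => Nat) (Atab_s_716_718 c) (Atab_s_718_720 c) (Nat.ble 718 c)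
noncomputable def Atab_s_720_722 (c : Nat) : Nat := @Bool.rec (fun _ => Nat) (Atab_720) (Atab_721) (Nat.ble 721 c)
noncomputable def Atab_s_723_725 (c : Nat) : Nat := @Bool.rec (fun _ => Nat) (Atab_723) (Atab_724) (Nat.ble 724 c)
noncomputable def Atab_s_722_725 (c : Nat) : Nat := @Bool.rec (fun _ => Nat) (Atab_722) (Atab_s_723_725 c) (Nat.ble 723 c)
noncomputable def Atab_s_720_725 (c : Nat) : Nat := @Bool.rec (fun _ => Nat) (Atab_s_720_722 c) (Atab_s_722_725 c) (Nat.ble 722 c)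
noncomputable def Atab_s_716_725 (c : Nat) : Nat := @Bool.rec (fun _ => Nat) (Atab_s_716_720 c) (Atab_s_720_725 c) (Nat.ble 720 c)
noncomputable def Atab_s_725_727 (c : Nat) : Nat := @Bool.rec (fun _ => Nat) (Atab_725) (Atab_726) (Nat.ble 726 c)
noncomputable def Atab_s_727_729 (c : Nat) : Nat := @Bool.rec (fun _ => Nat) (Atab_727) (Atab_728) (Nat.ble 728 c)
noncomputable def Atab_s_725_729 (c : Nat) : Nat := @Bool.rec (fun _ => Nat) (Atab_s_725_727 c) (Atab_s_727_729 c) (Nat.ble 727 c)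
noncomputable def Atab_s_729_731 (c : Nat) : Nat := @Bool.rec (fun _ => Nat) (Atab_729) (Atab_730) (Nat.ble 730 c)
noncomputable def Atab_s_732_734 (c : Nat) : Nat := @Bool.rec (fun _ => Nat) (Atab_732) (Atab_733) (Nat.ble 733 c)
noncomputable def Atab_s_731_734 (c : Nat) : Nat := @Bool.rec (fun _ => Nat) (Atab_731) (Atab_s_732_734 c) (Nat.ble 732 c)
noncomputable def Atab_s_729_734 (c : Nat) : Nat := @Bool.rec (fun _ => Nat) (Atab_s_729_731 c) (Atab_s_731_734 c) (Nat.ble 731 c)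
noncomputable def Atab_s_725_734 (c : Nat) : Nat := @Bool.rec (fun _ => Nat) (Atab_s_725_729 c) (Atab_s_729_734 c) (Nat.ble 729 c)
noncomputable def Atab_s_716_734 (c : Nat) : Nat := @Bool.rec (fun _ => Nat) (Atab_s_716_725 c) (Atab_s_725_734 c) (Nat.ble 725 c)
noncomputable def Atab_s_734_736 (c : Nat) : Nat := @Bool.rec (fun _ => Nat) (Atab_734) (Atab_735) (Nat.ble 735 c)
noncomputable def Atab_s_736_738 (c : Nat) : Nat := @Bool.rec (fun _ => Nat) (Atab_736) (Atab_737) (Nat.ble 737 c)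
noncomputable def Atab_s_734_738 (c : Nat) : Nat := @Bool.rec (fun _ => Nat) (Atab_s_734_736 c) (Atab_s_736_738 c) (Nat.ble 736 c)
noncomputable def Atab_s_738_740 (c : Nat) : Nat := @Bool.rec (fun _ => Nat) (Atab_738) (Atab_739) (Nat.ble 739 c)
noncomputable def Atab_s_741_743 (c : Nat) : Nat := @Bool.rec (fun _ => Nat) (Atab_741) (Atab_742) (Nat.ble 742 c)
noncomputable def Atab_s_740_743 (c : Nat) : Nat := @Bool.rec (fun _ => Nat) (Atab_740) (Atab_s_741_743 c) (Nat.ble 741 c)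
noncomputable def Atab_s_738_743 (c : Nat) : Nat := @Bool.rec (fun _ => Nat) (Atab_s_738_740 c) (Atab_s_740_743 c) (Nat.ble 740 c)
noncomputable def Atab_s_734_743 (c : Nat) : Nat := @Bool.rec (fun _ => Nat) (Atab_s_734_738 c) (Atab_s_738_743 c) (Nat.ble 738 c)
noncomputable def Atab_s_743_745 (c : Nat) : Nat := @Bool.rec (fun _ => Nat) (Atab_743) (Atab_744) (Nat.ble 744 c)
noncomputable def Atab_s_745_747 (c : Nat) : Nat := @Bool.rec (fun _ => Nat) (Atab_745) (Atab_746) (Nat.ble 746 c)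
noncomputable def Atab_s_743_747 (c : Nat) : Nat := @Bool.rec (fun _ => Nat) (Atab_s_743_745 c) (Atab_s_745_747 c) (Nat.ble 745 c)
noncomputable def Atab_s_747_749 (c : Nat) : Nat := @Bool.rec (fun _ => Nat) (Atab_747) (Atab_748) (Nat.ble 748 c)
noncomputable def Atab_s_750_752 (c : Nat) : Nat := @Bool.rec (fun _ => Nat) (Atab_750) (Atab_751) (Nat.ble 751 c)
noncomputable def Atab_s_749_752 (c : Nat) : Nat := @Bool.rec (fun _ => Nat) (Atab_749) (Atab_s_750_752 c) (Nat.ble 750 c)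
noncomputable def Atab_s_747_752 (c : Nat) : Nat := @Bool.rec (fun _ => Nat) (Atab_s_747_749 c) (Atab_s_749_752 c) (Nat.ble 749 c)
noncomputable def Atab_s_743_752 (c : Nat) : Nat := @Bool.rec (fun _ => Nat) (Atab_s_743_747 c) (Atab_s_747_752 c) (Nat.ble 747 c)
noncomputable def Atab_s_734_752 (c : Nat) : Nat := @Bool.rec (fun _ => Nat) (Atab_s_734_743 c) (Atab_s_743_752 c) (Nat.ble 743 c)
noncomputable def Atab_s_716_752 (c : Nat) : Nat := @Bool.rec (fun _ => Nat) (Atab_s_716_734 c) (Atab_s_734_752 c) (Nat.ble 734 c)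
noncomputable def Atab_s_752_754 (c : Nat) : Nat := @Bool.rec (fun _ => Nat) (Atab_752) (Atab_753) (Nat.ble 753 c)
noncomputable def Atab_s_754_756 (c : Nat) : Nat := @Bool.rec (fun _ => Nat) (Atab_754) (Atab_755) (Nat.ble 755 c)
noncomputable def Atab_s_752_756 (c : Nat) : Nat := @Bool.rec (fun _ => Nat) (Atab_s_752_754 c) (Atab_s_754_756 c) (Nat.ble 754 c)
noncomputable def Atab_s_756_758 (c : Nat) : Nat := @Bool.rec (fun _ => Nat) (Atab_756) (Atab_757) (Nat.ble 757 c)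
noncomputable def Atab_s_759_761 (c : Nat) : Nat := @Bool.rec (fun _ => Nat) (Atab_759) (Atab_760) (Nat.ble 760 c)
noncomputable def Atab_s_758_761 (c : Nat) : Nat := @Bool.rec (fun _ => Nat) (Atab_758) (Atab_s_759_761 c) (Nat.ble 759 c)
noncomputable def Atab_s_756_761 (c : Nat) : Nat := @Bool.rec (fun _ => Nat) (Atab_s_756_758 c) (Atab_s_758_761 c) (Nat.ble 758 c)
noncomputable def Atab_s_752_761 (c : Nat) : Nat := @Bool.rec (fun _ => Nat) (Atab_s_752_756 c) (Atab_s_756_761 c) (Nat.ble 756 c)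
noncomputable def Atab_s_761_763 (c : Nat) : Nat := @Bool.rec (fun _ => Nat) (Atab_761) (Atab_762) (Nat.ble 762 c)
noncomputable def Atab_s_763_765 (c : Nat) : Nat := @Bool.rec (fun _ => Nat) (Atab_763) (Atab_764) (Nat.ble 764 c)
noncomputable def Atab_s_761_765 (c : Nat) : Nat := @Bool.rec (fun _ => Nat) (Atab_s_761_763 c) (Atab_s_763_765 c) (Nat.ble 763 c)
noncomputable def Atab_s_765_767 (c : Nat) : Nat := @Bool.rec (fun _ => Nat) (Atab_765) (Atab_766) (Nat.ble 766 c)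
noncomputable def Atab_s_768_770 (c : Nat) : Nat := @Bool.rec (fun _ => Nat) (Atab_768) (Atab_769) (Nat.ble 769 c)
noncomputable def Atab_s_767_770 (c : Nat) : Nat := @Bool.rec (fun _ => Nat) (Atab_767) (Atab_s_768_770 c) (Nat.ble 768 c)
noncomputable def Atab_s_765_770 (c : Nat) : Nat := @Bool.rec (fun _ => Nat) (Atab_s_765_767 c) (Atab_s_767_770 c) (Nat.ble 767 c)
noncomputable def Atab_s_761_770 (c : Nat) : Nat := @Bool.rec (fun _ => Nat) (Atab_s_761_765 c) (Atab_s_765_770 c) (Nat.ble 765 c)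
noncomputable def Atab_s_752_770 (c : Nat) : Nat := @Bool.rec (fun _ => Nat) (Atab_s_752_761 c) (Atab_s_761_770 c) (Nat.ble 761 c)
noncomputable def Atab_s_770_772 (c : Nat) : Nat := @Bool.rec (fun _ => Nat) (Atab_770) (Atab_771) (Nat.ble 771 c)
noncomputable def Atab_s_772_774 (c : Nat) : Nat := @Bool.rec (fun _ => Nat) (Atab_772) (Atab_773) (Nat.ble 773 c)
noncomputable def Atab_s_770_774 (c : Nat) : Nat := @Bool.rec (fun _ => Nat) (Atab_s_770_772 c) (Atab_s_772_774 c) (Nat.ble 772 c)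
noncomputable def Atab_s_774_776 (c : Nat) : Nat := @Bool.rec (fun _ => Nat) (Atab_774) (Atab_775) (Nat.ble 775 c)
noncomputable def Atab_s_777_779 (c : Nat) : Nat := @Bool.rec (fun _ => Nat) (Atab_777) (Atab_778) (Nat.ble 778 c)
noncomputable def Atab_s_776_779 (c : Nat) : Nat := @Bool.rec (fun _ => Nat) (Atab_776) (Atab_s_777_779 c) (Nat.ble 777 c)
noncomputable def Atab_s_774_779 (c : Nat) : Nat := @Bool.rec (fun _ => Nat) (Atab_s_774_776 c) (Atab_s_776_779 c) (Nat.ble 776 c)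
noncomputable def Atab_s_770_779 (c : Nat) : Nat := @Bool.rec (fun _ => Nat) (Atab_s_770_774 c) (Atab_s_774_779 c) (Nat.ble 774 c)
noncomputable def Atab_s_779_781 (c : Nat) : Nat := @Bool.rec (fun _ => Nat) (Atab_779) (Atab_780) (Nat.ble 780 c)
noncomputable def Atab_s_781_783 (c : Nat) : Nat := @Bool.rec (fun _ => Nat) (Atab_781) (Atab_782) (Nat.ble 782 c)
noncomputable def Atab_s_779_783 (c : Nat) : Nat := @Bool.rec (fun _ => Nat) (Atab_s_779_781 c) (Atab_s_781_783 c) (Nat.ble 781 c)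
noncomputable def Atab_s_783_785 (c : Nat) : Nat := @Bool.rec (fun _ => Nat) (Atab_783) (Atab_784) (Nat.ble 784 c)
noncomputable def Atab_s_786_788 (c : Nat) : Nat := @Bool.rec (fun _ => Nat) (Atab_786) (Atab_787) (Nat.ble 787 c)
noncomputable def Atab_s_785_788 (c : Nat) : Nat := @Bool.rec (fun _ => Nat) (Atab_785) (Atab_s_786_788 c) (Nat.ble 786 c)
noncomputable def Atab_s_783_788 (c : Nat) : Nat := @Bool.rec (fun _ => Nat) (Atab_s_783_785 c) (Atab_s_785_788 c) (Nat.ble 785 c)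
noncomputable def Atab_s_779_788 (c : Nat) : Nat := @Bool.rec (fun _ => Nat) (Atab_s_779_783 c) (Atab_s_783_788 c) (Nat.ble 783 c)
noncomputable def Atab_s_770_788 (c : Nat) : Nat := @Bool.rec (fun _ => Nat) (Atab_s_770_779 c) (Atab_s_779_788 c) (Nat.ble 779 c)
noncomputable def Atab_s_752_788 (c : Nat) : Nat := @Bool.rec (fun _ => Nat) (Atab_s_752_770 c) (Atab_s_770_788 c) (Nat.ble 770 c)
noncomputable def Atab_s_716_788 (c : Nat) : Nat := @Bool.rec (fun _ => Nat) (Atab_s_716_752 c) (Atab_s_752_788 c) (Nat.ble 752 c)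
noncomputable def Atab_s_788_790 (c : Nat) : Nat := @Bool.rec (fun _ => Nat) (Atab_788) (Atab_789) (Nat.ble 789 c)
noncomputable def Atab_s_790_792 (c : Nat) : Nat := @Bool.rec (fun _ => Nat) (Atab_790) (Atab_791) (Nat.ble 791 c)
noncomputable def Atab_s_788_792 (c : Nat) : Nat := @Bool.rec (fun _ => Nat) (Atab_s_788_790 c) (Atab_s_790_792 c) (Nat.ble 790 c)
noncomputable def Atab_s_792_794 (c : Nat) : Nat := @Bool.rec (fun _ => Nat) (Atab_792) (Atab_793) (Nat.ble 793 c)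
noncomputable def Atab_s_795_797 (c : Nat) : Nat := @Bool.rec (fun _ => Nat) (Atab_795) (Atab_796) (Nat.ble 796 c)
noncomputable def Atab_s_794_797 (c : Nat) : Nat := @Bool.rec (fun _ => Nat) (Atab_794) (Atab_s_795_797 c) (Nat.ble 795 c)
noncomputable def Atab_s_792_797 (c : Nat) : Nat := @Bool.rec (fun _ => Nat) (Atab_s_792_794 c) (Atab_s_794_797 c) (Nat.ble 794 c)
noncomputable def Atab_s_788_797 (c : Nat) : Nat := @Bool.rec (fun _ => Nat) (Atab_s_788_792 c) (Atab_s_792_797 c) (Nat.ble 792 c)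
noncomputable def Atab_s_797_799 (c : Nat) : Nat := @Bool.rec (fun _ => Nat) (Atab_797) (Atab_798) (Nat.ble 798 c)
noncomputable def Atab_s_799_801 (c : Nat) : Nat := @Bool.rec (fun _ => Nat) (Atab_799) (Atab_800) (Nat.ble 800 c)
noncomputable def Atab_s_797_801 (c : Nat) : Nat := @Bool.rec (fun _ => Nat) (Atab_s_797_799 c) (Atab_s_799_801 c) (Nat.ble 799 c)
noncomputable def Atab_s_801_803 (c : Nat) : Nat := @Bool.rec (fun _ => Nat) (Atab_801) (Atab_802) (Nat.ble 802 c)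
noncomputable def Atab_s_804_806 (c : Nat) : Nat := @Bool.rec (fun _ => Nat) (Atab_804) (Atab_805) (Nat.ble 805 c)
noncomputable def Atab_s_803_806 (c : Nat) : Nat := @Bool.rec (fun _ => Nat) (Atab_803) (Atab_s_804_806 c) (Nat.ble 804 c)
noncomputable def Atab_s_801_806 (c : Nat) : Nat := @Bool.rec (fun _ => Nat) (Atab_s_801_803 c) (Atab_s_803_806 c) (Nat.ble 803 c)
noncomputable def Atab_s_797_806 (c : Nat) : Nat := @Bool.rec (fun _ => Nat) (Atab_s_797_801 c) (Atab_s_801_806 c) (Nat.ble 801 c)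
noncomputable def Atab_s_788_806 (c : Nat) : Nat := @Bool.rec (fun _ => Nat) (Atab_s_788_797 c) (Atab_s_797_806 c) (Nat.ble 797 c)
noncomputable def Atab_s_806_808 (c : Nat) : Nat := @Bool.rec (fun _ => Nat) (Atab_806) (Atab_807) (Nat.ble 807 c)
noncomputable def Atab_s_808_810 (c : Nat) : Nat := @Bool.rec (fun _ => Nat) (Atab_808) (Atab_809) (Nat.ble 809 c)
noncomputable def Atab_s_806_810 (c : Nat) : Nat := @Bool.rec (fun _ => Nat) (Atab_s_806_808 c) (Atab_s_808_810 c) (Nat.ble 808 c)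
noncomputable def Atab_s_810_812 (c : Nat) : Nat := @Bool.rec (fun _ => Nat) (Atab_810) (Atab_811) (Nat.ble 811 c)
noncomputable def Atab_s_813_815 (c : Nat) : Nat := @Bool.rec (fun _ => Nat) (Atab_813) (Atab_814) (Nat.ble 814 c)
noncomputable def Atab_s_812_815 (c : Nat) : Nat := @Bool.rec (fun _ => Nat) (Atab_812) (Atab_s_813_815 c) (Nat.ble 813 c)
noncomputable def Atab_s_810_815 (c : Nat) : Nat := @Bool.rec (fun _ => Nat) (Atab_s_810_812 c) (Atab_s_812_815 c) (Nat.ble 812 c)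
noncomputable def Atab_s_806_815 (c : Nat) : Nat := @Bool.rec (fun _ => Nat) (Atab_s_806_810 c) (Atab_s_810_815 c) (Nat.ble 810 c)
noncomputable def Atab_s_815_817 (c : Nat) : Nat := @Bool.rec (fun _ => Nat) (Atab_815) (Atab_816) (Nat.ble 816 c)
noncomputable def Atab_s_817_819 (c : Nat) : Nat := @Bool.rec (fun _ => Nat) (Atab_817) (Atab_818) (Nat.ble 818 c)
noncomputable def Atab_s_815_819 (c : Nat) : Nat := @Bool.rec (fun _ => Nat) (Atab_s_815_817 c) (Atab_s_817_819 c) (Nat.ble 817 c)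
noncomputable def Atab_s_819_821 (c : Nat) : Nat := @Bool.rec (fun _ => Nat) (Atab_819) (Atab_820) (Nat.ble 820 c)
noncomputable def Atab_s_822_824 (c : Nat) : Nat := @Bool.rec (fun _ => Nat) (Atab_822) (Atab_823) (Nat.ble 823 c)
noncomputable def Atab_s_821_824 (c : Nat) : Nat := @Bool.rec (fun _ => Nat) (Atab_821) (Atab_s_822_824 c) (Nat.ble 822 c)
noncomputable def Atab_s_819_824 (c : Nat) : Nat := @Bool.rec (fun _ => Nat) (Atab_s_819_821 c) (Atab_s_821_824 c) (Nat.ble 821 c)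
noncomputable def Atab_s_815_824 (c : Nat) : Nat := @Bool.rec (fun _ => Nat) (Atab_s_815_819 c) (Atab_s_819_824 c) (Nat.ble 819 c)
noncomputable def Atab_s_806_824 (c : Nat) : Nat := @Bool.rec (fun _ => Nat) (Atab_s_806_815 c) (Atab_s_815_824 c) (Nat.ble 815 c)
noncomputable def Atab_s_788_824 (c : Nat) : Nat := @Bool.rec (fun _ => Nat) (Atab_s_788_806 c) (Atab_s_806_824 c) (Nat.ble 806 c)
noncomputable def Atab_s_824_826 (c : Nat) : Nat := @Bool.rec (fun _ => Nat) (Atab_824) (Atab_825) (Nat.ble 825 c)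
noncomputable def Atab_s_826_828 (c : Nat) : Nat := @Bool.rec (fun _ => Nat) (Atab_826) (Atab_827) (Nat.ble 827 c)
noncomputable def Atab_s_824_828 (c : Nat) : Nat := @Bool.rec (fun _ => Nat) (Atab_s_824_826 c) (Atab_s_826_828 c) (Nat.ble 826 c)
noncomputable def Atab_s_828_830 (c : Nat) : Nat := @Bool.rec (fun _ => Nat) (Atab_828) (Atab_829) (Nat.ble 829 c)
noncomputable def Atab_s_831_833 (c : Nat) : Nat := @Bool.rec (fun _ => Nat) (Atab_831) (Atab_832) (Nat.ble 832 c)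
noncomputable def Atab_s_830_833 (c : Nat) : Nat := @Bool.rec (fun _ => Nat) (Atab_830) (Atab_s_831_833 c) (Nat.ble 831 c)
noncomputable def Atab_s_828_833 (c : Nat) : Nat := @Bool.rec (fun _ => Nat) (Atab_s_828_830 c) (Atab_s_830_833 c) (Nat.ble 830 c)
noncomputable def Atab_s_824_833 (c : Nat) : Nat := @Bool.rec (fun _ => Nat) (Atab_s_824_828 c) (Atab_s_828_833 c) (Nat.ble 828 c)
noncomputable def Atab_s_833_835 (c : Nat) : Nat := @Bool.rec (fun _ => Nat) (Atab_833) (Atab_834) (Nat.ble 834 c)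
noncomputable def Atab_s_835_837 (c : Nat) : Nat := @Bool.rec (fun _ => Nat) (Atab_835) (Atab_836) (Nat.ble 836 c)
noncomputable def Atab_s_833_837 (c : Nat) : Nat := @Bool.rec (fun _ => Nat) (Atab_s_833_835 c) (Atab_s_835_837 c) (Nat.ble 835 c)
noncomputable def Atab_s_837_839 (c : Nat) : Nat := @Bool.rec (fun _ => Nat) (Atab_837) (Atab_838) (Nat.ble 838 c)
noncomputable def Atab_s_840_842 (c : Nat) : Nat := @Bool.rec (fun _ => Nat) (Atab_840) (Atab_841) (Nat.ble 841 c)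
noncomputable def Atab_s_839_842 (c : Nat) : Nat := @Bool.rec (fun _ => Nat) (Atab_839) (Atab_s_840_842 c) (Nat.ble 840 c)
noncomputable def Atab_s_837_842 (c : Nat) : Nat := @Bool.rec (fun _ => Nat) (Atab_s_837_839 c) (Atab_s_839_842 c) (Nat.ble 839 c)
noncomputable def Atab_s_833_842 (c : Nat) : Nat := @Bool.rec (fun _ => Nat) (Atab_s_833_837 c) (Atab_s_837_842 c) (Nat.ble 837 c)
noncomputable def Atab_s_824_842 (c : Nat) : Nat := @Bool.rec (fun _ => Nat) (Atab_s_824_833 c) (Atab_s_833_842 c) (Nat.ble 833 c)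
noncomputable def Atab_s_842_844 (c : Nat) : Nat := @Bool.rec (fun _ => Nat) (Atab_842) (Atab_843) (Nat.ble 843 c)
noncomputable def Atab_s_844_846 (c : Nat) : Nat := @Bool.rec (fun _ => Nat) (Atab_844) (Atab_845) (Nat.ble 845 c)
noncomputable def Atab_s_842_846 (c : Nat) : Nat := @Bool.rec (fun _ => Nat) (Atab_s_842_844 c) (Atab_s_844_846 c) (Nat.ble 844 c)
noncomputable def Atab_s_846_848 (c : Nat) : Nat := @Bool.rec (fun _ => Nat) (Atab_846) (Atab_847) (Nat.ble 847 c)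
noncomputable def Atab_s_849_851 (c : Nat) : Nat := @Bool.rec (fun _ => Nat) (Atab_849) (Atab_850) (Nat.ble 850 c)
noncomputable def Atab_s_848_851 (c : Nat) : Nat := @Bool.rec (fun _ => Nat) (Atab_848) (Atab_s_849_851 c) (Nat.ble 849 c)
noncomputable def Atab_s_846_851 (c : Nat) : Nat := @Bool.rec (fun _ => Nat) (Atab_s_846_848 c) (Atab_s_848_851 c) (Nat.ble 848 c)
noncomputable def Atab_s_842_851 (c : Nat) : Nat := @Bool.rec (fun _ => Nat) (Atab_s_842_846 c) (Atab_s_846_851 c) (Nat.ble 846 c)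
noncomputable def Atab_s_851_853 (c : Nat) : Nat := @Bool.rec (fun _ => Nat) (Atab_851) (Atab_852) (Nat.ble 852 c)
noncomputable def Atab_s_853_855 (c : Nat) : Nat := @Bool.rec (fun _ => Nat) (Atab_853) (Atab_854) (Nat.ble 854 c)
noncomputable def Atab_s_851_855 (c : Nat) : Nat := @Bool.rec (fun _ => Nat) (Atab_s_851_853 c) (Atab_s_853_855 c) (Nat.ble 853 c)
noncomputable def Atab_s_855_857 (c : Nat) : Nat := @Bool.rec (fun _ => Nat) (Atab_855) (Atab_856) (Nat.ble 856 c)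
noncomputable def Atab_s_858_860 (c : Nat) : Nat := @Bool.rec (fun _ => Nat) (Atab_858) (Atab_859) (Nat.ble 859 c)
noncomputable def Atab_s_857_860 (c : Nat) : Nat := @Bool.rec (fun _ => Nat) (Atab_857) (Atab_s_858_860 c) (Nat.ble 858 c)
noncomputable def Atab_s_855_860 (c : Nat) : Nat := @Bool.rec (fun _ => Nat) (Atab_s_855_857 c) (Atab_s_857_860 c) (Nat.ble 857 c)
noncomputable def Atab_s_851_860 (c : Nat) : Nat := @Bool.rec (fun _ => Nat) (Atab_s_851_855 c) (Atab_s_855_860 c) (Nat.ble 855 c)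
noncomputable def Atab_s_842_860 (c : Nat) : Nat := @Bool.rec (fun _ => Nat) (Atab_s_842_851 c) (Atab_s_851_860 c) (Nat.ble 851 c)
noncomputable def Atab_s_824_860 (c : Nat) : Nat := @Bool.rec (fun _ => Nat) (Atab_s_824_842 c) (Atab_s_842_860 c) (Nat.ble 842 c)
noncomputable def Atab_s_788_860 (c : Nat) : Nat := @Bool.rec (fun _ => Nat) (Atab_s_788_824 c) (Atab_s_824_860 c) (Nat.ble 824 c)
noncomputable def Atab_s_716_860 (c : Nat) : Nat := @Bool.rec (fun _ => Nat) (Atab_s_716_788 c) (Atab_s_788_860 c) (Nat.ble 788 c)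
noncomputable def Atab_s_573_860 (c : Nat) : Nat := @Bool.rec (fun _ => Nat) (Atab_s_573_716 c) (Atab_s_716_860 c) (Nat.ble 716 c)
noncomputable def Atab_s_860_862 (c : Nat) : Nat := @Bool.rec (fun _ => Nat) (Atab_860) (Atab_861) (Nat.ble 861 c)
noncomputable def Atab_s_862_864 (c : Nat) : Nat := @Bool.rec (fun _ => Nat) (Atab_862) (Atab_863) (Nat.ble 863 c)
noncomputable def Atab_s_860_864 (c : Nat) : Nat := @Bool.rec (fun _ => Nat) (Atab_s_860_862 c) (Atab_s_862_864 c) (Nat.ble 862 c)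
noncomputable def Atab_s_864_866 (c : Nat) : Nat := @Bool.rec (fun _ => Nat) (Atab_864) (Atab_865) (Nat.ble 865 c)
noncomputable def Atab_s_866_868 (c : Nat) : Nat := @Bool.rec (fun _ => Nat) (Atab_866) (Atab_867) (Nat.ble 867 c)
noncomputable def Atab_s_864_868 (c : Nat) : Nat := @Bool.rec (fun _ => Nat) (Atab_s_864_866 c) (Atab_s_866_868 c) (Nat.ble 866 c)
noncomputable def Atab_s_860_868 (c : Nat) : Nat := @Bool.rec (fun _ => Nat) (Atab_s_860_864 c) (Atab_s_864_868 c) (Nat.ble 864 c)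
noncomputable def Atab_s_868_870 (c : Nat) : Nat := @Bool.rec (fun _ => Nat) (Atab_868) (Atab_869) (Nat.ble 869 c)
noncomputable def Atab_s_870_872 (c : Nat) : Nat := @Bool.rec (fun _ => Nat) (Atab_870) (Atab_871) (Nat.ble 871 c)
noncomputable def Atab_s_868_872 (c : Nat) : Nat := @Bool.rec (fun _ => Nat) (Atab_s_868_870 c) (Atab_s_870_872 c) (Nat.ble 870 c)
noncomputable def Atab_s_872_874 (c : Nat) : Nat := @Bool.rec (fun _ => Nat) (Atab_872) (Atab_873) (Nat.ble 873 c)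
noncomputable def Atab_s_875_877 (c : Nat) : Nat := @Bool.rec (fun _ => Nat) (Atab_875) (Atab_876) (Nat.ble 876 c)
noncomputable def Atab_s_874_877 (c : Nat) : Nat := @Bool.rec (fun _ => Nat) (Atab_874) (Atab_s_875_877 c) (Nat.ble 875 c)
noncomputable def Atab_s_872_877 (c : Nat) : Nat := @Bool.rec (fun _ => Nat) (Atab_s_872_874 c) (Atab_s_874_877 c) (Nat.ble 874 c)
noncomputable def Atab_s_868_877 (c : Nat) : Nat := @Bool.rec (fun _ => Nat) (Atab_s_868_872 c) (Atab_s_872_877 c) (Nat.ble 872 c)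
noncomputable def Atab_s_860_877 (c : Nat) : Nat := @Bool.rec (fun _ => Nat) (Atab_s_860_868 c) (Atab_s_868_877 c) (Nat.ble 868 c)
noncomputable def Atab_s_877_879 (c : Nat) : Nat := @Bool.rec (fun _ => Nat) (Atab_877) (Atab_878) (Nat.ble 878 c)
noncomputable def Atab_s_879_881 (c : Nat) : Nat := @Bool.rec (fun _ => Nat) (Atab_879) (Atab_880) (Nat.ble 880 c)
noncomputable def Atab_s_877_881 (c : Nat) : Nat := @Bool.rec (fun _ => Nat) (Atab_s_877_879 c) (Atab_s_879_881 c) (Nat.ble 879 c)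
noncomputable def Atab_s_881_883 (c : Nat) : Nat := @Bool.rec (fun _ => Nat) (Atab_881) (Atab_882) (Nat.ble 882 c)
noncomputable def Atab_s_884_886 (c : Nat) : Nat := @Bool.rec (fun _ => Nat) (Atab_884) (Atab_885) (Nat.ble 885 c)
noncomputable def Atab_s_883_886 (c : Nat) : Nat := @Bool.rec (fun _ => Nat) (Atab_883) (Atab_s_884_886 c) (Nat.ble 884 c)
noncomputable def Atab_s_881_886 (c : Nat) : Nat := @Bool.rec (fun _ => Nat) (Atab_s_881_883 c) (Atab_s_883_886 c) (Nat.ble 883 c)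
noncomputable def Atab_s_877_886 (c : Nat) : Nat := @Bool.rec (fun _ => Nat) (Atab_s_877_881 c) (Atab_s_881_886 c) (Nat.ble 881 c)
noncomputable def Atab_s_886_888 (c : Nat) : Nat := @Bool.rec (fun _ => Nat) (Atab_886) (Atab_887) (Nat.ble 887 c)
noncomputable def Atab_s_888_890 (c : Nat) : Nat := @Bool.rec (fun _ => Nat) (Atab_888) (Atab_889) (Nat.ble 889 c)
noncomputable def Atab_s_886_890 (c : Nat) : Nat := @Bool.rec (fun _ => Nat) (Atab_s_886_888 c) (Atab_s_888_890 c) (Nat.ble 888 c)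
noncomputable def Atab_s_890_892 (c : Nat) : Nat := @Bool.rec (fun _ => Nat) (Atab_890) (Atab_891) (Nat.ble 891 c)
noncomputable def Atab_s_893_895 (c : Nat) : Nat := @Bool.rec (fun _ => Nat) (Atab_893) (Atab_894) (Nat.ble 894 c)
noncomputable def Atab_s_892_895 (c : Nat) : Nat := @Bool.rec (fun _ => Nat) (Atab_892) (Atab_s_893_895 c) (Nat.ble 893 c)
noncomputable def Atab_s_890_895 (c : Nat) : Nat := @Bool.rec (fun _ => Nat) (Atab_s_890_892 c) (Atab_s_892_895 c) (Nat.ble 892 c)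
noncomputable def Atab_s_886_895 (c : Nat) : Nat := @Bool.rec (fun _ => Nat) (Atab_s_886_890 c) (Atab_s_890_895 c) (Nat.ble 890 c)
noncomputable def Atab_s_877_895 (c : Nat) : Nat := @Bool.rec (fun _ => Nat) (Atab_s_877_886 c) (Atab_s_886_895 c) (Nat.ble 886 c)
noncomputable def Atab_s_860_895 (c : Nat) : Nat := @Bool.rec (fun _ => Nat) (Atab_s_860_877 c) (Atab_s_877_895 c) (Nat.ble 877 c)
noncomputable def Atab_s_895_897 (c : Nat) : Nat := @Bool.rec (fun _ => Nat) (Atab_895) (Atab_896) (Nat.ble 896 c)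
noncomputable def Atab_s_897_899 (c : Nat) : Nat := @Bool.rec (fun _ => Nat) (Atab_897) (Atab_898) (Nat.ble 898 c)
noncomputable def Atab_s_895_899 (c : Nat) : Nat := @Bool.rec (fun _ => Nat) (Atab_s_895_897 c) (Atab_s_897_899 c) (Nat.ble 897 c)
noncomputable def Atab_s_899_901 (c : Nat) : Nat := @Bool.rec (fun _ => Nat) (Atab_899) (Atab_900) (Nat.ble 900 c)
noncomputable def Atab_s_902_904 (c : Nat) : Nat := @Bool.rec (fun _ => Nat) (Atab_902) (Atab_903) (Nat.ble 903 c)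
noncomputable def Atab_s_901_904 (c : Nat) : Nat := @Bool.rec (fun _ => Nat) (Atab_901) (Atab_s_902_904 c) (Nat.ble 902 c)
noncomputable def Atab_s_899_904 (c : Nat) : Nat := @Bool.rec (fun _ => Nat) (Atab_s_899_901 c) (Atab_s_901_904 c) (Nat.ble 901 c)
noncomputable def Atab_s_895_904 (c : Nat) : Nat := @Bool.rec (fun _ => Nat) (Atab_s_895_899 c) (Atab_s_899_904 c) (Nat.ble 899 c)
noncomputable def Atab_s_904_906 (c : Nat) : Nat := @Bool.rec (fun _ => Nat) (Atab_904) (Atab_905) (Nat.ble 905 c)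
noncomputable def Atab_s_906_908 (c : Nat) : Nat := @Bool.rec (fun _ => Nat) (Atab_906) (Atab_907) (Nat.ble 907 c)
noncomputable def Atab_s_904_908 (c : Nat) : Nat := @Bool.rec (fun _ => Nat) (Atab_s_904_906 c) (Atab_s_906_908 c) (Nat.ble 906 c)
noncomputable def Atab_s_908_910 (c : Nat) : Nat := @Bool.rec (fun _ => Nat) (Atab_908) (Atab_909) (Nat.ble 909 c)
noncomputable def Atab_s_911_913 (c : Nat) : Nat := @Bool.rec (fun _ => Nat) (Atab_911) (Atab_912) (Nat.ble 912 c)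
noncomputable def Atab_s_910_913 (c : Nat) : Nat := @Bool.rec (fun _ => Nat) (Atab_910) (Atab_s_911_913 c) (Nat.ble 911 c)
noncomputable def Atab_s_908_913 (c : Nat) : Nat := @Bool.rec (fun _ => Nat) (Atab_s_908_910 c) (Atab_s_910_913 c) (Nat.ble 910 c)
noncomputable def Atab_s_904_913 (c : Nat) : Nat := @Bool.rec (fun _ => Nat) (Atab_s_904_908 c) (Atab_s_908_913 c) (Nat.ble 908 c)
noncomputable def Atab_s_895_913 (c : Nat) : Nat := @Bool.rec (fun _ => Nat) (Atab_s_895_904 c) (Atab_s_904_913 c) (Nat.ble 904 c)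
noncomputable def Atab_s_913_915 (c : Nat) : Nat := @Bool.rec (fun _ => Nat) (Atab_913) (Atab_914) (Nat.ble 914 c)
noncomputable def Atab_s_915_917 (c : Nat) : Nat := @Bool.rec (fun _ => Nat) (Atab_915) (Atab_916) (Nat.ble 916 c)
noncomputable def Atab_s_913_917 (c : Nat) : Nat := @Bool.rec (fun _ => Nat) (Atab_s_913_915 c) (Atab_s_915_917 c) (Nat.ble 915 c)
noncomputable def Atab_s_917_919 (c : Nat) : Nat := @Bool.rec (fun _ => Nat) (Atab_917) (Atab_918) (Nat.ble 918 c)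
noncomputable def Atab_s_920_922 (c : Nat) : Nat := @Bool.rec (fun _ => Nat) (Atab_920) (Atab_921) (Nat.ble 921 c)
noncomputable def Atab_s_919_922 (c : Nat) : Nat := @Bool.rec (fun _ => Nat) (Atab_919) (Atab_s_920_922 c) (Nat.ble 920 c)
noncomputable def Atab_s_917_922 (c : Nat) : Nat := @Bool.rec (fun _ => Nat) (Atab_s_917_919 c) (Atab_s_919_922 c) (Nat.ble 919 c)
noncomputable def Atab_s_913_922 (c : Nat) : Nat := @Bool.rec (fun _ => Nat) (Atab_s_913_917 c) (Atab_s_917_922 c) (Nat.ble 917 c)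
noncomputable def Atab_s_922_924 (c : Nat) : Nat := @Bool.rec (fun _ => Nat) (Atab_922) (Atab_923) (Nat.ble 923 c)
noncomputable def Atab_s_924_926 (c : Nat) : Nat := @Bool.rec (fun _ => Nat) (Atab_924) (Atab_925) (Nat.ble 925 c)
noncomputable def Atab_s_922_926 (c : Nat) : Nat := @Bool.rec (fun _ => Nat) (Atab_s_922_924 c) (Atab_s_924_926 c) (Nat.ble 924 c)
noncomputable def Atab_s_926_928 (c : Nat) : Nat := @Bool.rec (fun _ => Nat) (Atab_926) (Atab_927) (Nat.ble 927 c)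
noncomputable def Atab_s_929_931 (c : Nat) : Nat := @Bool.rec (fun _ => Nat) (Atab_929) (Atab_930) (Nat.ble 930 c)
noncomputable def Atab_s_928_931 (c : Nat) : Nat := @Bool.rec (fun _ => Nat) (Atab_928) (Atab_s_929_931 c) (Nat.ble 929 c)
noncomputable def Atab_s_926_931 (c : Nat) : Nat := @Bool.rec (fun _ => Nat) (Atab_s_926_928 c) (Atab_s_928_931 c) (Nat.ble 928 c)
noncomputable def Atab_s_922_931 (c : Nat) : Nat := @Bool.rec (fun _ => Nat) (Atab_s_922_926 c) (Atab_s_926_931 c) (Nat.ble 926 c)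
noncomputable def Atab_s_913_931 (c : Nat) : Nat := @Bool.rec (fun _ => Nat) (Atab_s_913_922 c) (Atab_s_922_931 c) (Nat.ble 922 c)
noncomputable def Atab_s_895_931 (c : Nat) : Nat := @Bool.rec (fun _ => Nat) (Atab_s_895_913 c) (Atab_s_913_931 c) (Nat.ble 913 c)
noncomputable def Atab_s_860_931 (c : Nat) : Nat := @Bool.rec (fun _ => Nat) (Atab_s_860_895 c) (Atab_s_895_931 c) (Nat.ble 895 c)
noncomputable def Atab_s_931_933 (c : Nat) : Nat := @Bool.rec (fun _ => Nat) (Atab_931) (Atab_932) (Nat.ble 932 c)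
noncomputable def Atab_s_933_935 (c : Nat) : Nat := @Bool.rec (fun _ => Nat) (Atab_933) (Atab_934) (Nat.ble 934 c)
noncomputable def Atab_s_931_935 (c : Nat) : Nat := @Bool.rec (fun _ => Nat) (Atab_s_931_933 c) (Atab_s_933_935 c) (Nat.ble 933 c)
noncomputable def Atab_s_935_937 (c : Nat) : Nat := @Bool.rec (fun _ => Nat) (Atab_935) (Atab_936) (Nat.ble 936 c)
noncomputable def Atab_s_938_940 (c : Nat) : Nat := @Bool.rec (fun _ => Nat) (Atab_938) (Atab_939) (Nat.ble 939 c)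
noncomputable def Atab_s_937_940 (c : Nat) : Nat := @Bool.rec (fun _ => Nat) (Atab_937) (Atab_s_938_940 c) (Nat.ble 938 c)
noncomputable def Atab_s_935_940 (c : Nat) : Nat := @Bool.rec (fun _ => Nat) (Atab_s_935_937 c) (Atab_s_937_940 c) (Nat.ble 937 c)
noncomputable def Atab_s_931_940 (c : Nat) : Nat := @Bool.rec (fun _ => Nat) (Atab_s_931_935 c) (Atab_s_935_940 c) (Nat.ble 935 c)
noncomputable def Atab_s_940_942 (c : Nat) : Nat := @Bool.rec (fun _ => Nat) (Atab_940) (Atab_941) (Nat.ble 941 c)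
noncomputable def Atab_s_942_944 (c : Nat) : Nat := @Bool.rec (fun _ => Nat) (Atab_942) (Atab_943) (Nat.ble 943 c)
noncomputable def Atab_s_940_944 (c : Nat) : Nat := @Bool.rec (fun _ => Nat) (Atab_s_940_942 c) (Atab_s_942_944 c) (Nat.ble 942 c)
noncomputable def Atab_s_944_946 (c : Nat) : Nat := @Bool.rec (fun _ => Nat) (Atab_944) (Atab_945) (Nat.ble 945 c)
noncomputable def Atab_s_947_949 (c : Nat) : Nat := @Bool.rec (fun _ => Nat) (Atab_947) (Atab_948) (Nat.ble 948 c)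
noncomputable def Atab_s_946_949 (c : Nat) : Nat := @Bool.rec (fun _ => Nat) (Atab_946) (Atab_s_947_949 c) (Nat.ble 947 c)
noncomputable def Atab_s_944_949 (c : Nat) : Nat := @Bool.rec (fun _ => Nat) (Atab_s_944_946 c) (Atab_s_946_949 c) (Nat.ble 946 c)
noncomputable def Atab_s_940_949 (c : Nat) : Nat := @Bool.rec (fun _ => Nat) (Atab_s_940_944 c) (Atab_s_944_949 c) (Nat.ble 944 c)
noncomputable def Atab_s_931_949 (c : Nat) : Nat := @Bool.rec (fun _ => Nat) (Atab_s_931_940 c) (Atab_s_940_949 c) (Nat.ble 940 c)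
noncomputable def Atab_s_949_951 (c : Nat) : Nat := @Bool.rec (fun _ => Nat) (Atab_949) (Atab_950) (Nat.ble 950 c)
noncomputable def Atab_s_951_953 (c : Nat) : Nat := @Bool.rec (fun _ => Nat) (Atab_951) (Atab_952) (Nat.ble 952 c)
noncomputable def Atab_s_949_953 (c : Nat) : Nat := @Bool.rec (fun _ => Nat) (Atab_s_949_951 c) (Atab_s_951_953 c) (Nat.ble 951 c)
noncomputable def Atab_s_953_955 (c : Nat) : Nat := @Bool.rec (fun _ => Nat) (Atab_953) (Atab_954) (Nat.ble 954 c)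
noncomputable def Atab_s_956_958 (c : Nat) : Nat := @Bool.rec (fun _ => Nat) (Atab_956) (Atab_957) (Nat.ble 957 c)
noncomputable def Atab_s_955_958 (c : Nat) : Nat := @Bool.rec (fun _ => Nat) (Atab_955) (Atab_s_956_958 c) (Nat.ble 956 c)
noncomputable def Atab_s_953_958 (c : Nat) : Nat := @Bool.rec (fun _ => Nat) (Atab_s_953_955 c) (Atab_s_955_958 c) (Nat.ble 955 c)
noncomputable def Atab_s_949_958 (c : Nat) : Nat := @Bool.rec (fun _ => Nat) (Atab_s_949_953 c) (Atab_s_953_958 c) (Nat.ble 953 c)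
noncomputable def Atab_s_958_960 (c : Nat) : Nat := @Bool.rec (fun _ => Nat) (Atab_958) (Atab_959) (Nat.ble 959 c)
noncomputable def Atab_s_960_962 (c : Nat) : Nat := @Bool.rec (fun _ => Nat) (Atab_960) (Atab_961) (Nat.ble 961 c)
noncomputable def Atab_s_958_962 (c : Nat) : Nat := @Bool.rec (fun _ => Nat) (Atab_s_958_960 c) (Atab_s_960_962 c) (Nat.ble 960 c)
noncomputable def Atab_s_962_964 (c : Nat) : Nat := @Bool.rec (fun _ => Nat) (Atab_962) (Atab_963) (Nat.ble 963 c)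
noncomputable def Atab_s_965_967 (c : Nat) : Nat := @Bool.rec (fun _ => Nat) (Atab_965) (Atab_966) (Nat.ble 966 c)
noncomputable def Atab_s_964_967 (c : Nat) : Nat := @Bool.rec (fun _ => Nat) (Atab_964) (Atab_s_965_967 c) (Nat.ble 965 c)
noncomputable def Atab_s_962_967 (c : Nat) : Nat := @Bool.rec (fun _ => Nat) (Atab_s_962_964 c) (Atab_s_964_967 c) (Nat.ble 964 c)
noncomputable def Atab_s_958_967 (c : Nat) : Nat := @Bool.rec (fun _ => Nat) (Atab_s_958_962 c) (Atab_s_962_967 c) (Nat.ble 962 c)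
noncomputable def Atab_s_949_967 (c : Nat) : Nat := @Bool.rec (fun _ => Nat) (Atab_s_949_958 c) (Atab_s_958_967 c) (Nat.ble 958 c)
noncomputable def Atab_s_931_967 (c : Nat) : Nat := @Bool.rec (fun _ => Nat) (Atab_s_931_949 c) (Atab_s_949_967 c) (Nat.ble 949 c)
noncomputable def Atab_s_967_969 (c : Nat) : Nat := @Bool.rec (fun _ => Nat) (Atab_967) (Atab_968) (Nat.ble 968 c)
noncomputable def Atab_s_969_971 (c : Nat) : Nat := @Bool.rec (fun _ => Nat) (Atab_969) (Atab_970) (Nat.ble 970 c)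
noncomputable def Atab_s_967_971 (c : Nat) : Nat := @Bool.rec (fun _ => Nat) (Atab_s_967_969 c) (Atab_s_969_971 c) (Nat.ble 969 c)
noncomputable def Atab_s_971_973 (c : Nat) : Nat := @Bool.rec (fun _ => Nat) (Atab_971) (Atab_972) (Nat.ble 972 c)
noncomputable def Atab_s_974_976 (c : Nat) : Nat := @Bool.rec (fun _ => Nat) (Atab_974) (Atab_975) (Nat.ble 975 c)
noncomputable def Atab_s_973_976 (c : Nat) : Nat := @Bool.rec (fun _ => Nat) (Atab_973) (Atab_s_974_976 c) (Nat.ble 974 c)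
noncomputable def Atab_s_971_976 (c : Nat) : Nat := @Bool.rec (fun _ => Nat) (Atab_s_971_973 c) (Atab_s_973_976 c) (Nat.ble 973 c)
noncomputable def Atab_s_967_976 (c : Nat) : Nat := @Bool.rec (fun _ => Nat) (Atab_s_967_971 c) (Atab_s_971_976 c) (Nat.ble 971 c)
noncomputable def Atab_s_976_978 (c : Nat) : Nat := @Bool.rec (fun _ => Nat) (Atab_976) (Atab_977) (Nat.ble 977 c)
noncomputable def Atab_s_978_980 (c : Nat) : Nat := @Bool.rec (fun _ => Nat) (Atab_978) (Atab_979) (Nat.ble 979 c)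
noncomputable def Atab_s_976_980 (c : Nat) : Nat := @Bool.rec (fun _ => Nat) (Atab_s_976_978 c) (Atab_s_978_980 c) (Nat.ble 978 c)
noncomputable def Atab_s_980_982 (c : Nat) : Nat := @Bool.rec (fun _ => Nat) (Atab_980) (Atab_981) (Nat.ble 981 c)
noncomputable def Atab_s_983_985 (c : Nat) : Nat := @Bool.rec (fun _ => Nat) (Atab_983) (Atab_984) (Nat.ble 984 c)
noncomputable def Atab_s_982_985 (c : Nat) : Nat := @Bool.rec (fun _ => Nat) (Atab_982) (Atab_s_983_985 c) (Nat.ble 983 c)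
noncomputable def Atab_s_980_985 (c : Nat) : Nat := @Bool.rec (fun _ => Nat) (Atab_s_980_982 c) (Atab_s_982_985 c) (Nat.ble 982 c)
noncomputable def Atab_s_976_985 (c : Nat) : Nat := @Bool.rec (fun _ => Nat) (Atab_s_976_980 c) (Atab_s_980_985 c) (Nat.ble 980 c)
noncomputable def Atab_s_967_985 (c : Nat) : Nat := @Bool.rec (fun _ => Nat) (Atab_s_967_976 c) (Atab_s_976_985 c) (Nat.ble 976 c)
noncomputable def Atab_s_985_987 (c : Nat) : Nat := @Bool.rec (fun _ => Nat) (Atab_985) (Atab_986) (Nat.ble 986 c)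
noncomputable def Atab_s_987_989 (c : Nat) : Nat := @Bool.rec (fun _ => Nat) (Atab_987) (Atab_988) (Nat.ble 988 c)
noncomputable def Atab_s_985_989 (c : Nat) : Nat := @Bool.rec (fun _ => Nat) (Atab_s_985_987 c) (Atab_s_987_989 c) (Nat.ble 987 c)
noncomputable def Atab_s_989_991 (c : Nat) : Nat := @Bool.rec (fun _ => Nat) (Atab_989) (Atab_990) (Nat.ble 990 c)
noncomputable def Atab_s_992_994 (c : Nat) : Nat := @Bool.rec (fun _ => Nat) (Atab_992) (Atab_993) (Nat.ble 993 c)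
noncomputable def Atab_s_991_994 (c : Nat) : Nat := @Bool.rec (fun _ => Nat) (Atab_991) (Atab_s_992_994 c) (Nat.ble 992 c)
noncomputable def Atab_s_989_994 (c : Nat) : Nat := @Bool.rec (fun _ => Nat) (Atab_s_989_991 c) (Atab_s_991_994 c) (Nat.ble 991 c)
noncomputable def Atab_s_985_994 (c : Nat) : Nat := @Bool.rec (fun _ => Nat) (Atab_s_985_989 c) (Atab_s_989_994 c) (Nat.ble 989 c)
noncomputable def Atab_s_994_996 (c : Nat) : Nat := @Bool.rec (fun _ => Nat) (Atab_994) (Atab_995) (Nat.ble 995 c)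
noncomputable def Atab_s_996_998 (c : Nat) : Nat := @Bool.rec (fun _ => Nat) (Atab_996) (Atab_997) (Nat.ble 997 c)
noncomputable def Atab_s_994_998 (c : Nat) : Nat := @Bool.rec (fun _ => Nat) (Atab_s_994_996 c) (Atab_s_996_998 c) (Nat.ble 996 c)
noncomputable def Atab_s_998_1000 (c : Nat) : Nat := @Bool.rec (fun _ => Nat) (Atab_998) (Atab_999) (Nat.ble 999 c)
noncomputable def Atab_s_1001_1003 (c : Nat) : Nat := @Bool.rec (fun _ => Nat) (Atab_1001) (Atab_1002) (Nat.ble 1002 c)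
noncomputable def Atab_s_1000_1003 (c : Nat) : Nat := @Bool.rec (fun _ => Nat) (Atab_1000) (Atab_s_1001_1003 c) (Nat.ble 1001 c)
noncomputable def Atab_s_998_1003 (c : Nat) : Nat := @Bool.rec (fun _ => Nat) (Atab_s_998_1000 c) (Atab_s_1000_1003 c) (Nat.ble 1000 c)
noncomputable def Atab_s_994_1003 (c : Nat) : Nat := @Bool.rec (fun _ => Nat) (Atab_s_994_998 c) (Atab_s_998_1003 c) (Nat.ble 998 c)
noncomputable def Atab_s_985_1003 (c : Nat) : Nat := @Bool.rec (fun _ => Nat) (Atab_s_985_994 c) (Atab_s_994_1003 c) (Nat.ble 994 c)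
noncomputable def Atab_s_967_1003 (c : Nat) : Nat := @Bool.rec (fun _ => Nat) (Atab_s_967_985 c) (Atab_s_985_1003 c) (Nat.ble 985 c)
noncomputable def Atab_s_931_1003 (c : Nat) : Nat := @Bool.rec (fun _ => Nat) (Atab_s_931_967 c) (Atab_s_967_1003 c) (Nat.ble 967 c)
noncomputable def Atab_s_860_1003 (c : Nat) : Nat := @Bool.rec (fun _ => Nat) (Atab_s_860_931 c) (Atab_s_931_1003 c) (Nat.ble 931 c)
noncomputable def Atab_s_1003_1005 (c : Nat) : Nat := @Bool.rec (fun _ => Nat) (Atab_1003) (Atab_1004) (Nat.ble 1004 c)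
noncomputable def Atab_s_1005_1007 (c : Nat) : Nat := @Bool.rec (fun _ => Nat) (Atab_1005) (Atab_1006) (Nat.ble 1006 c)
noncomputable def Atab_s_1003_1007 (c : Nat) : Nat := @Bool.rec (fun _ => Nat) (Atab_s_1003_1005 c) (Atab_s_1005_1007 c) (Nat.ble 1005 c)
noncomputable def Atab_s_1007_1009 (c : Nat) : Nat := @Bool.rec (fun _ => Nat) (Atab_1007) (Atab_1008) (Nat.ble 1008 c)
noncomputable def Atab_s_1010_1012 (c : Nat) : Nat := @Bool.rec (fun _ => Nat) (Atab_1010) (Atab_1011) (Nat.ble 1011 c)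
noncomputable def Atab_s_1009_1012 (c : Nat) : Nat := @Bool.rec (fun _ => Nat) (Atab_1009) (Atab_s_1010_1012 c) (Nat.ble 1010 c)
noncomputable def Atab_s_1007_1012 (c : Nat) : Nat := @Bool.rec (fun _ => Nat) (Atab_s_1007_1009 c) (Atab_s_1009_1012 c) (Nat.ble 1009 c)
noncomputable def Atab_s_1003_1012 (c : Nat) : Nat := @Bool.rec (fun _ => Nat) (Atab_s_1003_1007 c) (Atab_s_1007_1012 c) (Nat.ble 1007 c)
noncomputable def Atab_s_1012_1014 (c : Nat) : Nat := @Bool.rec (fun _ => Nat) (Atab_1012) (Atab_1013) (Nat.ble 1013 c)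
noncomputable def Atab_s_1014_1016 (c : Nat) : Nat := @Bool.rec (fun _ => Nat) (Atab_1014) (Atab_1015) (Nat.ble 1015 c)
noncomputable def Atab_s_1012_1016 (c : Nat) : Nat := @Bool.rec (fun _ => Nat) (Atab_s_1012_1014 c) (Atab_s_1014_1016 c) (Nat.ble 1014 c)
noncomputable def Atab_s_1016_1018 (c : Nat) : Nat := @Bool.rec (fun _ => Nat) (Atab_1016) (Atab_1017) (Nat.ble 1017 c)
noncomputable def Atab_s_1019_1021 (c : Nat) : Nat := @Bool.rec (fun _ => Nat) (Atab_1019) (Atab_1020) (Nat.ble 1020 c)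
noncomputable def Atab_s_1018_1021 (c : Nat) : Nat := @Bool.rec (fun _ => Nat) (Atab_1018) (Atab_s_1019_1021 c) (Nat.ble 1019 c)
noncomputable def Atab_s_1016_1021 (c : Nat) : Nat := @Bool.rec (fun _ => Nat) (Atab_s_1016_1018 c) (Atab_s_1018_1021 c) (Nat.ble 1018 c)
noncomputable def Atab_s_1012_1021 (c : Nat) : Nat := @Bool.rec (fun _ => Nat) (Atab_s_1012_1016 c) (Atab_s_1016_1021 c) (Nat.ble 1016 c)
noncomputable def Atab_s_1003_1021 (c : Nat) : Nat := @Bool.rec (fun _ => Nat) (Atab_s_1003_1012 c) (Atab_s_1012_1021 c) (Nat.ble 1012 c)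
noncomputable def Atab_s_1021_1023 (c : Nat) : Nat := @Bool.rec (fun _ => Nat) (Atab_1021) (Atab_1022) (Nat.ble 1022 c)
noncomputable def Atab_s_1023_1025 (c : Nat) : Nat := @Bool.rec (fun _ => Nat) (Atab_1023) (Atab_1024) (Nat.ble 1024 c)
noncomputable def Atab_s_1021_1025 (c : Nat) : Nat := @Bool.rec (fun _ => Nat) (Atab_s_1021_1023 c) (Atab_s_1023_1025 c) (Nat.ble 1023 c)
noncomputable def Atab_s_1025_1027 (c : Nat) : Nat := @Bool.rec (fun _ => Nat) (Atab_1025) (Atab_1026) (Nat.ble 1026 c)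
noncomputable def Atab_s_1028_1030 (c : Nat) : Nat := @Bool.rec (fun _ => Nat) (Atab_1028) (Atab_1029) (Nat.ble 1029 c)
noncomputable def Atab_s_1027_1030 (c : Nat) : Nat := @Bool.rec (fun _ => Nat) (Atab_1027) (Atab_s_1028_1030 c) (Nat.ble 1028 c)
noncomputable def Atab_s_1025_1030 (c : Nat) : Nat := @Bool.rec (fun _ => Nat) (Atab_s_1025_1027 c) (Atab_s_1027_1030 c) (Nat.ble 1027 c)
noncomputable def Atab_s_1021_1030 (c : Nat) : Nat := @Bool.rec (fun _ => Nat) (Atab_s_1021_1025 c) (Atab_s_1025_1030 c) (Nat.ble 1025 c)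
noncomputable def Atab_s_1030_1032 (c : Nat) : Nat := @Bool.rec (fun _ => Nat) (Atab_1030) (Atab_1031) (Nat.ble 1031 c)
noncomputable def Atab_s_1032_1034 (c : Nat) : Nat := @Bool.rec (fun _ => Nat) (Atab_1032) (Atab_1033) (Nat.ble 1033 c)
noncomputable def Atab_s_1030_1034 (c : Nat) : Nat := @Bool.rec (fun _ => Nat) (Atab_s_1030_1032 c) (Atab_s_1032_1034 c) (Nat.ble 1032 c)
noncomputable def Atab_s_1034_1036 (c : Nat) : Nat := @Bool.rec (fun _ => Nat) (Atab_1034) (Atab_1035) (Nat.ble 1035 c)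
noncomputable def Atab_s_1037_1039 (c : Nat) : Nat := @Bool.rec (fun _ => Nat) (Atab_1037) (Atab_1038) (Nat.ble 1038 c)
noncomputable def Atab_s_1036_1039 (c : Nat) : Nat := @Bool.rec (fun _ => Nat) (Atab_1036) (Atab_s_1037_1039 c) (Nat.ble 1037 c)
noncomputable def Atab_s_1034_1039 (c : Nat) : Nat := @Bool.rec (fun _ => Nat) (Atab_s_1034_1036 c) (Atab_s_1036_1039 c) (Nat.ble 1036 c)
noncomputable def Atab_s_1030_1039 (c : Nat) : Nat := @Bool.rec (fun _ => Nat) (Atab_s_1030_1034 c) (Atab_s_1034_1039 c) (Nat.ble 1034 c)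
noncomputable def Atab_s_1021_1039 (c : Nat) : Nat := @Bool.rec (fun _ => Nat) (Atab_s_1021_1030 c) (Atab_s_1030_1039 c) (Nat.ble 1030 c)
noncomputable def Atab_s_1003_1039 (c : Nat) : Nat := @Bool.rec (fun _ => Nat) (Atab_s_1003_1021 c) (Atab_s_1021_1039 c) (Nat.ble 1021 c)
noncomputable def Atab_s_1039_1041 (c : Nat) : Nat := @Bool.rec (fun _ => Nat) (Atab_1039) (Atab_1040) (Nat.ble 1040 c)
noncomputable def Atab_s_1041_1043 (c : Nat) : Nat := @Bool.rec (fun _ => Nat) (Atab_1041) (Atab_1042) (Nat.ble 1042 c)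
noncomputable def Atab_s_1039_1043 (c : Nat) : Nat := @Bool.rec (fun _ => Nat) (Atab_s_1039_1041 c) (Atab_s_1041_1043 c) (Nat.ble 1041 c)
noncomputable def Atab_s_1043_1045 (c : Nat) : Nat := @Bool.rec (fun _ => Nat) (Atab_1043) (Atab_1044) (Nat.ble 1044 c)
noncomputable def Atab_s_1046_1048 (c : Nat) : Nat := @Bool.rec (fun _ => Nat) (Atab_1046) (Atab_1047) (Nat.ble 1047 c)
noncomputable def Atab_s_1045_1048 (c : Nat) : Nat := @Bool.rec (fun _ => Nat) (Atab_1045) (Atab_s_1046_1048 c) (Nat.ble 1046 c)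
noncomputable def Atab_s_1043_1048 (c : Nat) : Nat := @Bool.rec (fun _ => Nat) (Atab_s_1043_1045 c) (Atab_s_1045_1048 c) (Nat.ble 1045 c)
noncomputable def Atab_s_1039_1048 (c : Nat) : Nat := @Bool.rec (fun _ => Nat) (Atab_s_1039_1043 c) (Atab_s_1043_1048 c) (Nat.ble 1043 c)
noncomputable def Atab_s_1048_1050 (c : Nat) : Nat := @Bool.rec (fun _ => Nat) (Atab_1048) (Atab_1049) (Nat.ble 1049 c)
noncomputable def Atab_s_1050_1052 (c : Nat) : Nat := @Bool.rec (fun _ => Nat) (Atab_1050) (Atab_1051) (Nat.ble 1051 c)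
noncomputable def Atab_s_1048_1052 (c : Nat) : Nat := @Bool.rec (fun _ => Nat) (Atab_s_1048_1050 c) (Atab_s_1050_1052 c) (Nat.ble 1050 c)
noncomputable def Atab_s_1052_1054 (c : Nat) : Nat := @Bool.rec (fun _ => Nat) (Atab_1052) (Atab_1053) (Nat.ble 1053 c)
noncomputable def Atab_s_1055_1057 (c : Nat) : Nat := @Bool.rec (fun _ => Nat) (Atab_1055) (Atab_1056) (Nat.ble 1056 c)
noncomputable def Atab_s_1054_1057 (c : Nat) : Nat := @Bool.rec (fun _ => Nat) (Atab_1054) (Atab_s_1055_1057 c) (Nat.ble 1055 c)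
noncomputable def Atab_s_1052_1057 (c : Nat) : Nat := @Bool.rec (fun _ => Nat) (Atab_s_1052_1054 c) (Atab_s_1054_1057 c) (Nat.ble 1054 c)
noncomputable def Atab_s_1048_1057 (c : Nat) : Nat := @Bool.rec (fun _ => Nat) (Atab_s_1048_1052 c) (Atab_s_1052_1057 c) (Nat.ble 1052 c)
noncomputable def Atab_s_1039_1057 (c : Nat) : Nat := @Bool.rec (fun _ => Nat) (Atab_s_1039_1048 c) (Atab_s_1048_1057 c) (Nat.ble 1048 c)
noncomputable def Atab_s_1057_1059 (c : Nat) : Nat := @Bool.rec (fun _ => Nat) (Atab_1057) (Atab_1058) (Nat.ble 1058 c)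
noncomputable def Atab_s_1059_1061 (c : Nat) : Nat := @Bool.rec (fun _ => Nat) (Atab_1059) (Atab_1060) (Nat.ble 1060 c)
noncomputable def Atab_s_1057_1061 (c : Nat) : Nat := @Bool.rec (fun _ => Nat) (Atab_s_1057_1059 c) (Atab_s_1059_1061 c) (Nat.ble 1059 c)
noncomputable def Atab_s_1061_1063 (c : Nat) : Nat := @Bool.rec (fun _ => Nat) (Atab_1061) (Atab_1062) (Nat.ble 1062 c)
noncomputable def Atab_s_1064_1066 (c : Nat) : Nat := @Bool.rec (fun _ => Nat) (Atab_1064) (Atab_1065) (Nat.ble 1065 c)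
noncomputable def Atab_s_1063_1066 (c : Nat) : Nat := @Bool.rec (fun _ => Nat) (Atab_1063) (Atab_s_1064_1066 c) (Nat.ble 1064 c)
noncomputable def Atab_s_1061_1066 (c : Nat) : Nat := @Bool.rec (fun _ => Nat) (Atab_s_1061_1063 c) (Atab_s_1063_1066 c) (Nat.ble 1063 c)
noncomputable def Atab_s_1057_1066 (c : Nat) : Nat := @Bool.rec (fun _ => Nat) (Atab_s_1057_1061 c) (Atab_s_1061_1066 c) (Nat.ble 1061 c)
noncomputable def Atab_s_1066_1068 (c : Nat) : Nat := @Bool.rec (fun _ => Nat) (Atab_1066) (Atab_1067) (Nat.ble 1067 c)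
noncomputable def Atab_s_1068_1070 (c : Nat) : Nat := @Bool.rec (fun _ => Nat) (Atab_1068) (Atab_1069) (Nat.ble 1069 c)
noncomputable def Atab_s_1066_1070 (c : Nat) : Nat := @Bool.rec (fun _ => Nat) (Atab_s_1066_1068 c) (Atab_s_1068_1070 c) (Nat.ble 1068 c)
noncomputable def Atab_s_1070_1072 (c : Nat) : Nat := @Bool.rec (fun _ => Nat) (Atab_1070) (Atab_1071) (Nat.ble 1071 c)
noncomputable def Atab_s_1073_1075 (c : Nat) : Nat := @Bool.rec (fun _ => Nat) (Atab_1073) (Atab_1074) (Nat.ble 1074 c)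
noncomputable def Atab_s_1072_1075 (c : Nat) : Nat := @Bool.rec (fun _ => Nat) (Atab_1072) (Atab_s_1073_1075 c) (Nat.ble 1073 c)
noncomputable def Atab_s_1070_1075 (c : Nat) : Nat := @Bool.rec (fun _ => Nat) (Atab_s_1070_1072 c) (Atab_s_1072_1075 c) (Nat.ble 1072 c)
noncomputable def Atab_s_1066_1075 (c : Nat) : Nat := @Bool.rec (fun _ => Nat) (Atab_s_1066_1070 c) (Atab_s_1070_1075 c) (Nat.ble 1070 c)
noncomputable def Atab_s_1057_1075 (c : Nat) : Nat := @Bool.rec (fun _ => Nat) (Atab_s_1057_1066 c) (Atab_s_1066_1075 c) (Nat.ble 1066 c)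
noncomputable def Atab_s_1039_1075 (c : Nat) : Nat := @Bool.rec (fun _ => Nat) (Atab_s_1039_1057 c) (Atab_s_1057_1075 c) (Nat.ble 1057 c)
noncomputable def Atab_s_1003_1075 (c : Nat) : Nat := @Bool.rec (fun _ => Nat) (Atab_s_1003_1039 c) (Atab_s_1039_1075 c) (Nat.ble 1039 c)
noncomputable def Atab_s_1075_1077 (c : Nat) : Nat := @Bool.rec (fun _ => Nat) (Atab_1075) (Atab_1076) (Nat.ble 1076 c)
noncomputable def Atab_s_1077_1079 (c : Nat) : Nat := @Bool.rec (fun _ => Nat) (Atab_1077) (Atab_1078) (Nat.ble 1078 c)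
noncomputable def Atab_s_1075_1079 (c : Nat) : Nat := @Bool.rec (fun _ => Nat) (Atab_s_1075_1077 c) (Atab_s_1077_1079 c) (Nat.ble 1077 c)
noncomputable def Atab_s_1079_1081 (c : Nat) : Nat := @Bool.rec (fun _ => Nat) (Atab_1079) (Atab_1080) (Nat.ble 1080 c)
noncomputable def Atab_s_1082_1084 (c : Nat) : Nat := @Bool.rec (fun _ => Nat) (Atab_1082) (Atab_1083) (Nat.ble 1083 c)
noncomputable def Atab_s_1081_1084 (c : Nat) : Nat := @Bool.rec (fun _ => Nat) (Atab_1081) (Atab_s_1082_1084 c) (Nat.ble 1082 c)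
noncomputable def Atab_s_1079_1084 (c : Nat) : Nat := @Bool.rec (fun _ => Nat) (Atab_s_1079_1081 c) (Atab_s_1081_1084 c) (Nat.ble 1081 c)
noncomputable def Atab_s_1075_1084 (c : Nat) : Nat := @Bool.rec (fun _ => Nat) (Atab_s_1075_1079 c) (Atab_s_1079_1084 c) (Nat.ble 1079 c)
noncomputable def Atab_s_1084_1086 (c : Nat) : Nat := @Bool.rec (fun _ => Nat) (Atab_1084) (Atab_1085) (Nat.ble 1085 c)
noncomputable def Atab_s_1086_1088 (c : Nat) : Nat := @Bool.rec (fun _ => Nat) (Atab_1086) (Atab_1087) (Nat.ble 1087 c)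
noncomputable def Atab_s_1084_1088 (c : Nat) : Nat := @Bool.rec (fun _ => Nat) (Atab_s_1084_1086 c) (Atab_s_1086_1088 c) (Nat.ble 1086 c)
noncomputable def Atab_s_1088_1090 (c : Nat) : Nat := @Bool.rec (fun _ => Nat) (Atab_1088) (Atab_1089) (Nat.ble 1089 c)
noncomputable def Atab_s_1091_1093 (c : Nat) : Nat := @Bool.rec (fun _ => Nat) (Atab_1091) (Atab_1092) (Nat.ble 1092 c)
noncomputable def Atab_s_1090_1093 (c : Nat) : Nat := @Bool.rec (fun _ => Nat) (Atab_1090) (Atab_s_1091_1093 c) (Nat.ble 1091 c)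
noncomputable def Atab_s_1088_1093 (c : Nat) : Nat := @Bool.rec (fun _ => Nat) (Atab_s_1088_1090 c) (Atab_s_1090_1093 c) (Nat.ble 1090 c)
noncomputable def Atab_s_1084_1093 (c : Nat) : Nat := @Bool.rec (fun _ => Nat) (Atab_s_1084_1088 c) (Atab_s_1088_1093 c) (Nat.ble 1088 c)
noncomputable def Atab_s_1075_1093 (c : Nat) : Nat := @Bool.rec (fun _ => Nat) (Atab_s_1075_1084 c) (Atab_s_1084_1093 c) (Nat.ble 1084 c)
noncomputable def Atab_s_1093_1095 (c : Nat) : Nat := @Bool.rec (fun _ => Nat) (Atab_1093) (Atab_1094) (Nat.ble 1094 c)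
noncomputable def Atab_s_1095_1097 (c : Nat) : Nat := @Bool.rec (fun _ => Nat) (Atab_1095) (Atab_1096) (Nat.ble 1096 c)
noncomputable def Atab_s_1093_1097 (c : Nat) : Nat := @Bool.rec (fun _ => Nat) (Atab_s_1093_1095 c) (Atab_s_1095_1097 c) (Nat.ble 1095 c)
noncomputable def Atab_s_1097_1099 (c : Nat) : Nat := @Bool.rec (fun _ => Nat) (Atab_1097) (Atab_1098) (Nat.ble 1098 c)
noncomputable def Atab_s_1100_1102 (c : Nat) : Nat := @Bool.rec (fun _ => Nat) (Atab_1100) (Atab_1101) (Nat.ble 1101 c)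
noncomputable def Atab_s_1099_1102 (c : Nat) : Nat := @Bool.rec (fun _ => Nat) (Atab_1099) (Atab_s_1100_1102 c) (Nat.ble 1100 c)
noncomputable def Atab_s_1097_1102 (c : Nat) : Nat := @Bool.rec (fun _ => Nat) (Atab_s_1097_1099 c) (Atab_s_1099_1102 c) (Nat.ble 1099 c)
noncomputable def Atab_s_1093_1102 (c : Nat) : Nat := @Bool.rec (fun _ => Nat) (Atab_s_1093_1097 c) (Atab_s_1097_1102 c) (Nat.ble 1097 c)
noncomputable def Atab_s_1102_1104 (c : Nat) : Nat := @Bool.rec (fun _ => Nat) (Atab_1102) (Atab_1103) (Nat.ble 1103 c)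
noncomputable def Atab_s_1104_1106 (c : Nat) : Nat := @Bool.rec (fun _ => Nat) (Atab_1104) (Atab_1105) (Nat.ble 1105 c)
noncomputable def Atab_s_1102_1106 (c : Nat) : Nat := @Bool.rec (fun _ => Nat) (Atab_s_1102_1104 c) (Atab_s_1104_1106 c) (Nat.ble 1104 c)
noncomputable def Atab_s_1106_1108 (c : Nat) : Nat := @Bool.rec (fun _ => Nat) (Atab_1106) (Atab_1107) (Nat.ble 1107 c)
noncomputable def Atab_s_1109_1111 (c : Nat) : Nat := @Bool.rec (fun _ => Nat) (Atab_1109) (Atab_1110) (Nat.ble 1110 c)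
noncomputable def Atab_s_1108_1111 (c : Nat) : Nat := @Bool.rec (fun _ => Nat) (Atab_1108) (Atab_s_1109_1111 c) (Nat.ble 1109 c)
noncomputable def Atab_s_1106_1111 (c : Nat) : Nat := @Bool.rec (fun _ => Nat) (Atab_s_1106_1108 c) (Atab_s_1108_1111 c) (Nat.ble 1108 c)
noncomputable def Atab_s_1102_1111 (c : Nat) : Nat := @Bool.rec (fun _ => Nat) (Atab_s_1102_1106 c) (Atab_s_1106_1111 c) (Nat.ble 1106 c)
noncomputable def Atab_s_1093_1111 (c : Nat) : Nat := @Bool.rec (fun _ => Nat) (Atab_s_1093_1102 c) (Atab_s_1102_1111 c) (Nat.ble 1102 c)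
noncomputable def Atab_s_1075_1111 (c : Nat) : Nat := @Bool.rec (fun _ => Nat) (Atab_s_1075_1093 c) (Atab_s_1093_1111 c) (Nat.ble 1093 c)
noncomputable def Atab_s_1111_1113 (c : Nat) : Nat := @Bool.rec (fun _ => Nat) (Atab_1111) (Atab_1112) (Nat.ble 1112 c)
noncomputable def Atab_s_1113_1115 (c : Nat) : Nat := @Bool.rec (fun _ => Nat) (Atab_1113) (Atab_1114) (Nat.ble 1114 c)
noncomputable def Atab_s_1111_1115 (c : Nat) : Nat := @Bool.rec (fun _ => Nat) (Atab_s_1111_1113 c) (Atab_s_1113_1115 c) (Nat.ble 1113 c)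
noncomputable def Atab_s_1115_1117 (c : Nat) : Nat := @Bool.rec (fun _ => Nat) (Atab_1115) (Atab_1116) (Nat.ble 1116 c)
noncomputable def Atab_s_1118_1120 (c : Nat) : Nat := @Bool.rec (fun _ => Nat) (Atab_1118) (Atab_1119) (Nat.ble 1119 c)
noncomputable def Atab_s_1117_1120 (c : Nat) : Nat := @Bool.rec (fun _ => Nat) (Atab_1117) (Atab_s_1118_1120 c) (Nat.ble 1118 c)
noncomputable def Atab_s_1115_1120 (c : Nat) : Nat := @Bool.rec (fun _ => Nat) (Atab_s_1115_1117 c) (Atab_s_1117_1120 c) (Nat.ble 1117 c)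
noncomputable def Atab_s_1111_1120 (c : Nat) : Nat := @Bool.rec (fun _ => Nat) (Atab_s_1111_1115 c) (Atab_s_1115_1120 c) (Nat.ble 1115 c)
noncomputable def Atab_s_1120_1122 (c : Nat) : Nat := @Bool.rec (fun _ => Nat) (Atab_1120) (Atab_1121) (Nat.ble 1121 c)
noncomputable def Atab_s_1122_1124 (c : Nat) : Nat := @Bool.rec (fun _ => Nat) (Atab_1122) (Atab_1123) (Nat.ble 1123 c)
noncomputable def Atab_s_1120_1124 (c : Nat) : Nat := @Bool.rec (fun _ => Nat) (Atab_s_1120_1122 c) (Atab_s_1122_1124 c) (Nat.ble 1122 c)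
noncomputable def Atab_s_1124_1126 (c : Nat) : Nat := @Bool.rec (fun _ => Nat) (Atab_1124) (Atab_1125) (Nat.ble 1125 c)
noncomputable def Atab_s_1127_1129 (c : Nat) : Nat := @Bool.rec (fun _ => Nat) (Atab_1127) (Atab_1128) (Nat.ble 1128 c)
noncomputable def Atab_s_1126_1129 (c : Nat) : Nat := @Bool.rec (fun _ => Nat) (Atab_1126) (Atab_s_1127_1129 c) (Nat.ble 1127 c)
noncomputable def Atab_s_1124_1129 (c : Nat) : Nat := @Bool.rec (fun _ => Nat) (Atab_s_1124_1126 c) (Atab_s_1126_1129 c) (Nat.ble 1126 c)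
noncomputable def Atab_s_1120_1129 (c : Nat) : Nat := @Bool.rec (fun _ => Nat) (Atab_s_1120_1124 c) (Atab_s_1124_1129 c) (Nat.ble 1124 c)
noncomputable def Atab_s_1111_1129 (c : Nat) : Nat := @Bool.rec (fun _ => Nat) (Atab_s_1111_1120 c) (Atab_s_1120_1129 c) (Nat.ble 1120 c)
noncomputable def Atab_s_1129_1131 (c : Nat) : Nat := @Bool.rec (fun _ => Nat) (Atab_1129) (Atab_1130) (Nat.ble 1130 c)
noncomputable def Atab_s_1131_1133 (c : Nat) : Nat := @Bool.rec (fun _ => Nat) (Atab_1131) (Atab_1132) (Nat.ble 1132 c)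
noncomputable def Atab_s_1129_1133 (c : Nat) : Nat := @Bool.rec (fun _ => Nat) (Atab_s_1129_1131 c) (Atab_s_1131_1133 c) (Nat.ble 1131 c)
noncomputable def Atab_s_1133_1135 (c : Nat) : Nat := @Bool.rec (fun _ => Nat) (Atab_1133) (Atab_1134) (Nat.ble 1134 c)
noncomputable def Atab_s_1136_1138 (c : Nat) : Nat := @Bool.rec (fun _ => Nat) (Atab_1136) (Atab_1137) (Nat.ble 1137 c)
noncomputable def Atab_s_1135_1138 (c : Nat) : Nat := @Bool.rec (fun _ => Nat) (Atab_1135) (Atab_s_1136_1138 c) (Nat.ble 1136 c)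
noncomputable def Atab_s_1133_1138 (c : Nat) : Nat := @Bool.rec (fun _ => Nat) (Atab_s_1133_1135 c) (Atab_s_1135_1138 c) (Nat.ble 1135 c)
noncomputable def Atab_s_1129_1138 (c : Nat) : Nat := @Bool.rec (fun _ => Nat) (Atab_s_1129_1133 c) (Atab_s_1133_1138 c) (Nat.ble 1133 c)
noncomputable def Atab_s_1138_1140 (c : Nat) : Nat := @Bool.rec (fun _ => Nat) (Atab_1138) (Atab_1139) (Nat.ble 1139 c)
noncomputable def Atab_s_1140_1142 (c : Nat) : Nat := @Bool.rec (fun _ => Nat) (Atab_1140) (Atab_1141) (Nat.ble 1141 c)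
noncomputable def Atab_s_1138_1142 (c : Nat) : Nat := @Bool.rec (fun _ => Nat) (Atab_s_1138_1140 c) (Atab_s_1140_1142 c) (Nat.ble 1140 c)
noncomputable def Atab_s_1142_1144 (c : Nat) : Nat := @Bool.rec (fun _ => Nat) (Atab_1142) (Atab_1143) (Nat.ble 1143 c)
noncomputable def Atab_s_1145_1147 (c : Nat) : Nat := @Bool.rec (fun _ => Nat) (Atab_1145) (Atab_1146) (Nat.ble 1146 c)
noncomputable def Atab_s_1144_1147 (c : Nat) : Nat := @Bool.rec (fun _ => Nat) (Atab_1144) (Atab_s_1145_1147 c) (Nat.ble 1145 c)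
noncomputable def Atab_s_1142_1147 (c : Nat) : Nat := @Bool.rec (fun _ => Nat) (Atab_s_1142_1144 c) (Atab_s_1144_1147 c) (Nat.ble 1144 c)
noncomputable def Atab_s_1138_1147 (c : Nat) : Nat := @Bool.rec (fun _ => Nat) (Atab_s_1138_1142 c) (Atab_s_1142_1147 c) (Nat.ble 1142 c)
noncomputable def Atab_s_1129_1147 (c : Nat) : Nat := @Bool.rec (fun _ => Nat) (Atab_s_1129_1138 c) (Atab_s_1138_1147 c) (Nat.ble 1138 c)
noncomputable def Atab_s_1111_1147 (c : Nat) : Nat := @Bool.rec (fun _ => Nat) (Atab_s_1111_1129 c) (Atab_s_1129_1147 c) (Nat.ble 1129 c)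
noncomputable def Atab_s_1075_1147 (c : Nat) : Nat := @Bool.rec (fun _ => Nat) (Atab_s_1075_1111 c) (Atab_s_1111_1147 c) (Nat.ble 1111 c)
noncomputable def Atab_s_1003_1147 (c : Nat) : Nat := @Bool.rec (fun _ => Nat) (Atab_s_1003_1075 c) (Atab_s_1075_1147 c) (Nat.ble 1075 c)
noncomputable def Atab_s_860_1147 (c : Nat) : Nat := @Bool.rec (fun _ => Nat) (Atab_s_860_1003 c) (Atab_s_1003_1147 c) (Nat.ble 1003 c)
noncomputable def Atab_s_573_1147 (c : Nat) : Nat := @Bool.rec (fun _ => Nat) (Atab_s_573_860 c) (Atab_s_860_1147 c) (Nat.ble 860 c)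
noncomputable def Atab_s_0_1147 (c : Nat) : Nat := @Bool.rec (fun _ => Nat) (Atab_s_0_573 c) (Atab_s_573_1147 c) (Nat.ble 573 c)
noncomputable def Atab (i : Nat) : Nat := rdw 44 17592186044415 (Atab_s_0_1147 (Nat.shiftRight i 11)) (Nat.land i 2047)
noncomputable def Btab_s_1_3 (c : Nat) : Nat := @Bool.rec (fun _ => Nat) (Btab_1) (Btab_2) (Nat.ble 2 c)
noncomputable def Btab_s_0_3 (c : Nat) : Nat := @Bool.rec (fun _ => Nat) (Btab_0) (Btab_s_1_3 c) (Nat.ble 1 c)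
noncomputable def Btab_s_3_5 (c : Nat) : Nat := @Bool.rec (fun _ => Nat) (Btab_3) (Btab_4) (Nat.ble 4 c)
noncomputable def Btab_s_5_7 (c : Nat) : Nat := @Bool.rec (fun _ => Nat) (Btab_5) (Btab_6) (Nat.ble 6 c)
noncomputable def Btab_s_3_7 (c : Nat) : Nat := @Bool.rec (fun _ => Nat) (Btab_s_3_5 c) (Btab_s_5_7 c) (Nat.ble 5 c)
noncomputable def Btab_s_0_7 (c : Nat) : Nat := @Bool.rec (fun _ => Nat) (Btab_s_0_3 c) (Btab_s_3_7 c) (Nat.ble 3 c)
noncomputable def Btab_s_7_9 (c : Nat) : Nat := @Bool.rec (fun _ => Nat) (Btab_7) (Btab_8) (Nat.ble 8 c)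
noncomputable def Btab_s_9_11 (c : Nat) : Nat := @Bool.rec (fun _ => Nat) (Btab_9) (Btab_10) (Nat.ble 10 c)
noncomputable def Btab_s_7_11 (c : Nat) : Nat := @Bool.rec (fun _ => Nat) (Btab_s_7_9 c) (Btab_s_9_11 c) (Nat.ble 9 c)
noncomputable def Btab_s_11_13 (c : Nat) : Nat := @Bool.rec (fun _ => Nat) (Btab_11) (Btab_12) (Nat.ble 12 c)
noncomputable def Btab_s_13_15 (c : Nat) : Nat := @Bool.rec (fun _ => Nat) (Btab_13) (Btab_14) (Nat.ble 14 c)
noncomputable def Btab_s_11_15 (c : Nat) : Nat := @Bool.rec (fun _ => Nat) (Btab_s_11_13 c) (Btab_s_13_15 c) (Nat.ble 13 c)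
noncomputable def Btab_s_7_15 (c : Nat) : Nat := @Bool.rec (fun _ => Nat) (Btab_s_7_11 c) (Btab_s_11_15 c) (Nat.ble 11 c)
noncomputable def Btab_s_0_15 (c : Nat) : Nat := @Bool.rec (fun _ => Nat) (Btab_s_0_7 c) (Btab_s_7_15 c) (Nat.ble 7 c)
noncomputable def Btab_s_15_17 (c : Nat) : Nat := @Bool.rec (fun _ => Nat) (Btab_15) (Btab_16) (Nat.ble 16 c)
noncomputable def Btab_s_17_19 (c : Nat) : Nat := @Bool.rec (fun _ => Nat) (Btab_17) (Btab_18) (Nat.ble 18 c)
noncomputable def Btab_s_15_19 (c : Nat) : Nat := @Bool.rec (fun _ => Nat) (Btab_s_15_17 c) (Btab_s_17_19 c) (Nat.ble 17 c)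
noncomputable def Btab_s_19_21 (c : Nat) : Nat := @Bool.rec (fun _ => Nat) (Btab_19) (Btab_20) (Nat.ble 20 c)
noncomputable def Btab_s_21_23 (c : Nat) : Nat := @Bool.rec (fun _ => Nat) (Btab_21) (Btab_22) (Nat.ble 22 c)
noncomputable def Btab_s_19_23 (c : Nat) : Nat := @Bool.rec (fun _ => Nat) (Btab_s_19_21 c) (Btab_s_21_23 c) (Nat.ble 21 c)
noncomputable def Btab_s_15_23 (c : Nat) : Nat := @Bool.rec (fun _ => Nat) (Btab_s_15_19 c) (Btab_s_19_23 c) (Nat.ble 19 c)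
noncomputable def Btab_s_23_25 (c : Nat) : Nat := @Bool.rec (fun _ => Nat) (Btab_23) (Btab_24) (Nat.ble 24 c)
noncomputable def Btab_s_25_27 (c : Nat) : Nat := @Bool.rec (fun _ => Nat) (Btab_25) (Btab_26) (Nat.ble 26 c)
noncomputable def Btab_s_23_27 (c : Nat) : Nat := @Bool.rec (fun _ => Nat) (Btab_s_23_25 c) (Btab_s_25_27 c) (Nat.ble 25 c)
noncomputable def Btab_s_27_29 (c : Nat) : Nat := @Bool.rec (fun _ => Nat) (Btab_27) (Btab_28) (Nat.ble 28 c)
noncomputable def Btab_s_29_31 (c : Nat) : Nat := @Bool.rec (fun _ => Nat) (Btab_29) (Btab_30) (Nat.ble 30 c)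
noncomputable def Btab_s_27_31 (c : Nat) : Nat := @Bool.rec (fun _ => Nat) (Btab_s_27_29 c) (Btab_s_29_31 c) (Nat.ble 29 c)
noncomputable def Btab_s_23_31 (c : Nat) : Nat := @Bool.rec (fun _ => Nat) (Btab_s_23_27 c) (Btab_s_27_31 c) (Nat.ble 27 c)
noncomputable def Btab_s_15_31 (c : Nat) : Nat := @Bool.rec (fun _ => Nat) (Btab_s_15_23 c) (Btab_s_23_31 c) (Nat.ble 23 c)
noncomputable def Btab_s_0_31 (c : Nat) : Nat := @Bool.rec (fun _ => Nat) (Btab_s_0_15 c) (Btab_s_15_31 c) (Nat.ble 15 c)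
noncomputable def Btab_s_32_34 (c : Nat) : Nat := @Bool.rec (fun _ => Nat) (Btab_32) (Btab_33) (Nat.ble 33 c)
noncomputable def Btab_s_31_34 (c : Nat) : Nat := @Bool.rec (fun _ => Nat) (Btab_31) (Btab_s_32_34 c) (Nat.ble 32 c)
noncomputable def Btab_s_34_36 (c : Nat) : Nat := @Bool.rec (fun _ => Nat) (Btab_34) (Btab_35) (Nat.ble 35 c)
noncomputable def Btab_s_36_38 (c : Nat) : Nat := @Bool.rec (fun _ => Nat) (Btab_36) (Btab_37) (Nat.ble 37 c)
noncomputable def Btab_s_34_38 (c : Nat) : Nat := @Bool.rec (fun _ => Nat) (Btab_s_34_36 c) (Btab_s_36_38 c) (Nat.ble 36 c)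
noncomputable def Btab_s_31_38 (c : Nat) : Nat := @Bool.rec (fun _ => Nat) (Btab_s_31_34 c) (Btab_s_34_38 c) (Nat.ble 34 c)
noncomputable def Btab_s_38_40 (c : Nat) : Nat := @Bool.rec (fun _ => Nat) (Btab_38) (Btab_39) (Nat.ble 39 c)
noncomputable def Btab_s_40_42 (c : Nat) : Nat := @Bool.rec (fun _ => Nat) (Btab_40) (Btab_41) (Nat.ble 41 c)
noncomputable def Btab_s_38_42 (c : Nat) : Nat := @Bool.rec (fun _ => Nat) (Btab_s_38_40 c) (Btab_s_40_42 c) (Nat.ble 40 c)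
noncomputable def Btab_s_42_44 (c : Nat) : Nat := @Bool.rec (fun _ => Nat) (Btab_42) (Btab_43) (Nat.ble 43 c)
noncomputable def Btab_s_44_46 (c : Nat) : Nat := @Bool.rec (fun _ => Nat) (Btab_44) (Btab_45) (Nat.ble 45 c)
noncomputable def Btab_s_42_46 (c : Nat) : Nat := @Bool.rec (fun _ => Nat) (Btab_s_42_44 c) (Btab_s_44_46 c) (Nat.ble 44 c)
noncomputable def Btab_s_38_46 (c : Nat) : Nat := @Bool.rec (fun _ => Nat) (Btab_s_38_42 c) (Btab_s_42_46 c) (Nat.ble 42 c)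
noncomputable def Btab_s_31_46 (c : Nat) : Nat := @Bool.rec (fun _ => Nat) (Btab_s_31_38 c) (Btab_s_38_46 c) (Nat.ble 38 c)
noncomputable def Btab_s_46_48 (c : Nat) : Nat := @Bool.rec (fun _ => Nat) (Btab_46) (Btab_47) (Nat.ble 47 c)
noncomputable def Btab_s_48_50 (c : Nat) : Nat := @Bool.rec (fun _ => Nat) (Btab_48) (Btab_49) (Nat.ble 49 c)
noncomputable def Btab_s_46_50 (c : Nat) : Nat := @Bool.rec (fun _ => Nat) (Btab_s_46_48 c) (Btab_s_48_50 c) (Nat.ble 48 c)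
noncomputable def Btab_s_50_52 (c : Nat) : Nat := @Bool.rec (fun _ => Nat) (Btab_50) (Btab_51) (Nat.ble 51 c)
noncomputable def Btab_s_52_54 (c : Nat) : Nat := @Bool.rec (fun _ => Nat) (Btab_52) (Btab_53) (Nat.ble 53 c)
noncomputable def Btab_s_50_54 (c : Nat) : Nat := @Bool.rec (fun _ => Nat) (Btab_s_50_52 c) (Btab_s_52_54 c) (Nat.ble 52 c)
noncomputable def Btab_s_46_54 (c : Nat) : Nat := @Bool.rec (fun _ => Nat) (Btab_s_46_50 c) (Btab_s_50_54 c) (Nat.ble 50 c)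
noncomputable def Btab_s_54_56 (c : Nat) : Nat := @Bool.rec (fun _ => Nat) (Btab_54) (Btab_55) (Nat.ble 55 c)
noncomputable def Btab_s_56_58 (c : Nat) : Nat := @Bool.rec (fun _ => Nat) (Btab_56) (Btab_57) (Nat.ble 57 c)
noncomputable def Btab_s_54_58 (c : Nat) : Nat := @Bool.rec (fun _ => Nat) (Btab_s_54_56 c) (Btab_s_56_58 c) (Nat.ble 56 c)
noncomputable def Btab_s_58_60 (c : Nat) : Nat := @Bool.rec (fun _ => Nat) (Btab_58) (Btab_59) (Nat.ble 59 c)
noncomputable def Btab_s_60_62 (c : Nat) : Nat := @Bool.rec (fun _ => Nat) (Btab_60) (Btab_61) (Nat.ble 61 c)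
noncomputable def Btab_s_58_62 (c : Nat) : Nat := @Bool.rec (fun _ => Nat) (Btab_s_58_60 c) (Btab_s_60_62 c) (Nat.ble 60 c)
noncomputable def Btab_s_54_62 (c : Nat) : Nat := @Bool.rec (fun _ => Nat) (Btab_s_54_58 c) (Btab_s_58_62 c) (Nat.ble 58 c)
noncomputable def Btab_s_46_62 (c : Nat) : Nat := @Bool.rec (fun _ => Nat) (Btab_s_46_54 c) (Btab_s_54_62 c) (Nat.ble 54 c)
noncomputable def Btab_s_31_62 (c : Nat) : Nat := @Bool.rec (fun _ => Nat) (Btab_s_31_46 c) (Btab_s_46_62 c) (Nat.ble 46 c)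
noncomputable def Btab_s_0_62 (c : Nat) : Nat := @Bool.rec (fun _ => Nat) (Btab_s_0_31 c) (Btab_s_31_62 c) (Nat.ble 31 c)
noncomputable def Btab_s_63_65 (c : Nat) : Nat := @Bool.rec (fun _ => Nat) (Btab_63) (Btab_64) (Nat.ble 64 c)
noncomputable def Btab_s_62_65 (c : Nat) : Nat := @Bool.rec (fun _ => Nat) (Btab_62) (Btab_s_63_65 c) (Nat.ble 63 c)
noncomputable def Btab_s_65_67 (c : Nat) : Nat := @Bool.rec (fun _ => Nat) (Btab_65) (Btab_66) (Nat.ble 66 c)
noncomputable def Btab_s_67_69 (c : Nat) : Nat := @Bool.rec (fun _ => Nat) (Btab_67) (Btab_68) (Nat.ble 68 c)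
noncomputable def Btab_s_65_69 (c : Nat) : Nat := @Bool.rec (fun _ => Nat) (Btab_s_65_67 c) (Btab_s_67_69 c) (Nat.ble 67 c)
noncomputable def Btab_s_62_69 (c : Nat) : Nat := @Bool.rec (fun _ => Nat) (Btab_s_62_65 c) (Btab_s_65_69 c) (Nat.ble 65 c)
noncomputable def Btab_s_69_71 (c : Nat) : Nat := @Bool.rec (fun _ => Nat) (Btab_69) (Btab_70) (Nat.ble 70 c)
noncomputable def Btab_s_71_73 (c : Nat) : Nat := @Bool.rec (fun _ => Nat) (Btab_71) (Btab_72) (Nat.ble 72 c)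
noncomputable def Btab_s_69_73 (c : Nat) : Nat := @Bool.rec (fun _ => Nat) (Btab_s_69_71 c) (Btab_s_71_73 c) (Nat.ble 71 c)
noncomputable def Btab_s_73_75 (c : Nat) : Nat := @Bool.rec (fun _ => Nat) (Btab_73) (Btab_74) (Nat.ble 74 c)
noncomputable def Btab_s_75_77 (c : Nat) : Nat := @Bool.rec (fun _ => Nat) (Btab_75) (Btab_76) (Nat.ble 76 c)
noncomputable def Btab_s_73_77 (c : Nat) : Nat := @Bool.rec (fun _ => Nat) (Btab_s_73_75 c) (Btab_s_75_77 c) (Nat.ble 75 c)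
noncomputable def Btab_s_69_77 (c : Nat) : Nat := @Bool.rec (fun _ => Nat) (Btab_s_69_73 c) (Btab_s_73_77 c) (Nat.ble 73 c)
noncomputable def Btab_s_62_77 (c : Nat) : Nat := @Bool.rec (fun _ => Nat) (Btab_s_62_69 c) (Btab_s_69_77 c) (Nat.ble 69 c)
noncomputable def Btab_s_77_79 (c : Nat) : Nat := @Bool.rec (fun _ => Nat) (Btab_77) (Btab_78) (Nat.ble 78 c)
noncomputable def Btab_s_79_81 (c : Nat) : Nat := @Bool.rec (fun _ => Nat) (Btab_79) (Btab_80) (Nat.ble 80 c)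
noncomputable def Btab_s_77_81 (c : Nat) : Nat := @Bool.rec (fun _ => Nat) (Btab_s_77_79 c) (Btab_s_79_81 c) (Nat.ble 79 c)
noncomputable def Btab_s_81_83 (c : Nat) : Nat := @Bool.rec (fun _ => Nat) (Btab_81) (Btab_82) (Nat.ble 82 c)
noncomputable def Btab_s_83_85 (c : Nat) : Nat := @Bool.rec (fun _ => Nat) (Btab_83) (Btab_84) (Nat.ble 84 c)
noncomputable def Btab_s_81_85 (c : Nat) : Nat := @Bool.rec (fun _ => Nat) (Btab_s_81_83 c) (Btab_s_83_85 c) (Nat.ble 83 c)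
noncomputable def Btab_s_77_85 (c : Nat) : Nat := @Bool.rec (fun _ => Nat) (Btab_s_77_81 c) (Btab_s_81_85 c) (Nat.ble 81 c)
noncomputable def Btab_s_85_87 (c : Nat) : Nat := @Bool.rec (fun _ => Nat) (Btab_85) (Btab_86) (Nat.ble 86 c)
noncomputable def Btab_s_87_89 (c : Nat) : Nat := @Bool.rec (fun _ => Nat) (Btab_87) (Btab_88) (Nat.ble 88 c)
noncomputable def Btab_s_85_89 (c : Nat) : Nat := @Bool.rec (fun _ => Nat) (Btab_s_85_87 c) (Btab_s_87_89 c) (Nat.ble 87 c)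
noncomputable def Btab_s_89_91 (c : Nat) : Nat := @Bool.rec (fun _ => Nat) (Btab_89) (Btab_90) (Nat.ble 90 c)
noncomputable def Btab_s_91_93 (c : Nat) : Nat := @Bool.rec (fun _ => Nat) (Btab_91) (Btab_92) (Nat.ble 92 c)
noncomputable def Btab_s_89_93 (c : Nat) : Nat := @Bool.rec (fun _ => Nat) (Btab_s_89_91 c) (Btab_s_91_93 c) (Nat.ble 91 c)
noncomputable def Btab_s_85_93 (c : Nat) : Nat := @Bool.rec (fun _ => Nat) (Btab_s_85_89 c) (Btab_s_89_93 c) (Nat.ble 89 c)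
noncomputable def Btab_s_77_93 (c : Nat) : Nat := @Bool.rec (fun _ => Nat) (Btab_s_77_85 c) (Btab_s_85_93 c) (Nat.ble 85 c)
noncomputable def Btab_s_62_93 (c : Nat) : Nat := @Bool.rec (fun _ => Nat) (Btab_s_62_77 c) (Btab_s_77_93 c) (Nat.ble 77 c)
noncomputable def Btab_s_93_95 (c : Nat) : Nat := @Bool.rec (fun _ => Nat) (Btab_93) (Btab_94) (Nat.ble 94 c)
noncomputable def Btab_s_95_97 (c : Nat) : Nat := @Bool.rec (fun _ => Nat) (Btab_95) (Btab_96) (Nat.ble 96 c)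
noncomputable def Btab_s_93_97 (c : Nat) : Nat := @Bool.rec (fun _ => Nat) (Btab_s_93_95 c) (Btab_s_95_97 c) (Nat.ble 95 c)
noncomputable def Btab_s_97_99 (c : Nat) : Nat := @Bool.rec (fun _ => Nat) (Btab_97) (Btab_98) (Nat.ble 98 c)
noncomputable def Btab_s_99_101 (c : Nat) : Nat := @Bool.rec (fun _ => Nat) (Btab_99) (Btab_100) (Nat.ble 100 c)
noncomputable def Btab_s_97_101 (c : Nat) : Nat := @Bool.rec (fun _ => Nat) (Btab_s_97_99 c) (Btab_s_99_101 c) (Nat.ble 99 c)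
noncomputable def Btab_s_93_101 (c : Nat) : Nat := @Bool.rec (fun _ => Nat) (Btab_s_93_97 c) (Btab_s_97_101 c) (Nat.ble 97 c)
noncomputable def Btab_s_101_103 (c : Nat) : Nat := @Bool.rec (fun _ => Nat) (Btab_101) (Btab_102) (Nat.ble 102 c)
noncomputable def Btab_s_103_105 (c : Nat) : Nat := @Bool.rec (fun _ => Nat) (Btab_103) (Btab_104) (Nat.ble 104 c)
noncomputable def Btab_s_101_105 (c : Nat) : Nat := @Bool.rec (fun _ => Nat) (Btab_s_101_103 c) (Btab_s_103_105 c) (Nat.ble 103 c)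
noncomputable def Btab_s_105_107 (c : Nat) : Nat := @Bool.rec (fun _ => Nat) (Btab_105) (Btab_106) (Nat.ble 106 c)
noncomputable def Btab_s_107_109 (c : Nat) : Nat := @Bool.rec (fun _ => Nat) (Btab_107) (Btab_108) (Nat.ble 108 c)
noncomputable def Btab_s_105_109 (c : Nat) : Nat := @Bool.rec (fun _ => Nat) (Btab_s_105_107 c) (Btab_s_107_109 c) (Nat.ble 107 c)
noncomputable def Btab_s_101_109 (c : Nat) : Nat := @Bool.rec (fun _ => Nat) (Btab_s_101_105 c) (Btab_s_105_109 c) (Nat.ble 105 c)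
noncomputable def Btab_s_93_109 (c : Nat) : Nat := @Bool.rec (fun _ => Nat) (Btab_s_93_101 c) (Btab_s_101_109 c) (Nat.ble 101 c)
noncomputable def Btab_s_109_111 (c : Nat) : Nat := @Bool.rec (fun _ => Nat) (Btab_109) (Btab_110) (Nat.ble 110 c)
noncomputable def Btab_s_111_113 (c : Nat) : Nat := @Bool.rec (fun _ => Nat) (Btab_111) (Btab_112) (Nat.ble 112 c)
noncomputable def Btab_s_109_113 (c : Nat) : Nat := @Bool.rec (fun _ => Nat) (Btab_s_109_111 c) (Btab_s_111_113 c) (Nat.ble 111 c)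
noncomputable def Btab_s_113_115 (c : Nat) : Nat := @Bool.rec (fun _ => Nat) (Btab_113) (Btab_114) (Nat.ble 114 c)
noncomputable def Btab_s_115_117 (c : Nat) : Nat := @Bool.rec (fun _ => Nat) (Btab_115) (Btab_116) (Nat.ble 116 c)
noncomputable def Btab_s_113_117 (c : Nat) : Nat := @Bool.rec (fun _ => Nat) (Btab_s_113_115 c) (Btab_s_115_117 c) (Nat.ble 115 c)
noncomputable def Btab_s_109_117 (c : Nat) : Nat := @Bool.rec (fun _ => Nat) (Btab_s_109_113 c) (Btab_s_113_117 c) (Nat.ble 113 c)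
noncomputable def Btab_s_117_119 (c : Nat) : Nat := @Bool.rec (fun _ => Nat) (Btab_117) (Btab_118) (Nat.ble 118 c)
noncomputable def Btab_s_119_121 (c : Nat) : Nat := @Bool.rec (fun _ => Nat) (Btab_119) (Btab_120) (Nat.ble 120 c)
noncomputable def Btab_s_117_121 (c : Nat) : Nat := @Bool.rec (fun _ => Nat) (Btab_s_117_119 c) (Btab_s_119_121 c) (Nat.ble 119 c)
noncomputable def Btab_s_121_123 (c : Nat) : Nat := @Bool.rec (fun _ => Nat) (Btab_121) (Btab_122) (Nat.ble 122 c)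
noncomputable def Btab_s_123_125 (c : Nat) : Nat := @Bool.rec (fun _ => Nat) (Btab_123) (Btab_124) (Nat.ble 124 c)
noncomputable def Btab_s_121_125 (c : Nat) : Nat := @Bool.rec (fun _ => Nat) (Btab_s_121_123 c) (Btab_s_123_125 c) (Nat.ble 123 c)
noncomputable def Btab_s_117_125 (c : Nat) : Nat := @Bool.rec (fun _ => Nat) (Btab_s_117_121 c) (Btab_s_121_125 c) (Nat.ble 121 c)
noncomputable def Btab_s_109_125 (c : Nat) : Nat := @Bool.rec (fun _ => Nat) (Btab_s_109_117 c) (Btab_s_117_125 c) (Nat.ble 117 c)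
noncomputable def Btab_s_93_125 (c : Nat) : Nat := @Bool.rec (fun _ => Nat) (Btab_s_93_109 c) (Btab_s_109_125 c) (Nat.ble 109 c)
noncomputable def Btab_s_62_125 (c : Nat) : Nat := @Bool.rec (fun _ => Nat) (Btab_s_62_93 c) (Btab_s_93_125 c) (Nat.ble 93 c)
noncomputable def Btab_s_0_125 (c : Nat) : Nat := @Bool.rec (fun _ => Nat) (Btab_s_0_62 c) (Btab_s_62_125 c) (Nat.ble 62 c)
noncomputable def Btab_s_126_128 (c : Nat) : Nat := @Bool.rec (fun _ => Nat) (Btab_126) (Btab_127) (Nat.ble 127 c)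
noncomputable def Btab_s_125_128 (c : Nat) : Nat := @Bool.rec (fun _ => Nat) (Btab_125) (Btab_s_126_128 c) (Nat.ble 126 c)
noncomputable def Btab_s_128_130 (c : Nat) : Nat := @Bool.rec (fun _ => Nat) (Btab_128) (Btab_129) (Nat.ble 129 c)
noncomputable def Btab_s_130_132 (c : Nat) : Nat := @Bool.rec (fun _ => Nat) (Btab_130) (Btab_131) (Nat.ble 131 c)
noncomputable def Btab_s_128_132 (c : Nat) : Nat := @Bool.rec (fun _ => Nat) (Btab_s_128_130 c) (Btab_s_130_132 c) (Nat.ble 130 c)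
noncomputable def Btab_s_125_132 (c : Nat) : Nat := @Bool.rec (fun _ => Nat) (Btab_s_125_128 c) (Btab_s_128_132 c) (Nat.ble 128 c)
noncomputable def Btab_s_132_134 (c : Nat) : Nat := @Bool.rec (fun _ => Nat) (Btab_132) (Btab_133) (Nat.ble 133 c)
noncomputable def Btab_s_134_136 (c : Nat) : Nat := @Bool.rec (fun _ => Nat) (Btab_134) (Btab_135) (Nat.ble 135 c)
noncomputable def Btab_s_132_136 (c : Nat) : Nat := @Bool.rec (fun _ => Nat) (Btab_s_132_134 c) (Btab_s_134_136 c) (Nat.ble 134 c)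
noncomputable def Btab_s_136_138 (c : Nat) : Nat := @Bool.rec (fun _ => Nat) (Btab_136) (Btab_137) (Nat.ble 137 c)
noncomputable def Btab_s_138_140 (c : Nat) : Nat := @Bool.rec (fun _ => Nat) (Btab_138) (Btab_139) (Nat.ble 139 c)
noncomputable def Btab_s_136_140 (c : Nat) : Nat := @Bool.rec (fun _ => Nat) (Btab_s_136_138 c) (Btab_s_138_140 c) (Nat.ble 138 c)
noncomputable def Btab_s_132_140 (c : Nat) : Nat := @Bool.rec (fun _ => Nat) (Btab_s_132_136 c) (Btab_s_136_140 c) (Nat.ble 136 c)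
noncomputable def Btab_s_125_140 (c : Nat) : Nat := @Bool.rec (fun _ => Nat) (Btab_s_125_132 c) (Btab_s_132_140 c) (Nat.ble 132 c)
noncomputable def Btab_s_140_142 (c : Nat) : Nat := @Bool.rec (fun _ => Nat) (Btab_140) (Btab_141) (Nat.ble 141 c)
noncomputable def Btab_s_142_144 (c : Nat) : Nat := @Bool.rec (fun _ => Nat) (Btab_142) (Btab_143) (Nat.ble 143 c)
noncomputable def Btab_s_140_144 (c : Nat) : Nat := @Bool.rec (fun _ => Nat) (Btab_s_140_142 c) (Btab_s_142_144 c) (Nat.ble 142 c)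
noncomputable def Btab_s_144_146 (c : Nat) : Nat := @Bool.rec (fun _ => Nat) (Btab_144) (Btab_145) (Nat.ble 145 c)
noncomputable def Btab_s_146_148 (c : Nat) : Nat := @Bool.rec (fun _ => Nat) (Btab_146) (Btab_147) (Nat.ble 147 c)
noncomputable def Btab_s_144_148 (c : Nat) : Nat := @Bool.rec (fun _ => Nat) (Btab_s_144_146 c) (Btab_s_146_148 c) (Nat.ble 146 c)
noncomputable def Btab_s_140_148 (c : Nat) : Nat := @Bool.rec (fun _ => Nat) (Btab_s_140_144 c) (Btab_s_144_148 c) (Nat.ble 144 c)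
noncomputable def Btab_s_148_150 (c : Nat) : Nat := @Bool.rec (fun _ => Nat) (Btab_148) (Btab_149) (Nat.ble 149 c)
noncomputable def Btab_s_150_152 (c : Nat) : Nat := @Bool.rec (fun _ => Nat) (Btab_150) (Btab_151) (Nat.ble 151 c)
noncomputable def Btab_s_148_152 (c : Nat) : Nat := @Bool.rec (fun _ => Nat) (Btab_s_148_150 c) (Btab_s_150_152 c) (Nat.ble 150 c)
noncomputable def Btab_s_152_154 (c : Nat) : Nat := @Bool.rec (fun _ => Nat) (Btab_152) (Btab_153) (Nat.ble 153 c)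
noncomputable def Btab_s_154_156 (c : Nat) : Nat := @Bool.rec (fun _ => Nat) (Btab_154) (Btab_155) (Nat.ble 155 c)
noncomputable def Btab_s_152_156 (c : Nat) : Nat := @Bool.rec (fun _ => Nat) (Btab_s_152_154 c) (Btab_s_154_156 c) (Nat.ble 154 c)
noncomputable def Btab_s_148_156 (c : Nat) : Nat := @Bool.rec (fun _ => Nat) (Btab_s_148_152 c) (Btab_s_152_156 c) (Nat.ble 152 c)
noncomputable def Btab_s_140_156 (c : Nat) : Nat := @Bool.rec (fun _ => Nat) (Btab_s_140_148 c) (Btab_s_148_156 c) (Nat.ble 148 c)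
noncomputable def Btab_s_125_156 (c : Nat) : Nat := @Bool.rec (fun _ => Nat) (Btab_s_125_140 c) (Btab_s_140_156 c) (Nat.ble 140 c)
noncomputable def Btab_s_156_158 (c : Nat) : Nat := @Bool.rec (fun _ => Nat) (Btab_156) (Btab_157) (Nat.ble 157 c)
noncomputable def Btab_s_158_160 (c : Nat) : Nat := @Bool.rec (fun _ => Nat) (Btab_158) (Btab_159) (Nat.ble 159 c)
noncomputable def Btab_s_156_160 (c : Nat) : Nat := @Bool.rec (fun _ => Nat) (Btab_s_156_158 c) (Btab_s_158_160 c) (Nat.ble 158 c)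
noncomputable def Btab_s_160_162 (c : Nat) : Nat := @Bool.rec (fun _ => Nat) (Btab_160) (Btab_161) (Nat.ble 161 c)
noncomputable def Btab_s_162_164 (c : Nat) : Nat := @Bool.rec (fun _ => Nat) (Btab_162) (Btab_163) (Nat.ble 163 c)
noncomputable def Btab_s_160_164 (c : Nat) : Nat := @Bool.rec (fun _ => Nat) (Btab_s_160_162 c) (Btab_s_162_164 c) (Nat.ble 162 c)
noncomputable def Btab_s_156_164 (c : Nat) : Nat := @Bool.rec (fun _ => Nat) (Btab_s_156_160 c) (Btab_s_160_164 c) (Nat.ble 160 c)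
noncomputable def Btab_s_164_166 (c : Nat) : Nat := @Bool.rec (fun _ => Nat) (Btab_164) (Btab_165) (Nat.ble 165 c)
noncomputable def Btab_s_166_168 (c : Nat) : Nat := @Bool.rec (fun _ => Nat) (Btab_166) (Btab_167) (Nat.ble 167 c)
noncomputable def Btab_s_164_168 (c : Nat) : Nat := @Bool.rec (fun _ => Nat) (Btab_s_164_166 c) (Btab_s_166_168 c) (Nat.ble 166 c)
noncomputable def Btab_s_168_170 (c : Nat) : Nat := @Bool.rec (fun _ => Nat) (Btab_168) (Btab_169) (Nat.ble 169 c)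
noncomputable def Btab_s_170_172 (c : Nat) : Nat := @Bool.rec (fun _ => Nat) (Btab_170) (Btab_171) (Nat.ble 171 c)
noncomputable def Btab_s_168_172 (c : Nat) : Nat := @Bool.rec (fun _ => Nat) (Btab_s_168_170 c) (Btab_s_170_172 c) (Nat.ble 170 c)
noncomputable def Btab_s_164_172 (c : Nat) : Nat := @Bool.rec (fun _ => Nat) (Btab_s_164_168 c) (Btab_s_168_172 c) (Nat.ble 168 c)
noncomputable def Btab_s_156_172 (c : Nat) : Nat := @Bool.rec (fun _ => Nat) (Btab_s_156_164 c) (Btab_s_164_172 c) (Nat.ble 164 c)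
noncomputable def Btab_s_172_174 (c : Nat) : Nat := @Bool.rec (fun _ => Nat) (Btab_172) (Btab_173) (Nat.ble 173 c)
noncomputable def Btab_s_174_176 (c : Nat) : Nat := @Bool.rec (fun _ => Nat) (Btab_174) (Btab_175) (Nat.ble 175 c)
noncomputable def Btab_s_172_176 (c : Nat) : Nat := @Bool.rec (fun _ => Nat) (Btab_s_172_174 c) (Btab_s_174_176 c) (Nat.ble 174 c)
noncomputable def Btab_s_176_178 (c : Nat) : Nat := @Bool.rec (fun _ => Nat) (Btab_176) (Btab_177) (Nat.ble 177 c)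
noncomputable def Btab_s_178_180 (c : Nat) : Nat := @Bool.rec (fun _ => Nat) (Btab_178) (Btab_179) (Nat.ble 179 c)
noncomputable def Btab_s_176_180 (c : Nat) : Nat := @Bool.rec (fun _ => Nat) (Btab_s_176_178 c) (Btab_s_178_180 c) (Nat.ble 178 c)
noncomputable def Btab_s_172_180 (c : Nat) : Nat := @Bool.rec (fun _ => Nat) (Btab_s_172_176 c) (Btab_s_176_180 c) (Nat.ble 176 c)
noncomputable def Btab_s_180_182 (c : Nat) : Nat := @Bool.rec (fun _ => Nat) (Btab_180) (Btab_181) (Nat.ble 181 c)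
noncomputable def Btab_s_182_184 (c : Nat) : Nat := @Bool.rec (fun _ => Nat) (Btab_182) (Btab_183) (Nat.ble 183 c)
noncomputable def Btab_s_180_184 (c : Nat) : Nat := @Bool.rec (fun _ => Nat) (Btab_s_180_182 c) (Btab_s_182_184 c) (Nat.ble 182 c)
noncomputable def Btab_s_184_186 (c : Nat) : Nat := @Bool.rec (fun _ => Nat) (Btab_184) (Btab_185) (Nat.ble 185 c)
noncomputable def Btab_s_186_188 (c : Nat) : Nat := @Bool.rec (fun _ => Nat) (Btab_186) (Btab_187) (Nat.ble 187 c)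
noncomputable def Btab_s_184_188 (c : Nat) : Nat := @Bool.rec (fun _ => Nat) (Btab_s_184_186 c) (Btab_s_186_188 c) (Nat.ble 186 c)
noncomputable def Btab_s_180_188 (c : Nat) : Nat := @Bool.rec (fun _ => Nat) (Btab_s_180_184 c) (Btab_s_184_188 c) (Nat.ble 184 c)
noncomputable def Btab_s_172_188 (c : Nat) : Nat := @Bool.rec (fun _ => Nat) (Btab_s_172_180 c) (Btab_s_180_188 c) (Nat.ble 180 c)
noncomputable def Btab_s_156_188 (c : Nat) : Nat := @Bool.rec (fun _ => Nat) (Btab_s_156_172 c) (Btab_s_172_188 c) (Nat.ble 172 c)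
noncomputable def Btab_s_125_188 (c : Nat) : Nat := @Bool.rec (fun _ => Nat) (Btab_s_125_156 c) (Btab_s_156_188 c) (Nat.ble 156 c)
noncomputable def Btab_s_189_191 (c : Nat) : Nat := @Bool.rec (fun _ => Nat) (Btab_189) (Btab_190) (Nat.ble 190 c)
noncomputable def Btab_s_188_191 (c : Nat) : Nat := @Bool.rec (fun _ => Nat) (Btab_188) (Btab_s_189_191 c) (Nat.ble 189 c)
noncomputable def Btab_s_191_193 (c : Nat) : Nat := @Bool.rec (fun _ => Nat) (Btab_191) (Btab_192) (Nat.ble 192 c)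
noncomputable def Btab_s_193_195 (c : Nat) : Nat := @Bool.rec (fun _ => Nat) (Btab_193) (Btab_194) (Nat.ble 194 c)
noncomputable def Btab_s_191_195 (c : Nat) : Nat := @Bool.rec (fun _ => Nat) (Btab_s_191_193 c) (Btab_s_193_195 c) (Nat.ble 193 c)
noncomputable def Btab_s_188_195 (c : Nat) : Nat := @Bool.rec (fun _ => Nat) (Btab_s_188_191 c) (Btab_s_191_195 c) (Nat.ble 191 c)
noncomputable def Btab_s_195_197 (c : Nat) : Nat := @Bool.rec (fun _ => Nat) (Btab_195) (Btab_196) (Nat.ble 196 c)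
noncomputable def Btab_s_197_199 (c : Nat) : Nat := @Bool.rec (fun _ => Nat) (Btab_197) (Btab_198) (Nat.ble 198 c)
noncomputable def Btab_s_195_199 (c : Nat) : Nat := @Bool.rec (fun _ => Nat) (Btab_s_195_197 c) (Btab_s_197_199 c) (Nat.ble 197 c)
noncomputable def Btab_s_199_201 (c : Nat) : Nat := @Bool.rec (fun _ => Nat) (Btab_199) (Btab_200) (Nat.ble 200 c)
noncomputable def Btab_s_201_203 (c : Nat) : Nat := @Bool.rec (fun _ => Nat) (Btab_201) (Btab_202) (Nat.ble 202 c)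
noncomputable def Btab_s_199_203 (c : Nat) : Nat := @Bool.rec (fun _ => Nat) (Btab_s_199_201 c) (Btab_s_201_203 c) (Nat.ble 201 c)
noncomputable def Btab_s_195_203 (c : Nat) : Nat := @Bool.rec (fun _ => Nat) (Btab_s_195_199 c) (Btab_s_199_203 c) (Nat.ble 199 c)
noncomputable def Btab_s_188_203 (c : Nat) : Nat := @Bool.rec (fun _ => Nat) (Btab_s_188_195 c) (Btab_s_195_203 c) (Nat.ble 195 c)
noncomputable def Btab_s_203_205 (c : Nat) : Nat := @Bool.rec (fun _ => Nat) (Btab_203) (Btab_204) (Nat.ble 204 c)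
noncomputable def Btab_s_205_207 (c : Nat) : Nat := @Bool.rec (fun _ => Nat) (Btab_205) (Btab_206) (Nat.ble 206 c)
noncomputable def Btab_s_203_207 (c : Nat) : Nat := @Bool.rec (fun _ => Nat) (Btab_s_203_205 c) (Btab_s_205_207 c) (Nat.ble 205 c)
noncomputable def Btab_s_207_209 (c : Nat) : Nat := @Bool.rec (fun _ => Nat) (Btab_207) (Btab_208) (Nat.ble 208 c)
noncomputable def Btab_s_209_211 (c : Nat) : Nat := @Bool.rec (fun _ => Nat) (Btab_209) (Btab_210) (Nat.ble 210 c)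
noncomputable def Btab_s_207_211 (c : Nat) : Nat := @Bool.rec (fun _ => Nat) (Btab_s_207_209 c) (Btab_s_209_211 c) (Nat.ble 209 c)
noncomputable def Btab_s_203_211 (c : Nat) : Nat := @Bool.rec (fun _ => Nat) (Btab_s_203_207 c) (Btab_s_207_211 c) (Nat.ble 207 c)
noncomputable def Btab_s_211_213 (c : Nat) : Nat := @Bool.rec (fun _ => Nat) (Btab_211) (Btab_212) (Nat.ble 212 c)
noncomputable def Btab_s_213_215 (c : Nat) : Nat := @Bool.rec (fun _ => Nat) (Btab_213) (Btab_214) (Nat.ble 214 c)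
noncomputable def Btab_s_211_215 (c : Nat) : Nat := @Bool.rec (fun _ => Nat) (Btab_s_211_213 c) (Btab_s_213_215 c) (Nat.ble 213 c)
noncomputable def Btab_s_215_217 (c : Nat) : Nat := @Bool.rec (fun _ => Nat) (Btab_215) (Btab_216) (Nat.ble 216 c)
noncomputable def Btab_s_217_219 (c : Nat) : Nat := @Bool.rec (fun _ => Nat) (Btab_217) (Btab_218) (Nat.ble 218 c)
noncomputable def Btab_s_215_219 (c : Nat) : Nat := @Bool.rec (fun _ => Nat) (Btab_s_215_217 c) (Btab_s_217_219 c) (Nat.ble 217 c)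
noncomputable def Btab_s_211_219 (c : Nat) : Nat := @Bool.rec (fun _ => Nat) (Btab_s_211_215 c) (Btab_s_215_219 c) (Nat.ble 215 c)
noncomputable def Btab_s_203_219 (c : Nat) : Nat := @Bool.rec (fun _ => Nat) (Btab_s_203_211 c) (Btab_s_211_219 c) (Nat.ble 211 c)
noncomputable def Btab_s_188_219 (c : Nat) : Nat := @Bool.rec (fun _ => Nat) (Btab_s_188_203 c) (Btab_s_203_219 c) (Nat.ble 203 c)
noncomputable def Btab_s_219_221 (c : Nat) : Nat := @Bool.rec (fun _ => Nat) (Btab_219) (Btab_220) (Nat.ble 220 c)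
noncomputable def Btab_s_221_223 (c : Nat) : Nat := @Bool.rec (fun _ => Nat) (Btab_221) (Btab_222) (Nat.ble 222 c)
noncomputable def Btab_s_219_223 (c : Nat) : Nat := @Bool.rec (fun _ => Nat) (Btab_s_219_221 c) (Btab_s_221_223 c) (Nat.ble 221 c)
noncomputable def Btab_s_223_225 (c : Nat) : Nat := @Bool.rec (fun _ => Nat) (Btab_223) (Btab_224) (Nat.ble 224 c)
noncomputable def Btab_s_225_227 (c : Nat) : Nat := @Bool.rec (fun _ => Nat) (Btab_225) (Btab_226) (Nat.ble 226 c)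
noncomputable def Btab_s_223_227 (c : Nat) : Nat := @Bool.rec (fun _ => Nat) (Btab_s_223_225 c) (Btab_s_225_227 c) (Nat.ble 225 c)
noncomputable def Btab_s_219_227 (c : Nat) : Nat := @Bool.rec (fun _ => Nat) (Btab_s_219_223 c) (Btab_s_223_227 c) (Nat.ble 223 c)
noncomputable def Btab_s_227_229 (c : Nat) : Nat := @Bool.rec (fun _ => Nat) (Btab_227) (Btab_228) (Nat.ble 228 c)
noncomputable def Btab_s_229_231 (c : Nat) : Nat := @Bool.rec (fun _ => Nat) (Btab_229) (Btab_230) (Nat.ble 230 c)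
noncomputable def Btab_s_227_231 (c : Nat) : Nat := @Bool.rec (fun _ => Nat) (Btab_s_227_229 c) (Btab_s_229_231 c) (Nat.ble 229 c)
noncomputable def Btab_s_231_233 (c : Nat) : Nat := @Bool.rec (fun _ => Nat) (Btab_231) (Btab_232) (Nat.ble 232 c)
noncomputable def Btab_s_233_235 (c : Nat) : Nat := @Bool.rec (fun _ => Nat) (Btab_233) (Btab_234) (Nat.ble 234 c)
noncomputable def Btab_s_231_235 (c : Nat) : Nat := @Bool.rec (fun _ => Nat) (Btab_s_231_233 c) (Btab_s_233_235 c) (Nat.ble 233 c)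
noncomputable def Btab_s_227_235 (c : Nat) : Nat := @Bool.rec (fun _ => Nat) (Btab_s_227_231 c) (Btab_s_231_235 c) (Nat.ble 231 c)
noncomputable def Btab_s_219_235 (c : Nat) : Nat := @Bool.rec (fun _ => Nat) (Btab_s_219_227 c) (Btab_s_227_235 c) (Nat.ble 227 c)
noncomputable def Btab_s_235_237 (c : Nat) : Nat := @Bool.rec (fun _ => Nat) (Btab_235) (Btab_236) (Nat.ble 236 c)
noncomputable def Btab_s_237_239 (c : Nat) : Nat := @Bool.rec (fun _ => Nat) (Btab_237) (Btab_238) (Nat.ble 238 c)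
noncomputable def Btab_s_235_239 (c : Nat) : Nat := @Bool.rec (fun _ => Nat) (Btab_s_235_237 c) (Btab_s_237_239 c) (Nat.ble 237 c)
noncomputable def Btab_s_239_241 (c : Nat) : Nat := @Bool.rec (fun _ => Nat) (Btab_239) (Btab_240) (Nat.ble 240 c)
noncomputable def Btab_s_241_243 (c : Nat) : Nat := @Bool.rec (fun _ => Nat) (Btab_241) (Btab_242) (Nat.ble 242 c)
noncomputable def Btab_s_239_243 (c : Nat) : Nat := @Bool.rec (fun _ => Nat) (Btab_s_239_241 c) (Btab_s_241_243 c) (Nat.ble 241 c)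
noncomputable def Btab_s_235_243 (c : Nat) : Nat := @Bool.rec (fun _ => Nat) (Btab_s_235_239 c) (Btab_s_239_243 c) (Nat.ble 239 c)
noncomputable def Btab_s_243_245 (c : Nat) : Nat := @Bool.rec (fun _ => Nat) (Btab_243) (Btab_244) (Nat.ble 244 c)
noncomputable def Btab_s_245_247 (c : Nat) : Nat := @Bool.rec (fun _ => Nat) (Btab_245) (Btab_246) (Nat.ble 246 c)
noncomputable def Btab_s_243_247 (c : Nat) : Nat := @Bool.rec (fun _ => Nat) (Btab_s_243_245 c) (Btab_s_245_247 c) (Nat.ble 245 c)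
noncomputable def Btab_s_247_249 (c : Nat) : Nat := @Bool.rec (fun _ => Nat) (Btab_247) (Btab_248) (Nat.ble 248 c)
noncomputable def Btab_s_249_251 (c : Nat) : Nat := @Bool.rec (fun _ => Nat) (Btab_249) (Btab_250) (Nat.ble 250 c)
noncomputable def Btab_s_247_251 (c : Nat) : Nat := @Bool.rec (fun _ => Nat) (Btab_s_247_249 c) (Btab_s_249_251 c) (Nat.ble 249 c)
noncomputable def Btab_s_243_251 (c : Nat) : Nat := @Bool.rec (fun _ => Nat) (Btab_s_243_247 c) (Btab_s_247_251 c) (Nat.ble 247 c)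
noncomputable def Btab_s_235_251 (c : Nat) : Nat := @Bool.rec (fun _ => Nat) (Btab_s_235_243 c) (Btab_s_243_251 c) (Nat.ble 243 c)
noncomputable def Btab_s_219_251 (c : Nat) : Nat := @Bool.rec (fun _ => Nat) (Btab_s_219_235 c) (Btab_s_235_251 c) (Nat.ble 235 c)
noncomputable def Btab_s_188_251 (c : Nat) : Nat := @Bool.rec (fun _ => Nat) (Btab_s_188_219 c) (Btab_s_219_251 c) (Nat.ble 219 c)
noncomputable def Btab_s_125_251 (c : Nat) : Nat := @Bool.rec (fun _ => Nat) (Btab_s_125_188 c) (Btab_s_188_251 c) (Nat.ble 188 c)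
noncomputable def Btab_s_0_251 (c : Nat) : Nat := @Bool.rec (fun _ => Nat) (Btab_s_0_125 c) (Btab_s_125_251 c) (Nat.ble 125 c)
noncomputable def Btab_s_252_254 (c : Nat) : Nat := @Bool.rec (fun _ => Nat) (Btab_252) (Btab_253) (Nat.ble 253 c)
noncomputable def Btab_s_251_254 (c : Nat) : Nat := @Bool.rec (fun _ => Nat) (Btab_251) (Btab_s_252_254 c) (Nat.ble 252 c)
noncomputable def Btab_s_254_256 (c : Nat) : Nat := @Bool.rec (fun _ => Nat) (Btab_254) (Btab_255) (Nat.ble 255 c)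
noncomputable def Btab_s_256_258 (c : Nat) : Nat := @Bool.rec (fun _ => Nat) (Btab_256) (Btab_257) (Nat.ble 257 c)
noncomputable def Btab_s_254_258 (c : Nat) : Nat := @Bool.rec (fun _ => Nat) (Btab_s_254_256 c) (Btab_s_256_258 c) (Nat.ble 256 c)
noncomputable def Btab_s_251_258 (c : Nat) : Nat := @Bool.rec (fun _ => Nat) (Btab_s_251_254 c) (Btab_s_254_258 c) (Nat.ble 254 c)
noncomputable def Btab_s_258_260 (c : Nat) : Nat := @Bool.rec (fun _ => Nat) (Btab_258) (Btab_259) (Nat.ble 259 c)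
noncomputable def Btab_s_260_262 (c : Nat) : Nat := @Bool.rec (fun _ => Nat) (Btab_260) (Btab_261) (Nat.ble 261 c)
noncomputable def Btab_s_258_262 (c : Nat) : Nat := @Bool.rec (fun _ => Nat) (Btab_s_258_260 c) (Btab_s_260_262 c) (Nat.ble 260 c)
noncomputable def Btab_s_262_264 (c : Nat) : Nat := @Bool.rec (fun _ => Nat) (Btab_262) (Btab_263) (Nat.ble 263 c)
noncomputable def Btab_s_264_266 (c : Nat) : Nat := @Bool.rec (fun _ => Nat) (Btab_264) (Btab_265) (Nat.ble 265 c)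
noncomputable def Btab_s_262_266 (c : Nat) : Nat := @Bool.rec (fun _ => Nat) (Btab_s_262_264 c) (Btab_s_264_266 c) (Nat.ble 264 c)
noncomputable def Btab_s_258_266 (c : Nat) : Nat := @Bool.rec (fun _ => Nat) (Btab_s_258_262 c) (Btab_s_262_266 c) (Nat.ble 262 c)
noncomputable def Btab_s_251_266 (c : Nat) : Nat := @Bool.rec (fun _ => Nat) (Btab_s_251_258 c) (Btab_s_258_266 c) (Nat.ble 258 c)
noncomputable def Btab_s_266_268 (c : Nat) : Nat := @Bool.rec (fun _ => Nat) (Btab_266) (Btab_267) (Nat.ble 267 c)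
noncomputable def Btab_s_268_270 (c : Nat) : Nat := @Bool.rec (fun _ => Nat) (Btab_268) (Btab_269) (Nat.ble 269 c)
noncomputable def Btab_s_266_270 (c : Nat) : Nat := @Bool.rec (fun _ => Nat) (Btab_s_266_268 c) (Btab_s_268_270 c) (Nat.ble 268 c)
noncomputable def Btab_s_270_272 (c : Nat) : Nat := @Bool.rec (fun _ => Nat) (Btab_270) (Btab_271) (Nat.ble 271 c)
noncomputable def Btab_s_272_274 (c : Nat) : Nat := @Bool.rec (fun _ => Nat) (Btab_272) (Btab_273) (Nat.ble 273 c)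
noncomputable def Btab_s_270_274 (c : Nat) : Nat := @Bool.rec (fun _ => Nat) (Btab_s_270_272 c) (Btab_s_272_274 c) (Nat.ble 272 c)
noncomputable def Btab_s_266_274 (c : Nat) : Nat := @Bool.rec (fun _ => Nat) (Btab_s_266_270 c) (Btab_s_270_274 c) (Nat.ble 270 c)
noncomputable def Btab_s_274_276 (c : Nat) : Nat := @Bool.rec (fun _ => Nat) (Btab_274) (Btab_275) (Nat.ble 275 c)
noncomputable def Btab_s_276_278 (c : Nat) : Nat := @Bool.rec (fun _ => Nat) (Btab_276) (Btab_277) (Nat.ble 277 c)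
noncomputable def Btab_s_274_278 (c : Nat) : Nat := @Bool.rec (fun _ => Nat) (Btab_s_274_276 c) (Btab_s_276_278 c) (Nat.ble 276 c)
noncomputable def Btab_s_278_280 (c : Nat) : Nat := @Bool.rec (fun _ => Nat) (Btab_278) (Btab_279) (Nat.ble 279 c)
noncomputable def Btab_s_280_282 (c : Nat) : Nat := @Bool.rec (fun _ => Nat) (Btab_280) (Btab_281) (Nat.ble 281 c)
noncomputable def Btab_s_278_282 (c : Nat) : Nat := @Bool.rec (fun _ => Nat) (Btab_s_278_280 c) (Btab_s_280_282 c) (Nat.ble 280 c)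
noncomputable def Btab_s_274_282 (c : Nat) : Nat := @Bool.rec (fun _ => Nat) (Btab_s_274_278 c) (Btab_s_278_282 c) (Nat.ble 278 c)
noncomputable def Btab_s_266_282 (c : Nat) : Nat := @Bool.rec (fun _ => Nat) (Btab_s_266_274 c) (Btab_s_274_282 c) (Nat.ble 274 c)
noncomputable def Btab_s_251_282 (c : Nat) : Nat := @Bool.rec (fun _ => Nat) (Btab_s_251_266 c) (Btab_s_266_282 c) (Nat.ble 266 c)
noncomputable def Btab_s_283_285 (c : Nat) : Nat := @Bool.rec (fun _ => Nat) (Btab_283) (Btab_284) (Nat.ble 284 c)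
noncomputable def Btab_s_282_285 (c : Nat) : Nat := @Bool.rec (fun _ => Nat) (Btab_282) (Btab_s_283_285 c) (Nat.ble 283 c)
noncomputable def Btab_s_285_287 (c : Nat) : Nat := @Bool.rec (fun _ => Nat) (Btab_285) (Btab_286) (Nat.ble 286 c)
noncomputable def Btab_s_287_289 (c : Nat) : Nat := @Bool.rec (fun _ => Nat) (Btab_287) (Btab_288) (Nat.ble 288 c)
noncomputable def Btab_s_285_289 (c : Nat) : Nat := @Bool.rec (fun _ => Nat) (Btab_s_285_287 c) (Btab_s_287_289 c) (Nat.ble 287 c)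
noncomputable def Btab_s_282_289 (c : Nat) : Nat := @Bool.rec (fun _ => Nat) (Btab_s_282_285 c) (Btab_s_285_289 c) (Nat.ble 285 c)
noncomputable def Btab_s_289_291 (c : Nat) : Nat := @Bool.rec (fun _ => Nat) (Btab_289) (Btab_290) (Nat.ble 290 c)
noncomputable def Btab_s_291_293 (c : Nat) : Nat := @Bool.rec (fun _ => Nat) (Btab_291) (Btab_292) (Nat.ble 292 c)
noncomputable def Btab_s_289_293 (c : Nat) : Nat := @Bool.rec (fun _ => Nat) (Btab_s_289_291 c) (Btab_s_291_293 c) (Nat.ble 291 c)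
noncomputable def Btab_s_293_295 (c : Nat) : Nat := @Bool.rec (fun _ => Nat) (Btab_293) (Btab_294) (Nat.ble 294 c)
noncomputable def Btab_s_295_297 (c : Nat) : Nat := @Bool.rec (fun _ => Nat) (Btab_295) (Btab_296) (Nat.ble 296 c)
noncomputable def Btab_s_293_297 (c : Nat) : Nat := @Bool.rec (fun _ => Nat) (Btab_s_293_295 c) (Btab_s_295_297 c) (Nat.ble 295 c)
noncomputable def Btab_s_289_297 (c : Nat) : Nat := @Bool.rec (fun _ => Nat) (Btab_s_289_293 c) (Btab_s_293_297 c) (Nat.ble 293 c)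
noncomputable def Btab_s_282_297 (c : Nat) : Nat := @Bool.rec (fun _ => Nat) (Btab_s_282_289 c) (Btab_s_289_297 c) (Nat.ble 289 c)
noncomputable def Btab_s_297_299 (c : Nat) : Nat := @Bool.rec (fun _ => Nat) (Btab_297) (Btab_298) (Nat.ble 298 c)
noncomputable def Btab_s_299_301 (c : Nat) : Nat := @Bool.rec (fun _ => Nat) (Btab_299) (Btab_300) (Nat.ble 300 c)
noncomputable def Btab_s_297_301 (c : Nat) : Nat := @Bool.rec (fun _ => Nat) (Btab_s_297_299 c) (Btab_s_299_301 c) (Nat.ble 299 c)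
noncomputable def Btab_s_301_303 (c : Nat) : Nat := @Bool.rec (fun _ => Nat) (Btab_301) (Btab_302) (Nat.ble 302 c)
noncomputable def Btab_s_303_305 (c : Nat) : Nat := @Bool.rec (fun _ => Nat) (Btab_303) (Btab_304) (Nat.ble 304 c)
noncomputable def Btab_s_301_305 (c : Nat) : Nat := @Bool.rec (fun _ => Nat) (Btab_s_301_303 c) (Btab_s_303_305 c) (Nat.ble 303 c)
noncomputable def Btab_s_297_305 (c : Nat) : Nat := @Bool.rec (fun _ => Nat) (Btab_s_297_301 c) (Btab_s_301_305 c) (Nat.ble 301 c)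
noncomputable def Btab_s_305_307 (c : Nat) : Nat := @Bool.rec (fun _ => Nat) (Btab_305) (Btab_306) (Nat.ble 306 c)
noncomputable def Btab_s_307_309 (c : Nat) : Nat := @Bool.rec (fun _ => Nat) (Btab_307) (Btab_308) (Nat.ble 308 c)
noncomputable def Btab_s_305_309 (c : Nat) : Nat := @Bool.rec (fun _ => Nat) (Btab_s_305_307 c) (Btab_s_307_309 c) (Nat.ble 307 c)
noncomputable def Btab_s_309_311 (c : Nat) : Nat := @Bool.rec (fun _ => Nat) (Btab_309) (Btab_310) (Nat.ble 310 c)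
noncomputable def Btab_s_311_313 (c : Nat) : Nat := @Bool.rec (fun _ => Nat) (Btab_311) (Btab_312) (Nat.ble 312 c)
noncomputable def Btab_s_309_313 (c : Nat) : Nat := @Bool.rec (fun _ => Nat) (Btab_s_309_311 c) (Btab_s_311_313 c) (Nat.ble 311 c)
noncomputable def Btab_s_305_313 (c : Nat) : Nat := @Bool.rec (fun _ => Nat) (Btab_s_305_309 c) (Btab_s_309_313 c) (Nat.ble 309 c)
noncomputable def Btab_s_297_313 (c : Nat) : Nat := @Bool.rec (fun _ => Nat) (Btab_s_297_305 c) (Btab_s_305_313 c) (Nat.ble 305 c)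
noncomputable def Btab_s_282_313 (c : Nat) : Nat := @Bool.rec (fun _ => Nat) (Btab_s_282_297 c) (Btab_s_297_313 c) (Nat.ble 297 c)
noncomputable def Btab_s_251_313 (c : Nat) : Nat := @Bool.rec (fun _ => Nat) (Btab_s_251_282 c) (Btab_s_282_313 c) (Nat.ble 282 c)
noncomputable def Btab_s_314_316 (c : Nat) : Nat := @Bool.rec (fun _ => Nat) (Btab_314) (Btab_315) (Nat.ble 315 c)
noncomputable def Btab_s_313_316 (c : Nat) : Nat := @Bool.rec (fun _ => Nat) (Btab_313) (Btab_s_314_316 c) (Nat.ble 314 c)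
noncomputable def Btab_s_316_318 (c : Nat) : Nat := @Bool.rec (fun _ => Nat) (Btab_316) (Btab_317) (Nat.ble 317 c)
noncomputable def Btab_s_318_320 (c : Nat) : Nat := @Bool.rec (fun _ => Nat) (Btab_318) (Btab_319) (Nat.ble 319 c)
noncomputable def Btab_s_316_320 (c : Nat) : Nat := @Bool.rec (fun _ => Nat) (Btab_s_316_318 c) (Btab_s_318_320 c) (Nat.ble 318 c)
noncomputable def Btab_s_313_320 (c : Nat) : Nat := @Bool.rec (fun _ => Nat) (Btab_s_313_316 c) (Btab_s_316_320 c) (Nat.ble 316 c)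
noncomputable def Btab_s_320_322 (c : Nat) : Nat := @Bool.rec (fun _ => Nat) (Btab_320) (Btab_321) (Nat.ble 321 c)
noncomputable def Btab_s_322_324 (c : Nat) : Nat := @Bool.rec (fun _ => Nat) (Btab_322) (Btab_323) (Nat.ble 323 c)
noncomputable def Btab_s_320_324 (c : Nat) : Nat := @Bool.rec (fun _ => Nat) (Btab_s_320_322 c) (Btab_s_322_324 c) (Nat.ble 322 c)
noncomputable def Btab_s_324_326 (c : Nat) : Nat := @Bool.rec (fun _ => Nat) (Btab_324) (Btab_325) (Nat.ble 325 c)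
noncomputable def Btab_s_326_328 (c : Nat) : Nat := @Bool.rec (fun _ => Nat) (Btab_326) (Btab_327) (Nat.ble 327 c)
noncomputable def Btab_s_324_328 (c : Nat) : Nat := @Bool.rec (fun _ => Nat) (Btab_s_324_326 c) (Btab_s_326_328 c) (Nat.ble 326 c)
noncomputable def Btab_s_320_328 (c : Nat) : Nat := @Bool.rec (fun _ => Nat) (Btab_s_320_324 c) (Btab_s_324_328 c) (Nat.ble 324 c)
noncomputable def Btab_s_313_328 (c : Nat) : Nat := @Bool.rec (fun _ => Nat) (Btab_s_313_320 c) (Btab_s_320_328 c) (Nat.ble 320 c)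
noncomputable def Btab_s_328_330 (c : Nat) : Nat := @Bool.rec (fun _ => Nat) (Btab_328) (Btab_329) (Nat.ble 329 c)
noncomputable def Btab_s_330_332 (c : Nat) : Nat := @Bool.rec (fun _ => Nat) (Btab_330) (Btab_331) (Nat.ble 331 c)
noncomputable def Btab_s_328_332 (c : Nat) : Nat := @Bool.rec (fun _ => Nat) (Btab_s_328_330 c) (Btab_s_330_332 c) (Nat.ble 330 c)
noncomputable def Btab_s_332_334 (c : Nat) : Nat := @Bool.rec (fun _ => Nat) (Btab_332) (Btab_333) (Nat.ble 333 c)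
noncomputable def Btab_s_334_336 (c : Nat) : Nat := @Bool.rec (fun _ => Nat) (Btab_334) (Btab_335) (Nat.ble 335 c)
noncomputable def Btab_s_332_336 (c : Nat) : Nat := @Bool.rec (fun _ => Nat) (Btab_s_332_334 c) (Btab_s_334_336 c) (Nat.ble 334 c)
noncomputable def Btab_s_328_336 (c : Nat) : Nat := @Bool.rec (fun _ => Nat) (Btab_s_328_332 c) (Btab_s_332_336 c) (Nat.ble 332 c)
noncomputable def Btab_s_336_338 (c : Nat) : Nat := @Bool.rec (fun _ => Nat) (Btab_336) (Btab_337) (Nat.ble 337 c)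
noncomputable def Btab_s_338_340 (c : Nat) : Nat := @Bool.rec (fun _ => Nat) (Btab_338) (Btab_339) (Nat.ble 339 c)
noncomputable def Btab_s_336_340 (c : Nat) : Nat := @Bool.rec (fun _ => Nat) (Btab_s_336_338 c) (Btab_s_338_340 c) (Nat.ble 338 c)
noncomputable def Btab_s_340_342 (c : Nat) : Nat := @Bool.rec (fun _ => Nat) (Btab_340) (Btab_341) (Nat.ble 341 c)
noncomputable def Btab_s_342_344 (c : Nat) : Nat := @Bool.rec (fun _ => Nat) (Btab_342) (Btab_343) (Nat.ble 343 c)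
noncomputable def Btab_s_340_344 (c : Nat) : Nat := @Bool.rec (fun _ => Nat) (Btab_s_340_342 c) (Btab_s_342_344 c) (Nat.ble 342 c)
noncomputable def Btab_s_336_344 (c : Nat) : Nat := @Bool.rec (fun _ => Nat) (Btab_s_336_340 c) (Btab_s_340_344 c) (Nat.ble 340 c)
noncomputable def Btab_s_328_344 (c : Nat) : Nat := @Bool.rec (fun _ => Nat) (Btab_s_328_336 c) (Btab_s_336_344 c) (Nat.ble 336 c)
noncomputable def Btab_s_313_344 (c : Nat) : Nat := @Bool.rec (fun _ => Nat) (Btab_s_313_328 c) (Btab_s_328_344 c) (Nat.ble 328 c)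
noncomputable def Btab_s_344_346 (c : Nat) : Nat := @Bool.rec (fun _ => Nat) (Btab_344) (Btab_345) (Nat.ble 345 c)
noncomputable def Btab_s_346_348 (c : Nat) : Nat := @Bool.rec (fun _ => Nat) (Btab_346) (Btab_347) (Nat.ble 347 c)
noncomputable def Btab_s_344_348 (c : Nat) : Nat := @Bool.rec (fun _ => Nat) (Btab_s_344_346 c) (Btab_s_346_348 c) (Nat.ble 346 c)
noncomputable def Btab_s_348_350 (c : Nat) : Nat := @Bool.rec (fun _ => Nat) (Btab_348) (Btab_349) (Nat.ble 349 c)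
noncomputable def Btab_s_350_352 (c : Nat) : Nat := @Bool.rec (fun _ => Nat) (Btab_350) (Btab_351) (Nat.ble 351 c)
noncomputable def Btab_s_348_352 (c : Nat) : Nat := @Bool.rec (fun _ => Nat) (Btab_s_348_350 c) (Btab_s_350_352 c) (Nat.ble 350 c)
noncomputable def Btab_s_344_352 (c : Nat) : Nat := @Bool.rec (fun _ => Nat) (Btab_s_344_348 c) (Btab_s_348_352 c) (Nat.ble 348 c)
noncomputable def Btab_s_352_354 (c : Nat) : Nat := @Bool.rec (fun _ => Nat) (Btab_352) (Btab_353) (Nat.ble 353 c)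
noncomputable def Btab_s_354_356 (c : Nat) : Nat := @Bool.rec (fun _ => Nat) (Btab_354) (Btab_355) (Nat.ble 355 c)
noncomputable def Btab_s_352_356 (c : Nat) : Nat := @Bool.rec (fun _ => Nat) (Btab_s_352_354 c) (Btab_s_354_356 c) (Nat.ble 354 c)
noncomputable def Btab_s_356_358 (c : Nat) : Nat := @Bool.rec (fun _ => Nat) (Btab_356) (Btab_357) (Nat.ble 357 c)
noncomputable def Btab_s_358_360 (c : Nat) : Nat := @Bool.rec (fun _ => Nat) (Btab_358) (Btab_359) (Nat.ble 359 c)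
noncomputable def Btab_s_356_360 (c : Nat) : Nat := @Bool.rec (fun _ => Nat) (Btab_s_356_358 c) (Btab_s_358_360 c) (Nat.ble 358 c)
noncomputable def Btab_s_352_360 (c : Nat) : Nat := @Bool.rec (fun _ => Nat) (Btab_s_352_356 c) (Btab_s_356_360 c) (Nat.ble 356 c)
noncomputable def Btab_s_344_360 (c : Nat) : Nat := @Bool.rec (fun _ => Nat) (Btab_s_344_352 c) (Btab_s_352_360 c) (Nat.ble 352 c)
noncomputable def Btab_s_360_362 (c : Nat) : Nat := @Bool.rec (fun _ => Nat) (Btab_360) (Btab_361) (Nat.ble 361 c)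
noncomputable def Btab_s_362_364 (c : Nat) : Nat := @Bool.rec (fun _ => Nat) (Btab_362) (Btab_363) (Nat.ble 363 c)
noncomputable def Btab_s_360_364 (c : Nat) : Nat := @Bool.rec (fun _ => Nat) (Btab_s_360_362 c) (Btab_s_362_364 c) (Nat.ble 362 c)
noncomputable def Btab_s_364_366 (c : Nat) : Nat := @Bool.rec (fun _ => Nat) (Btab_364) (Btab_365) (Nat.ble 365 c)
noncomputable def Btab_s_366_368 (c : Nat) : Nat := @Bool.rec (fun _ => Nat) (Btab_366) (Btab_367) (Nat.ble 367 c)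
noncomputable def Btab_s_364_368 (c : Nat) : Nat := @Bool.rec (fun _ => Nat) (Btab_s_364_366 c) (Btab_s_366_368 c) (Nat.ble 366 c)
noncomputable def Btab_s_360_368 (c : Nat) : Nat := @Bool.rec (fun _ => Nat) (Btab_s_360_364 c) (Btab_s_364_368 c) (Nat.ble 364 c)
noncomputable def Btab_s_368_370 (c : Nat) : Nat := @Bool.rec (fun _ => Nat) (Btab_368) (Btab_369) (Nat.ble 369 c)
noncomputable def Btab_s_370_372 (c : Nat) : Nat := @Bool.rec (fun _ => Nat) (Btab_370) (Btab_371) (Nat.ble 371 c)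
noncomputable def Btab_s_368_372 (c : Nat) : Nat := @Bool.rec (fun _ => Nat) (Btab_s_368_370 c) (Btab_s_370_372 c) (Nat.ble 370 c)
noncomputable def Btab_s_372_374 (c : Nat) : Nat := @Bool.rec (fun _ => Nat) (Btab_372) (Btab_373) (Nat.ble 373 c)
noncomputable def Btab_s_374_376 (c : Nat) : Nat := @Bool.rec (fun _ => Nat) (Btab_374) (Btab_375) (Nat.ble 375 c)
noncomputable def Btab_s_372_376 (c : Nat) : Nat := @Bool.rec (fun _ => Nat) (Btab_s_372_374 c) (Btab_s_374_376 c) (Nat.ble 374 c)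
noncomputable def Btab_s_368_376 (c : Nat) : Nat := @Bool.rec (fun _ => Nat) (Btab_s_368_372 c) (Btab_s_372_376 c) (Nat.ble 372 c)
noncomputable def Btab_s_360_376 (c : Nat) : Nat := @Bool.rec (fun _ => Nat) (Btab_s_360_368 c) (Btab_s_368_376 c) (Nat.ble 368 c)
noncomputable def Btab_s_344_376 (c : Nat) : Nat := @Bool.rec (fun _ => Nat) (Btab_s_344_360 c) (Btab_s_360_376 c) (Nat.ble 360 c)
noncomputable def Btab_s_313_376 (c : Nat) : Nat := @Bool.rec (fun _ => Nat) (Btab_s_313_344 c) (Btab_s_344_376 c) (Nat.ble 344 c)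
noncomputable def Btab_s_251_376 (c : Nat) : Nat := @Bool.rec (fun _ => Nat) (Btab_s_251_313 c) (Btab_s_313_376 c) (Nat.ble 313 c)
noncomputable def Btab_s_377_379 (c : Nat) : Nat := @Bool.rec (fun _ => Nat) (Btab_377) (Btab_378) (Nat.ble 378 c)
noncomputable def Btab_s_376_379 (c : Nat) : Nat := @Bool.rec (fun _ => Nat) (Btab_376) (Btab_s_377_379 c) (Nat.ble 377 c)
noncomputable def Btab_s_379_381 (c : Nat) : Nat := @Bool.rec (fun _ => Nat) (Btab_379) (Btab_380) (Nat.ble 380 c)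
noncomputable def Btab_s_381_383 (c : Nat) : Nat := @Bool.rec (fun _ => Nat) (Btab_381) (Btab_382) (Nat.ble 382 c)
noncomputable def Btab_s_379_383 (c : Nat) : Nat := @Bool.rec (fun _ => Nat) (Btab_s_379_381 c) (Btab_s_381_383 c) (Nat.ble 381 c)
noncomputable def Btab_s_376_383 (c : Nat) : Nat := @Bool.rec (fun _ => Nat) (Btab_s_376_379 c) (Btab_s_379_383 c) (Nat.ble 379 c)
noncomputable def Btab_s_383_385 (c : Nat) : Nat := @Bool.rec (fun _ => Nat) (Btab_383) (Btab_384) (Nat.ble 384 c)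
noncomputable def Btab_s_385_387 (c : Nat) : Nat := @Bool.rec (fun _ => Nat) (Btab_385) (Btab_386) (Nat.ble 386 c)
noncomputable def Btab_s_383_387 (c : Nat) : Nat := @Bool.rec (fun _ => Nat) (Btab_s_383_385 c) (Btab_s_385_387 c) (Nat.ble 385 c)
noncomputable def Btab_s_387_389 (c : Nat) : Nat := @Bool.rec (fun _ => Nat) (Btab_387) (Btab_388) (Nat.ble 388 c)
noncomputable def Btab_s_389_391 (c : Nat) : Nat := @Bool.rec (fun _ => Nat) (Btab_389) (Btab_390) (Nat.ble 390 c)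
noncomputable def Btab_s_387_391 (c : Nat) : Nat := @Bool.rec (fun _ => Nat) (Btab_s_387_389 c) (Btab_s_389_391 c) (Nat.ble 389 c)
noncomputable def Btab_s_383_391 (c : Nat) : Nat := @Bool.rec (fun _ => Nat) (Btab_s_383_387 c) (Btab_s_387_391 c) (Nat.ble 387 c)
noncomputable def Btab_s_376_391 (c : Nat) : Nat := @Bool.rec (fun _ => Nat) (Btab_s_376_383 c) (Btab_s_383_391 c) (Nat.ble 383 c)
noncomputable def Btab_s_391_393 (c : Nat) : Nat := @Bool.rec (fun _ => Nat) (Btab_391) (Btab_392) (Nat.ble 392 c)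
noncomputable def Btab_s_393_395 (c : Nat) : Nat := @Bool.rec (fun _ => Nat) (Btab_393) (Btab_394) (Nat.ble 394 c)
noncomputable def Btab_s_391_395 (c : Nat) : Nat := @Bool.rec (fun _ => Nat) (Btab_s_391_393 c) (Btab_s_393_395 c) (Nat.ble 393 c)
noncomputable def Btab_s_395_397 (c : Nat) : Nat := @Bool.rec (fun _ => Nat) (Btab_395) (Btab_396) (Nat.ble 396 c)
noncomputable def Btab_s_397_399 (c : Nat) : Nat := @Bool.rec (fun _ => Nat) (Btab_397) (Btab_398) (Nat.ble 398 c)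
noncomputable def Btab_s_395_399 (c : Nat) : Nat := @Bool.rec (fun _ => Nat) (Btab_s_395_397 c) (Btab_s_397_399 c) (Nat.ble 397 c)
noncomputable def Btab_s_391_399 (c : Nat) : Nat := @Bool.rec (fun _ => Nat) (Btab_s_391_395 c) (Btab_s_395_399 c) (Nat.ble 395 c)
noncomputable def Btab_s_399_401 (c : Nat) : Nat := @Bool.rec (fun _ => Nat) (Btab_399) (Btab_400) (Nat.ble 400 c)
noncomputable def Btab_s_401_403 (c : Nat) : Nat := @Bool.rec (fun _ => Nat) (Btab_401) (Btab_402) (Nat.ble 402 c)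
noncomputable def Btab_s_399_403 (c : Nat) : Nat := @Bool.rec (fun _ => Nat) (Btab_s_399_401 c) (Btab_s_401_403 c) (Nat.ble 401 c)
noncomputable def Btab_s_403_405 (c : Nat) : Nat := @Bool.rec (fun _ => Nat) (Btab_403) (Btab_404) (Nat.ble 404 c)
noncomputable def Btab_s_405_407 (c : Nat) : Nat := @Bool.rec (fun _ => Nat) (Btab_405) (Btab_406) (Nat.ble 406 c)
noncomputable def Btab_s_403_407 (c : Nat) : Nat := @Bool.rec (fun _ => Nat) (Btab_s_403_405 c) (Btab_s_405_407 c) (Nat.ble 405 c)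
noncomputable def Btab_s_399_407 (c : Nat) : Nat := @Bool.rec (fun _ => Nat) (Btab_s_399_403 c) (Btab_s_403_407 c) (Nat.ble 403 c)
noncomputable def Btab_s_391_407 (c : Nat) : Nat := @Bool.rec (fun _ => Nat) (Btab_s_391_399 c) (Btab_s_399_407 c) (Nat.ble 399 c)
noncomputable def Btab_s_376_407 (c : Nat) : Nat := @Bool.rec (fun _ => Nat) (Btab_s_376_391 c) (Btab_s_391_407 c) (Nat.ble 391 c)
noncomputable def Btab_s_407_409 (c : Nat) : Nat := @Bool.rec (fun _ => Nat) (Btab_407) (Btab_408) (Nat.ble 408 c)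
noncomputable def Btab_s_409_411 (c : Nat) : Nat := @Bool.rec (fun _ => Nat) (Btab_409) (Btab_410) (Nat.ble 410 c)
noncomputable def Btab_s_407_411 (c : Nat) : Nat := @Bool.rec (fun _ => Nat) (Btab_s_407_409 c) (Btab_s_409_411 c) (Nat.ble 409 c)
noncomputable def Btab_s_411_413 (c : Nat) : Nat := @Bool.rec (fun _ => Nat) (Btab_411) (Btab_412) (Nat.ble 412 c)
noncomputable def Btab_s_413_415 (c : Nat) : Nat := @Bool.rec (fun _ => Nat) (Btab_413) (Btab_414) (Nat.ble 414 c)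
noncomputable def Btab_s_411_415 (c : Nat) : Nat := @Bool.rec (fun _ => Nat) (Btab_s_411_413 c) (Btab_s_413_415 c) (Nat.ble 413 c)
noncomputable def Btab_s_407_415 (c : Nat) : Nat := @Bool.rec (fun _ => Nat) (Btab_s_407_411 c) (Btab_s_411_415 c) (Nat.ble 411 c)
noncomputable def Btab_s_415_417 (c : Nat) : Nat := @Bool.rec (fun _ => Nat) (Btab_415) (Btab_416) (Nat.ble 416 c)
noncomputable def Btab_s_417_419 (c : Nat) : Nat := @Bool.rec (fun _ => Nat) (Btab_417) (Btab_418) (Nat.ble 418 c)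
noncomputable def Btab_s_415_419 (c : Nat) : Nat := @Bool.rec (fun _ => Nat) (Btab_s_415_417 c) (Btab_s_417_419 c) (Nat.ble 417 c)
noncomputable def Btab_s_419_421 (c : Nat) : Nat := @Bool.rec (fun _ => Nat) (Btab_419) (Btab_420) (Nat.ble 420 c)
noncomputable def Btab_s_421_423 (c : Nat) : Nat := @Bool.rec (fun _ => Nat) (Btab_421) (Btab_422) (Nat.ble 422 c)
noncomputable def Btab_s_419_423 (c : Nat) : Nat := @Bool.rec (fun _ => Nat) (Btab_s_419_421 c) (Btab_s_421_423 c) (Nat.ble 421 c)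
noncomputable def Btab_s_415_423 (c : Nat) : Nat := @Bool.rec (fun _ => Nat) (Btab_s_415_419 c) (Btab_s_419_423 c) (Nat.ble 419 c)
noncomputable def Btab_s_407_423 (c : Nat) : Nat := @Bool.rec (fun _ => Nat) (Btab_s_407_415 c) (Btab_s_415_423 c) (Nat.ble 415 c)
noncomputable def Btab_s_423_425 (c : Nat) : Nat := @Bool.rec (fun _ => Nat) (Btab_423) (Btab_424) (Nat.ble 424 c)
noncomputable def Btab_s_425_427 (c : Nat) : Nat := @Bool.rec (fun _ => Nat) (Btab_425) (Btab_426) (Nat.ble 426 c)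
noncomputable def Btab_s_423_427 (c : Nat) : Nat := @Bool.rec (fun _ => Nat) (Btab_s_423_425 c) (Btab_s_425_427 c) (Nat.ble 425 c)
noncomputable def Btab_s_427_429 (c : Nat) : Nat := @Bool.rec (fun _ => Nat) (Btab_427) (Btab_428) (Nat.ble 428 c)
noncomputable def Btab_s_429_431 (c : Nat) : Nat := @Bool.rec (fun _ => Nat) (Btab_429) (Btab_430) (Nat.ble 430 c)
noncomputable def Btab_s_427_431 (c : Nat) : Nat := @Bool.rec (fun _ => Nat) (Btab_s_427_429 c) (Btab_s_429_431 c) (Nat.ble 429 c)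
noncomputable def Btab_s_423_431 (c : Nat) : Nat := @Bool.rec (fun _ => Nat) (Btab_s_423_427 c) (Btab_s_427_431 c) (Nat.ble 427 c)
noncomputable def Btab_s_431_433 (c : Nat) : Nat := @Bool.rec (fun _ => Nat) (Btab_431) (Btab_432) (Nat.ble 432 c)
noncomputable def Btab_s_433_435 (c : Nat) : Nat := @Bool.rec (fun _ => Nat) (Btab_433) (Btab_434) (Nat.ble 434 c)
noncomputable def Btab_s_431_435 (c : Nat) : Nat := @Bool.rec (fun _ => Nat) (Btab_s_431_433 c) (Btab_s_433_435 c) (Nat.ble 433 c)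
noncomputable def Btab_s_435_437 (c : Nat) : Nat := @Bool.rec (fun _ => Nat) (Btab_435) (Btab_436) (Nat.ble 436 c)
noncomputable def Btab_s_437_439 (c : Nat) : Nat := @Bool.rec (fun _ => Nat) (Btab_437) (Btab_438) (Nat.ble 438 c)
noncomputable def Btab_s_435_439 (c : Nat) : Nat := @Bool.rec (fun _ => Nat) (Btab_s_435_437 c) (Btab_s_437_439 c) (Nat.ble 437 c)
noncomputable def Btab_s_431_439 (c : Nat) : Nat := @Bool.rec (fun _ => Nat) (Btab_s_431_435 c) (Btab_s_435_439 c) (Nat.ble 435 c)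
noncomputable def Btab_s_423_439 (c : Nat) : Nat := @Bool.rec (fun _ => Nat) (Btab_s_423_431 c) (Btab_s_431_439 c) (Nat.ble 431 c)
noncomputable def Btab_s_407_439 (c : Nat) : Nat := @Bool.rec (fun _ => Nat) (Btab_s_407_423 c) (Btab_s_423_439 c) (Nat.ble 423 c)
noncomputable def Btab_s_376_439 (c : Nat) : Nat := @Bool.rec (fun _ => Nat) (Btab_s_376_407 c) (Btab_s_407_439 c) (Nat.ble 407 c)
noncomputable def Btab_s_440_442 (c : Nat) : Nat := @Bool.rec (fun _ => Nat) (Btab_440) (Btab_441) (Nat.ble 441 c)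
noncomputable def Btab_s_439_442 (c : Nat) : Nat := @Bool.rec (fun _ => Nat) (Btab_439) (Btab_s_440_442 c) (Nat.ble 440 c)
noncomputable def Btab_s_442_444 (c : Nat) : Nat := @Bool.rec (fun _ => Nat) (Btab_442) (Btab_443) (Nat.ble 443 c)
noncomputable def Btab_s_444_446 (c : Nat) : Nat := @Bool.rec (fun _ => Nat) (Btab_444) (Btab_445) (Nat.ble 445 c)
noncomputable def Btab_s_442_446 (c : Nat) : Nat := @Bool.rec (fun _ => Nat) (Btab_s_442_444 c) (Btab_s_444_446 c) (Nat.ble 444 c)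
noncomputable def Btab_s_439_446 (c : Nat) : Nat := @Bool.rec (fun _ => Nat) (Btab_s_439_442 c) (Btab_s_442_446 c) (Nat.ble 442 c)
noncomputable def Btab_s_446_448 (c : Nat) : Nat := @Bool.rec (fun _ => Nat) (Btab_446) (Btab_447) (Nat.ble 447 c)
noncomputable def Btab_s_448_450 (c : Nat) : Nat := @Bool.rec (fun _ => Nat) (Btab_448) (Btab_449) (Nat.ble 449 c)
noncomputable def Btab_s_446_450 (c : Nat) : Nat := @Bool.rec (fun _ => Nat) (Btab_s_446_448 c) (Btab_s_448_450 c) (Nat.ble 448 c)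
noncomputable def Btab_s_450_452 (c : Nat) : Nat := @Bool.rec (fun _ => Nat) (Btab_450) (Btab_451) (Nat.ble 451 c)
noncomputable def Btab_s_452_454 (c : Nat) : Nat := @Bool.rec (fun _ => Nat) (Btab_452) (Btab_453) (Nat.ble 453 c)
noncomputable def Btab_s_450_454 (c : Nat) : Nat := @Bool.rec (fun _ => Nat) (Btab_s_450_452 c) (Btab_s_452_454 c) (Nat.ble 452 c)
noncomputable def Btab_s_446_454 (c : Nat) : Nat := @Bool.rec (fun _ => Nat) (Btab_s_446_450 c) (Btab_s_450_454 c) (Nat.ble 450 c)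
noncomputable def Btab_s_439_454 (c : Nat) : Nat := @Bool.rec (fun _ => Nat) (Btab_s_439_446 c) (Btab_s_446_454 c) (Nat.ble 446 c)
noncomputable def Btab_s_454_456 (c : Nat) : Nat := @Bool.rec (fun _ => Nat) (Btab_454) (Btab_455) (Nat.ble 455 c)
noncomputable def Btab_s_456_458 (c : Nat) : Nat := @Bool.rec (fun _ => Nat) (Btab_456) (Btab_457) (Nat.ble 457 c)
noncomputable def Btab_s_454_458 (c : Nat) : Nat := @Bool.rec (fun _ => Nat) (Btab_s_454_456 c) (Btab_s_456_458 c) (Nat.ble 456 c)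
noncomputable def Btab_s_458_460 (c : Nat) : Nat := @Bool.rec (fun _ => Nat) (Btab_458) (Btab_459) (Nat.ble 459 c)
noncomputable def Btab_s_460_462 (c : Nat) : Nat := @Bool.rec (fun _ => Nat) (Btab_460) (Btab_461) (Nat.ble 461 c)
noncomputable def Btab_s_458_462 (c : Nat) : Nat := @Bool.rec (fun _ => Nat) (Btab_s_458_460 c) (Btab_s_460_462 c) (Nat.ble 460 c)
noncomputable def Btab_s_454_462 (c : Nat) : Nat := @Bool.rec (fun _ => Nat) (Btab_s_454_458 c) (Btab_s_458_462 c) (Nat.ble 458 c)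
noncomputable def Btab_s_462_464 (c : Nat) : Nat := @Bool.rec (fun _ => Nat) (Btab_462) (Btab_463) (Nat.ble 463 c)
noncomputable def Btab_s_464_466 (c : Nat) : Nat := @Bool.rec (fun _ => Nat) (Btab_464) (Btab_465) (Nat.ble 465 c)
noncomputable def Btab_s_462_466 (c : Nat) : Nat := @Bool.rec (fun _ => Nat) (Btab_s_462_464 c) (Btab_s_464_466 c) (Nat.ble 464 c)
noncomputable def Btab_s_466_468 (c : Nat) : Nat := @Bool.rec (fun _ => Nat) (Btab_466) (Btab_467) (Nat.ble 467 c)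
noncomputable def Btab_s_468_470 (c : Nat) : Nat := @Bool.rec (fun _ => Nat) (Btab_468) (Btab_469) (Nat.ble 469 c)
noncomputable def Btab_s_466_470 (c : Nat) : Nat := @Bool.rec (fun _ => Nat) (Btab_s_466_468 c) (Btab_s_468_470 c) (Nat.ble 468 c)
noncomputable def Btab_s_462_470 (c : Nat) : Nat := @Bool.rec (fun _ => Nat) (Btab_s_462_466 c) (Btab_s_466_470 c) (Nat.ble 466 c)
noncomputable def Btab_s_454_470 (c : Nat) : Nat := @Bool.rec (fun _ => Nat) (Btab_s_454_462 c) (Btab_s_462_470 c) (Nat.ble 462 c)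
noncomputable def Btab_s_439_470 (c : Nat) : Nat := @Bool.rec (fun _ => Nat) (Btab_s_439_454 c) (Btab_s_454_470 c) (Nat.ble 454 c)
noncomputable def Btab_s_470_472 (c : Nat) : Nat := @Bool.rec (fun _ => Nat) (Btab_470) (Btab_471) (Nat.ble 471 c)
noncomputable def Btab_s_472_474 (c : Nat) : Nat := @Bool.rec (fun _ => Nat) (Btab_472) (Btab_473) (Nat.ble 473 c)
noncomputable def Btab_s_470_474 (c : Nat) : Nat := @Bool.rec (fun _ => Nat) (Btab_s_470_472 c) (Btab_s_472_474 c) (Nat.ble 472 c)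
noncomputable def Btab_s_474_476 (c : Nat) : Nat := @Bool.rec (fun _ => Nat) (Btab_474) (Btab_475) (Nat.ble 475 c)
noncomputable def Btab_s_476_478 (c : Nat) : Nat := @Bool.rec (fun _ => Nat) (Btab_476) (Btab_477) (Nat.ble 477 c)
noncomputable def Btab_s_474_478 (c : Nat) : Nat := @Bool.rec (fun _ => Nat) (Btab_s_474_476 c) (Btab_s_476_478 c) (Nat.ble 476 c)
noncomputable def Btab_s_470_478 (c : Nat) : Nat := @Bool.rec (fun _ => Nat) (Btab_s_470_474 c) (Btab_s_474_478 c) (Nat.ble 474 c)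
noncomputable def Btab_s_478_480 (c : Nat) : Nat := @Bool.rec (fun _ => Nat) (Btab_478) (Btab_479) (Nat.ble 479 c)
noncomputable def Btab_s_480_482 (c : Nat) : Nat := @Bool.rec (fun _ => Nat) (Btab_480) (Btab_481) (Nat.ble 481 c)
noncomputable def Btab_s_478_482 (c : Nat) : Nat := @Bool.rec (fun _ => Nat) (Btab_s_478_480 c) (Btab_s_480_482 c) (Nat.ble 480 c)
noncomputable def Btab_s_482_484 (c : Nat) : Nat := @Bool.rec (fun _ => Nat) (Btab_482) (Btab_483) (Nat.ble 483 c)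
noncomputable def Btab_s_484_486 (c : Nat) : Nat := @Bool.rec (fun _ => Nat) (Btab_484) (Btab_485) (Nat.ble 485 c)
noncomputable def Btab_s_482_486 (c : Nat) : Nat := @Bool.rec (fun _ => Nat) (Btab_s_482_484 c) (Btab_s_484_486 c) (Nat.ble 484 c)
noncomputable def Btab_s_478_486 (c : Nat) : Nat := @Bool.rec (fun _ => Nat) (Btab_s_478_482 c) (Btab_s_482_486 c) (Nat.ble 482 c)
noncomputable def Btab_s_470_486 (c : Nat) : Nat := @Bool.rec (fun _ => Nat) (Btab_s_470_478 c) (Btab_s_478_486 c) (Nat.ble 478 c)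
noncomputable def Btab_s_486_488 (c : Nat) : Nat := @Bool.rec (fun _ => Nat) (Btab_486) (Btab_487) (Nat.ble 487 c)
noncomputable def Btab_s_488_490 (c : Nat) : Nat := @Bool.rec (fun _ => Nat) (Btab_488) (Btab_489) (Nat.ble 489 c)
noncomputable def Btab_s_486_490 (c : Nat) : Nat := @Bool.rec (fun _ => Nat) (Btab_s_486_488 c) (Btab_s_488_490 c) (Nat.ble 488 c)
noncomputable def Btab_s_490_492 (c : Nat) : Nat := @Bool.rec (fun _ => Nat) (Btab_490) (Btab_491) (Nat.ble 491 c)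
noncomputable def Btab_s_492_494 (c : Nat) : Nat := @Bool.rec (fun _ => Nat) (Btab_492) (Btab_493) (Nat.ble 493 c)
noncomputable def Btab_s_490_494 (c : Nat) : Nat := @Bool.rec (fun _ => Nat) (Btab_s_490_492 c) (Btab_s_492_494 c) (Nat.ble 492 c)
noncomputable def Btab_s_486_494 (c : Nat) : Nat := @Bool.rec (fun _ => Nat) (Btab_s_486_490 c) (Btab_s_490_494 c) (Nat.ble 490 c)
noncomputable def Btab_s_494_496 (c : Nat) : Nat := @Bool.rec (fun _ => Nat) (Btab_494) (Btab_495) (Nat.ble 495 c)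
noncomputable def Btab_s_496_498 (c : Nat) : Nat := @Bool.rec (fun _ => Nat) (Btab_496) (Btab_497) (Nat.ble 497 c)
noncomputable def Btab_s_494_498 (c : Nat) : Nat := @Bool.rec (fun _ => Nat) (Btab_s_494_496 c) (Btab_s_496_498 c) (Nat.ble 496 c)
noncomputable def Btab_s_498_500 (c : Nat) : Nat := @Bool.rec (fun _ => Nat) (Btab_498) (Btab_499) (Nat.ble 499 c)
noncomputable def Btab_s_500_502 (c : Nat) : Nat := @Bool.rec (fun _ => Nat) (Btab_500) (Btab_501) (Nat.ble 501 c)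
noncomputable def Btab_s_498_502 (c : Nat) : Nat := @Bool.rec (fun _ => Nat) (Btab_s_498_500 c) (Btab_s_500_502 c) (Nat.ble 500 c)
noncomputable def Btab_s_494_502 (c : Nat) : Nat := @Bool.rec (fun _ => Nat) (Btab_s_494_498 c) (Btab_s_498_502 c) (Nat.ble 498 c)
noncomputable def Btab_s_486_502 (c : Nat) : Nat := @Bool.rec (fun _ => Nat) (Btab_s_486_494 c) (Btab_s_494_502 c) (Nat.ble 494 c)
noncomputable def Btab_s_470_502 (c : Nat) : Nat := @Bool.rec (fun _ => Nat) (Btab_s_470_486 c) (Btab_s_486_502 c) (Nat.ble 486 c)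
noncomputable def Btab_s_439_502 (c : Nat) : Nat := @Bool.rec (fun _ => Nat) (Btab_s_439_470 c) (Btab_s_470_502 c) (Nat.ble 470 c)
noncomputable def Btab_s_376_502 (c : Nat) : Nat := @Bool.rec (fun _ => Nat) (Btab_s_376_439 c) (Btab_s_439_502 c) (Nat.ble 439 c)
noncomputable def Btab_s_251_502 (c : Nat) : Nat := @Bool.rec (fun _ => Nat) (Btab_s_251_376 c) (Btab_s_376_502 c) (Nat.ble 376 c)
noncomputable def Btab_s_0_502 (c : Nat) : Nat := @Bool.rec (fun _ => Nat) (Btab_s_0_251 c) (Btab_s_251_502 c) (Nat.ble 251 c)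
noncomputable def Btab_s_503_505 (c : Nat) : Nat := @Bool.rec (fun _ => Nat) (Btab_503) (Btab_504) (Nat.ble 504 c)
noncomputable def Btab_s_502_505 (c : Nat) : Nat := @Bool.rec (fun _ => Nat) (Btab_502) (Btab_s_503_505 c) (Nat.ble 503 c)
noncomputable def Btab_s_505_507 (c : Nat) : Nat := @Bool.rec (fun _ => Nat) (Btab_505) (Btab_506) (Nat.ble 506 c)
noncomputable def Btab_s_507_509 (c : Nat) : Nat := @Bool.rec (fun _ => Nat) (Btab_507) (Btab_508) (Nat.ble 508 c)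
noncomputable def Btab_s_505_509 (c : Nat) : Nat := @Bool.rec (fun _ => Nat) (Btab_s_505_507 c) (Btab_s_507_509 c) (Nat.ble 507 c)
noncomputable def Btab_s_502_509 (c : Nat) : Nat := @Bool.rec (fun _ => Nat) (Btab_s_502_505 c) (Btab_s_505_509 c) (Nat.ble 505 c)
noncomputable def Btab_s_509_511 (c : Nat) : Nat := @Bool.rec (fun _ => Nat) (Btab_509) (Btab_510) (Nat.ble 510 c)
noncomputable def Btab_s_511_513 (c : Nat) : Nat := @Bool.rec (fun _ => Nat) (Btab_511) (Btab_512) (Nat.ble 512 c)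
noncomputable def Btab_s_509_513 (c : Nat) : Nat := @Bool.rec (fun _ => Nat) (Btab_s_509_511 c) (Btab_s_511_513 c) (Nat.ble 511 c)
noncomputable def Btab_s_513_515 (c : Nat) : Nat := @Bool.rec (fun _ => Nat) (Btab_513) (Btab_514) (Nat.ble 514 c)
noncomputable def Btab_s_515_517 (c : Nat) : Nat := @Bool.rec (fun _ => Nat) (Btab_515) (Btab_516) (Nat.ble 516 c)
noncomputable def Btab_s_513_517 (c : Nat) : Nat := @Bool.rec (fun _ => Nat) (Btab_s_513_515 c) (Btab_s_515_517 c) (Nat.ble 515 c)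
noncomputable def Btab_s_509_517 (c : Nat) : Nat := @Bool.rec (fun _ => Nat) (Btab_s_509_513 c) (Btab_s_513_517 c) (Nat.ble 513 c)
noncomputable def Btab_s_502_517 (c : Nat) : Nat := @Bool.rec (fun _ => Nat) (Btab_s_502_509 c) (Btab_s_509_517 c) (Nat.ble 509 c)
noncomputable def Btab_s_517_519 (c : Nat) : Nat := @Bool.rec (fun _ => Nat) (Btab_517) (Btab_518) (Nat.ble 518 c)
noncomputable def Btab_s_519_521 (c : Nat) : Nat := @Bool.rec (fun _ => Nat) (Btab_519) (Btab_520) (Nat.ble 520 c)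
noncomputable def Btab_s_517_521 (c : Nat) : Nat := @Bool.rec (fun _ => Nat) (Btab_s_517_519 c) (Btab_s_519_521 c) (Nat.ble 519 c)
noncomputable def Btab_s_521_523 (c : Nat) : Nat := @Bool.rec (fun _ => Nat) (Btab_521) (Btab_522) (Nat.ble 522 c)
noncomputable def Btab_s_523_525 (c : Nat) : Nat := @Bool.rec (fun _ => Nat) (Btab_523) (Btab_524) (Nat.ble 524 c)
noncomputable def Btab_s_521_525 (c : Nat) : Nat := @Bool.rec (fun _ => Nat) (Btab_s_521_523 c) (Btab_s_523_525 c) (Nat.ble 523 c)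
noncomputable def Btab_s_517_525 (c : Nat) : Nat := @Bool.rec (fun _ => Nat) (Btab_s_517_521 c) (Btab_s_521_525 c) (Nat.ble 521 c)
noncomputable def Btab_s_525_527 (c : Nat) : Nat := @Bool.rec (fun _ => Nat) (Btab_525) (Btab_526) (Nat.ble 526 c)
noncomputable def Btab_s_527_529 (c : Nat) : Nat := @Bool.rec (fun _ => Nat) (Btab_527) (Btab_528) (Nat.ble 528 c)
noncomputable def Btab_s_525_529 (c : Nat) : Nat := @Bool.rec (fun _ => Nat) (Btab_s_525_527 c) (Btab_s_527_529 c) (Nat.ble 527 c)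
noncomputable def Btab_s_529_531 (c : Nat) : Nat := @Bool.rec (fun _ => Nat) (Btab_529) (Btab_530) (Nat.ble 530 c)
noncomputable def Btab_s_531_533 (c : Nat) : Nat := @Bool.rec (fun _ => Nat) (Btab_531) (Btab_532) (Nat.ble 532 c)
noncomputable def Btab_s_529_533 (c : Nat) : Nat := @Bool.rec (fun _ => Nat) (Btab_s_529_531 c) (Btab_s_531_533 c) (Nat.ble 531 c)
noncomputable def Btab_s_525_533 (c : Nat) : Nat := @Bool.rec (fun _ => Nat) (Btab_s_525_529 c) (Btab_s_529_533 c) (Nat.ble 529 c)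
noncomputable def Btab_s_517_533 (c : Nat) : Nat := @Bool.rec (fun _ => Nat) (Btab_s_517_525 c) (Btab_s_525_533 c) (Nat.ble 525 c)
noncomputable def Btab_s_502_533 (c : Nat) : Nat := @Bool.rec (fun _ => Nat) (Btab_s_502_517 c) (Btab_s_517_533 c) (Nat.ble 517 c)
noncomputable def Btab_s_534_536 (c : Nat) : Nat := @Bool.rec (fun _ => Nat) (Btab_534) (Btab_535) (Nat.ble 535 c)
noncomputable def Btab_s_533_536 (c : Nat) : Nat := @Bool.rec (fun _ => Nat) (Btab_533) (Btab_s_534_536 c) (Nat.ble 534 c)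
noncomputable def Btab_s_536_538 (c : Nat) : Nat := @Bool.rec (fun _ => Nat) (Btab_536) (Btab_537) (Nat.ble 537 c)
noncomputable def Btab_s_538_540 (c : Nat) : Nat := @Bool.rec (fun _ => Nat) (Btab_538) (Btab_539) (Nat.ble 539 c)
noncomputable def Btab_s_536_540 (c : Nat) : Nat := @Bool.rec (fun _ => Nat) (Btab_s_536_538 c) (Btab_s_538_540 c) (Nat.ble 538 c)
noncomputable def Btab_s_533_540 (c : Nat) : Nat := @Bool.rec (fun _ => Nat) (Btab_s_533_536 c) (Btab_s_536_540 c) (Nat.ble 536 c)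
noncomputable def Btab_s_540_542 (c : Nat) : Nat := @Bool.rec (fun _ => Nat) (Btab_540) (Btab_541) (Nat.ble 541 c)
noncomputable def Btab_s_542_544 (c : Nat) : Nat := @Bool.rec (fun _ => Nat) (Btab_542) (Btab_543) (Nat.ble 543 c)
noncomputable def Btab_s_540_544 (c : Nat) : Nat := @Bool.rec (fun _ => Nat) (Btab_s_540_542 c) (Btab_s_542_544 c) (Nat.ble 542 c)
noncomputable def Btab_s_544_546 (c : Nat) : Nat := @Bool.rec (fun _ => Nat) (Btab_544) (Btab_545) (Nat.ble 545 c)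
noncomputable def Btab_s_546_548 (c : Nat) : Nat := @Bool.rec (fun _ => Nat) (Btab_546) (Btab_547) (Nat.ble 547 c)
noncomputable def Btab_s_544_548 (c : Nat) : Nat := @Bool.rec (fun _ => Nat) (Btab_s_544_546 c) (Btab_s_546_548 c) (Nat.ble 546 c)
noncomputable def Btab_s_540_548 (c : Nat) : Nat := @Bool.rec (fun _ => Nat) (Btab_s_540_544 c) (Btab_s_544_548 c) (Nat.ble 544 c)
noncomputable def Btab_s_533_548 (c : Nat) : Nat := @Bool.rec (fun _ => Nat) (Btab_s_533_540 c) (Btab_s_540_548 c) (Nat.ble 540 c)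
noncomputable def Btab_s_548_550 (c : Nat) : Nat := @Bool.rec (fun _ => Nat) (Btab_548) (Btab_549) (Nat.ble 549 c)
noncomputable def Btab_s_550_552 (c : Nat) : Nat := @Bool.rec (fun _ => Nat) (Btab_550) (Btab_551) (Nat.ble 551 c)
noncomputable def Btab_s_548_552 (c : Nat) : Nat := @Bool.rec (fun _ => Nat) (Btab_s_548_550 c) (Btab_s_550_552 c) (Nat.ble 550 c)
noncomputable def Btab_s_552_554 (c : Nat) : Nat := @Bool.rec (fun _ => Nat) (Btab_552) (Btab_553) (Nat.ble 553 c)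
noncomputable def Btab_s_554_556 (c : Nat) : Nat := @Bool.rec (fun _ => Nat) (Btab_554) (Btab_555) (Nat.ble 555 c)
noncomputable def Btab_s_552_556 (c : Nat) : Nat := @Bool.rec (fun _ => Nat) (Btab_s_552_554 c) (Btab_s_554_556 c) (Nat.ble 554 c)
noncomputable def Btab_s_548_556 (c : Nat) : Nat := @Bool.rec (fun _ => Nat) (Btab_s_548_552 c) (Btab_s_552_556 c) (Nat.ble 552 c)
noncomputable def Btab_s_556_558 (c : Nat) : Nat := @Bool.rec (fun _ => Nat) (Btab_556) (Btab_557) (Nat.ble 557 c)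
noncomputable def Btab_s_558_560 (c : Nat) : Nat := @Bool.rec (fun _ => Nat) (Btab_558) (Btab_559) (Nat.ble 559 c)
noncomputable def Btab_s_556_560 (c : Nat) : Nat := @Bool.rec (fun _ => Nat) (Btab_s_556_558 c) (Btab_s_558_560 c) (Nat.ble 558 c)
noncomputable def Btab_s_560_562 (c : Nat) : Nat := @Bool.rec (fun _ => Nat) (Btab_560) (Btab_561) (Nat.ble 561 c)
noncomputable def Btab_s_562_564 (c : Nat) : Nat := @Bool.rec (fun _ => Nat) (Btab_562) (Btab_563) (Nat.ble 563 c)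
noncomputable def Btab_s_560_564 (c : Nat) : Nat := @Bool.rec (fun _ => Nat) (Btab_s_560_562 c) (Btab_s_562_564 c) (Nat.ble 562 c)
noncomputable def Btab_s_556_564 (c : Nat) : Nat := @Bool.rec (fun _ => Nat) (Btab_s_556_560 c) (Btab_s_560_564 c) (Nat.ble 560 c)
noncomputable def Btab_s_548_564 (c : Nat) : Nat := @Bool.rec (fun _ => Nat) (Btab_s_548_556 c) (Btab_s_556_564 c) (Nat.ble 556 c)
noncomputable def Btab_s_533_564 (c : Nat) : Nat := @Bool.rec (fun _ => Nat) (Btab_s_533_548 c) (Btab_s_548_564 c) (Nat.ble 548 c)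
noncomputable def Btab_s_502_564 (c : Nat) : Nat := @Bool.rec (fun _ => Nat) (Btab_s_502_533 c) (Btab_s_533_564 c) (Nat.ble 533 c)
noncomputable def Btab_s_565_567 (c : Nat) : Nat := @Bool.rec (fun _ => Nat) (Btab_565) (Btab_566) (Nat.ble 566 c)
noncomputable def Btab_s_564_567 (c : Nat) : Nat := @Bool.rec (fun _ => Nat) (Btab_564) (Btab_s_565_567 c) (Nat.ble 565 c)
noncomputable def Btab_s_567_569 (c : Nat) : Nat := @Bool.rec (fun _ => Nat) (Btab_567) (Btab_568) (Nat.ble 568 c)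
noncomputable def Btab_s_569_571 (c : Nat) : Nat := @Bool.rec (fun _ => Nat) (Btab_569) (Btab_570) (Nat.ble 570 c)
noncomputable def Btab_s_567_571 (c : Nat) : Nat := @Bool.rec (fun _ => Nat) (Btab_s_567_569 c) (Btab_s_569_571 c) (Nat.ble 569 c)
noncomputable def Btab_s_564_571 (c : Nat) : Nat := @Bool.rec (fun _ => Nat) (Btab_s_564_567 c) (Btab_s_567_571 c) (Nat.ble 567 c)
noncomputable def Btab_s_571_573 (c : Nat) : Nat := @Bool.rec (fun _ => Nat) (Btab_571) (Btab_572) (Nat.ble 572 c)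
noncomputable def Btab_s_573_575 (c : Nat) : Nat := @Bool.rec (fun _ => Nat) (Btab_573) (Btab_574) (Nat.ble 574 c)
noncomputable def Btab_s_571_575 (c : Nat) : Nat := @Bool.rec (fun _ => Nat) (Btab_s_571_573 c) (Btab_s_573_575 c) (Nat.ble 573 c)
noncomputable def Btab_s_575_577 (c : Nat) : Nat := @Bool.rec (fun _ => Nat) (Btab_575) (Btab_576) (Nat.ble 576 c)
noncomputable def Btab_s_577_579 (c : Nat) : Nat := @Bool.rec (fun _ => Nat) (Btab_577) (Btab_578) (Nat.ble 578 c)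
noncomputable def Btab_s_575_579 (c : Nat) : Nat := @Bool.rec (fun _ => Nat) (Btab_s_575_577 c) (Btab_s_577_579 c) (Nat.ble 577 c)
noncomputable def Btab_s_571_579 (c : Nat) : Nat := @Bool.rec (fun _ => Nat) (Btab_s_571_575 c) (Btab_s_575_579 c) (Nat.ble 575 c)
noncomputable def Btab_s_564_579 (c : Nat) : Nat := @Bool.rec (fun _ => Nat) (Btab_s_564_571 c) (Btab_s_571_579 c) (Nat.ble 571 c)
noncomputable def Btab_s_579_581 (c : Nat) : Nat := @Bool.rec (fun _ => Nat) (Btab_579) (Btab_580) (Nat.ble 580 c)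
noncomputable def Btab_s_581_583 (c : Nat) : Nat := @Bool.rec (fun _ => Nat) (Btab_581) (Btab_582) (Nat.ble 582 c)
noncomputable def Btab_s_579_583 (c : Nat) : Nat := @Bool.rec (fun _ => Nat) (Btab_s_579_581 c) (Btab_s_581_583 c) (Nat.ble 581 c)
noncomputable def Btab_s_583_585 (c : Nat) : Nat := @Bool.rec (fun _ => Nat) (Btab_583) (Btab_584) (Nat.ble 584 c)
noncomputable def Btab_s_585_587 (c : Nat) : Nat := @Bool.rec (fun _ => Nat) (Btab_585) (Btab_586) (Nat.ble 586 c)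
noncomputable def Btab_s_583_587 (c : Nat) : Nat := @Bool.rec (fun _ => Nat) (Btab_s_583_585 c) (Btab_s_585_587 c) (Nat.ble 585 c)
noncomputable def Btab_s_579_587 (c : Nat) : Nat := @Bool.rec (fun _ => Nat) (Btab_s_579_583 c) (Btab_s_583_587 c) (Nat.ble 583 c)
noncomputable def Btab_s_587_589 (c : Nat) : Nat := @Bool.rec (fun _ => Nat) (Btab_587) (Btab_588) (Nat.ble 588 c)
noncomputable def Btab_s_589_591 (c : Nat) : Nat := @Bool.rec (fun _ => Nat) (Btab_589) (Btab_590) (Nat.ble 590 c)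
noncomputable def Btab_s_587_591 (c : Nat) : Nat := @Bool.rec (fun _ => Nat) (Btab_s_587_589 c) (Btab_s_589_591 c) (Nat.ble 589 c)
noncomputable def Btab_s_591_593 (c : Nat) : Nat := @Bool.rec (fun _ => Nat) (Btab_591) (Btab_592) (Nat.ble 592 c)
noncomputable def Btab_s_593_595 (c : Nat) : Nat := @Bool.rec (fun _ => Nat) (Btab_593) (Btab_594) (Nat.ble 594 c)
noncomputable def Btab_s_591_595 (c : Nat) : Nat := @Bool.rec (fun _ => Nat) (Btab_s_591_593 c) (Btab_s_593_595 c) (Nat.ble 593 c)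
noncomputable def Btab_s_587_595 (c : Nat) : Nat := @Bool.rec (fun _ => Nat) (Btab_s_587_591 c) (Btab_s_591_595 c) (Nat.ble 591 c)
noncomputable def Btab_s_579_595 (c : Nat) : Nat := @Bool.rec (fun _ => Nat) (Btab_s_579_587 c) (Btab_s_587_595 c) (Nat.ble 587 c)
noncomputable def Btab_s_564_595 (c : Nat) : Nat := @Bool.rec (fun _ => Nat) (Btab_s_564_579 c) (Btab_s_579_595 c) (Nat.ble 579 c)
noncomputable def Btab_s_595_597 (c : Nat) : Nat := @Bool.rec (fun _ => Nat) (Btab_595) (Btab_596) (Nat.ble 596 c)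
noncomputable def Btab_s_597_599 (c : Nat) : Nat := @Bool.rec (fun _ => Nat) (Btab_597) (Btab_598) (Nat.ble 598 c)
noncomputable def Btab_s_595_599 (c : Nat) : Nat := @Bool.rec (fun _ => Nat) (Btab_s_595_597 c) (Btab_s_597_599 c) (Nat.ble 597 c)
noncomputable def Btab_s_599_601 (c : Nat) : Nat := @Bool.rec (fun _ => Nat) (Btab_599) (Btab_600) (Nat.ble 600 c)
noncomputable def Btab_s_601_603 (c : Nat) : Nat := @Bool.rec (fun _ => Nat) (Btab_601) (Btab_602) (Nat.ble 602 c)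
noncomputable def Btab_s_599_603 (c : Nat) : Nat := @Bool.rec (fun _ => Nat) (Btab_s_599_601 c) (Btab_s_601_603 c) (Nat.ble 601 c)
noncomputable def Btab_s_595_603 (c : Nat) : Nat := @Bool.rec (fun _ => Nat) (Btab_s_595_599 c) (Btab_s_599_603 c) (Nat.ble 599 c)
noncomputable def Btab_s_603_605 (c : Nat) : Nat := @Bool.rec (fun _ => Nat) (Btab_603) (Btab_604) (Nat.ble 604 c)
noncomputable def Btab_s_605_607 (c : Nat) : Nat := @Bool.rec (fun _ => Nat) (Btab_605) (Btab_606) (Nat.ble 606 c)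
noncomputable def Btab_s_603_607 (c : Nat) : Nat := @Bool.rec (fun _ => Nat) (Btab_s_603_605 c) (Btab_s_605_607 c) (Nat.ble 605 c)
noncomputable def Btab_s_607_609 (c : Nat) : Nat := @Bool.rec (fun _ => Nat) (Btab_607) (Btab_608) (Nat.ble 608 c)
noncomputable def Btab_s_609_611 (c : Nat) : Nat := @Bool.rec (fun _ => Nat) (Btab_609) (Btab_610) (Nat.ble 610 c)
noncomputable def Btab_s_607_611 (c : Nat) : Nat := @Bool.rec (fun _ => Nat) (Btab_s_607_609 c) (Btab_s_609_611 c) (Nat.ble 609 c)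
noncomputable def Btab_s_603_611 (c : Nat) : Nat := @Bool.rec (fun _ => Nat) (Btab_s_603_607 c) (Btab_s_607_611 c) (Nat.ble 607 c)
noncomputable def Btab_s_595_611 (c : Nat) : Nat := @Bool.rec (fun _ => Nat) (Btab_s_595_603 c) (Btab_s_603_611 c) (Nat.ble 603 c)
noncomputable def Btab_s_611_613 (c : Nat) : Nat := @Bool.rec (fun _ => Nat) (Btab_611) (Btab_612) (Nat.ble 612 c)
noncomputable def Btab_s_613_615 (c : Nat) : Nat := @Bool.rec (fun _ => Nat) (Btab_613) (Btab_614) (Nat.ble 614 c)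
noncomputable def Btab_s_611_615 (c : Nat) : Nat := @Bool.rec (fun _ => Nat) (Btab_s_611_613 c) (Btab_s_613_615 c) (Nat.ble 613 c)
noncomputable def Btab_s_615_617 (c : Nat) : Nat := @Bool.rec (fun _ => Nat) (Btab_615) (Btab_616) (Nat.ble 616 c)
noncomputable def Btab_s_617_619 (c : Nat) : Nat := @Bool.rec (fun _ => Nat) (Btab_617) (Btab_618) (Nat.ble 618 c)
noncomputable def Btab_s_615_619 (c : Nat) : Nat := @Bool.rec (fun _ => Nat) (Btab_s_615_617 c) (Btab_s_617_619 c) (Nat.ble 617 c)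
noncomputable def Btab_s_611_619 (c : Nat) : Nat := @Bool.rec (fun _ => Nat) (Btab_s_611_615 c) (Btab_s_615_619 c) (Nat.ble 615 c)
noncomputable def Btab_s_619_621 (c : Nat) : Nat := @Bool.rec (fun _ => Nat) (Btab_619) (Btab_620) (Nat.ble 620 c)
noncomputable def Btab_s_621_623 (c : Nat) : Nat := @Bool.rec (fun _ => Nat) (Btab_621) (Btab_622) (Nat.ble 622 c)
noncomputable def Btab_s_619_623 (c : Nat) : Nat := @Bool.rec (fun _ => Nat) (Btab_s_619_621 c) (Btab_s_621_623 c) (Nat.ble 621 c)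
noncomputable def Btab_s_623_625 (c : Nat) : Nat := @Bool.rec (fun _ => Nat) (Btab_623) (Btab_624) (Nat.ble 624 c)
noncomputable def Btab_s_625_627 (c : Nat) : Nat := @Bool.rec (fun _ => Nat) (Btab_625) (Btab_626) (Nat.ble 626 c)
noncomputable def Btab_s_623_627 (c : Nat) : Nat := @Bool.rec (fun _ => Nat) (Btab_s_623_625 c) (Btab_s_625_627 c) (Nat.ble 625 c)
noncomputable def Btab_s_619_627 (c : Nat) : Nat := @Bool.rec (fun _ => Nat) (Btab_s_619_623 c) (Btab_s_623_627 c) (Nat.ble 623 c)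
noncomputable def Btab_s_611_627 (c : Nat) : Nat := @Bool.rec (fun _ => Nat) (Btab_s_611_619 c) (Btab_s_619_627 c) (Nat.ble 619 c)
noncomputable def Btab_s_595_627 (c : Nat) : Nat := @Bool.rec (fun _ => Nat) (Btab_s_595_611 c) (Btab_s_611_627 c) (Nat.ble 611 c)
noncomputable def Btab_s_564_627 (c : Nat) : Nat := @Bool.rec (fun _ => Nat) (Btab_s_564_595 c) (Btab_s_595_627 c) (Nat.ble 595 c)
noncomputable def Btab_s_502_627 (c : Nat) : Nat := @Bool.rec (fun _ => Nat) (Btab_s_502_564 c) (Btab_s_564_627 c) (Nat.ble 564 c)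
noncomputable def Btab_s_628_630 (c : Nat) : Nat := @Bool.rec (fun _ => Nat) (Btab_628) (Btab_629) (Nat.ble 629 c)
noncomputable def Btab_s_627_630 (c : Nat) : Nat := @Bool.rec (fun _ => Nat) (Btab_627) (Btab_s_628_630 c) (Nat.ble 628 c)
noncomputable def Btab_s_630_632 (c : Nat) : Nat := @Bool.rec (fun _ => Nat) (Btab_630) (Btab_631) (Nat.ble 631 c)
noncomputable def Btab_s_632_634 (c : Nat) : Nat := @Bool.rec (fun _ => Nat) (Btab_632) (Btab_633) (Nat.ble 633 c)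
noncomputable def Btab_s_630_634 (c : Nat) : Nat := @Bool.rec (fun _ => Nat) (Btab_s_630_632 c) (Btab_s_632_634 c) (Nat.ble 632 c)
noncomputable def Btab_s_627_634 (c : Nat) : Nat := @Bool.rec (fun _ => Nat) (Btab_s_627_630 c) (Btab_s_630_634 c) (Nat.ble 630 c)
noncomputable def Btab_s_634_636 (c : Nat) : Nat := @Bool.rec (fun _ => Nat) (Btab_634) (Btab_635) (Nat.ble 635 c)
noncomputable def Btab_s_636_638 (c : Nat) : Nat := @Bool.rec (fun _ => Nat) (Btab_636) (Btab_637) (Nat.ble 637 c)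
noncomputable def Btab_s_634_638 (c : Nat) : Nat := @Bool.rec (fun _ => Nat) (Btab_s_634_636 c) (Btab_s_636_638 c) (Nat.ble 636 c)
noncomputable def Btab_s_638_640 (c : Nat) : Nat := @Bool.rec (fun _ => Nat) (Btab_638) (Btab_639) (Nat.ble 639 c)
noncomputable def Btab_s_640_642 (c : Nat) : Nat := @Bool.rec (fun _ => Nat) (Btab_640) (Btab_641) (Nat.ble 641 c)
noncomputable def Btab_s_638_642 (c : Nat) : Nat := @Bool.rec (fun _ => Nat) (Btab_s_638_640 c) (Btab_s_640_642 c) (Nat.ble 640 c)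
noncomputable def Btab_s_634_642 (c : Nat) : Nat := @Bool.rec (fun _ => Nat) (Btab_s_634_638 c) (Btab_s_638_642 c) (Nat.ble 638 c)
noncomputable def Btab_s_627_642 (c : Nat) : Nat := @Bool.rec (fun _ => Nat) (Btab_s_627_634 c) (Btab_s_634_642 c) (Nat.ble 634 c)
noncomputable def Btab_s_642_644 (c : Nat) : Nat := @Bool.rec (fun _ => Nat) (Btab_642) (Btab_643) (Nat.ble 643 c)
noncomputable def Btab_s_644_646 (c : Nat) : Nat := @Bool.rec (fun _ => Nat) (Btab_644) (Btab_645) (Nat.ble 645 c)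
noncomputable def Btab_s_642_646 (c : Nat) : Nat := @Bool.rec (fun _ => Nat) (Btab_s_642_644 c) (Btab_s_644_646 c) (Nat.ble 644 c)
noncomputable def Btab_s_646_648 (c : Nat) : Nat := @Bool.rec (fun _ => Nat) (Btab_646) (Btab_647) (Nat.ble 647 c)
noncomputable def Btab_s_648_650 (c : Nat) : Nat := @Bool.rec (fun _ => Nat) (Btab_648) (Btab_649) (Nat.ble 649 c)
noncomputable def Btab_s_646_650 (c : Nat) : Nat := @Bool.rec (fun _ => Nat) (Btab_s_646_648 c) (Btab_s_648_650 c) (Nat.ble 648 c)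
noncomputable def Btab_s_642_650 (c : Nat) : Nat := @Bool.rec (fun _ => Nat) (Btab_s_642_646 c) (Btab_s_646_650 c) (Nat.ble 646 c)
noncomputable def Btab_s_650_652 (c : Nat) : Nat := @Bool.rec (fun _ => Nat) (Btab_650) (Btab_651) (Nat.ble 651 c)
noncomputable def Btab_s_652_654 (c : Nat) : Nat := @Bool.rec (fun _ => Nat) (Btab_652) (Btab_653) (Nat.ble 653 c)
noncomputable def Btab_s_650_654 (c : Nat) : Nat := @Bool.rec (fun _ => Nat) (Btab_s_650_652 c) (Btab_s_652_654 c) (Nat.ble 652 c)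
noncomputable def Btab_s_654_656 (c : Nat) : Nat := @Bool.rec (fun _ => Nat) (Btab_654) (Btab_655) (Nat.ble 655 c)
noncomputable def Btab_s_656_658 (c : Nat) : Nat := @Bool.rec (fun _ => Nat) (Btab_656) (Btab_657) (Nat.ble 657 c)
noncomputable def Btab_s_654_658 (c : Nat) : Nat := @Bool.rec (fun _ => Nat) (Btab_s_654_656 c) (Btab_s_656_658 c) (Nat.ble 656 c)
noncomputable def Btab_s_650_658 (c : Nat) : Nat := @Bool.rec (fun _ => Nat) (Btab_s_650_654 c) (Btab_s_654_658 c) (Nat.ble 654 c)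
noncomputable def Btab_s_642_658 (c : Nat) : Nat := @Bool.rec (fun _ => Nat) (Btab_s_642_650 c) (Btab_s_650_658 c) (Nat.ble 650 c)
noncomputable def Btab_s_627_658 (c : Nat) : Nat := @Bool.rec (fun _ => Nat) (Btab_s_627_642 c) (Btab_s_642_658 c) (Nat.ble 642 c)
noncomputable def Btab_s_658_660 (c : Nat) : Nat := @Bool.rec (fun _ => Nat) (Btab_658) (Btab_659) (Nat.ble 659 c)
noncomputable def Btab_s_660_662 (c : Nat) : Nat := @Bool.rec (fun _ => Nat) (Btab_660) (Btab_661) (Nat.ble 661 c)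
noncomputable def Btab_s_658_662 (c : Nat) : Nat := @Bool.rec (fun _ => Nat) (Btab_s_658_660 c) (Btab_s_660_662 c) (Nat.ble 660 c)
noncomputable def Btab_s_662_664 (c : Nat) : Nat := @Bool.rec (fun _ => Nat) (Btab_662) (Btab_663) (Nat.ble 663 c)
noncomputable def Btab_s_664_666 (c : Nat) : Nat := @Bool.rec (fun _ => Nat) (Btab_664) (Btab_665) (Nat.ble 665 c)
noncomputable def Btab_s_662_666 (c : Nat) : Nat := @Bool.rec (fun _ => Nat) (Btab_s_662_664 c) (Btab_s_664_666 c) (Nat.ble 664 c)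
noncomputable def Btab_s_658_666 (c : Nat) : Nat := @Bool.rec (fun _ => Nat) (Btab_s_658_662 c) (Btab_s_662_666 c) (Nat.ble 662 c)
noncomputable def Btab_s_666_668 (c : Nat) : Nat := @Bool.rec (fun _ => Nat) (Btab_666) (Btab_667) (Nat.ble 667 c)
noncomputable def Btab_s_668_670 (c : Nat) : Nat := @Bool.rec (fun _ => Nat) (Btab_668) (Btab_669) (Nat.ble 669 c)
noncomputable def Btab_s_666_670 (c : Nat) : Nat := @Bool.rec (fun _ => Nat) (Btab_s_666_668 c) (Btab_s_668_670 c) (Nat.ble 668 c)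
noncomputable def Btab_s_670_672 (c : Nat) : Nat := @Bool.rec (fun _ => Nat) (Btab_670) (Btab_671) (Nat.ble 671 c)
noncomputable def Btab_s_672_674 (c : Nat) : Nat := @Bool.rec (fun _ => Nat) (Btab_672) (Btab_673) (Nat.ble 673 c)
noncomputable def Btab_s_670_674 (c : Nat) : Nat := @Bool.rec (fun _ => Nat) (Btab_s_670_672 c) (Btab_s_672_674 c) (Nat.ble 672 c)
noncomputable def Btab_s_666_674 (c : Nat) : Nat := @Bool.rec (fun _ => Nat) (Btab_s_666_670 c) (Btab_s_670_674 c) (Nat.ble 670 c)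
noncomputable def Btab_s_658_674 (c : Nat) : Nat := @Bool.rec (fun _ => Nat) (Btab_s_658_666 c) (Btab_s_666_674 c) (Nat.ble 666 c)
noncomputable def Btab_s_674_676 (c : Nat) : Nat := @Bool.rec (fun _ => Nat) (Btab_674) (Btab_675) (Nat.ble 675 c)
noncomputable def Btab_s_676_678 (c : Nat) : Nat := @Bool.rec (fun _ => Nat) (Btab_676) (Btab_677) (Nat.ble 677 c)
noncomputable def Btab_s_674_678 (c : Nat) : Nat := @Bool.rec (fun _ => Nat) (Btab_s_674_676 c) (Btab_s_676_678 c) (Nat.ble 676 c)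
noncomputable def Btab_s_678_680 (c : Nat) : Nat := @Bool.rec (fun _ => Nat) (Btab_678) (Btab_679) (Nat.ble 679 c)
noncomputable def Btab_s_680_682 (c : Nat) : Nat := @Bool.rec (fun _ => Nat) (Btab_680) (Btab_681) (Nat.ble 681 c)
noncomputable def Btab_s_678_682 (c : Nat) : Nat := @Bool.rec (fun _ => Nat) (Btab_s_678_680 c) (Btab_s_680_682 c) (Nat.ble 680 c)
noncomputable def Btab_s_674_682 (c : Nat) : Nat := @Bool.rec (fun _ => Nat) (Btab_s_674_678 c) (Btab_s_678_682 c) (Nat.ble 678 c)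
noncomputable def Btab_s_682_684 (c : Nat) : Nat := @Bool.rec (fun _ => Nat) (Btab_682) (Btab_683) (Nat.ble 683 c)
noncomputable def Btab_s_684_686 (c : Nat) : Nat := @Bool.rec (fun _ => Nat) (Btab_684) (Btab_685) (Nat.ble 685 c)
noncomputable def Btab_s_682_686 (c : Nat) : Nat := @Bool.rec (fun _ => Nat) (Btab_s_682_684 c) (Btab_s_684_686 c) (Nat.ble 684 c)
noncomputable def Btab_s_686_688 (c : Nat) : Nat := @Bool.rec (fun _ => Nat) (Btab_686) (Btab_687) (Nat.ble 687 c)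
noncomputable def Btab_s_688_690 (c : Nat) : Nat := @Bool.rec (fun _ => Nat) (Btab_688) (Btab_689) (Nat.ble 689 c)
noncomputable def Btab_s_686_690 (c : Nat) : Nat := @Bool.rec (fun _ => Nat) (Btab_s_686_688 c) (Btab_s_688_690 c) (Nat.ble 688 c)
noncomputable def Btab_s_682_690 (c : Nat) : Nat := @Bool.rec (fun _ => Nat) (Btab_s_682_686 c) (Btab_s_686_690 c) (Nat.ble 686 c)
noncomputable def Btab_s_674_690 (c : Nat) : Nat := @Bool.rec (fun _ => Nat) (Btab_s_674_682 c) (Btab_s_682_690 c) (Nat.ble 682 c)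
noncomputable def Btab_s_658_690 (c : Nat) : Nat := @Bool.rec (fun _ => Nat) (Btab_s_658_674 c) (Btab_s_674_690 c) (Nat.ble 674 c)
noncomputable def Btab_s_627_690 (c : Nat) : Nat := @Bool.rec (fun _ => Nat) (Btab_s_627_658 c) (Btab_s_658_690 c) (Nat.ble 658 c)
noncomputable def Btab_s_691_693 (c : Nat) : Nat := @Bool.rec (fun _ => Nat) (Btab_691) (Btab_692) (Nat.ble 692 c)
noncomputable def Btab_s_690_693 (c : Nat) : Nat := @Bool.rec (fun _ => Nat) (Btab_690) (Btab_s_691_693 c) (Nat.ble 691 c)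
noncomputable def Btab_s_693_695 (c : Nat) : Nat := @Bool.rec (fun _ => Nat) (Btab_693) (Btab_694) (Nat.ble 694 c)
noncomputable def Btab_s_695_697 (c : Nat) : Nat := @Bool.rec (fun _ => Nat) (Btab_695) (Btab_696) (Nat.ble 696 c)
noncomputable def Btab_s_693_697 (c : Nat) : Nat := @Bool.rec (fun _ => Nat) (Btab_s_693_695 c) (Btab_s_695_697 c) (Nat.ble 695 c)
noncomputable def Btab_s_690_697 (c : Nat) : Nat := @Bool.rec (fun _ => Nat) (Btab_s_690_693 c) (Btab_s_693_697 c) (Nat.ble 693 c)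
noncomputable def Btab_s_697_699 (c : Nat) : Nat := @Bool.rec (fun _ => Nat) (Btab_697) (Btab_698) (Nat.ble 698 c)
noncomputable def Btab_s_699_701 (c : Nat) : Nat := @Bool.rec (fun _ => Nat) (Btab_699) (Btab_700) (Nat.ble 700 c)
noncomputable def Btab_s_697_701 (c : Nat) : Nat := @Bool.rec (fun _ => Nat) (Btab_s_697_699 c) (Btab_s_699_701 c) (Nat.ble 699 c)
noncomputable def Btab_s_701_703 (c : Nat) : Nat := @Bool.rec (fun _ => Nat) (Btab_701) (Btab_702) (Nat.ble 702 c)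
noncomputable def Btab_s_703_705 (c : Nat) : Nat := @Bool.rec (fun _ => Nat) (Btab_703) (Btab_704) (Nat.ble 704 c)
noncomputable def Btab_s_701_705 (c : Nat) : Nat := @Bool.rec (fun _ => Nat) (Btab_s_701_703 c) (Btab_s_703_705 c) (Nat.ble 703 c)
noncomputable def Btab_s_697_705 (c : Nat) : Nat := @Bool.rec (fun _ => Nat) (Btab_s_697_701 c) (Btab_s_701_705 c) (Nat.ble 701 c)
noncomputable def Btab_s_690_705 (c : Nat) : Nat := @Bool.rec (fun _ => Nat) (Btab_s_690_697 c) (Btab_s_697_705 c) (Nat.ble 697 c)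
noncomputable def Btab_s_705_707 (c : Nat) : Nat := @Bool.rec (fun _ => Nat) (Btab_705) (Btab_706) (Nat.ble 706 c)
noncomputable def Btab_s_707_709 (c : Nat) : Nat := @Bool.rec (fun _ => Nat) (Btab_707) (Btab_708) (Nat.ble 708 c)
noncomputable def Btab_s_705_709 (c : Nat) : Nat := @Bool.rec (fun _ => Nat) (Btab_s_705_707 c) (Btab_s_707_709 c) (Nat.ble 707 c)
noncomputable def Btab_s_709_711 (c : Nat) : Nat := @Bool.rec (fun _ => Nat) (Btab_709) (Btab_710) (Nat.ble 710 c)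
noncomputable def Btab_s_711_713 (c : Nat) : Nat := @Bool.rec (fun _ => Nat) (Btab_711) (Btab_712) (Nat.ble 712 c)
noncomputable def Btab_s_709_713 (c : Nat) : Nat := @Bool.rec (fun _ => Nat) (Btab_s_709_711 c) (Btab_s_711_713 c) (Nat.ble 711 c)
noncomputable def Btab_s_705_713 (c : Nat) : Nat := @Bool.rec (fun _ => Nat) (Btab_s_705_709 c) (Btab_s_709_713 c) (Nat.ble 709 c)
noncomputable def Btab_s_713_715 (c : Nat) : Nat := @Bool.rec (fun _ => Nat) (Btab_713) (Btab_714) (Nat.ble 714 c)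
noncomputable def Btab_s_715_717 (c : Nat) : Nat := @Bool.rec (fun _ => Nat) (Btab_715) (Btab_716) (Nat.ble 716 c)
noncomputable def Btab_s_713_717 (c : Nat) : Nat := @Bool.rec (fun _ => Nat) (Btab_s_713_715 c) (Btab_s_715_717 c) (Nat.ble 715 c)
noncomputable def Btab_s_717_719 (c : Nat) : Nat := @Bool.rec (fun _ => Nat) (Btab_717) (Btab_718) (Nat.ble 718 c)
noncomputable def Btab_s_719_721 (c : Nat) : Nat := @Bool.rec (fun _ => Nat) (Btab_719) (Btab_720) (Nat.ble 720 c)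
noncomputable def Btab_s_717_721 (c : Nat) : Nat := @Bool.rec (fun _ => Nat) (Btab_s_717_719 c) (Btab_s_719_721 c) (Nat.ble 719 c)
noncomputable def Btab_s_713_721 (c : Nat) : Nat := @Bool.rec (fun _ => Nat) (Btab_s_713_717 c) (Btab_s_717_721 c) (Nat.ble 717 c)
noncomputable def Btab_s_705_721 (c : Nat) : Nat := @Bool.rec (fun _ => Nat) (Btab_s_705_713 c) (Btab_s_713_721 c) (Nat.ble 713 c)
noncomputable def Btab_s_690_721 (c : Nat) : Nat := @Bool.rec (fun _ => Nat) (Btab_s_690_705 c) (Btab_s_705_721 c) (Nat.ble 705 c)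
noncomputable def Btab_s_721_723 (c : Nat) : Nat := @Bool.rec (fun _ => Nat) (Btab_721) (Btab_722) (Nat.ble 722 c)
noncomputable def Btab_s_723_725 (c : Nat) : Nat := @Bool.rec (fun _ => Nat) (Btab_723) (Btab_724) (Nat.ble 724 c)
noncomputable def Btab_s_721_725 (c : Nat) : Nat := @Bool.rec (fun _ => Nat) (Btab_s_721_723 c) (Btab_s_723_725 c) (Nat.ble 723 c)
noncomputable def Btab_s_725_727 (c : Nat) : Nat := @Bool.rec (fun _ => Nat) (Btab_725) (Btab_726) (Nat.ble 726 c)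
noncomputable def Btab_s_727_729 (c : Nat) : Nat := @Bool.rec (fun _ => Nat) (Btab_727) (Btab_728) (Nat.ble 728 c)
noncomputable def Btab_s_725_729 (c : Nat) : Nat := @Bool.rec (fun _ => Nat) (Btab_s_725_727 c) (Btab_s_727_729 c) (Nat.ble 727 c)
noncomputable def Btab_s_721_729 (c : Nat) : Nat := @Bool.rec (fun _ => Nat) (Btab_s_721_725 c) (Btab_s_725_729 c) (Nat.ble 725 c)
noncomputable def Btab_s_729_731 (c : Nat) : Nat := @Bool.rec (fun _ => Nat) (Btab_729) (Btab_730) (Nat.ble 730 c)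
noncomputable def Btab_s_731_733 (c : Nat) : Nat := @Bool.rec (fun _ => Nat) (Btab_731) (Btab_732) (Nat.ble 732 c)
noncomputable def Btab_s_729_733 (c : Nat) : Nat := @Bool.rec (fun _ => Nat) (Btab_s_729_731 c) (Btab_s_731_733 c) (Nat.ble 731 c)
noncomputable def Btab_s_733_735 (c : Nat) : Nat := @Bool.rec (fun _ => Nat) (Btab_733) (Btab_734) (Nat.ble 734 c)
noncomputable def Btab_s_735_737 (c : Nat) : Nat := @Bool.rec (fun _ => Nat) (Btab_735) (Btab_736) (Nat.ble 736 c)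
noncomputable def Btab_s_733_737 (c : Nat) : Nat := @Bool.rec (fun _ => Nat) (Btab_s_733_735 c) (Btab_s_735_737 c) (Nat.ble 735 c)
noncomputable def Btab_s_729_737 (c : Nat) : Nat := @Bool.rec (fun _ => Nat) (Btab_s_729_733 c) (Btab_s_733_737 c) (Nat.ble 733 c)
noncomputable def Btab_s_721_737 (c : Nat) : Nat := @Bool.rec (fun _ => Nat) (Btab_s_721_729 c) (Btab_s_729_737 c) (Nat.ble 729 c)
noncomputable def Btab_s_737_739 (c : Nat) : Nat := @Bool.rec (fun _ => Nat) (Btab_737) (Btab_738) (Nat.ble 738 c)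
noncomputable def Btab_s_739_741 (c : Nat) : Nat := @Bool.rec (fun _ => Nat) (Btab_739) (Btab_740) (Nat.ble 740 c)
noncomputable def Btab_s_737_741 (c : Nat) : Nat := @Bool.rec (fun _ => Nat) (Btab_s_737_739 c) (Btab_s_739_741 c) (Nat.ble 739 c)
noncomputable def Btab_s_741_743 (c : Nat) : Nat := @Bool.rec (fun _ => Nat) (Btab_741) (Btab_742) (Nat.ble 742 c)
noncomputable def Btab_s_743_745 (c : Nat) : Nat := @Bool.rec (fun _ => Nat) (Btab_743) (Btab_744) (Nat.ble 744 c)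
noncomputable def Btab_s_741_745 (c : Nat) : Nat := @Bool.rec (fun _ => Nat) (Btab_s_741_743 c) (Btab_s_743_745 c) (Nat.ble 743 c)
noncomputable def Btab_s_737_745 (c : Nat) : Nat := @Bool.rec (fun _ => Nat) (Btab_s_737_741 c) (Btab_s_741_745 c) (Nat.ble 741 c)
noncomputable def Btab_s_745_747 (c : Nat) : Nat := @Bool.rec (fun _ => Nat) (Btab_745) (Btab_746) (Nat.ble 746 c)
noncomputable def Btab_s_747_749 (c : Nat) : Nat := @Bool.rec (fun _ => Nat) (Btab_747) (Btab_748) (Nat.ble 748 c)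
noncomputable def Btab_s_745_749 (c : Nat) : Nat := @Bool.rec (fun _ => Nat) (Btab_s_745_747 c) (Btab_s_747_749 c) (Nat.ble 747 c)
noncomputable def Btab_s_749_751 (c : Nat) : Nat := @Bool.rec (fun _ => Nat) (Btab_749) (Btab_750) (Nat.ble 750 c)
noncomputable def Btab_s_751_753 (c : Nat) : Nat := @Bool.rec (fun _ => Nat) (Btab_751) (Btab_752) (Nat.ble 752 c)
noncomputable def Btab_s_749_753 (c : Nat) : Nat := @Bool.rec (fun _ => Nat) (Btab_s_749_751 c) (Btab_s_751_753 c) (Nat.ble 751 c)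
noncomputable def Btab_s_745_753 (c : Nat) : Nat := @Bool.rec (fun _ => Nat) (Btab_s_745_749 c) (Btab_s_749_753 c) (Nat.ble 749 c)
noncomputable def Btab_s_737_753 (c : Nat) : Nat := @Bool.rec (fun _ => Nat) (Btab_s_737_745 c) (Btab_s_745_753 c) (Nat.ble 745 c)
noncomputable def Btab_s_721_753 (c : Nat) : Nat := @Bool.rec (fun _ => Nat) (Btab_s_721_737 c) (Btab_s_737_753 c) (Nat.ble 737 c)
noncomputable def Btab_s_690_753 (c : Nat) : Nat := @Bool.rec (fun _ => Nat) (Btab_s_690_721 c) (Btab_s_721_753 c) (Nat.ble 721 c)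
noncomputable def Btab_s_627_753 (c : Nat) : Nat := @Bool.rec (fun _ => Nat) (Btab_s_627_690 c) (Btab_s_690_753 c) (Nat.ble 690 c)
noncomputable def Btab_s_502_753 (c : Nat) : Nat := @Bool.rec (fun _ => Nat) (Btab_s_502_627 c) (Btab_s_627_753 c) (Nat.ble 627 c)
noncomputable def Btab_s_754_756 (c : Nat) : Nat := @Bool.rec (fun _ => Nat) (Btab_754) (Btab_755) (Nat.ble 755 c)
noncomputable def Btab_s_753_756 (c : Nat) : Nat := @Bool.rec (fun _ => Nat) (Btab_753) (Btab_s_754_756 c) (Nat.ble 754 c)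
noncomputable def Btab_s_756_758 (c : Nat) : Nat := @Bool.rec (fun _ => Nat) (Btab_756) (Btab_757) (Nat.ble 757 c)
noncomputable def Btab_s_758_760 (c : Nat) : Nat := @Bool.rec (fun _ => Nat) (Btab_758) (Btab_759) (Nat.ble 759 c)
noncomputable def Btab_s_756_760 (c : Nat) : Nat := @Bool.rec (fun _ => Nat) (Btab_s_756_758 c) (Btab_s_758_760 c) (Nat.ble 758 c)
noncomputable def Btab_s_753_760 (c : Nat) : Nat := @Bool.rec (fun _ => Nat) (Btab_s_753_756 c) (Btab_s_756_760 c) (Nat.ble 756 c)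
noncomputable def Btab_s_760_762 (c : Nat) : Nat := @Bool.rec (fun _ => Nat) (Btab_760) (Btab_761) (Nat.ble 761 c)
noncomputable def Btab_s_762_764 (c : Nat) : Nat := @Bool.rec (fun _ => Nat) (Btab_762) (Btab_763) (Nat.ble 763 c)
noncomputable def Btab_s_760_764 (c : Nat) : Nat := @Bool.rec (fun _ => Nat) (Btab_s_760_762 c) (Btab_s_762_764 c) (Nat.ble 762 c)
noncomputable def Btab_s_764_766 (c : Nat) : Nat := @Bool.rec (fun _ => Nat) (Btab_764) (Btab_765) (Nat.ble 765 c)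
noncomputable def Btab_s_766_768 (c : Nat) : Nat := @Bool.rec (fun _ => Nat) (Btab_766) (Btab_767) (Nat.ble 767 c)
noncomputable def Btab_s_764_768 (c : Nat) : Nat := @Bool.rec (fun _ => Nat) (Btab_s_764_766 c) (Btab_s_766_768 c) (Nat.ble 766 c)
noncomputable def Btab_s_760_768 (c : Nat) : Nat := @Bool.rec (fun _ => Nat) (Btab_s_760_764 c) (Btab_s_764_768 c) (Nat.ble 764 c)
noncomputable def Btab_s_753_768 (c : Nat) : Nat := @Bool.rec (fun _ => Nat) (Btab_s_753_760 c) (Btab_s_760_768 c) (Nat.ble 760 c)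
noncomputable def Btab_s_768_770 (c : Nat) : Nat := @Bool.rec (fun _ => Nat) (Btab_768) (Btab_769) (Nat.ble 769 c)
noncomputable def Btab_s_770_772 (c : Nat) : Nat := @Bool.rec (fun _ => Nat) (Btab_770) (Btab_771) (Nat.ble 771 c)
noncomputable def Btab_s_768_772 (c : Nat) : Nat := @Bool.rec (fun _ => Nat) (Btab_s_768_770 c) (Btab_s_770_772 c) (Nat.ble 770 c)
noncomputable def Btab_s_772_774 (c : Nat) : Nat := @Bool.rec (fun _ => Nat) (Btab_772) (Btab_773) (Nat.ble 773 c)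
noncomputable def Btab_s_774_776 (c : Nat) : Nat := @Bool.rec (fun _ => Nat) (Btab_774) (Btab_775) (Nat.ble 775 c)
noncomputable def Btab_s_772_776 (c : Nat) : Nat := @Bool.rec (fun _ => Nat) (Btab_s_772_774 c) (Btab_s_774_776 c) (Nat.ble 774 c)
noncomputable def Btab_s_768_776 (c : Nat) : Nat := @Bool.rec (fun _ => Nat) (Btab_s_768_772 c) (Btab_s_772_776 c) (Nat.ble 772 c)
noncomputable def Btab_s_776_778 (c : Nat) : Nat := @Bool.rec (fun _ => Nat) (Btab_776) (Btab_777) (Nat.ble 777 c)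
noncomputable def Btab_s_778_780 (c : Nat) : Nat := @Bool.rec (fun _ => Nat) (Btab_778) (Btab_779) (Nat.ble 779 c)
noncomputable def Btab_s_776_780 (c : Nat) : Nat := @Bool.rec (fun _ => Nat) (Btab_s_776_778 c) (Btab_s_778_780 c) (Nat.ble 778 c)
noncomputable def Btab_s_780_782 (c : Nat) : Nat := @Bool.rec (fun _ => Nat) (Btab_780) (Btab_781) (Nat.ble 781 c)
noncomputable def Btab_s_782_784 (c : Nat) : Nat := @Bool.rec (fun _ => Nat) (Btab_782) (Btab_783) (Nat.ble 783 c)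
noncomputable def Btab_s_780_784 (c : Nat) : Nat := @Bool.rec (fun _ => Nat) (Btab_s_780_782 c) (Btab_s_782_784 c) (Nat.ble 782 c)
noncomputable def Btab_s_776_784 (c : Nat) : Nat := @Bool.rec (fun _ => Nat) (Btab_s_776_780 c) (Btab_s_780_784 c) (Nat.ble 780 c)
noncomputable def Btab_s_768_784 (c : Nat) : Nat := @Bool.rec (fun _ => Nat) (Btab_s_768_776 c) (Btab_s_776_784 c) (Nat.ble 776 c)
noncomputable def Btab_s_753_784 (c : Nat) : Nat := @Bool.rec (fun _ => Nat) (Btab_s_753_768 c) (Btab_s_768_784 c) (Nat.ble 768 c)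
noncomputable def Btab_s_784_786 (c : Nat) : Nat := @Bool.rec (fun _ => Nat) (Btab_784) (Btab_785) (Nat.ble 785 c)
noncomputable def Btab_s_786_788 (c : Nat) : Nat := @Bool.rec (fun _ => Nat) (Btab_786) (Btab_787) (Nat.ble 787 c)
noncomputable def Btab_s_784_788 (c : Nat) : Nat := @Bool.rec (fun _ => Nat) (Btab_s_784_786 c) (Btab_s_786_788 c) (Nat.ble 786 c)
noncomputable def Btab_s_788_790 (c : Nat) : Nat := @Bool.rec (fun _ => Nat) (Btab_788) (Btab_789) (Nat.ble 789 c)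
noncomputable def Btab_s_790_792 (c : Nat) : Nat := @Bool.rec (fun _ => Nat) (Btab_790) (Btab_791) (Nat.ble 791 c)
noncomputable def Btab_s_788_792 (c : Nat) : Nat := @Bool.rec (fun _ => Nat) (Btab_s_788_790 c) (Btab_s_790_792 c) (Nat.ble 790 c)
noncomputable def Btab_s_784_792 (c : Nat) : Nat := @Bool.rec (fun _ => Nat) (Btab_s_784_788 c) (Btab_s_788_792 c) (Nat.ble 788 c)
noncomputable def Btab_s_792_794 (c : Nat) : Nat := @Bool.rec (fun _ => Nat) (Btab_792) (Btab_793) (Nat.ble 793 c)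
noncomputable def Btab_s_794_796 (c : Nat) : Nat := @Bool.rec (fun _ => Nat) (Btab_794) (Btab_795) (Nat.ble 795 c)
noncomputable def Btab_s_792_796 (c : Nat) : Nat := @Bool.rec (fun _ => Nat) (Btab_s_792_794 c) (Btab_s_794_796 c) (Nat.ble 794 c)
noncomputable def Btab_s_796_798 (c : Nat) : Nat := @Bool.rec (fun _ => Nat) (Btab_796) (Btab_797) (Nat.ble 797 c)
noncomputable def Btab_s_798_800 (c : Nat) : Nat := @Bool.rec (fun _ => Nat) (Btab_798) (Btab_799) (Nat.ble 799 c)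
noncomputable def Btab_s_796_800 (c : Nat) : Nat := @Bool.rec (fun _ => Nat) (Btab_s_796_798 c) (Btab_s_798_800 c) (Nat.ble 798 c)
noncomputable def Btab_s_792_800 (c : Nat) : Nat := @Bool.rec (fun _ => Nat) (Btab_s_792_796 c) (Btab_s_796_800 c) (Nat.ble 796 c)
noncomputable def Btab_s_784_800 (c : Nat) : Nat := @Bool.rec (fun _ => Nat) (Btab_s_784_792 c) (Btab_s_792_800 c) (Nat.ble 792 c)
noncomputable def Btab_s_800_802 (c : Nat) : Nat := @Bool.rec (fun _ => Nat) (Btab_800) (Btab_801) (Nat.ble 801 c)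
noncomputable def Btab_s_802_804 (c : Nat) : Nat := @Bool.rec (fun _ => Nat) (Btab_802) (Btab_803) (Nat.ble 803 c)
noncomputable def Btab_s_800_804 (c : Nat) : Nat := @Bool.rec (fun _ => Nat) (Btab_s_800_802 c) (Btab_s_802_804 c) (Nat.ble 802 c)
noncomputable def Btab_s_804_806 (c : Nat) : Nat := @Bool.rec (fun _ => Nat) (Btab_804) (Btab_805) (Nat.ble 805 c)
noncomputable def Btab_s_806_808 (c : Nat) : Nat := @Bool.rec (fun _ => Nat) (Btab_806) (Btab_807) (Nat.ble 807 c)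
noncomputable def Btab_s_804_808 (c : Nat) : Nat := @Bool.rec (fun _ => Nat) (Btab_s_804_806 c) (Btab_s_806_808 c) (Nat.ble 806 c)
noncomputable def Btab_s_800_808 (c : Nat) : Nat := @Bool.rec (fun _ => Nat) (Btab_s_800_804 c) (Btab_s_804_808 c) (Nat.ble 804 c)
noncomputable def Btab_s_808_810 (c : Nat) : Nat := @Bool.rec (fun _ => Nat) (Btab_808) (Btab_809) (Nat.ble 809 c)
noncomputable def Btab_s_810_812 (c : Nat) : Nat := @Bool.rec (fun _ => Nat) (Btab_810) (Btab_811) (Nat.ble 811 c)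
noncomputable def Btab_s_808_812 (c : Nat) : Nat := @Bool.rec (fun _ => Nat) (Btab_s_808_810 c) (Btab_s_810_812 c) (Nat.ble 810 c)
noncomputable def Btab_s_812_814 (c : Nat) : Nat := @Bool.rec (fun _ => Nat) (Btab_812) (Btab_813) (Nat.ble 813 c)
noncomputable def Btab_s_814_816 (c : Nat) : Nat := @Bool.rec (fun _ => Nat) (Btab_814) (Btab_815) (Nat.ble 815 c)
noncomputable def Btab_s_812_816 (c : Nat) : Nat := @Bool.rec (fun _ => Nat) (Btab_s_812_814 c) (Btab_s_814_816 c) (Nat.ble 814 c)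
noncomputable def Btab_s_808_816 (c : Nat) : Nat := @Bool.rec (fun _ => Nat) (Btab_s_808_812 c) (Btab_s_812_816 c) (Nat.ble 812 c)
noncomputable def Btab_s_800_816 (c : Nat) : Nat := @Bool.rec (fun _ => Nat) (Btab_s_800_808 c) (Btab_s_808_816 c) (Nat.ble 808 c)
noncomputable def Btab_s_784_816 (c : Nat) : Nat := @Bool.rec (fun _ => Nat) (Btab_s_784_800 c) (Btab_s_800_816 c) (Nat.ble 800 c)
noncomputable def Btab_s_753_816 (c : Nat) : Nat := @Bool.rec (fun _ => Nat) (Btab_s_753_784 c) (Btab_s_784_816 c) (Nat.ble 784 c)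
noncomputable def Btab_s_817_819 (c : Nat) : Nat := @Bool.rec (fun _ => Nat) (Btab_817) (Btab_818) (Nat.ble 818 c)
noncomputable def Btab_s_816_819 (c : Nat) : Nat := @Bool.rec (fun _ => Nat) (Btab_816) (Btab_s_817_819 c) (Nat.ble 817 c)
noncomputable def Btab_s_819_821 (c : Nat) : Nat := @Bool.rec (fun _ => Nat) (Btab_819) (Btab_820) (Nat.ble 820 c)
noncomputable def Btab_s_821_823 (c : Nat) : Nat := @Bool.rec (fun _ => Nat) (Btab_821) (Btab_822) (Nat.ble 822 c)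
noncomputable def Btab_s_819_823 (c : Nat) : Nat := @Bool.rec (fun _ => Nat) (Btab_s_819_821 c) (Btab_s_821_823 c) (Nat.ble 821 c)
noncomputable def Btab_s_816_823 (c : Nat) : Nat := @Bool.rec (fun _ => Nat) (Btab_s_816_819 c) (Btab_s_819_823 c) (Nat.ble 819 c)
noncomputable def Btab_s_823_825 (c : Nat) : Nat := @Bool.rec (fun _ => Nat) (Btab_823) (Btab_824) (Nat.ble 824 c)
noncomputable def Btab_s_825_827 (c : Nat) : Nat := @Bool.rec (fun _ => Nat) (Btab_825) (Btab_826) (Nat.ble 826 c)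
noncomputable def Btab_s_823_827 (c : Nat) : Nat := @Bool.rec (fun _ => Nat) (Btab_s_823_825 c) (Btab_s_825_827 c) (Nat.ble 825 c)
noncomputable def Btab_s_827_829 (c : Nat) : Nat := @Bool.rec (fun _ => Nat) (Btab_827) (Btab_828) (Nat.ble 828 c)
noncomputable def Btab_s_829_831 (c : Nat) : Nat := @Bool.rec (fun _ => Nat) (Btab_829) (Btab_830) (Nat.ble 830 c)
noncomputable def Btab_s_827_831 (c : Nat) : Nat := @Bool.rec (fun _ => Nat) (Btab_s_827_829 c) (Btab_s_829_831 c) (Nat.ble 829 c)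
noncomputable def Btab_s_823_831 (c : Nat) : Nat := @Bool.rec (fun _ => Nat) (Btab_s_823_827 c) (Btab_s_827_831 c) (Nat.ble 827 c)
noncomputable def Btab_s_816_831 (c : Nat) : Nat := @Bool.rec (fun _ => Nat) (Btab_s_816_823 c) (Btab_s_823_831 c) (Nat.ble 823 c)
noncomputable def Btab_s_831_833 (c : Nat) : Nat := @Bool.rec (fun _ => Nat) (Btab_831) (Btab_832) (Nat.ble 832 c)
noncomputable def Btab_s_833_835 (c : Nat) : Nat := @Bool.rec (fun _ => Nat) (Btab_833) (Btab_834) (Nat.ble 834 c)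
noncomputable def Btab_s_831_835 (c : Nat) : Nat := @Bool.rec (fun _ => Nat) (Btab_s_831_833 c) (Btab_s_833_835 c) (Nat.ble 833 c)
noncomputable def Btab_s_835_837 (c : Nat) : Nat := @Bool.rec (fun _ => Nat) (Btab_835) (Btab_836) (Nat.ble 836 c)
noncomputable def Btab_s_837_839 (c : Nat) : Nat := @Bool.rec (fun _ => Nat) (Btab_837) (Btab_838) (Nat.ble 838 c)
noncomputable def Btab_s_835_839 (c : Nat) : Nat := @Bool.rec (fun _ => Nat) (Btab_s_835_837 c) (Btab_s_837_839 c) (Nat.ble 837 c)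
noncomputable def Btab_s_831_839 (c : Nat) : Nat := @Bool.rec (fun _ => Nat) (Btab_s_831_835 c) (Btab_s_835_839 c) (Nat.ble 835 c)
noncomputable def Btab_s_839_841 (c : Nat) : Nat := @Bool.rec (fun _ => Nat) (Btab_839) (Btab_840) (Nat.ble 840 c)
noncomputable def Btab_s_841_843 (c : Nat) : Nat := @Bool.rec (fun _ => Nat) (Btab_841) (Btab_842) (Nat.ble 842 c)
noncomputable def Btab_s_839_843 (c : Nat) : Nat := @Bool.rec (fun _ => Nat) (Btab_s_839_841 c) (Btab_s_841_843 c) (Nat.ble 841 c)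
noncomputable def Btab_s_843_845 (c : Nat) : Nat := @Bool.rec (fun _ => Nat) (Btab_843) (Btab_844) (Nat.ble 844 c)
noncomputable def Btab_s_845_847 (c : Nat) : Nat := @Bool.rec (fun _ => Nat) (Btab_845) (Btab_846) (Nat.ble 846 c)
noncomputable def Btab_s_843_847 (c : Nat) : Nat := @Bool.rec (fun _ => Nat) (Btab_s_843_845 c) (Btab_s_845_847 c) (Nat.ble 845 c)
noncomputable def Btab_s_839_847 (c : Nat) : Nat := @Bool.rec (fun _ => Nat) (Btab_s_839_843 c) (Btab_s_843_847 c) (Nat.ble 843 c)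
noncomputable def Btab_s_831_847 (c : Nat) : Nat := @Bool.rec (fun _ => Nat) (Btab_s_831_839 c) (Btab_s_839_847 c) (Nat.ble 839 c)
noncomputable def Btab_s_816_847 (c : Nat) : Nat := @Bool.rec (fun _ => Nat) (Btab_s_816_831 c) (Btab_s_831_847 c) (Nat.ble 831 c)
noncomputable def Btab_s_847_849 (c : Nat) : Nat := @Bool.rec (fun _ => Nat) (Btab_847) (Btab_848) (Nat.ble 848 c)
noncomputable def Btab_s_849_851 (c : Nat) : Nat := @Bool.rec (fun _ => Nat) (Btab_849) (Btab_850) (Nat.ble 850 c)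
noncomputable def Btab_s_847_851 (c : Nat) : Nat := @Bool.rec (fun _ => Nat) (Btab_s_847_849 c) (Btab_s_849_851 c) (Nat.ble 849 c)
noncomputable def Btab_s_851_853 (c : Nat) : Nat := @Bool.rec (fun _ => Nat) (Btab_851) (Btab_852) (Nat.ble 852 c)
noncomputable def Btab_s_853_855 (c : Nat) : Nat := @Bool.rec (fun _ => Nat) (Btab_853) (Btab_854) (Nat.ble 854 c)
noncomputable def Btab_s_851_855 (c : Nat) : Nat := @Bool.rec (fun _ => Nat) (Btab_s_851_853 c) (Btab_s_853_855 c) (Nat.ble 853 c)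
noncomputable def Btab_s_847_855 (c : Nat) : Nat := @Bool.rec (fun _ => Nat) (Btab_s_847_851 c) (Btab_s_851_855 c) (Nat.ble 851 c)
noncomputable def Btab_s_855_857 (c : Nat) : Nat := @Bool.rec (fun _ => Nat) (Btab_855) (Btab_856) (Nat.ble 856 c)
noncomputable def Btab_s_857_859 (c : Nat) : Nat := @Bool.rec (fun _ => Nat) (Btab_857) (Btab_858) (Nat.ble 858 c)
noncomputable def Btab_s_855_859 (c : Nat) : Nat := @Bool.rec (fun _ => Nat) (Btab_s_855_857 c) (Btab_s_857_859 c) (Nat.ble 857 c)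
noncomputable def Btab_s_859_861 (c : Nat) : Nat := @Bool.rec (fun _ => Nat) (Btab_859) (Btab_860) (Nat.ble 860 c)
noncomputable def Btab_s_861_863 (c : Nat) : Nat := @Bool.rec (fun _ => Nat) (Btab_861) (Btab_862) (Nat.ble 862 c)
noncomputable def Btab_s_859_863 (c : Nat) : Nat := @Bool.rec (fun _ => Nat) (Btab_s_859_861 c) (Btab_s_861_863 c) (Nat.ble 861 c)
noncomputable def Btab_s_855_863 (c : Nat) : Nat := @Bool.rec (fun _ => Nat) (Btab_s_855_859 c) (Btab_s_859_863 c) (Nat.ble 859 c)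
noncomputable def Btab_s_847_863 (c : Nat) : Nat := @Bool.rec (fun _ => Nat) (Btab_s_847_855 c) (Btab_s_855_863 c) (Nat.ble 855 c)
noncomputable def Btab_s_863_865 (c : Nat) : Nat := @Bool.rec (fun _ => Nat) (Btab_863) (Btab_864) (Nat.ble 864 c)
noncomputable def Btab_s_865_867 (c : Nat) : Nat := @Bool.rec (fun _ => Nat) (Btab_865) (Btab_866) (Nat.ble 866 c)
noncomputable def Btab_s_863_867 (c : Nat) : Nat := @Bool.rec (fun _ => Nat) (Btab_s_863_865 c) (Btab_s_865_867 c) (Nat.ble 865 c)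
noncomputable def Btab_s_867_869 (c : Nat) : Nat := @Bool.rec (fun _ => Nat) (Btab_867) (Btab_868) (Nat.ble 868 c)
noncomputable def Btab_s_869_871 (c : Nat) : Nat := @Bool.rec (fun _ => Nat) (Btab_869) (Btab_870) (Nat.ble 870 c)
noncomputable def Btab_s_867_871 (c : Nat) : Nat := @Bool.rec (fun _ => Nat) (Btab_s_867_869 c) (Btab_s_869_871 c) (Nat.ble 869 c)
noncomputable def Btab_s_863_871 (c : Nat) : Nat := @Bool.rec (fun _ => Nat) (Btab_s_863_867 c) (Btab_s_867_871 c) (Nat.ble 867 c)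
noncomputable def Btab_s_871_873 (c : Nat) : Nat := @Bool.rec (fun _ => Nat) (Btab_871) (Btab_872) (Nat.ble 872 c)
noncomputable def Btab_s_873_875 (c : Nat) : Nat := @Bool.rec (fun _ => Nat) (Btab_873) (Btab_874) (Nat.ble 874 c)
noncomputable def Btab_s_871_875 (c : Nat) : Nat := @Bool.rec (fun _ => Nat) (Btab_s_871_873 c) (Btab_s_873_875 c) (Nat.ble 873 c)
noncomputable def Btab_s_875_877 (c : Nat) : Nat := @Bool.rec (fun _ => Nat) (Btab_875) (Btab_876) (Nat.ble 876 c)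
noncomputable def Btab_s_877_879 (c : Nat) : Nat := @Bool.rec (fun _ => Nat) (Btab_877) (Btab_878) (Nat.ble 878 c)
noncomputable def Btab_s_875_879 (c : Nat) : Nat := @Bool.rec (fun _ => Nat) (Btab_s_875_877 c) (Btab_s_877_879 c) (Nat.ble 877 c)
noncomputable def Btab_s_871_879 (c : Nat) : Nat := @Bool.rec (fun _ => Nat) (Btab_s_871_875 c) (Btab_s_875_879 c) (Nat.ble 875 c)
noncomputable def Btab_s_863_879 (c : Nat) : Nat := @Bool.rec (fun _ => Nat) (Btab_s_863_871 c) (Btab_s_871_879 c) (Nat.ble 871 c)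
noncomputable def Btab_s_847_879 (c : Nat) : Nat := @Bool.rec (fun _ => Nat) (Btab_s_847_863 c) (Btab_s_863_879 c) (Nat.ble 863 c)
noncomputable def Btab_s_816_879 (c : Nat) : Nat := @Bool.rec (fun _ => Nat) (Btab_s_816_847 c) (Btab_s_847_879 c) (Nat.ble 847 c)
noncomputable def Btab_s_753_879 (c : Nat) : Nat := @Bool.rec (fun _ => Nat) (Btab_s_753_816 c) (Btab_s_816_879 c) (Nat.ble 816 c)
noncomputable def Btab_s_880_882 (c : Nat) : Nat := @Bool.rec (fun _ => Nat) (Btab_880) (Btab_881) (Nat.ble 881 c)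
noncomputable def Btab_s_879_882 (c : Nat) : Nat := @Bool.rec (fun _ => Nat) (Btab_879) (Btab_s_880_882 c) (Nat.ble 880 c)
noncomputable def Btab_s_882_884 (c : Nat) : Nat := @Bool.rec (fun _ => Nat) (Btab_882) (Btab_883) (Nat.ble 883 c)
noncomputable def Btab_s_884_886 (c : Nat) : Nat := @Bool.rec (fun _ => Nat) (Btab_884) (Btab_885) (Nat.ble 885 c)
noncomputable def Btab_s_882_886 (c : Nat) : Nat := @Bool.rec (fun _ => Nat) (Btab_s_882_884 c) (Btab_s_884_886 c) (Nat.ble 884 c)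
noncomputable def Btab_s_879_886 (c : Nat) : Nat := @Bool.rec (fun _ => Nat) (Btab_s_879_882 c) (Btab_s_882_886 c) (Nat.ble 882 c)
noncomputable def Btab_s_886_888 (c : Nat) : Nat := @Bool.rec (fun _ => Nat) (Btab_886) (Btab_887) (Nat.ble 887 c)
noncomputable def Btab_s_888_890 (c : Nat) : Nat := @Bool.rec (fun _ => Nat) (Btab_888) (Btab_889) (Nat.ble 889 c)
noncomputable def Btab_s_886_890 (c : Nat) : Nat := @Bool.rec (fun _ => Nat) (Btab_s_886_888 c) (Btab_s_888_890 c) (Nat.ble 888 c)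
noncomputable def Btab_s_890_892 (c : Nat) : Nat := @Bool.rec (fun _ => Nat) (Btab_890) (Btab_891) (Nat.ble 891 c)
noncomputable def Btab_s_892_894 (c : Nat) : Nat := @Bool.rec (fun _ => Nat) (Btab_892) (Btab_893) (Nat.ble 893 c)
noncomputable def Btab_s_890_894 (c : Nat) : Nat := @Bool.rec (fun _ => Nat) (Btab_s_890_892 c) (Btab_s_892_894 c) (Nat.ble 892 c)
noncomputable def Btab_s_886_894 (c : Nat) : Nat := @Bool.rec (fun _ => Nat) (Btab_s_886_890 c) (Btab_s_890_894 c) (Nat.ble 890 c)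
noncomputable def Btab_s_879_894 (c : Nat) : Nat := @Bool.rec (fun _ => Nat) (Btab_s_879_886 c) (Btab_s_886_894 c) (Nat.ble 886 c)
noncomputable def Btab_s_894_896 (c : Nat) : Nat := @Bool.rec (fun _ => Nat) (Btab_894) (Btab_895) (Nat.ble 895 c)
noncomputable def Btab_s_896_898 (c : Nat) : Nat := @Bool.rec (fun _ => Nat) (Btab_896) (Btab_897) (Nat.ble 897 c)
noncomputable def Btab_s_894_898 (c : Nat) : Nat := @Bool.rec (fun _ => Nat) (Btab_s_894_896 c) (Btab_s_896_898 c) (Nat.ble 896 c)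
noncomputable def Btab_s_898_900 (c : Nat) : Nat := @Bool.rec (fun _ => Nat) (Btab_898) (Btab_899) (Nat.ble 899 c)
noncomputable def Btab_s_900_902 (c : Nat) : Nat := @Bool.rec (fun _ => Nat) (Btab_900) (Btab_901) (Nat.ble 901 c)
noncomputable def Btab_s_898_902 (c : Nat) : Nat := @Bool.rec (fun _ => Nat) (Btab_s_898_900 c) (Btab_s_900_902 c) (Nat.ble 900 c)
noncomputable def Btab_s_894_902 (c : Nat) : Nat := @Bool.rec (fun _ => Nat) (Btab_s_894_898 c) (Btab_s_898_902 c) (Nat.ble 898 c)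
noncomputable def Btab_s_902_904 (c : Nat) : Nat := @Bool.rec (fun _ => Nat) (Btab_902) (Btab_903) (Nat.ble 903 c)
noncomputable def Btab_s_904_906 (c : Nat) : Nat := @Bool.rec (fun _ => Nat) (Btab_904) (Btab_905) (Nat.ble 905 c)
noncomputable def Btab_s_902_906 (c : Nat) : Nat := @Bool.rec (fun _ => Nat) (Btab_s_902_904 c) (Btab_s_904_906 c) (Nat.ble 904 c)
noncomputable def Btab_s_906_908 (c : Nat) : Nat := @Bool.rec (fun _ => Nat) (Btab_906) (Btab_907) (Nat.ble 907 c)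
noncomputable def Btab_s_908_910 (c : Nat) : Nat := @Bool.rec (fun _ => Nat) (Btab_908) (Btab_909) (Nat.ble 909 c)
noncomputable def Btab_s_906_910 (c : Nat) : Nat := @Bool.rec (fun _ => Nat) (Btab_s_906_908 c) (Btab_s_908_910 c) (Nat.ble 908 c)
noncomputable def Btab_s_902_910 (c : Nat) : Nat := @Bool.rec (fun _ => Nat) (Btab_s_902_906 c) (Btab_s_906_910 c) (Nat.ble 906 c)
noncomputable def Btab_s_894_910 (c : Nat) : Nat := @Bool.rec (fun _ => Nat) (Btab_s_894_902 c) (Btab_s_902_910 c) (Nat.ble 902 c)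
noncomputable def Btab_s_879_910 (c : Nat) : Nat := @Bool.rec (fun _ => Nat) (Btab_s_879_894 c) (Btab_s_894_910 c) (Nat.ble 894 c)
noncomputable def Btab_s_910_912 (c : Nat) : Nat := @Bool.rec (fun _ => Nat) (Btab_910) (Btab_911) (Nat.ble 911 c)
noncomputable def Btab_s_912_914 (c : Nat) : Nat := @Bool.rec (fun _ => Nat) (Btab_912) (Btab_913) (Nat.ble 913 c)
noncomputable def Btab_s_910_914 (c : Nat) : Nat := @Bool.rec (fun _ => Nat) (Btab_s_910_912 c) (Btab_s_912_914 c) (Nat.ble 912 c)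
noncomputable def Btab_s_914_916 (c : Nat) : Nat := @Bool.rec (fun _ => Nat) (Btab_914) (Btab_915) (Nat.ble 915 c)
noncomputable def Btab_s_916_918 (c : Nat) : Nat := @Bool.rec (fun _ => Nat) (Btab_916) (Btab_917) (Nat.ble 917 c)
noncomputable def Btab_s_914_918 (c : Nat) : Nat := @Bool.rec (fun _ => Nat) (Btab_s_914_916 c) (Btab_s_916_918 c) (Nat.ble 916 c)
noncomputable def Btab_s_910_918 (c : Nat) : Nat := @Bool.rec (fun _ => Nat) (Btab_s_910_914 c) (Btab_s_914_918 c) (Nat.ble 914 c)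
noncomputable def Btab_s_918_920 (c : Nat) : Nat := @Bool.rec (fun _ => Nat) (Btab_918) (Btab_919) (Nat.ble 919 c)
noncomputable def Btab_s_920_922 (c : Nat) : Nat := @Bool.rec (fun _ => Nat) (Btab_920) (Btab_921) (Nat.ble 921 c)
noncomputable def Btab_s_918_922 (c : Nat) : Nat := @Bool.rec (fun _ => Nat) (Btab_s_918_920 c) (Btab_s_920_922 c) (Nat.ble 920 c)
noncomputable def Btab_s_922_924 (c : Nat) : Nat := @Bool.rec (fun _ => Nat) (Btab_922) (Btab_923) (Nat.ble 923 c)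
noncomputable def Btab_s_924_926 (c : Nat) : Nat := @Bool.rec (fun _ => Nat) (Btab_924) (Btab_925) (Nat.ble 925 c)
noncomputable def Btab_s_922_926 (c : Nat) : Nat := @Bool.rec (fun _ => Nat) (Btab_s_922_924 c) (Btab_s_924_926 c) (Nat.ble 924 c)
noncomputable def Btab_s_918_926 (c : Nat) : Nat := @Bool.rec (fun _ => Nat) (Btab_s_918_922 c) (Btab_s_922_926 c) (Nat.ble 922 c)
noncomputable def Btab_s_910_926 (c : Nat) : Nat := @Bool.rec (fun _ => Nat) (Btab_s_910_918 c) (Btab_s_918_926 c) (Nat.ble 918 c)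
noncomputable def Btab_s_926_928 (c : Nat) : Nat := @Bool.rec (fun _ => Nat) (Btab_926) (Btab_927) (Nat.ble 927 c)
noncomputable def Btab_s_928_930 (c : Nat) : Nat := @Bool.rec (fun _ => Nat) (Btab_928) (Btab_929) (Nat.ble 929 c)
noncomputable def Btab_s_926_930 (c : Nat) : Nat := @Bool.rec (fun _ => Nat) (Btab_s_926_928 c) (Btab_s_928_930 c) (Nat.ble 928 c)
noncomputable def Btab_s_930_932 (c : Nat) : Nat := @Bool.rec (fun _ => Nat) (Btab_930) (Btab_931) (Nat.ble 931 c)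
noncomputable def Btab_s_932_934 (c : Nat) : Nat := @Bool.rec (fun _ => Nat) (Btab_932) (Btab_933) (Nat.ble 933 c)
noncomputable def Btab_s_930_934 (c : Nat) : Nat := @Bool.rec (fun _ => Nat) (Btab_s_930_932 c) (Btab_s_932_934 c) (Nat.ble 932 c)
noncomputable def Btab_s_926_934 (c : Nat) : Nat := @Bool.rec (fun _ => Nat) (Btab_s_926_930 c) (Btab_s_930_934 c) (Nat.ble 930 c)
noncomputable def Btab_s_934_936 (c : Nat) : Nat := @Bool.rec (fun _ => Nat) (Btab_934) (Btab_935) (Nat.ble 935 c)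
noncomputable def Btab_s_936_938 (c : Nat) : Nat := @Bool.rec (fun _ => Nat) (Btab_936) (Btab_937) (Nat.ble 937 c)
noncomputable def Btab_s_934_938 (c : Nat) : Nat := @Bool.rec (fun _ => Nat) (Btab_s_934_936 c) (Btab_s_936_938 c) (Nat.ble 936 c)
noncomputable def Btab_s_938_940 (c : Nat) : Nat := @Bool.rec (fun _ => Nat) (Btab_938) (Btab_939) (Nat.ble 939 c)
noncomputable def Btab_s_940_942 (c : Nat) : Nat := @Bool.rec (fun _ => Nat) (Btab_940) (Btab_941) (Nat.ble 941 c)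
noncomputable def Btab_s_938_942 (c : Nat) : Nat := @Bool.rec (fun _ => Nat) (Btab_s_938_940 c) (Btab_s_940_942 c) (Nat.ble 940 c)
noncomputable def Btab_s_934_942 (c : Nat) : Nat := @Bool.rec (fun _ => Nat) (Btab_s_934_938 c) (Btab_s_938_942 c) (Nat.ble 938 c)
noncomputable def Btab_s_926_942 (c : Nat) : Nat := @Bool.rec (fun _ => Nat) (Btab_s_926_934 c) (Btab_s_934_942 c) (Nat.ble 934 c)
noncomputable def Btab_s_910_942 (c : Nat) : Nat := @Bool.rec (fun _ => Nat) (Btab_s_910_926 c) (Btab_s_926_942 c) (Nat.ble 926 c)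
noncomputable def Btab_s_879_942 (c : Nat) : Nat := @Bool.rec (fun _ => Nat) (Btab_s_879_910 c) (Btab_s_910_942 c) (Nat.ble 910 c)
noncomputable def Btab_s_943_945 (c : Nat) : Nat := @Bool.rec (fun _ => Nat) (Btab_943) (Btab_944) (Nat.ble 944 c)
noncomputable def Btab_s_942_945 (c : Nat) : Nat := @Bool.rec (fun _ => Nat) (Btab_942) (Btab_s_943_945 c) (Nat.ble 943 c)
noncomputable def Btab_s_945_947 (c : Nat) : Nat := @Bool.rec (fun _ => Nat) (Btab_945) (Btab_946) (Nat.ble 946 c)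
noncomputable def Btab_s_947_949 (c : Nat) : Nat := @Bool.rec (fun _ => Nat) (Btab_947) (Btab_948) (Nat.ble 948 c)
noncomputable def Btab_s_945_949 (c : Nat) : Nat := @Bool.rec (fun _ => Nat) (Btab_s_945_947 c) (Btab_s_947_949 c) (Nat.ble 947 c)
noncomputable def Btab_s_942_949 (c : Nat) : Nat := @Bool.rec (fun _ => Nat) (Btab_s_942_945 c) (Btab_s_945_949 c) (Nat.ble 945 c)
noncomputable def Btab_s_949_951 (c : Nat) : Nat := @Bool.rec (fun _ => Nat) (Btab_949) (Btab_950) (Nat.ble 950 c)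
noncomputable def Btab_s_951_953 (c : Nat) : Nat := @Bool.rec (fun _ => Nat) (Btab_951) (Btab_952) (Nat.ble 952 c)
noncomputable def Btab_s_949_953 (c : Nat) : Nat := @Bool.rec (fun _ => Nat) (Btab_s_949_951 c) (Btab_s_951_953 c) (Nat.ble 951 c)
noncomputable def Btab_s_953_955 (c : Nat) : Nat := @Bool.rec (fun _ => Nat) (Btab_953) (Btab_954) (Nat.ble 954 c)
noncomputable def Btab_s_955_957 (c : Nat) : Nat := @Bool.rec (fun _ => Nat) (Btab_955) (Btab_956) (Nat.ble 956 c)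
noncomputable def Btab_s_953_957 (c : Nat) : Nat := @Bool.rec (fun _ => Nat) (Btab_s_953_955 c) (Btab_s_955_957 c) (Nat.ble 955 c)
noncomputable def Btab_s_949_957 (c : Nat) : Nat := @Bool.rec (fun _ => Nat) (Btab_s_949_953 c) (Btab_s_953_957 c) (Nat.ble 953 c)
noncomputable def Btab_s_942_957 (c : Nat) : Nat := @Bool.rec (fun _ => Nat) (Btab_s_942_949 c) (Btab_s_949_957 c) (Nat.ble 949 c)
noncomputable def Btab_s_957_959 (c : Nat) : Nat := @Bool.rec (fun _ => Nat) (Btab_957) (Btab_958) (Nat.ble 958 c)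
noncomputable def Btab_s_959_961 (c : Nat) : Nat := @Bool.rec (fun _ => Nat) (Btab_959) (Btab_960) (Nat.ble 960 c)
noncomputable def Btab_s_957_961 (c : Nat) : Nat := @Bool.rec (fun _ => Nat) (Btab_s_957_959 c) (Btab_s_959_961 c) (Nat.ble 959 c)
noncomputable def Btab_s_961_963 (c : Nat) : Nat := @Bool.rec (fun _ => Nat) (Btab_961) (Btab_962) (Nat.ble 962 c)
noncomputable def Btab_s_963_965 (c : Nat) : Nat := @Bool.rec (fun _ => Nat) (Btab_963) (Btab_964) (Nat.ble 964 c)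
noncomputable def Btab_s_961_965 (c : Nat) : Nat := @Bool.rec (fun _ => Nat) (Btab_s_961_963 c) (Btab_s_963_965 c) (Nat.ble 963 c)
noncomputable def Btab_s_957_965 (c : Nat) : Nat := @Bool.rec (fun _ => Nat) (Btab_s_957_961 c) (Btab_s_961_965 c) (Nat.ble 961 c)
noncomputable def Btab_s_965_967 (c : Nat) : Nat := @Bool.rec (fun _ => Nat) (Btab_965) (Btab_966) (Nat.ble 966 c)
noncomputable def Btab_s_967_969 (c : Nat) : Nat := @Bool.rec (fun _ => Nat) (Btab_967) (Btab_968) (Nat.ble 968 c)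
noncomputable def Btab_s_965_969 (c : Nat) : Nat := @Bool.rec (fun _ => Nat) (Btab_s_965_967 c) (Btab_s_967_969 c) (Nat.ble 967 c)
noncomputable def Btab_s_969_971 (c : Nat) : Nat := @Bool.rec (fun _ => Nat) (Btab_969) (Btab_970) (Nat.ble 970 c)
noncomputable def Btab_s_971_973 (c : Nat) : Nat := @Bool.rec (fun _ => Nat) (Btab_971) (Btab_972) (Nat.ble 972 c)
noncomputable def Btab_s_969_973 (c : Nat) : Nat := @Bool.rec (fun _ => Nat) (Btab_s_969_971 c) (Btab_s_971_973 c) (Nat.ble 971 c)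
noncomputable def Btab_s_965_973 (c : Nat) : Nat := @Bool.rec (fun _ => Nat) (Btab_s_965_969 c) (Btab_s_969_973 c) (Nat.ble 969 c)
noncomputable def Btab_s_957_973 (c : Nat) : Nat := @Bool.rec (fun _ => Nat) (Btab_s_957_965 c) (Btab_s_965_973 c) (Nat.ble 965 c)
noncomputable def Btab_s_942_973 (c : Nat) : Nat := @Bool.rec (fun _ => Nat) (Btab_s_942_957 c) (Btab_s_957_973 c) (Nat.ble 957 c)
noncomputable def Btab_s_973_975 (c : Nat) : Nat := @Bool.rec (fun _ => Nat) (Btab_973) (Btab_974) (Nat.ble 974 c)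
noncomputable def Btab_s_975_977 (c : Nat) : Nat := @Bool.rec (fun _ => Nat) (Btab_975) (Btab_976) (Nat.ble 976 c)
noncomputable def Btab_s_973_977 (c : Nat) : Nat := @Bool.rec (fun _ => Nat) (Btab_s_973_975 c) (Btab_s_975_977 c) (Nat.ble 975 c)
noncomputable def Btab_s_977_979 (c : Nat) : Nat := @Bool.rec (fun _ => Nat) (Btab_977) (Btab_978) (Nat.ble 978 c)
noncomputable def Btab_s_979_981 (c : Nat) : Nat := @Bool.rec (fun _ => Nat) (Btab_979) (Btab_980) (Nat.ble 980 c)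
noncomputable def Btab_s_977_981 (c : Nat) : Nat := @Bool.rec (fun _ => Nat) (Btab_s_977_979 c) (Btab_s_979_981 c) (Nat.ble 979 c)
noncomputable def Btab_s_973_981 (c : Nat) : Nat := @Bool.rec (fun _ => Nat) (Btab_s_973_977 c) (Btab_s_977_981 c) (Nat.ble 977 c)
noncomputable def Btab_s_981_983 (c : Nat) : Nat := @Bool.rec (fun _ => Nat) (Btab_981) (Btab_982) (Nat.ble 982 c)
noncomputable def Btab_s_983_985 (c : Nat) : Nat := @Bool.rec (fun _ => Nat) (Btab_983) (Btab_984) (Nat.ble 984 c)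
noncomputable def Btab_s_981_985 (c : Nat) : Nat := @Bool.rec (fun _ => Nat) (Btab_s_981_983 c) (Btab_s_983_985 c) (Nat.ble 983 c)
noncomputable def Btab_s_985_987 (c : Nat) : Nat := @Bool.rec (fun _ => Nat) (Btab_985) (Btab_986) (Nat.ble 986 c)
noncomputable def Btab_s_987_989 (c : Nat) : Nat := @Bool.rec (fun _ => Nat) (Btab_987) (Btab_988) (Nat.ble 988 c)
noncomputable def Btab_s_985_989 (c : Nat) : Nat := @Bool.rec (fun _ => Nat) (Btab_s_985_987 c) (Btab_s_987_989 c) (Nat.ble 987 c)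
noncomputable def Btab_s_981_989 (c : Nat) : Nat := @Bool.rec (fun _ => Nat) (Btab_s_981_985 c) (Btab_s_985_989 c) (Nat.ble 985 c)
noncomputable def Btab_s_973_989 (c : Nat) : Nat := @Bool.rec (fun _ => Nat) (Btab_s_973_981 c) (Btab_s_981_989 c) (Nat.ble 981 c)
noncomputable def Btab_s_989_991 (c : Nat) : Nat := @Bool.rec (fun _ => Nat) (Btab_989) (Btab_990) (Nat.ble 990 c)
noncomputable def Btab_s_991_993 (c : Nat) : Nat := @Bool.rec (fun _ => Nat) (Btab_991) (Btab_992) (Nat.ble 992 c)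
noncomputable def Btab_s_989_993 (c : Nat) : Nat := @Bool.rec (fun _ => Nat) (Btab_s_989_991 c) (Btab_s_991_993 c) (Nat.ble 991 c)
noncomputable def Btab_s_993_995 (c : Nat) : Nat := @Bool.rec (fun _ => Nat) (Btab_993) (Btab_994) (Nat.ble 994 c)
noncomputable def Btab_s_995_997 (c : Nat) : Nat := @Bool.rec (fun _ => Nat) (Btab_995) (Btab_996) (Nat.ble 996 c)
noncomputable def Btab_s_993_997 (c : Nat) : Nat := @Bool.rec (fun _ => Nat) (Btab_s_993_995 c) (Btab_s_995_997 c) (Nat.ble 995 c)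
noncomputable def Btab_s_989_997 (c : Nat) : Nat := @Bool.rec (fun _ => Nat) (Btab_s_989_993 c) (Btab_s_993_997 c) (Nat.ble 993 c)
noncomputable def Btab_s_997_999 (c : Nat) : Nat := @Bool.rec (fun _ => Nat) (Btab_997) (Btab_998) (Nat.ble 998 c)
noncomputable def Btab_s_999_1001 (c : Nat) : Nat := @Bool.rec (fun _ => Nat) (Btab_999) (Btab_1000) (Nat.ble 1000 c)
noncomputable def Btab_s_997_1001 (c : Nat) : Nat := @Bool.rec (fun _ => Nat) (Btab_s_997_999 c) (Btab_s_999_1001 c) (Nat.ble 999 c)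
noncomputable def Btab_s_1001_1003 (c : Nat) : Nat := @Bool.rec (fun _ => Nat) (Btab_1001) (Btab_1002) (Nat.ble 1002 c)
noncomputable def Btab_s_1003_1005 (c : Nat) : Nat := @Bool.rec (fun _ => Nat) (Btab_1003) (Btab_1004) (Nat.ble 1004 c)
noncomputable def Btab_s_1001_1005 (c : Nat) : Nat := @Bool.rec (fun _ => Nat) (Btab_s_1001_1003 c) (Btab_s_1003_1005 c) (Nat.ble 1003 c)
noncomputable def Btab_s_997_1005 (c : Nat) : Nat := @Bool.rec (fun _ => Nat) (Btab_s_997_1001 c) (Btab_s_1001_1005 c) (Nat.ble 1001 c)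
noncomputable def Btab_s_989_1005 (c : Nat) : Nat := @Bool.rec (fun _ => Nat) (Btab_s_989_997 c) (Btab_s_997_1005 c) (Nat.ble 997 c)
noncomputable def Btab_s_973_1005 (c : Nat) : Nat := @Bool.rec (fun _ => Nat) (Btab_s_973_989 c) (Btab_s_989_1005 c) (Nat.ble 989 c)
noncomputable def Btab_s_942_1005 (c : Nat) : Nat := @Bool.rec (fun _ => Nat) (Btab_s_942_973 c) (Btab_s_973_1005 c) (Nat.ble 973 c)
noncomputable def Btab_s_879_1005 (c : Nat) : Nat := @Bool.rec (fun _ => Nat) (Btab_s_879_942 c) (Btab_s_942_1005 c) (Nat.ble 942 c)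
noncomputable def Btab_s_753_1005 (c : Nat) : Nat := @Bool.rec (fun _ => Nat) (Btab_s_753_879 c) (Btab_s_879_1005 c) (Nat.ble 879 c)
noncomputable def Btab_s_502_1005 (c : Nat) : Nat := @Bool.rec (fun _ => Nat) (Btab_s_502_753 c) (Btab_s_753_1005 c) (Nat.ble 753 c)
noncomputable def Btab_s_0_1005 (c : Nat) : Nat := @Bool.rec (fun _ => Nat) (Btab_s_0_502 c) (Btab_s_502_1005 c) (Nat.ble 502 c)
noncomputable def Btab (i : Nat) : Nat := rdw 44 17592186044415 (Btab_s_0_1005 (Nat.shiftRight i 11)) (Nat.land i 2047)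
noncomputable def Ptab_s_1_3 (c : Nat) : Nat := @Bool.rec (fun _ => Nat) (Ptab_1) (Ptab_2) (Nat.ble 2 c)
noncomputable def Ptab_s_0_3 (c : Nat) : Nat := @Bool.rec (fun _ => Nat) (Ptab_0) (Ptab_s_1_3 c) (Nat.ble 1 c)
noncomputable def Ptab_s_3_5 (c : Nat) : Nat := @Bool.rec (fun _ => Nat) (Ptab_3) (Ptab_4) (Nat.ble 4 c)
noncomputable def Ptab_s_5_7 (c : Nat) : Nat := @Bool.rec (fun _ => Nat) (Ptab_5) (Ptab_6) (Nat.ble 6 c)
noncomputable def Ptab_s_3_7 (c : Nat) : Nat := @Bool.rec (fun _ => Nat) (Ptab_s_3_5 c) (Ptab_s_5_7 c) (Nat.ble 5 c)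
noncomputable def Ptab_s_0_7 (c : Nat) : Nat := @Bool.rec (fun _ => Nat) (Ptab_s_0_3 c) (Ptab_s_3_7 c) (Nat.ble 3 c)
noncomputable def Ptab_s_7_9 (c : Nat) : Nat := @Bool.rec (fun _ => Nat) (Ptab_7) (Ptab_8) (Nat.ble 8 c)
noncomputable def Ptab_s_9_11 (c : Nat) : Nat := @Bool.rec (fun _ => Nat) (Ptab_9) (Ptab_10) (Nat.ble 10 c)
noncomputable def Ptab_s_7_11 (c : Nat) : Nat := @Bool.rec (fun _ => Nat) (Ptab_s_7_9 c) (Ptab_s_9_11 c) (Nat.ble 9 c)
noncomputable def Ptab_s_11_13 (c : Nat) : Nat := @Bool.rec (fun _ => Nat) (Ptab_11) (Ptab_12) (Nat.ble 12 c)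
noncomputable def Ptab_s_13_15 (c : Nat) : Nat := @Bool.rec (fun _ => Nat) (Ptab_13) (Ptab_14) (Nat.ble 14 c)
noncomputable def Ptab_s_11_15 (c : Nat) : Nat := @Bool.rec (fun _ => Nat) (Ptab_s_11_13 c) (Ptab_s_13_15 c) (Nat.ble 13 c)
noncomputable def Ptab_s_7_15 (c : Nat) : Nat := @Bool.rec (fun _ => Nat) (Ptab_s_7_11 c) (Ptab_s_11_15 c) (Nat.ble 11 c)
noncomputable def Ptab_s_0_15 (c : Nat) : Nat := @Bool.rec (fun _ => Nat) (Ptab_s_0_7 c) (Ptab_s_7_15 c) (Nat.ble 7 c)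
noncomputable def Ptab_s_16_18 (c : Nat) : Nat := @Bool.rec (fun _ => Nat) (Ptab_16) (Ptab_17) (Nat.ble 17 c)
noncomputable def Ptab_s_15_18 (c : Nat) : Nat := @Bool.rec (fun _ => Nat) (Ptab_15) (Ptab_s_16_18 c) (Nat.ble 16 c)
noncomputable def Ptab_s_18_20 (c : Nat) : Nat := @Bool.rec (fun _ => Nat) (Ptab_18) (Ptab_19) (Nat.ble 19 c)
noncomputable def Ptab_s_20_22 (c : Nat) : Nat := @Bool.rec (fun _ => Nat) (Ptab_20) (Ptab_21) (Nat.ble 21 c)
noncomputable def Ptab_s_18_22 (c : Nat) : Nat := @Bool.rec (fun _ => Nat) (Ptab_s_18_20 c) (Ptab_s_20_22 c) (Nat.ble 20 c)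
noncomputable def Ptab_s_15_22 (c : Nat) : Nat := @Bool.rec (fun _ => Nat) (Ptab_s_15_18 c) (Ptab_s_18_22 c) (Nat.ble 18 c)
noncomputable def Ptab_s_22_24 (c : Nat) : Nat := @Bool.rec (fun _ => Nat) (Ptab_22) (Ptab_23) (Nat.ble 23 c)
noncomputable def Ptab_s_24_26 (c : Nat) : Nat := @Bool.rec (fun _ => Nat) (Ptab_24) (Ptab_25) (Nat.ble 25 c)
noncomputable def Ptab_s_22_26 (c : Nat) : Nat := @Bool.rec (fun _ => Nat) (Ptab_s_22_24 c) (Ptab_s_24_26 c) (Nat.ble 24 c)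
noncomputable def Ptab_s_26_28 (c : Nat) : Nat := @Bool.rec (fun _ => Nat) (Ptab_26) (Ptab_27) (Nat.ble 27 c)
noncomputable def Ptab_s_28_30 (c : Nat) : Nat := @Bool.rec (fun _ => Nat) (Ptab_28) (Ptab_29) (Nat.ble 29 c)
noncomputable def Ptab_s_26_30 (c : Nat) : Nat := @Bool.rec (fun _ => Nat) (Ptab_s_26_28 c) (Ptab_s_28_30 c) (Nat.ble 28 c)
noncomputable def Ptab_s_22_30 (c : Nat) : Nat := @Bool.rec (fun _ => Nat) (Ptab_s_22_26 c) (Ptab_s_26_30 c) (Nat.ble 26 c)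
noncomputable def Ptab_s_15_30 (c : Nat) : Nat := @Bool.rec (fun _ => Nat) (Ptab_s_15_22 c) (Ptab_s_22_30 c) (Nat.ble 22 c)
noncomputable def Ptab_s_0_30 (c : Nat) : Nat := @Bool.rec (fun _ => Nat) (Ptab_s_0_15 c) (Ptab_s_15_30 c) (Nat.ble 15 c)
noncomputable def Ptab_s_31_33 (c : Nat) : Nat := @Bool.rec (fun _ => Nat) (Ptab_31) (Ptab_32) (Nat.ble 32 c)
noncomputable def Ptab_s_30_33 (c : Nat) : Nat := @Bool.rec (fun _ => Nat) (Ptab_30) (Ptab_s_31_33 c) (Nat.ble 31 c)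
noncomputable def Ptab_s_33_35 (c : Nat) : Nat := @Bool.rec (fun _ => Nat) (Ptab_33) (Ptab_34) (Nat.ble 34 c)
noncomputable def Ptab_s_35_37 (c : Nat) : Nat := @Bool.rec (fun _ => Nat) (Ptab_35) (Ptab_36) (Nat.ble 36 c)
noncomputable def Ptab_s_33_37 (c : Nat) : Nat := @Bool.rec (fun _ => Nat) (Ptab_s_33_35 c) (Ptab_s_35_37 c) (Nat.ble 35 c)
noncomputable def Ptab_s_30_37 (c : Nat) : Nat := @Bool.rec (fun _ => Nat) (Ptab_s_30_33 c) (Ptab_s_33_37 c) (Nat.ble 33 c)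
noncomputable def Ptab_s_37_39 (c : Nat) : Nat := @Bool.rec (fun _ => Nat) (Ptab_37) (Ptab_38) (Nat.ble 38 c)
noncomputable def Ptab_s_39_41 (c : Nat) : Nat := @Bool.rec (fun _ => Nat) (Ptab_39) (Ptab_40) (Nat.ble 40 c)
noncomputable def Ptab_s_37_41 (c : Nat) : Nat := @Bool.rec (fun _ => Nat) (Ptab_s_37_39 c) (Ptab_s_39_41 c) (Nat.ble 39 c)
noncomputable def Ptab_s_41_43 (c : Nat) : Nat := @Bool.rec (fun _ => Nat) (Ptab_41) (Ptab_42) (Nat.ble 42 c)
noncomputable def Ptab_s_43_45 (c : Nat) : Nat := @Bool.rec (fun _ => Nat) (Ptab_43) (Ptab_44) (Nat.ble 44 c)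
noncomputable def Ptab_s_41_45 (c : Nat) : Nat := @Bool.rec (fun _ => Nat) (Ptab_s_41_43 c) (Ptab_s_43_45 c) (Nat.ble 43 c)
noncomputable def Ptab_s_37_45 (c : Nat) : Nat := @Bool.rec (fun _ => Nat) (Ptab_s_37_41 c) (Ptab_s_41_45 c) (Nat.ble 41 c)
noncomputable def Ptab_s_30_45 (c : Nat) : Nat := @Bool.rec (fun _ => Nat) (Ptab_s_30_37 c) (Ptab_s_37_45 c) (Nat.ble 37 c)
noncomputable def Ptab_s_46_48 (c : Nat) : Nat := @Bool.rec (fun _ => Nat) (Ptab_46) (Ptab_47) (Nat.ble 47 c)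
noncomputable def Ptab_s_45_48 (c : Nat) : Nat := @Bool.rec (fun _ => Nat) (Ptab_45) (Ptab_s_46_48 c) (Nat.ble 46 c)
noncomputable def Ptab_s_48_50 (c : Nat) : Nat := @Bool.rec (fun _ => Nat) (Ptab_48) (Ptab_49) (Nat.ble 49 c)
noncomputable def Ptab_s_50_52 (c : Nat) : Nat := @Bool.rec (fun _ => Nat) (Ptab_50) (Ptab_51) (Nat.ble 51 c)
noncomputable def Ptab_s_48_52 (c : Nat) : Nat := @Bool.rec (fun _ => Nat) (Ptab_s_48_50 c) (Ptab_s_50_52 c) (Nat.ble 50 c)
noncomputable def Ptab_s_45_52 (c : Nat) : Nat := @Bool.rec (fun _ => Nat) (Ptab_s_45_48 c) (Ptab_s_48_52 c) (Nat.ble 48 c)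
noncomputable def Ptab_s_52_54 (c : Nat) : Nat := @Bool.rec (fun _ => Nat) (Ptab_52) (Ptab_53) (Nat.ble 53 c)
noncomputable def Ptab_s_54_56 (c : Nat) : Nat := @Bool.rec (fun _ => Nat) (Ptab_54) (Ptab_55) (Nat.ble 55 c)
noncomputable def Ptab_s_52_56 (c : Nat) : Nat := @Bool.rec (fun _ => Nat) (Ptab_s_52_54 c) (Ptab_s_54_56 c) (Nat.ble 54 c)
noncomputable def Ptab_s_56_58 (c : Nat) : Nat := @Bool.rec (fun _ => Nat) (Ptab_56) (Ptab_57) (Nat.ble 57 c)
noncomputable def Ptab_s_58_60 (c : Nat) : Nat := @Bool.rec (fun _ => Nat) (Ptab_58) (Ptab_59) (Nat.ble 59 c)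
noncomputable def Ptab_s_56_60 (c : Nat) : Nat := @Bool.rec (fun _ => Nat) (Ptab_s_56_58 c) (Ptab_s_58_60 c) (Nat.ble 58 c)
noncomputable def Ptab_s_52_60 (c : Nat) : Nat := @Bool.rec (fun _ => Nat) (Ptab_s_52_56 c) (Ptab_s_56_60 c) (Nat.ble 56 c)
noncomputable def Ptab_s_45_60 (c : Nat) : Nat := @Bool.rec (fun _ => Nat) (Ptab_s_45_52 c) (Ptab_s_52_60 c) (Nat.ble 52 c)
noncomputable def Ptab_s_30_60 (c : Nat) : Nat := @Bool.rec (fun _ => Nat) (Ptab_s_30_45 c) (Ptab_s_45_60 c) (Nat.ble 45 c)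
noncomputable def Ptab_s_0_60 (c : Nat) : Nat := @Bool.rec (fun _ => Nat) (Ptab_s_0_30 c) (Ptab_s_30_60 c) (Nat.ble 30 c)
noncomputable def Ptab_s_61_63 (c : Nat) : Nat := @Bool.rec (fun _ => Nat) (Ptab_61) (Ptab_62) (Nat.ble 62 c)
noncomputable def Ptab_s_60_63 (c : Nat) : Nat := @Bool.rec (fun _ => Nat) (Ptab_60) (Ptab_s_61_63 c) (Nat.ble 61 c)
noncomputable def Ptab_s_63_65 (c : Nat) : Nat := @Bool.rec (fun _ => Nat) (Ptab_63) (Ptab_64) (Nat.ble 64 c)
noncomputable def Ptab_s_65_67 (c : Nat) : Nat := @Bool.rec (fun _ => Nat) (Ptab_65) (Ptab_66) (Nat.ble 66 c)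
noncomputable def Ptab_s_63_67 (c : Nat) : Nat := @Bool.rec (fun _ => Nat) (Ptab_s_63_65 c) (Ptab_s_65_67 c) (Nat.ble 65 c)
noncomputable def Ptab_s_60_67 (c : Nat) : Nat := @Bool.rec (fun _ => Nat) (Ptab_s_60_63 c) (Ptab_s_63_67 c) (Nat.ble 63 c)
noncomputable def Ptab_s_67_69 (c : Nat) : Nat := @Bool.rec (fun _ => Nat) (Ptab_67) (Ptab_68) (Nat.ble 68 c)
noncomputable def Ptab_s_69_71 (c : Nat) : Nat := @Bool.rec (fun _ => Nat) (Ptab_69) (Ptab_70) (Nat.ble 70 c)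
noncomputable def Ptab_s_67_71 (c : Nat) : Nat := @Bool.rec (fun _ => Nat) (Ptab_s_67_69 c) (Ptab_s_69_71 c) (Nat.ble 69 c)
noncomputable def Ptab_s_71_73 (c : Nat) : Nat := @Bool.rec (fun _ => Nat) (Ptab_71) (Ptab_72) (Nat.ble 72 c)
noncomputable def Ptab_s_73_75 (c : Nat) : Nat := @Bool.rec (fun _ => Nat) (Ptab_73) (Ptab_74) (Nat.ble 74 c)
noncomputable def Ptab_s_71_75 (c : Nat) : Nat := @Bool.rec (fun _ => Nat) (Ptab_s_71_73 c) (Ptab_s_73_75 c) (Nat.ble 73 c)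
noncomputable def Ptab_s_67_75 (c : Nat) : Nat := @Bool.rec (fun _ => Nat) (Ptab_s_67_71 c) (Ptab_s_71_75 c) (Nat.ble 71 c)
noncomputable def Ptab_s_60_75 (c : Nat) : Nat := @Bool.rec (fun _ => Nat) (Ptab_s_60_67 c) (Ptab_s_67_75 c) (Nat.ble 67 c)
noncomputable def Ptab_s_76_78 (c : Nat) : Nat := @Bool.rec (fun _ => Nat) (Ptab_76) (Ptab_77) (Nat.ble 77 c)
noncomputable def Ptab_s_75_78 (c : Nat) : Nat := @Bool.rec (fun _ => Nat) (Ptab_75) (Ptab_s_76_78 c) (Nat.ble 76 c)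
noncomputable def Ptab_s_78_80 (c : Nat) : Nat := @Bool.rec (fun _ => Nat) (Ptab_78) (Ptab_79) (Nat.ble 79 c)
noncomputable def Ptab_s_80_82 (c : Nat) : Nat := @Bool.rec (fun _ => Nat) (Ptab_80) (Ptab_81) (Nat.ble 81 c)
noncomputable def Ptab_s_78_82 (c : Nat) : Nat := @Bool.rec (fun _ => Nat) (Ptab_s_78_80 c) (Ptab_s_80_82 c) (Nat.ble 80 c)
noncomputable def Ptab_s_75_82 (c : Nat) : Nat := @Bool.rec (fun _ => Nat) (Ptab_s_75_78 c) (Ptab_s_78_82 c) (Nat.ble 78 c)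
noncomputable def Ptab_s_82_84 (c : Nat) : Nat := @Bool.rec (fun _ => Nat) (Ptab_82) (Ptab_83) (Nat.ble 83 c)
noncomputable def Ptab_s_84_86 (c : Nat) : Nat := @Bool.rec (fun _ => Nat) (Ptab_84) (Ptab_85) (Nat.ble 85 c)
noncomputable def Ptab_s_82_86 (c : Nat) : Nat := @Bool.rec (fun _ => Nat) (Ptab_s_82_84 c) (Ptab_s_84_86 c) (Nat.ble 84 c)
noncomputable def Ptab_s_86_88 (c : Nat) : Nat := @Bool.rec (fun _ => Nat) (Ptab_86) (Ptab_87) (Nat.ble 87 c)
noncomputable def Ptab_s_88_90 (c : Nat) : Nat := @Bool.rec (fun _ => Nat) (Ptab_88) (Ptab_89) (Nat.ble 89 c)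
noncomputable def Ptab_s_86_90 (c : Nat) : Nat := @Bool.rec (fun _ => Nat) (Ptab_s_86_88 c) (Ptab_s_88_90 c) (Nat.ble 88 c)
noncomputable def Ptab_s_82_90 (c : Nat) : Nat := @Bool.rec (fun _ => Nat) (Ptab_s_82_86 c) (Ptab_s_86_90 c) (Nat.ble 86 c)
noncomputable def Ptab_s_75_90 (c : Nat) : Nat := @Bool.rec (fun _ => Nat) (Ptab_s_75_82 c) (Ptab_s_82_90 c) (Nat.ble 82 c)
noncomputable def Ptab_s_60_90 (c : Nat) : Nat := @Bool.rec (fun _ => Nat) (Ptab_s_60_75 c) (Ptab_s_75_90 c) (Nat.ble 75 c)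
noncomputable def Ptab_s_91_93 (c : Nat) : Nat := @Bool.rec (fun _ => Nat) (Ptab_91) (Ptab_92) (Nat.ble 92 c)
noncomputable def Ptab_s_90_93 (c : Nat) : Nat := @Bool.rec (fun _ => Nat) (Ptab_90) (Ptab_s_91_93 c) (Nat.ble 91 c)
noncomputable def Ptab_s_93_95 (c : Nat) : Nat := @Bool.rec (fun _ => Nat) (Ptab_93) (Ptab_94) (Nat.ble 94 c)
noncomputable def Ptab_s_95_97 (c : Nat) : Nat := @Bool.rec (fun _ => Nat) (Ptab_95) (Ptab_96) (Nat.ble 96 c)
noncomputable def Ptab_s_93_97 (c : Nat) : Nat := @Bool.rec (fun _ => Nat) (Ptab_s_93_95 c) (Ptab_s_95_97 c) (Nat.ble 95 c)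
noncomputable def Ptab_s_90_97 (c : Nat) : Nat := @Bool.rec (fun _ => Nat) (Ptab_s_90_93 c) (Ptab_s_93_97 c) (Nat.ble 93 c)
noncomputable def Ptab_s_97_99 (c : Nat) : Nat := @Bool.rec (fun _ => Nat) (Ptab_97) (Ptab_98) (Nat.ble 98 c)
noncomputable def Ptab_s_99_101 (c : Nat) : Nat := @Bool.rec (fun _ => Nat) (Ptab_99) (Ptab_100) (Nat.ble 100 c)
noncomputable def Ptab_s_97_101 (c : Nat) : Nat := @Bool.rec (fun _ => Nat) (Ptab_s_97_99 c) (Ptab_s_99_101 c) (Nat.ble 99 c)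
noncomputable def Ptab_s_101_103 (c : Nat) : Nat := @Bool.rec (fun _ => Nat) (Ptab_101) (Ptab_102) (Nat.ble 102 c)
noncomputable def Ptab_s_103_105 (c : Nat) : Nat := @Bool.rec (fun _ => Nat) (Ptab_103) (Ptab_104) (Nat.ble 104 c)
noncomputable def Ptab_s_101_105 (c : Nat) : Nat := @Bool.rec (fun _ => Nat) (Ptab_s_101_103 c) (Ptab_s_103_105 c) (Nat.ble 103 c)
noncomputable def Ptab_s_97_105 (c : Nat) : Nat := @Bool.rec (fun _ => Nat) (Ptab_s_97_101 c) (Ptab_s_101_105 c) (Nat.ble 101 c)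
noncomputable def Ptab_s_90_105 (c : Nat) : Nat := @Bool.rec (fun _ => Nat) (Ptab_s_90_97 c) (Ptab_s_97_105 c) (Nat.ble 97 c)
noncomputable def Ptab_s_105_107 (c : Nat) : Nat := @Bool.rec (fun _ => Nat) (Ptab_105) (Ptab_106) (Nat.ble 106 c)
noncomputable def Ptab_s_107_109 (c : Nat) : Nat := @Bool.rec (fun _ => Nat) (Ptab_107) (Ptab_108) (Nat.ble 108 c)
noncomputable def Ptab_s_105_109 (c : Nat) : Nat := @Bool.rec (fun _ => Nat) (Ptab_s_105_107 c) (Ptab_s_107_109 c) (Nat.ble 107 c)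
noncomputable def Ptab_s_109_111 (c : Nat) : Nat := @Bool.rec (fun _ => Nat) (Ptab_109) (Ptab_110) (Nat.ble 110 c)
noncomputable def Ptab_s_111_113 (c : Nat) : Nat := @Bool.rec (fun _ => Nat) (Ptab_111) (Ptab_112) (Nat.ble 112 c)
noncomputable def Ptab_s_109_113 (c : Nat) : Nat := @Bool.rec (fun _ => Nat) (Ptab_s_109_111 c) (Ptab_s_111_113 c) (Nat.ble 111 c)
noncomputable def Ptab_s_105_113 (c : Nat) : Nat := @Bool.rec (fun _ => Nat) (Ptab_s_105_109 c) (Ptab_s_109_113 c) (Nat.ble 109 c)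
noncomputable def Ptab_s_113_115 (c : Nat) : Nat := @Bool.rec (fun _ => Nat) (Ptab_113) (Ptab_114) (Nat.ble 114 c)
noncomputable def Ptab_s_115_117 (c : Nat) : Nat := @Bool.rec (fun _ => Nat) (Ptab_115) (Ptab_116) (Nat.ble 116 c)
noncomputable def Ptab_s_113_117 (c : Nat) : Nat := @Bool.rec (fun _ => Nat) (Ptab_s_113_115 c) (Ptab_s_115_117 c) (Nat.ble 115 c)
noncomputable def Ptab_s_117_119 (c : Nat) : Nat := @Bool.rec (fun _ => Nat) (Ptab_117) (Ptab_118) (Nat.ble 118 c)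
noncomputable def Ptab_s_119_121 (c : Nat) : Nat := @Bool.rec (fun _ => Nat) (Ptab_119) (Ptab_120) (Nat.ble 120 c)
noncomputable def Ptab_s_117_121 (c : Nat) : Nat := @Bool.rec (fun _ => Nat) (Ptab_s_117_119 c) (Ptab_s_119_121 c) (Nat.ble 119 c)
noncomputable def Ptab_s_113_121 (c : Nat) : Nat := @Bool.rec (fun _ => Nat) (Ptab_s_113_117 c) (Ptab_s_117_121 c) (Nat.ble 117 c)
noncomputable def Ptab_s_105_121 (c : Nat) : Nat := @Bool.rec (fun _ => Nat) (Ptab_s_105_113 c) (Ptab_s_113_121 c) (Nat.ble 113 c)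
noncomputable def Ptab_s_90_121 (c : Nat) : Nat := @Bool.rec (fun _ => Nat) (Ptab_s_90_105 c) (Ptab_s_105_121 c) (Nat.ble 105 c)
noncomputable def Ptab_s_60_121 (c : Nat) : Nat := @Bool.rec (fun _ => Nat) (Ptab_s_60_90 c) (Ptab_s_90_121 c) (Nat.ble 90 c)
noncomputable def Ptab_s_0_121 (c : Nat) : Nat := @Bool.rec (fun _ => Nat) (Ptab_s_0_60 c) (Ptab_s_60_121 c) (Nat.ble 60 c)
noncomputable def Ptab_s_122_124 (c : Nat) : Nat := @Bool.rec (fun _ => Nat) (Ptab_122) (Ptab_123) (Nat.ble 123 c)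
noncomputable def Ptab_s_121_124 (c : Nat) : Nat := @Bool.rec (fun _ => Nat) (Ptab_121) (Ptab_s_122_124 c) (Nat.ble 122 c)
noncomputable def Ptab_s_124_126 (c : Nat) : Nat := @Bool.rec (fun _ => Nat) (Ptab_124) (Ptab_125) (Nat.ble 125 c)
noncomputable def Ptab_s_126_128 (c : Nat) : Nat := @Bool.rec (fun _ => Nat) (Ptab_126) (Ptab_127) (Nat.ble 127 c)
noncomputable def Ptab_s_124_128 (c : Nat) : Nat := @Bool.rec (fun _ => Nat) (Ptab_s_124_126 c) (Ptab_s_126_128 c) (Nat.ble 126 c)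
noncomputable def Ptab_s_121_128 (c : Nat) : Nat := @Bool.rec (fun _ => Nat) (Ptab_s_121_124 c) (Ptab_s_124_128 c) (Nat.ble 124 c)
noncomputable def Ptab_s_128_130 (c : Nat) : Nat := @Bool.rec (fun _ => Nat) (Ptab_128) (Ptab_129) (Nat.ble 129 c)
noncomputable def Ptab_s_130_132 (c : Nat) : Nat := @Bool.rec (fun _ => Nat) (Ptab_130) (Ptab_131) (Nat.ble 131 c)
noncomputable def Ptab_s_128_132 (c : Nat) : Nat := @Bool.rec (fun _ => Nat) (Ptab_s_128_130 c) (Ptab_s_130_132 c) (Nat.ble 130 c)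
noncomputable def Ptab_s_132_134 (c : Nat) : Nat := @Bool.rec (fun _ => Nat) (Ptab_132) (Ptab_133) (Nat.ble 133 c)
noncomputable def Ptab_s_134_136 (c : Nat) : Nat := @Bool.rec (fun _ => Nat) (Ptab_134) (Ptab_135) (Nat.ble 135 c)
noncomputable def Ptab_s_132_136 (c : Nat) : Nat := @Bool.rec (fun _ => Nat) (Ptab_s_132_134 c) (Ptab_s_134_136 c) (Nat.ble 134 c)
noncomputable def Ptab_s_128_136 (c : Nat) : Nat := @Bool.rec (fun _ => Nat) (Ptab_s_128_132 c) (Ptab_s_132_136 c) (Nat.ble 132 c)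
noncomputable def Ptab_s_121_136 (c : Nat) : Nat := @Bool.rec (fun _ => Nat) (Ptab_s_121_128 c) (Ptab_s_128_136 c) (Nat.ble 128 c)
noncomputable def Ptab_s_137_139 (c : Nat) : Nat := @Bool.rec (fun _ => Nat) (Ptab_137) (Ptab_138) (Nat.ble 138 c)
noncomputable def Ptab_s_136_139 (c : Nat) : Nat := @Bool.rec (fun _ => Nat) (Ptab_136) (Ptab_s_137_139 c) (Nat.ble 137 c)
noncomputable def Ptab_s_139_141 (c : Nat) : Nat := @Bool.rec (fun _ => Nat) (Ptab_139) (Ptab_140) (Nat.ble 140 c)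
noncomputable def Ptab_s_141_143 (c : Nat) : Nat := @Bool.rec (fun _ => Nat) (Ptab_141) (Ptab_142) (Nat.ble 142 c)
noncomputable def Ptab_s_139_143 (c : Nat) : Nat := @Bool.rec (fun _ => Nat) (Ptab_s_139_141 c) (Ptab_s_141_143 c) (Nat.ble 141 c)
noncomputable def Ptab_s_136_143 (c : Nat) : Nat := @Bool.rec (fun _ => Nat) (Ptab_s_136_139 c) (Ptab_s_139_143 c) (Nat.ble 139 c)
noncomputable def Ptab_s_143_145 (c : Nat) : Nat := @Bool.rec (fun _ => Nat) (Ptab_143) (Ptab_144) (Nat.ble 144 c)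
noncomputable def Ptab_s_145_147 (c : Nat) : Nat := @Bool.rec (fun _ => Nat) (Ptab_145) (Ptab_146) (Nat.ble 146 c)
noncomputable def Ptab_s_143_147 (c : Nat) : Nat := @Bool.rec (fun _ => Nat) (Ptab_s_143_145 c) (Ptab_s_145_147 c) (Nat.ble 145 c)
noncomputable def Ptab_s_147_149 (c : Nat) : Nat := @Bool.rec (fun _ => Nat) (Ptab_147) (Ptab_148) (Nat.ble 148 c)
noncomputable def Ptab_s_149_151 (c : Nat) : Nat := @Bool.rec (fun _ => Nat) (Ptab_149) (Ptab_150) (Nat.ble 150 c)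
noncomputable def Ptab_s_147_151 (c : Nat) : Nat := @Bool.rec (fun _ => Nat) (Ptab_s_147_149 c) (Ptab_s_149_151 c) (Nat.ble 149 c)
noncomputable def Ptab_s_143_151 (c : Nat) : Nat := @Bool.rec (fun _ => Nat) (Ptab_s_143_147 c) (Ptab_s_147_151 c) (Nat.ble 147 c)
noncomputable def Ptab_s_136_151 (c : Nat) : Nat := @Bool.rec (fun _ => Nat) (Ptab_s_136_143 c) (Ptab_s_143_151 c) (Nat.ble 143 c)
noncomputable def Ptab_s_121_151 (c : Nat) : Nat := @Bool.rec (fun _ => Nat) (Ptab_s_121_136 c) (Ptab_s_136_151 c) (Nat.ble 136 c)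
noncomputable def Ptab_s_152_154 (c : Nat) : Nat := @Bool.rec (fun _ => Nat) (Ptab_152) (Ptab_153) (Nat.ble 153 c)
noncomputable def Ptab_s_151_154 (c : Nat) : Nat := @Bool.rec (fun _ => Nat) (Ptab_151) (Ptab_s_152_154 c) (Nat.ble 152 c)
noncomputable def Ptab_s_154_156 (c : Nat) : Nat := @Bool.rec (fun _ => Nat) (Ptab_154) (Ptab_155) (Nat.ble 155 c)
noncomputable def Ptab_s_156_158 (c : Nat) : Nat := @Bool.rec (fun _ => Nat) (Ptab_156) (Ptab_157) (Nat.ble 157 c)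
noncomputable def Ptab_s_154_158 (c : Nat) : Nat := @Bool.rec (fun _ => Nat) (Ptab_s_154_156 c) (Ptab_s_156_158 c) (Nat.ble 156 c)
noncomputable def Ptab_s_151_158 (c : Nat) : Nat := @Bool.rec (fun _ => Nat) (Ptab_s_151_154 c) (Ptab_s_154_158 c) (Nat.ble 154 c)
noncomputable def Ptab_s_158_160 (c : Nat) : Nat := @Bool.rec (fun _ => Nat) (Ptab_158) (Ptab_159) (Nat.ble 159 c)
noncomputable def Ptab_s_160_162 (c : Nat) : Nat := @Bool.rec (fun _ => Nat) (Ptab_160) (Ptab_161) (Nat.ble 161 c)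
noncomputable def Ptab_s_158_162 (c : Nat) : Nat := @Bool.rec (fun _ => Nat) (Ptab_s_158_160 c) (Ptab_s_160_162 c) (Nat.ble 160 c)
noncomputable def Ptab_s_162_164 (c : Nat) : Nat := @Bool.rec (fun _ => Nat) (Ptab_162) (Ptab_163) (Nat.ble 163 c)
noncomputable def Ptab_s_164_166 (c : Nat) : Nat := @Bool.rec (fun _ => Nat) (Ptab_164) (Ptab_165) (Nat.ble 165 c)
noncomputable def Ptab_s_162_166 (c : Nat) : Nat := @Bool.rec (fun _ => Nat) (Ptab_s_162_164 c) (Ptab_s_164_166 c) (Nat.ble 164 c)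
noncomputable def Ptab_s_158_166 (c : Nat) : Nat := @Bool.rec (fun _ => Nat) (Ptab_s_158_162 c) (Ptab_s_162_166 c) (Nat.ble 162 c)
noncomputable def Ptab_s_151_166 (c : Nat) : Nat := @Bool.rec (fun _ => Nat) (Ptab_s_151_158 c) (Ptab_s_158_166 c) (Nat.ble 158 c)
noncomputable def Ptab_s_167_169 (c : Nat) : Nat := @Bool.rec (fun _ => Nat) (Ptab_167) (Ptab_168) (Nat.ble 168 c)
noncomputable def Ptab_s_166_169 (c : Nat) : Nat := @Bool.rec (fun _ => Nat) (Ptab_166) (Ptab_s_167_169 c) (Nat.ble 167 c)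
noncomputable def Ptab_s_169_171 (c : Nat) : Nat := @Bool.rec (fun _ => Nat) (Ptab_169) (Ptab_170) (Nat.ble 170 c)
noncomputable def Ptab_s_171_173 (c : Nat) : Nat := @Bool.rec (fun _ => Nat) (Ptab_171) (Ptab_172) (Nat.ble 172 c)
noncomputable def Ptab_s_169_173 (c : Nat) : Nat := @Bool.rec (fun _ => Nat) (Ptab_s_169_171 c) (Ptab_s_171_173 c) (Nat.ble 171 c)
noncomputable def Ptab_s_166_173 (c : Nat) : Nat := @Bool.rec (fun _ => Nat) (Ptab_s_166_169 c) (Ptab_s_169_173 c) (Nat.ble 169 c)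
noncomputable def Ptab_s_173_175 (c : Nat) : Nat := @Bool.rec (fun _ => Nat) (Ptab_173) (Ptab_174) (Nat.ble 174 c)
noncomputable def Ptab_s_175_177 (c : Nat) : Nat := @Bool.rec (fun _ => Nat) (Ptab_175) (Ptab_176) (Nat.ble 176 c)
noncomputable def Ptab_s_173_177 (c : Nat) : Nat := @Bool.rec (fun _ => Nat) (Ptab_s_173_175 c) (Ptab_s_175_177 c) (Nat.ble 175 c)
noncomputable def Ptab_s_177_179 (c : Nat) : Nat := @Bool.rec (fun _ => Nat) (Ptab_177) (Ptab_178) (Nat.ble 178 c)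
noncomputable def Ptab_s_179_181 (c : Nat) : Nat := @Bool.rec (fun _ => Nat) (Ptab_179) (Ptab_180) (Nat.ble 180 c)
noncomputable def Ptab_s_177_181 (c : Nat) : Nat := @Bool.rec (fun _ => Nat) (Ptab_s_177_179 c) (Ptab_s_179_181 c) (Nat.ble 179 c)
noncomputable def Ptab_s_173_181 (c : Nat) : Nat := @Bool.rec (fun _ => Nat) (Ptab_s_173_177 c) (Ptab_s_177_181 c) (Nat.ble 177 c)
noncomputable def Ptab_s_166_181 (c : Nat) : Nat := @Bool.rec (fun _ => Nat) (Ptab_s_166_173 c) (Ptab_s_173_181 c) (Nat.ble 173 c)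
noncomputable def Ptab_s_151_181 (c : Nat) : Nat := @Bool.rec (fun _ => Nat) (Ptab_s_151_166 c) (Ptab_s_166_181 c) (Nat.ble 166 c)
noncomputable def Ptab_s_121_181 (c : Nat) : Nat := @Bool.rec (fun _ => Nat) (Ptab_s_121_151 c) (Ptab_s_151_181 c) (Nat.ble 151 c)
noncomputable def Ptab_s_182_184 (c : Nat) : Nat := @Bool.rec (fun _ => Nat) (Ptab_182) (Ptab_183) (Nat.ble 183 c)
noncomputable def Ptab_s_181_184 (c : Nat) : Nat := @Bool.rec (fun _ => Nat) (Ptab_181) (Ptab_s_182_184 c) (Nat.ble 182 c)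
noncomputable def Ptab_s_184_186 (c : Nat) : Nat := @Bool.rec (fun _ => Nat) (Ptab_184) (Ptab_185) (Nat.ble 185 c)
noncomputable def Ptab_s_186_188 (c : Nat) : Nat := @Bool.rec (fun _ => Nat) (Ptab_186) (Ptab_187) (Nat.ble 187 c)
noncomputable def Ptab_s_184_188 (c : Nat) : Nat := @Bool.rec (fun _ => Nat) (Ptab_s_184_186 c) (Ptab_s_186_188 c) (Nat.ble 186 c)
noncomputable def Ptab_s_181_188 (c : Nat) : Nat := @Bool.rec (fun _ => Nat) (Ptab_s_181_184 c) (Ptab_s_184_188 c) (Nat.ble 184 c)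
noncomputable def Ptab_s_188_190 (c : Nat) : Nat := @Bool.rec (fun _ => Nat) (Ptab_188) (Ptab_189) (Nat.ble 189 c)
noncomputable def Ptab_s_190_192 (c : Nat) : Nat := @Bool.rec (fun _ => Nat) (Ptab_190) (Ptab_191) (Nat.ble 191 c)
noncomputable def Ptab_s_188_192 (c : Nat) : Nat := @Bool.rec (fun _ => Nat) (Ptab_s_188_190 c) (Ptab_s_190_192 c) (Nat.ble 190 c)
noncomputable def Ptab_s_192_194 (c : Nat) : Nat := @Bool.rec (fun _ => Nat) (Ptab_192) (Ptab_193) (Nat.ble 193 c)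
noncomputable def Ptab_s_194_196 (c : Nat) : Nat := @Bool.rec (fun _ => Nat) (Ptab_194) (Ptab_195) (Nat.ble 195 c)
noncomputable def Ptab_s_192_196 (c : Nat) : Nat := @Bool.rec (fun _ => Nat) (Ptab_s_192_194 c) (Ptab_s_194_196 c) (Nat.ble 194 c)
noncomputable def Ptab_s_188_196 (c : Nat) : Nat := @Bool.rec (fun _ => Nat) (Ptab_s_188_192 c) (Ptab_s_192_196 c) (Nat.ble 192 c)
noncomputable def Ptab_s_181_196 (c : Nat) : Nat := @Bool.rec (fun _ => Nat) (Ptab_s_181_188 c) (Ptab_s_188_196 c) (Nat.ble 188 c)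
noncomputable def Ptab_s_197_199 (c : Nat) : Nat := @Bool.rec (fun _ => Nat) (Ptab_197) (Ptab_198) (Nat.ble 198 c)
noncomputable def Ptab_s_196_199 (c : Nat) : Nat := @Bool.rec (fun _ => Nat) (Ptab_196) (Ptab_s_197_199 c) (Nat.ble 197 c)
noncomputable def Ptab_s_199_201 (c : Nat) : Nat := @Bool.rec (fun _ => Nat) (Ptab_199) (Ptab_200) (Nat.ble 200 c)
noncomputable def Ptab_s_201_203 (c : Nat) : Nat := @Bool.rec (fun _ => Nat) (Ptab_201) (Ptab_202) (Nat.ble 202 c)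
noncomputable def Ptab_s_199_203 (c : Nat) : Nat := @Bool.rec (fun _ => Nat) (Ptab_s_199_201 c) (Ptab_s_201_203 c) (Nat.ble 201 c)
noncomputable def Ptab_s_196_203 (c : Nat) : Nat := @Bool.rec (fun _ => Nat) (Ptab_s_196_199 c) (Ptab_s_199_203 c) (Nat.ble 199 c)
noncomputable def Ptab_s_203_205 (c : Nat) : Nat := @Bool.rec (fun _ => Nat) (Ptab_203) (Ptab_204) (Nat.ble 204 c)
noncomputable def Ptab_s_205_207 (c : Nat) : Nat := @Bool.rec (fun _ => Nat) (Ptab_205) (Ptab_206) (Nat.ble 206 c)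
noncomputable def Ptab_s_203_207 (c : Nat) : Nat := @Bool.rec (fun _ => Nat) (Ptab_s_203_205 c) (Ptab_s_205_207 c) (Nat.ble 205 c)
noncomputable def Ptab_s_207_209 (c : Nat) : Nat := @Bool.rec (fun _ => Nat) (Ptab_207) (Ptab_208) (Nat.ble 208 c)
noncomputable def Ptab_s_209_211 (c : Nat) : Nat := @Bool.rec (fun _ => Nat) (Ptab_209) (Ptab_210) (Nat.ble 210 c)
noncomputable def Ptab_s_207_211 (c : Nat) : Nat := @Bool.rec (fun _ => Nat) (Ptab_s_207_209 c) (Ptab_s_209_211 c) (Nat.ble 209 c)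
noncomputable def Ptab_s_203_211 (c : Nat) : Nat := @Bool.rec (fun _ => Nat) (Ptab_s_203_207 c) (Ptab_s_207_211 c) (Nat.ble 207 c)
noncomputable def Ptab_s_196_211 (c : Nat) : Nat := @Bool.rec (fun _ => Nat) (Ptab_s_196_203 c) (Ptab_s_203_211 c) (Nat.ble 203 c)
noncomputable def Ptab_s_181_211 (c : Nat) : Nat := @Bool.rec (fun _ => Nat) (Ptab_s_181_196 c) (Ptab_s_196_211 c) (Nat.ble 196 c)
noncomputable def Ptab_s_212_214 (c : Nat) : Nat := @Bool.rec (fun _ => Nat) (Ptab_212) (Ptab_213) (Nat.ble 213 c)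
noncomputable def Ptab_s_211_214 (c : Nat) : Nat := @Bool.rec (fun _ => Nat) (Ptab_211) (Ptab_s_212_214 c) (Nat.ble 212 c)
noncomputable def Ptab_s_214_216 (c : Nat) : Nat := @Bool.rec (fun _ => Nat) (Ptab_214) (Ptab_215) (Nat.ble 215 c)
noncomputable def Ptab_s_216_218 (c : Nat) : Nat := @Bool.rec (fun _ => Nat) (Ptab_216) (Ptab_217) (Nat.ble 217 c)
noncomputable def Ptab_s_214_218 (c : Nat) : Nat := @Bool.rec (fun _ => Nat) (Ptab_s_214_216 c) (Ptab_s_216_218 c) (Nat.ble 216 c)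
noncomputable def Ptab_s_211_218 (c : Nat) : Nat := @Bool.rec (fun _ => Nat) (Ptab_s_211_214 c) (Ptab_s_214_218 c) (Nat.ble 214 c)
noncomputable def Ptab_s_218_220 (c : Nat) : Nat := @Bool.rec (fun _ => Nat) (Ptab_218) (Ptab_219) (Nat.ble 219 c)
noncomputable def Ptab_s_220_222 (c : Nat) : Nat := @Bool.rec (fun _ => Nat) (Ptab_220) (Ptab_221) (Nat.ble 221 c)
noncomputable def Ptab_s_218_222 (c : Nat) : Nat := @Bool.rec (fun _ => Nat) (Ptab_s_218_220 c) (Ptab_s_220_222 c) (Nat.ble 220 c)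
noncomputable def Ptab_s_222_224 (c : Nat) : Nat := @Bool.rec (fun _ => Nat) (Ptab_222) (Ptab_223) (Nat.ble 223 c)
noncomputable def Ptab_s_224_226 (c : Nat) : Nat := @Bool.rec (fun _ => Nat) (Ptab_224) (Ptab_225) (Nat.ble 225 c)
noncomputable def Ptab_s_222_226 (c : Nat) : Nat := @Bool.rec (fun _ => Nat) (Ptab_s_222_224 c) (Ptab_s_224_226 c) (Nat.ble 224 c)
noncomputable def Ptab_s_218_226 (c : Nat) : Nat := @Bool.rec (fun _ => Nat) (Ptab_s_218_222 c) (Ptab_s_222_226 c) (Nat.ble 222 c)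
noncomputable def Ptab_s_211_226 (c : Nat) : Nat := @Bool.rec (fun _ => Nat) (Ptab_s_211_218 c) (Ptab_s_218_226 c) (Nat.ble 218 c)
noncomputable def Ptab_s_226_228 (c : Nat) : Nat := @Bool.rec (fun _ => Nat) (Ptab_226) (Ptab_227) (Nat.ble 227 c)
noncomputable def Ptab_s_228_230 (c : Nat) : Nat := @Bool.rec (fun _ => Nat) (Ptab_228) (Ptab_229) (Nat.ble 229 c)
noncomputable def Ptab_s_226_230 (c : Nat) : Nat := @Bool.rec (fun _ => Nat) (Ptab_s_226_228 c) (Ptab_s_228_230 c) (Nat.ble 228 c)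
noncomputable def Ptab_s_230_232 (c : Nat) : Nat := @Bool.rec (fun _ => Nat) (Ptab_230) (Ptab_231) (Nat.ble 231 c)
noncomputable def Ptab_s_232_234 (c : Nat) : Nat := @Bool.rec (fun _ => Nat) (Ptab_232) (Ptab_233) (Nat.ble 233 c)
noncomputable def Ptab_s_230_234 (c : Nat) : Nat := @Bool.rec (fun _ => Nat) (Ptab_s_230_232 c) (Ptab_s_232_234 c) (Nat.ble 232 c)
noncomputable def Ptab_s_226_234 (c : Nat) : Nat := @Bool.rec (fun _ => Nat) (Ptab_s_226_230 c) (Ptab_s_230_234 c) (Nat.ble 230 c)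
noncomputable def Ptab_s_234_236 (c : Nat) : Nat := @Bool.rec (fun _ => Nat) (Ptab_234) (Ptab_235) (Nat.ble 235 c)
noncomputable def Ptab_s_236_238 (c : Nat) : Nat := @Bool.rec (fun _ => Nat) (Ptab_236) (Ptab_237) (Nat.ble 237 c)
noncomputable def Ptab_s_234_238 (c : Nat) : Nat := @Bool.rec (fun _ => Nat) (Ptab_s_234_236 c) (Ptab_s_236_238 c) (Nat.ble 236 c)
noncomputable def Ptab_s_238_240 (c : Nat) : Nat := @Bool.rec (fun _ => Nat) (Ptab_238) (Ptab_239) (Nat.ble 239 c)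
noncomputable def Ptab_s_240_242 (c : Nat) : Nat := @Bool.rec (fun _ => Nat) (Ptab_240) (Ptab_241) (Nat.ble 241 c)
noncomputable def Ptab_s_238_242 (c : Nat) : Nat := @Bool.rec (fun _ => Nat) (Ptab_s_238_240 c) (Ptab_s_240_242 c) (Nat.ble 240 c)
noncomputable def Ptab_s_234_242 (c : Nat) : Nat := @Bool.rec (fun _ => Nat) (Ptab_s_234_238 c) (Ptab_s_238_242 c) (Nat.ble 238 c)
noncomputable def Ptab_s_226_242 (c : Nat) : Nat := @Bool.rec (fun _ => Nat) (Ptab_s_226_234 c) (Ptab_s_234_242 c) (Nat.ble 234 c)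
noncomputable def Ptab_s_211_242 (c : Nat) : Nat := @Bool.rec (fun _ => Nat) (Ptab_s_211_226 c) (Ptab_s_226_242 c) (Nat.ble 226 c)
noncomputable def Ptab_s_181_242 (c : Nat) : Nat := @Bool.rec (fun _ => Nat) (Ptab_s_181_211 c) (Ptab_s_211_242 c) (Nat.ble 211 c)
noncomputable def Ptab_s_121_242 (c : Nat) : Nat := @Bool.rec (fun _ => Nat) (Ptab_s_121_181 c) (Ptab_s_181_242 c) (Nat.ble 181 c)
noncomputable def Ptab_s_0_242 (c : Nat) : Nat := @Bool.rec (fun _ => Nat) (Ptab_s_0_121 c) (Ptab_s_121_242 c) (Nat.ble 121 c)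
noncomputable def Ptab_s_243_245 (c : Nat) : Nat := @Bool.rec (fun _ => Nat) (Ptab_243) (Ptab_244) (Nat.ble 244 c)
noncomputable def Ptab_s_242_245 (c : Nat) : Nat := @Bool.rec (fun _ => Nat) (Ptab_242) (Ptab_s_243_245 c) (Nat.ble 243 c)
noncomputable def Ptab_s_245_247 (c : Nat) : Nat := @Bool.rec (fun _ => Nat) (Ptab_245) (Ptab_246) (Nat.ble 246 c)
noncomputable def Ptab_s_247_249 (c : Nat) : Nat := @Bool.rec (fun _ => Nat) (Ptab_247) (Ptab_248) (Nat.ble 248 c)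
noncomputable def Ptab_s_245_249 (c : Nat) : Nat := @Bool.rec (fun _ => Nat) (Ptab_s_245_247 c) (Ptab_s_247_249 c) (Nat.ble 247 c)
noncomputable def Ptab_s_242_249 (c : Nat) : Nat := @Bool.rec (fun _ => Nat) (Ptab_s_242_245 c) (Ptab_s_245_249 c) (Nat.ble 245 c)
noncomputable def Ptab_s_249_251 (c : Nat) : Nat := @Bool.rec (fun _ => Nat) (Ptab_249) (Ptab_250) (Nat.ble 250 c)
noncomputable def Ptab_s_251_253 (c : Nat) : Nat := @Bool.rec (fun _ => Nat) (Ptab_251) (Ptab_252) (Nat.ble 252 c)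
noncomputable def Ptab_s_249_253 (c : Nat) : Nat := @Bool.rec (fun _ => Nat) (Ptab_s_249_251 c) (Ptab_s_251_253 c) (Nat.ble 251 c)
noncomputable def Ptab_s_253_255 (c : Nat) : Nat := @Bool.rec (fun _ => Nat) (Ptab_253) (Ptab_254) (Nat.ble 254 c)
noncomputable def Ptab_s_255_257 (c : Nat) : Nat := @Bool.rec (fun _ => Nat) (Ptab_255) (Ptab_256) (Nat.ble 256 c)
noncomputable def Ptab_s_253_257 (c : Nat) : Nat := @Bool.rec (fun _ => Nat) (Ptab_s_253_255 c) (Ptab_s_255_257 c) (Nat.ble 255 c)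
noncomputable def Ptab_s_249_257 (c : Nat) : Nat := @Bool.rec (fun _ => Nat) (Ptab_s_249_253 c) (Ptab_s_253_257 c) (Nat.ble 253 c)
noncomputable def Ptab_s_242_257 (c : Nat) : Nat := @Bool.rec (fun _ => Nat) (Ptab_s_242_249 c) (Ptab_s_249_257 c) (Nat.ble 249 c)
noncomputable def Ptab_s_258_260 (c : Nat) : Nat := @Bool.rec (fun _ => Nat) (Ptab_258) (Ptab_259) (Nat.ble 259 c)
noncomputable def Ptab_s_257_260 (c : Nat) : Nat := @Bool.rec (fun _ => Nat) (Ptab_257) (Ptab_s_258_260 c) (Nat.ble 258 c)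
noncomputable def Ptab_s_260_262 (c : Nat) : Nat := @Bool.rec (fun _ => Nat) (Ptab_260) (Ptab_261) (Nat.ble 261 c)
noncomputable def Ptab_s_262_264 (c : Nat) : Nat := @Bool.rec (fun _ => Nat) (Ptab_262) (Ptab_263) (Nat.ble 263 c)
noncomputable def Ptab_s_260_264 (c : Nat) : Nat := @Bool.rec (fun _ => Nat) (Ptab_s_260_262 c) (Ptab_s_262_264 c) (Nat.ble 262 c)
noncomputable def Ptab_s_257_264 (c : Nat) : Nat := @Bool.rec (fun _ => Nat) (Ptab_s_257_260 c) (Ptab_s_260_264 c) (Nat.ble 260 c)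
noncomputable def Ptab_s_264_266 (c : Nat) : Nat := @Bool.rec (fun _ => Nat) (Ptab_264) (Ptab_265) (Nat.ble 265 c)
noncomputable def Ptab_s_266_268 (c : Nat) : Nat := @Bool.rec (fun _ => Nat) (Ptab_266) (Ptab_267) (Nat.ble 267 c)
noncomputable def Ptab_s_264_268 (c : Nat) : Nat := @Bool.rec (fun _ => Nat) (Ptab_s_264_266 c) (Ptab_s_266_268 c) (Nat.ble 266 c)
noncomputable def Ptab_s_268_270 (c : Nat) : Nat := @Bool.rec (fun _ => Nat) (Ptab_268) (Ptab_269) (Nat.ble 269 c)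
noncomputable def Ptab_s_270_272 (c : Nat) : Nat := @Bool.rec (fun _ => Nat) (Ptab_270) (Ptab_271) (Nat.ble 271 c)
noncomputable def Ptab_s_268_272 (c : Nat) : Nat := @Bool.rec (fun _ => Nat) (Ptab_s_268_270 c) (Ptab_s_270_272 c) (Nat.ble 270 c)
noncomputable def Ptab_s_264_272 (c : Nat) : Nat := @Bool.rec (fun _ => Nat) (Ptab_s_264_268 c) (Ptab_s_268_272 c) (Nat.ble 268 c)
noncomputable def Ptab_s_257_272 (c : Nat) : Nat := @Bool.rec (fun _ => Nat) (Ptab_s_257_264 c) (Ptab_s_264_272 c) (Nat.ble 264 c)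
noncomputable def Ptab_s_242_272 (c : Nat) : Nat := @Bool.rec (fun _ => Nat) (Ptab_s_242_257 c) (Ptab_s_257_272 c) (Nat.ble 257 c)
noncomputable def Ptab_s_273_275 (c : Nat) : Nat := @Bool.rec (fun _ => Nat) (Ptab_273) (Ptab_274) (Nat.ble 274 c)
noncomputable def Ptab_s_272_275 (c : Nat) : Nat := @Bool.rec (fun _ => Nat) (Ptab_272) (Ptab_s_273_275 c) (Nat.ble 273 c)
noncomputable def Ptab_s_275_277 (c : Nat) : Nat := @Bool.rec (fun _ => Nat) (Ptab_275) (Ptab_276) (Nat.ble 276 c)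
noncomputable def Ptab_s_277_279 (c : Nat) : Nat := @Bool.rec (fun _ => Nat) (Ptab_277) (Ptab_278) (Nat.ble 278 c)
noncomputable def Ptab_s_275_279 (c : Nat) : Nat := @Bool.rec (fun _ => Nat) (Ptab_s_275_277 c) (Ptab_s_277_279 c) (Nat.ble 277 c)
noncomputable def Ptab_s_272_279 (c : Nat) : Nat := @Bool.rec (fun _ => Nat) (Ptab_s_272_275 c) (Ptab_s_275_279 c) (Nat.ble 275 c)
noncomputable def Ptab_s_279_281 (c : Nat) : Nat := @Bool.rec (fun _ => Nat) (Ptab_279) (Ptab_280) (Nat.ble 280 c)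
noncomputable def Ptab_s_281_283 (c : Nat) : Nat := @Bool.rec (fun _ => Nat) (Ptab_281) (Ptab_282) (Nat.ble 282 c)
noncomputable def Ptab_s_279_283 (c : Nat) : Nat := @Bool.rec (fun _ => Nat) (Ptab_s_279_281 c) (Ptab_s_281_283 c) (Nat.ble 281 c)
noncomputable def Ptab_s_283_285 (c : Nat) : Nat := @Bool.rec (fun _ => Nat) (Ptab_283) (Ptab_284) (Nat.ble 284 c)
noncomputable def Ptab_s_285_287 (c : Nat) : Nat := @Bool.rec (fun _ => Nat) (Ptab_285) (Ptab_286) (Nat.ble 286 c)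
noncomputable def Ptab_s_283_287 (c : Nat) : Nat := @Bool.rec (fun _ => Nat) (Ptab_s_283_285 c) (Ptab_s_285_287 c) (Nat.ble 285 c)
noncomputable def Ptab_s_279_287 (c : Nat) : Nat := @Bool.rec (fun _ => Nat) (Ptab_s_279_283 c) (Ptab_s_283_287 c) (Nat.ble 283 c)
noncomputable def Ptab_s_272_287 (c : Nat) : Nat := @Bool.rec (fun _ => Nat) (Ptab_s_272_279 c) (Ptab_s_279_287 c) (Nat.ble 279 c)
noncomputable def Ptab_s_288_290 (c : Nat) : Nat := @Bool.rec (fun _ => Nat) (Ptab_288) (Ptab_289) (Nat.ble 289 c)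
noncomputable def Ptab_s_287_290 (c : Nat) : Nat := @Bool.rec (fun _ => Nat) (Ptab_287) (Ptab_s_288_290 c) (Nat.ble 288 c)
noncomputable def Ptab_s_290_292 (c : Nat) : Nat := @Bool.rec (fun _ => Nat) (Ptab_290) (Ptab_291) (Nat.ble 291 c)
noncomputable def Ptab_s_292_294 (c : Nat) : Nat := @Bool.rec (fun _ => Nat) (Ptab_292) (Ptab_293) (Nat.ble 293 c)
noncomputable def Ptab_s_290_294 (c : Nat) : Nat := @Bool.rec (fun _ => Nat) (Ptab_s_290_292 c) (Ptab_s_292_294 c) (Nat.ble 292 c)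
noncomputable def Ptab_s_287_294 (c : Nat) : Nat := @Bool.rec (fun _ => Nat) (Ptab_s_287_290 c) (Ptab_s_290_294 c) (Nat.ble 290 c)
noncomputable def Ptab_s_294_296 (c : Nat) : Nat := @Bool.rec (fun _ => Nat) (Ptab_294) (Ptab_295) (Nat.ble 295 c)
noncomputable def Ptab_s_296_298 (c : Nat) : Nat := @Bool.rec (fun _ => Nat) (Ptab_296) (Ptab_297) (Nat.ble 297 c)
noncomputable def Ptab_s_294_298 (c : Nat) : Nat := @Bool.rec (fun _ => Nat) (Ptab_s_294_296 c) (Ptab_s_296_298 c) (Nat.ble 296 c)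
noncomputable def Ptab_s_298_300 (c : Nat) : Nat := @Bool.rec (fun _ => Nat) (Ptab_298) (Ptab_299) (Nat.ble 299 c)
noncomputable def Ptab_s_300_302 (c : Nat) : Nat := @Bool.rec (fun _ => Nat) (Ptab_300) (Ptab_301) (Nat.ble 301 c)
noncomputable def Ptab_s_298_302 (c : Nat) : Nat := @Bool.rec (fun _ => Nat) (Ptab_s_298_300 c) (Ptab_s_300_302 c) (Nat.ble 300 c)
noncomputable def Ptab_s_294_302 (c : Nat) : Nat := @Bool.rec (fun _ => Nat) (Ptab_s_294_298 c) (Ptab_s_298_302 c) (Nat.ble 298 c)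
noncomputable def Ptab_s_287_302 (c : Nat) : Nat := @Bool.rec (fun _ => Nat) (Ptab_s_287_294 c) (Ptab_s_294_302 c) (Nat.ble 294 c)
noncomputable def Ptab_s_272_302 (c : Nat) : Nat := @Bool.rec (fun _ => Nat) (Ptab_s_272_287 c) (Ptab_s_287_302 c) (Nat.ble 287 c)
noncomputable def Ptab_s_242_302 (c : Nat) : Nat := @Bool.rec (fun _ => Nat) (Ptab_s_242_272 c) (Ptab_s_272_302 c) (Nat.ble 272 c)
noncomputable def Ptab_s_303_305 (c : Nat) : Nat := @Bool.rec (fun _ => Nat) (Ptab_303) (Ptab_304) (Nat.ble 304 c)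
noncomputable def Ptab_s_302_305 (c : Nat) : Nat := @Bool.rec (fun _ => Nat) (Ptab_302) (Ptab_s_303_305 c) (Nat.ble 303 c)
noncomputable def Ptab_s_305_307 (c : Nat) : Nat := @Bool.rec (fun _ => Nat) (Ptab_305) (Ptab_306) (Nat.ble 306 c)
noncomputable def Ptab_s_307_309 (c : Nat) : Nat := @Bool.rec (fun _ => Nat) (Ptab_307) (Ptab_308) (Nat.ble 308 c)
noncomputable def Ptab_s_305_309 (c : Nat) : Nat := @Bool.rec (fun _ => Nat) (Ptab_s_305_307 c) (Ptab_s_307_309 c) (Nat.ble 307 c)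
noncomputable def Ptab_s_302_309 (c : Nat) : Nat := @Bool.rec (fun _ => Nat) (Ptab_s_302_305 c) (Ptab_s_305_309 c) (Nat.ble 305 c)
noncomputable def Ptab_s_309_311 (c : Nat) : Nat := @Bool.rec (fun _ => Nat) (Ptab_309) (Ptab_310) (Nat.ble 310 c)
noncomputable def Ptab_s_311_313 (c : Nat) : Nat := @Bool.rec (fun _ => Nat) (Ptab_311) (Ptab_312) (Nat.ble 312 c)
noncomputable def Ptab_s_309_313 (c : Nat) : Nat := @Bool.rec (fun _ => Nat) (Ptab_s_309_311 c) (Ptab_s_311_313 c) (Nat.ble 311 c)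
noncomputable def Ptab_s_313_315 (c : Nat) : Nat := @Bool.rec (fun _ => Nat) (Ptab_313) (Ptab_314) (Nat.ble 314 c)
noncomputable def Ptab_s_315_317 (c : Nat) : Nat := @Bool.rec (fun _ => Nat) (Ptab_315) (Ptab_316) (Nat.ble 316 c)
noncomputable def Ptab_s_313_317 (c : Nat) : Nat := @Bool.rec (fun _ => Nat) (Ptab_s_313_315 c) (Ptab_s_315_317 c) (Nat.ble 315 c)
noncomputable def Ptab_s_309_317 (c : Nat) : Nat := @Bool.rec (fun _ => Nat) (Ptab_s_309_313 c) (Ptab_s_313_317 c) (Nat.ble 313 c)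
noncomputable def Ptab_s_302_317 (c : Nat) : Nat := @Bool.rec (fun _ => Nat) (Ptab_s_302_309 c) (Ptab_s_309_317 c) (Nat.ble 309 c)
noncomputable def Ptab_s_318_320 (c : Nat) : Nat := @Bool.rec (fun _ => Nat) (Ptab_318) (Ptab_319) (Nat.ble 319 c)
noncomputable def Ptab_s_317_320 (c : Nat) : Nat := @Bool.rec (fun _ => Nat) (Ptab_317) (Ptab_s_318_320 c) (Nat.ble 318 c)
noncomputable def Ptab_s_320_322 (c : Nat) : Nat := @Bool.rec (fun _ => Nat) (Ptab_320) (Ptab_321) (Nat.ble 321 c)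
noncomputable def Ptab_s_322_324 (c : Nat) : Nat := @Bool.rec (fun _ => Nat) (Ptab_322) (Ptab_323) (Nat.ble 323 c)
noncomputable def Ptab_s_320_324 (c : Nat) : Nat := @Bool.rec (fun _ => Nat) (Ptab_s_320_322 c) (Ptab_s_322_324 c) (Nat.ble 322 c)
noncomputable def Ptab_s_317_324 (c : Nat) : Nat := @Bool.rec (fun _ => Nat) (Ptab_s_317_320 c) (Ptab_s_320_324 c) (Nat.ble 320 c)
noncomputable def Ptab_s_324_326 (c : Nat) : Nat := @Bool.rec (fun _ => Nat) (Ptab_324) (Ptab_325) (Nat.ble 325 c)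
noncomputable def Ptab_s_326_328 (c : Nat) : Nat := @Bool.rec (fun _ => Nat) (Ptab_326) (Ptab_327) (Nat.ble 327 c)
noncomputable def Ptab_s_324_328 (c : Nat) : Nat := @Bool.rec (fun _ => Nat) (Ptab_s_324_326 c) (Ptab_s_326_328 c) (Nat.ble 326 c)
noncomputable def Ptab_s_328_330 (c : Nat) : Nat := @Bool.rec (fun _ => Nat) (Ptab_328) (Ptab_329) (Nat.ble 329 c)
noncomputable def Ptab_s_330_332 (c : Nat) : Nat := @Bool.rec (fun _ => Nat) (Ptab_330) (Ptab_331) (Nat.ble 331 c)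
noncomputable def Ptab_s_328_332 (c : Nat) : Nat := @Bool.rec (fun _ => Nat) (Ptab_s_328_330 c) (Ptab_s_330_332 c) (Nat.ble 330 c)
noncomputable def Ptab_s_324_332 (c : Nat) : Nat := @Bool.rec (fun _ => Nat) (Ptab_s_324_328 c) (Ptab_s_328_332 c) (Nat.ble 328 c)
noncomputable def Ptab_s_317_332 (c : Nat) : Nat := @Bool.rec (fun _ => Nat) (Ptab_s_317_324 c) (Ptab_s_324_332 c) (Nat.ble 324 c)
noncomputable def Ptab_s_302_332 (c : Nat) : Nat := @Bool.rec (fun _ => Nat) (Ptab_s_302_317 c) (Ptab_s_317_332 c) (Nat.ble 317 c)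
noncomputable def Ptab_s_333_335 (c : Nat) : Nat := @Bool.rec (fun _ => Nat) (Ptab_333) (Ptab_334) (Nat.ble 334 c)
noncomputable def Ptab_s_332_335 (c : Nat) : Nat := @Bool.rec (fun _ => Nat) (Ptab_332) (Ptab_s_333_335 c) (Nat.ble 333 c)
noncomputable def Ptab_s_335_337 (c : Nat) : Nat := @Bool.rec (fun _ => Nat) (Ptab_335) (Ptab_336) (Nat.ble 336 c)
noncomputable def Ptab_s_337_339 (c : Nat) : Nat := @Bool.rec (fun _ => Nat) (Ptab_337) (Ptab_338) (Nat.ble 338 c)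
noncomputable def Ptab_s_335_339 (c : Nat) : Nat := @Bool.rec (fun _ => Nat) (Ptab_s_335_337 c) (Ptab_s_337_339 c) (Nat.ble 337 c)
noncomputable def Ptab_s_332_339 (c : Nat) : Nat := @Bool.rec (fun _ => Nat) (Ptab_s_332_335 c) (Ptab_s_335_339 c) (Nat.ble 335 c)
noncomputable def Ptab_s_339_341 (c : Nat) : Nat := @Bool.rec (fun _ => Nat) (Ptab_339) (Ptab_340) (Nat.ble 340 c)
noncomputable def Ptab_s_341_343 (c : Nat) : Nat := @Bool.rec (fun _ => Nat) (Ptab_341) (Ptab_342) (Nat.ble 342 c)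
noncomputable def Ptab_s_339_343 (c : Nat) : Nat := @Bool.rec (fun _ => Nat) (Ptab_s_339_341 c) (Ptab_s_341_343 c) (Nat.ble 341 c)
noncomputable def Ptab_s_343_345 (c : Nat) : Nat := @Bool.rec (fun _ => Nat) (Ptab_343) (Ptab_344) (Nat.ble 344 c)
noncomputable def Ptab_s_345_347 (c : Nat) : Nat := @Bool.rec (fun _ => Nat) (Ptab_345) (Ptab_346) (Nat.ble 346 c)
noncomputable def Ptab_s_343_347 (c : Nat) : Nat := @Bool.rec (fun _ => Nat) (Ptab_s_343_345 c) (Ptab_s_345_347 c) (Nat.ble 345 c)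
noncomputable def Ptab_s_339_347 (c : Nat) : Nat := @Bool.rec (fun _ => Nat) (Ptab_s_339_343 c) (Ptab_s_343_347 c) (Nat.ble 343 c)
noncomputable def Ptab_s_332_347 (c : Nat) : Nat := @Bool.rec (fun _ => Nat) (Ptab_s_332_339 c) (Ptab_s_339_347 c) (Nat.ble 339 c)
noncomputable def Ptab_s_347_349 (c : Nat) : Nat := @Bool.rec (fun _ => Nat) (Ptab_347) (Ptab_348) (Nat.ble 348 c)
noncomputable def Ptab_s_349_351 (c : Nat) : Nat := @Bool.rec (fun _ => Nat) (Ptab_349) (Ptab_350) (Nat.ble 350 c)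
noncomputable def Ptab_s_347_351 (c : Nat) : Nat := @Bool.rec (fun _ => Nat) (Ptab_s_347_349 c) (Ptab_s_349_351 c) (Nat.ble 349 c)
noncomputable def Ptab_s_351_353 (c : Nat) : Nat := @Bool.rec (fun _ => Nat) (Ptab_351) (Ptab_352) (Nat.ble 352 c)
noncomputable def Ptab_s_353_355 (c : Nat) : Nat := @Bool.rec (fun _ => Nat) (Ptab_353) (Ptab_354) (Nat.ble 354 c)
noncomputable def Ptab_s_351_355 (c : Nat) : Nat := @Bool.rec (fun _ => Nat) (Ptab_s_351_353 c) (Ptab_s_353_355 c) (Nat.ble 353 c)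
noncomputable def Ptab_s_347_355 (c : Nat) : Nat := @Bool.rec (fun _ => Nat) (Ptab_s_347_351 c) (Ptab_s_351_355 c) (Nat.ble 351 c)
noncomputable def Ptab_s_355_357 (c : Nat) : Nat := @Bool.rec (fun _ => Nat) (Ptab_355) (Ptab_356) (Nat.ble 356 c)
noncomputable def Ptab_s_357_359 (c : Nat) : Nat := @Bool.rec (fun _ => Nat) (Ptab_357) (Ptab_358) (Nat.ble 358 c)
noncomputable def Ptab_s_355_359 (c : Nat) : Nat := @Bool.rec (fun _ => Nat) (Ptab_s_355_357 c) (Ptab_s_357_359 c) (Nat.ble 357 c)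
noncomputable def Ptab_s_359_361 (c : Nat) : Nat := @Bool.rec (fun _ => Nat) (Ptab_359) (Ptab_360) (Nat.ble 360 c)
noncomputable def Ptab_s_361_363 (c : Nat) : Nat := @Bool.rec (fun _ => Nat) (Ptab_361) (Ptab_362) (Nat.ble 362 c)
noncomputable def Ptab_s_359_363 (c : Nat) : Nat := @Bool.rec (fun _ => Nat) (Ptab_s_359_361 c) (Ptab_s_361_363 c) (Nat.ble 361 c)
noncomputable def Ptab_s_355_363 (c : Nat) : Nat := @Bool.rec (fun _ => Nat) (Ptab_s_355_359 c) (Ptab_s_359_363 c) (Nat.ble 359 c)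
noncomputable def Ptab_s_347_363 (c : Nat) : Nat := @Bool.rec (fun _ => Nat) (Ptab_s_347_355 c) (Ptab_s_355_363 c) (Nat.ble 355 c)
noncomputable def Ptab_s_332_363 (c : Nat) : Nat := @Bool.rec (fun _ => Nat) (Ptab_s_332_347 c) (Ptab_s_347_363 c) (Nat.ble 347 c)
noncomputable def Ptab_s_302_363 (c : Nat) : Nat := @Bool.rec (fun _ => Nat) (Ptab_s_302_332 c) (Ptab_s_332_363 c) (Nat.ble 332 c)
noncomputable def Ptab_s_242_363 (c : Nat) : Nat := @Bool.rec (fun _ => Nat) (Ptab_s_242_302 c) (Ptab_s_302_363 c) (Nat.ble 302 c)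
noncomputable def Ptab_s_364_366 (c : Nat) : Nat := @Bool.rec (fun _ => Nat) (Ptab_364) (Ptab_365) (Nat.ble 365 c)
noncomputable def Ptab_s_363_366 (c : Nat) : Nat := @Bool.rec (fun _ => Nat) (Ptab_363) (Ptab_s_364_366 c) (Nat.ble 364 c)
noncomputable def Ptab_s_366_368 (c : Nat) : Nat := @Bool.rec (fun _ => Nat) (Ptab_366) (Ptab_367) (Nat.ble 367 c)
noncomputable def Ptab_s_368_370 (c : Nat) : Nat := @Bool.rec (fun _ => Nat) (Ptab_368) (Ptab_369) (Nat.ble 369 c)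
noncomputable def Ptab_s_366_370 (c : Nat) : Nat := @Bool.rec (fun _ => Nat) (Ptab_s_366_368 c) (Ptab_s_368_370 c) (Nat.ble 368 c)
noncomputable def Ptab_s_363_370 (c : Nat) : Nat := @Bool.rec (fun _ => Nat) (Ptab_s_363_366 c) (Ptab_s_366_370 c) (Nat.ble 366 c)
noncomputable def Ptab_s_370_372 (c : Nat) : Nat := @Bool.rec (fun _ => Nat) (Ptab_370) (Ptab_371) (Nat.ble 371 c)
noncomputable def Ptab_s_372_374 (c : Nat) : Nat := @Bool.rec (fun _ => Nat) (Ptab_372) (Ptab_373) (Nat.ble 373 c)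
noncomputable def Ptab_s_370_374 (c : Nat) : Nat := @Bool.rec (fun _ => Nat) (Ptab_s_370_372 c) (Ptab_s_372_374 c) (Nat.ble 372 c)
noncomputable def Ptab_s_374_376 (c : Nat) : Nat := @Bool.rec (fun _ => Nat) (Ptab_374) (Ptab_375) (Nat.ble 375 c)
noncomputable def Ptab_s_376_378 (c : Nat) : Nat := @Bool.rec (fun _ => Nat) (Ptab_376) (Ptab_377) (Nat.ble 377 c)
noncomputable def Ptab_s_374_378 (c : Nat) : Nat := @Bool.rec (fun _ => Nat) (Ptab_s_374_376 c) (Ptab_s_376_378 c) (Nat.ble 376 c)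
noncomputable def Ptab_s_370_378 (c : Nat) : Nat := @Bool.rec (fun _ => Nat) (Ptab_s_370_374 c) (Ptab_s_374_378 c) (Nat.ble 374 c)
noncomputable def Ptab_s_363_378 (c : Nat) : Nat := @Bool.rec (fun _ => Nat) (Ptab_s_363_370 c) (Ptab_s_370_378 c) (Nat.ble 370 c)
noncomputable def Ptab_s_379_381 (c : Nat) : Nat := @Bool.rec (fun _ => Nat) (Ptab_379) (Ptab_380) (Nat.ble 380 c)
noncomputable def Ptab_s_378_381 (c : Nat) : Nat := @Bool.rec (fun _ => Nat) (Ptab_378) (Ptab_s_379_381 c) (Nat.ble 379 c)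
noncomputable def Ptab_s_381_383 (c : Nat) : Nat := @Bool.rec (fun _ => Nat) (Ptab_381) (Ptab_382) (Nat.ble 382 c)
noncomputable def Ptab_s_383_385 (c : Nat) : Nat := @Bool.rec (fun _ => Nat) (Ptab_383) (Ptab_384) (Nat.ble 384 c)
noncomputable def Ptab_s_381_385 (c : Nat) : Nat := @Bool.rec (fun _ => Nat) (Ptab_s_381_383 c) (Ptab_s_383_385 c) (Nat.ble 383 c)
noncomputable def Ptab_s_378_385 (c : Nat) : Nat := @Bool.rec (fun _ => Nat) (Ptab_s_378_381 c) (Ptab_s_381_385 c) (Nat.ble 381 c)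
noncomputable def Ptab_s_385_387 (c : Nat) : Nat := @Bool.rec (fun _ => Nat) (Ptab_385) (Ptab_386) (Nat.ble 386 c)
noncomputable def Ptab_s_387_389 (c : Nat) : Nat := @Bool.rec (fun _ => Nat) (Ptab_387) (Ptab_388) (Nat.ble 388 c)
noncomputable def Ptab_s_385_389 (c : Nat) : Nat := @Bool.rec (fun _ => Nat) (Ptab_s_385_387 c) (Ptab_s_387_389 c) (Nat.ble 387 c)
noncomputable def Ptab_s_389_391 (c : Nat) : Nat := @Bool.rec (fun _ => Nat) (Ptab_389) (Ptab_390) (Nat.ble 390 c)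
noncomputable def Ptab_s_391_393 (c : Nat) : Nat := @Bool.rec (fun _ => Nat) (Ptab_391) (Ptab_392) (Nat.ble 392 c)
noncomputable def Ptab_s_389_393 (c : Nat) : Nat := @Bool.rec (fun _ => Nat) (Ptab_s_389_391 c) (Ptab_s_391_393 c) (Nat.ble 391 c)
noncomputable def Ptab_s_385_393 (c : Nat) : Nat := @Bool.rec (fun _ => Nat) (Ptab_s_385_389 c) (Ptab_s_389_393 c) (Nat.ble 389 c)
noncomputable def Ptab_s_378_393 (c : Nat) : Nat := @Bool.rec (fun _ => Nat) (Ptab_s_378_385 c) (Ptab_s_385_393 c) (Nat.ble 385 c)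
noncomputable def Ptab_s_363_393 (c : Nat) : Nat := @Bool.rec (fun _ => Nat) (Ptab_s_363_378 c) (Ptab_s_378_393 c) (Nat.ble 378 c)
noncomputable def Ptab_s_394_396 (c : Nat) : Nat := @Bool.rec (fun _ => Nat) (Ptab_394) (Ptab_395) (Nat.ble 395 c)
noncomputable def Ptab_s_393_396 (c : Nat) : Nat := @Bool.rec (fun _ => Nat) (Ptab_393) (Ptab_s_394_396 c) (Nat.ble 394 c)
noncomputable def Ptab_s_396_398 (c : Nat) : Nat := @Bool.rec (fun _ => Nat) (Ptab_396) (Ptab_397) (Nat.ble 397 c)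
noncomputable def Ptab_s_398_400 (c : Nat) : Nat := @Bool.rec (fun _ => Nat) (Ptab_398) (Ptab_399) (Nat.ble 399 c)
noncomputable def Ptab_s_396_400 (c : Nat) : Nat := @Bool.rec (fun _ => Nat) (Ptab_s_396_398 c) (Ptab_s_398_400 c) (Nat.ble 398 c)
noncomputable def Ptab_s_393_400 (c : Nat) : Nat := @Bool.rec (fun _ => Nat) (Ptab_s_393_396 c) (Ptab_s_396_400 c) (Nat.ble 396 c)
noncomputable def Ptab_s_400_402 (c : Nat) : Nat := @Bool.rec (fun _ => Nat) (Ptab_400) (Ptab_401) (Nat.ble 401 c)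
noncomputable def Ptab_s_402_404 (c : Nat) : Nat := @Bool.rec (fun _ => Nat) (Ptab_402) (Ptab_403) (Nat.ble 403 c)
noncomputable def Ptab_s_400_404 (c : Nat) : Nat := @Bool.rec (fun _ => Nat) (Ptab_s_400_402 c) (Ptab_s_402_404 c) (Nat.ble 402 c)
noncomputable def Ptab_s_404_406 (c : Nat) : Nat := @Bool.rec (fun _ => Nat) (Ptab_404) (Ptab_405) (Nat.ble 405 c)
noncomputable def Ptab_s_406_408 (c : Nat) : Nat := @Bool.rec (fun _ => Nat) (Ptab_406) (Ptab_407) (Nat.ble 407 c)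
noncomputable def Ptab_s_404_408 (c : Nat) : Nat := @Bool.rec (fun _ => Nat) (Ptab_s_404_406 c) (Ptab_s_406_408 c) (Nat.ble 406 c)
noncomputable def Ptab_s_400_408 (c : Nat) : Nat := @Bool.rec (fun _ => Nat) (Ptab_s_400_404 c) (Ptab_s_404_408 c) (Nat.ble 404 c)
noncomputable def Ptab_s_393_408 (c : Nat) : Nat := @Bool.rec (fun _ => Nat) (Ptab_s_393_400 c) (Ptab_s_400_408 c) (Nat.ble 400 c)
noncomputable def Ptab_s_409_411 (c : Nat) : Nat := @Bool.rec (fun _ => Nat) (Ptab_409) (Ptab_410) (Nat.ble 410 c)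
noncomputable def Ptab_s_408_411 (c : Nat) : Nat := @Bool.rec (fun _ => Nat) (Ptab_408) (Ptab_s_409_411 c) (Nat.ble 409 c)
noncomputable def Ptab_s_411_413 (c : Nat) : Nat := @Bool.rec (fun _ => Nat) (Ptab_411) (Ptab_412) (Nat.ble 412 c)
noncomputable def Ptab_s_413_415 (c : Nat) : Nat := @Bool.rec (fun _ => Nat) (Ptab_413) (Ptab_414) (Nat.ble 414 c)
noncomputable def Ptab_s_411_415 (c : Nat) : Nat := @Bool.rec (fun _ => Nat) (Ptab_s_411_413 c) (Ptab_s_413_415 c) (Nat.ble 413 c)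
noncomputable def Ptab_s_408_415 (c : Nat) : Nat := @Bool.rec (fun _ => Nat) (Ptab_s_408_411 c) (Ptab_s_411_415 c) (Nat.ble 411 c)
noncomputable def Ptab_s_415_417 (c : Nat) : Nat := @Bool.rec (fun _ => Nat) (Ptab_415) (Ptab_416) (Nat.ble 416 c)
noncomputable def Ptab_s_417_419 (c : Nat) : Nat := @Bool.rec (fun _ => Nat) (Ptab_417) (Ptab_418) (Nat.ble 418 c)
noncomputable def Ptab_s_415_419 (c : Nat) : Nat := @Bool.rec (fun _ => Nat) (Ptab_s_415_417 c) (Ptab_s_417_419 c) (Nat.ble 417 c)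
noncomputable def Ptab_s_419_421 (c : Nat) : Nat := @Bool.rec (fun _ => Nat) (Ptab_419) (Ptab_420) (Nat.ble 420 c)
noncomputable def Ptab_s_421_423 (c : Nat) : Nat := @Bool.rec (fun _ => Nat) (Ptab_421) (Ptab_422) (Nat.ble 422 c)
noncomputable def Ptab_s_419_423 (c : Nat) : Nat := @Bool.rec (fun _ => Nat) (Ptab_s_419_421 c) (Ptab_s_421_423 c) (Nat.ble 421 c)
noncomputable def Ptab_s_415_423 (c : Nat) : Nat := @Bool.rec (fun _ => Nat) (Ptab_s_415_419 c) (Ptab_s_419_423 c) (Nat.ble 419 c)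
noncomputable def Ptab_s_408_423 (c : Nat) : Nat := @Bool.rec (fun _ => Nat) (Ptab_s_408_415 c) (Ptab_s_415_423 c) (Nat.ble 415 c)
noncomputable def Ptab_s_393_423 (c : Nat) : Nat := @Bool.rec (fun _ => Nat) (Ptab_s_393_408 c) (Ptab_s_408_423 c) (Nat.ble 408 c)
noncomputable def Ptab_s_363_423 (c : Nat) : Nat := @Bool.rec (fun _ => Nat) (Ptab_s_363_393 c) (Ptab_s_393_423 c) (Nat.ble 393 c)
noncomputable def Ptab_s_424_426 (c : Nat) : Nat := @Bool.rec (fun _ => Nat) (Ptab_424) (Ptab_425) (Nat.ble 425 c)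
noncomputable def Ptab_s_423_426 (c : Nat) : Nat := @Bool.rec (fun _ => Nat) (Ptab_423) (Ptab_s_424_426 c) (Nat.ble 424 c)
noncomputable def Ptab_s_426_428 (c : Nat) : Nat := @Bool.rec (fun _ => Nat) (Ptab_426) (Ptab_427) (Nat.ble 427 c)
noncomputable def Ptab_s_428_430 (c : Nat) : Nat := @Bool.rec (fun _ => Nat) (Ptab_428) (Ptab_429) (Nat.ble 429 c)
noncomputable def Ptab_s_426_430 (c : Nat) : Nat := @Bool.rec (fun _ => Nat) (Ptab_s_426_428 c) (Ptab_s_428_430 c) (Nat.ble 428 c)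
noncomputable def Ptab_s_423_430 (c : Nat) : Nat := @Bool.rec (fun _ => Nat) (Ptab_s_423_426 c) (Ptab_s_426_430 c) (Nat.ble 426 c)
noncomputable def Ptab_s_430_432 (c : Nat) : Nat := @Bool.rec (fun _ => Nat) (Ptab_430) (Ptab_431) (Nat.ble 431 c)
noncomputable def Ptab_s_432_434 (c : Nat) : Nat := @Bool.rec (fun _ => Nat) (Ptab_432) (Ptab_433) (Nat.ble 433 c)
noncomputable def Ptab_s_430_434 (c : Nat) : Nat := @Bool.rec (fun _ => Nat) (Ptab_s_430_432 c) (Ptab_s_432_434 c) (Nat.ble 432 c)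
noncomputable def Ptab_s_434_436 (c : Nat) : Nat := @Bool.rec (fun _ => Nat) (Ptab_434) (Ptab_435) (Nat.ble 435 c)
noncomputable def Ptab_s_436_438 (c : Nat) : Nat := @Bool.rec (fun _ => Nat) (Ptab_436) (Ptab_437) (Nat.ble 437 c)
noncomputable def Ptab_s_434_438 (c : Nat) : Nat := @Bool.rec (fun _ => Nat) (Ptab_s_434_436 c) (Ptab_s_436_438 c) (Nat.ble 436 c)
noncomputable def Ptab_s_430_438 (c : Nat) : Nat := @Bool.rec (fun _ => Nat) (Ptab_s_430_434 c) (Ptab_s_434_438 c) (Nat.ble 434 c)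
noncomputable def Ptab_s_423_438 (c : Nat) : Nat := @Bool.rec (fun _ => Nat) (Ptab_s_423_430 c) (Ptab_s_430_438 c) (Nat.ble 430 c)
noncomputable def Ptab_s_439_441 (c : Nat) : Nat := @Bool.rec (fun _ => Nat) (Ptab_439) (Ptab_440) (Nat.ble 440 c)
noncomputable def Ptab_s_438_441 (c : Nat) : Nat := @Bool.rec (fun _ => Nat) (Ptab_438) (Ptab_s_439_441 c) (Nat.ble 439 c)
noncomputable def Ptab_s_441_443 (c : Nat) : Nat := @Bool.rec (fun _ => Nat) (Ptab_441) (Ptab_442) (Nat.ble 442 c)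
noncomputable def Ptab_s_443_445 (c : Nat) : Nat := @Bool.rec (fun _ => Nat) (Ptab_443) (Ptab_444) (Nat.ble 444 c)
noncomputable def Ptab_s_441_445 (c : Nat) : Nat := @Bool.rec (fun _ => Nat) (Ptab_s_441_443 c) (Ptab_s_443_445 c) (Nat.ble 443 c)
noncomputable def Ptab_s_438_445 (c : Nat) : Nat := @Bool.rec (fun _ => Nat) (Ptab_s_438_441 c) (Ptab_s_441_445 c) (Nat.ble 441 c)
noncomputable def Ptab_s_445_447 (c : Nat) : Nat := @Bool.rec (fun _ => Nat) (Ptab_445) (Ptab_446) (Nat.ble 446 c)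
noncomputable def Ptab_s_447_449 (c : Nat) : Nat := @Bool.rec (fun _ => Nat) (Ptab_447) (Ptab_448) (Nat.ble 448 c)
noncomputable def Ptab_s_445_449 (c : Nat) : Nat := @Bool.rec (fun _ => Nat) (Ptab_s_445_447 c) (Ptab_s_447_449 c) (Nat.ble 447 c)
noncomputable def Ptab_s_449_451 (c : Nat) : Nat := @Bool.rec (fun _ => Nat) (Ptab_449) (Ptab_450) (Nat.ble 450 c)
noncomputable def Ptab_s_451_453 (c : Nat) : Nat := @Bool.rec (fun _ => Nat) (Ptab_451) (Ptab_452) (Nat.ble 452 c)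
noncomputable def Ptab_s_449_453 (c : Nat) : Nat := @Bool.rec (fun _ => Nat) (Ptab_s_449_451 c) (Ptab_s_451_453 c) (Nat.ble 451 c)
noncomputable def Ptab_s_445_453 (c : Nat) : Nat := @Bool.rec (fun _ => Nat) (Ptab_s_445_449 c) (Ptab_s_449_453 c) (Nat.ble 449 c)
noncomputable def Ptab_s_438_453 (c : Nat) : Nat := @Bool.rec (fun _ => Nat) (Ptab_s_438_445 c) (Ptab_s_445_453 c) (Nat.ble 445 c)
noncomputable def Ptab_s_423_453 (c : Nat) : Nat := @Bool.rec (fun _ => Nat) (Ptab_s_423_438 c) (Ptab_s_438_453 c) (Nat.ble 438 c)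
noncomputable def Ptab_s_454_456 (c : Nat) : Nat := @Bool.rec (fun _ => Nat) (Ptab_454) (Ptab_455) (Nat.ble 455 c)
noncomputable def Ptab_s_453_456 (c : Nat) : Nat := @Bool.rec (fun _ => Nat) (Ptab_453) (Ptab_s_454_456 c) (Nat.ble 454 c)
noncomputable def Ptab_s_456_458 (c : Nat) : Nat := @Bool.rec (fun _ => Nat) (Ptab_456) (Ptab_457) (Nat.ble 457 c)
noncomputable def Ptab_s_458_460 (c : Nat) : Nat := @Bool.rec (fun _ => Nat) (Ptab_458) (Ptab_459) (Nat.ble 459 c)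
noncomputable def Ptab_s_456_460 (c : Nat) : Nat := @Bool.rec (fun _ => Nat) (Ptab_s_456_458 c) (Ptab_s_458_460 c) (Nat.ble 458 c)
noncomputable def Ptab_s_453_460 (c : Nat) : Nat := @Bool.rec (fun _ => Nat) (Ptab_s_453_456 c) (Ptab_s_456_460 c) (Nat.ble 456 c)
noncomputable def Ptab_s_460_462 (c : Nat) : Nat := @Bool.rec (fun _ => Nat) (Ptab_460) (Ptab_461) (Nat.ble 461 c)
noncomputable def Ptab_s_462_464 (c : Nat) : Nat := @Bool.rec (fun _ => Nat) (Ptab_462) (Ptab_463) (Nat.ble 463 c)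
noncomputable def Ptab_s_460_464 (c : Nat) : Nat := @Bool.rec (fun _ => Nat) (Ptab_s_460_462 c) (Ptab_s_462_464 c) (Nat.ble 462 c)
noncomputable def Ptab_s_464_466 (c : Nat) : Nat := @Bool.rec (fun _ => Nat) (Ptab_464) (Ptab_465) (Nat.ble 465 c)
noncomputable def Ptab_s_466_468 (c : Nat) : Nat := @Bool.rec (fun _ => Nat) (Ptab_466) (Ptab_467) (Nat.ble 467 c)
noncomputable def Ptab_s_464_468 (c : Nat) : Nat := @Bool.rec (fun _ => Nat) (Ptab_s_464_466 c) (Ptab_s_466_468 c) (Nat.ble 466 c)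
noncomputable def Ptab_s_460_468 (c : Nat) : Nat := @Bool.rec (fun _ => Nat) (Ptab_s_460_464 c) (Ptab_s_464_468 c) (Nat.ble 464 c)
noncomputable def Ptab_s_453_468 (c : Nat) : Nat := @Bool.rec (fun _ => Nat) (Ptab_s_453_460 c) (Ptab_s_460_468 c) (Nat.ble 460 c)
noncomputable def Ptab_s_468_470 (c : Nat) : Nat := @Bool.rec (fun _ => Nat) (Ptab_468) (Ptab_469) (Nat.ble 469 c)
noncomputable def Ptab_s_470_472 (c : Nat) : Nat := @Bool.rec (fun _ => Nat) (Ptab_470) (Ptab_471) (Nat.ble 471 c)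
noncomputable def Ptab_s_468_472 (c : Nat) : Nat := @Bool.rec (fun _ => Nat) (Ptab_s_468_470 c) (Ptab_s_470_472 c) (Nat.ble 470 c)
noncomputable def Ptab_s_472_474 (c : Nat) : Nat := @Bool.rec (fun _ => Nat) (Ptab_472) (Ptab_473) (Nat.ble 473 c)
noncomputable def Ptab_s_474_476 (c : Nat) : Nat := @Bool.rec (fun _ => Nat) (Ptab_474) (Ptab_475) (Nat.ble 475 c)
noncomputable def Ptab_s_472_476 (c : Nat) : Nat := @Bool.rec (fun _ => Nat) (Ptab_s_472_474 c) (Ptab_s_474_476 c) (Nat.ble 474 c)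
noncomputable def Ptab_s_468_476 (c : Nat) : Nat := @Bool.rec (fun _ => Nat) (Ptab_s_468_472 c) (Ptab_s_472_476 c) (Nat.ble 472 c)
noncomputable def Ptab_s_476_478 (c : Nat) : Nat := @Bool.rec (fun _ => Nat) (Ptab_476) (Ptab_477) (Nat.ble 477 c)
noncomputable def Ptab_s_478_480 (c : Nat) : Nat := @Bool.rec (fun _ => Nat) (Ptab_478) (Ptab_479) (Nat.ble 479 c)
noncomputable def Ptab_s_476_480 (c : Nat) : Nat := @Bool.rec (fun _ => Nat) (Ptab_s_476_478 c) (Ptab_s_478_480 c) (Nat.ble 478 c)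
noncomputable def Ptab_s_480_482 (c : Nat) : Nat := @Bool.rec (fun _ => Nat) (Ptab_480) (Ptab_481) (Nat.ble 481 c)
noncomputable def Ptab_s_482_484 (c : Nat) : Nat := @Bool.rec (fun _ => Nat) (Ptab_482) (Ptab_483) (Nat.ble 483 c)
noncomputable def Ptab_s_480_484 (c : Nat) : Nat := @Bool.rec (fun _ => Nat) (Ptab_s_480_482 c) (Ptab_s_482_484 c) (Nat.ble 482 c)
noncomputable def Ptab_s_476_484 (c : Nat) : Nat := @Bool.rec (fun _ => Nat) (Ptab_s_476_480 c) (Ptab_s_480_484 c) (Nat.ble 480 c)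
noncomputable def Ptab_s_468_484 (c : Nat) : Nat := @Bool.rec (fun _ => Nat) (Ptab_s_468_476 c) (Ptab_s_476_484 c) (Nat.ble 476 c)
noncomputable def Ptab_s_453_484 (c : Nat) : Nat := @Bool.rec (fun _ => Nat) (Ptab_s_453_468 c) (Ptab_s_468_484 c) (Nat.ble 468 c)
noncomputable def Ptab_s_423_484 (c : Nat) : Nat := @Bool.rec (fun _ => Nat) (Ptab_s_423_453 c) (Ptab_s_453_484 c) (Nat.ble 453 c)
noncomputable def Ptab_s_363_484 (c : Nat) : Nat := @Bool.rec (fun _ => Nat) (Ptab_s_363_423 c) (Ptab_s_423_484 c) (Nat.ble 423 c)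
noncomputable def Ptab_s_242_484 (c : Nat) : Nat := @Bool.rec (fun _ => Nat) (Ptab_s_242_363 c) (Ptab_s_363_484 c) (Nat.ble 363 c)
noncomputable def Ptab_s_0_484 (c : Nat) : Nat := @Bool.rec (fun _ => Nat) (Ptab_s_0_242 c) (Ptab_s_242_484 c) (Nat.ble 242 c)
noncomputable def Ptab_s_485_487 (c : Nat) : Nat := @Bool.rec (fun _ => Nat) (Ptab_485) (Ptab_486) (Nat.ble 486 c)
noncomputable def Ptab_s_484_487 (c : Nat) : Nat := @Bool.rec (fun _ => Nat) (Ptab_484) (Ptab_s_485_487 c) (Nat.ble 485 c)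
noncomputable def Ptab_s_487_489 (c : Nat) : Nat := @Bool.rec (fun _ => Nat) (Ptab_487) (Ptab_488) (Nat.ble 488 c)
noncomputable def Ptab_s_489_491 (c : Nat) : Nat := @Bool.rec (fun _ => Nat) (Ptab_489) (Ptab_490) (Nat.ble 490 c)
noncomputable def Ptab_s_487_491 (c : Nat) : Nat := @Bool.rec (fun _ => Nat) (Ptab_s_487_489 c) (Ptab_s_489_491 c) (Nat.ble 489 c)
noncomputable def Ptab_s_484_491 (c : Nat) : Nat := @Bool.rec (fun _ => Nat) (Ptab_s_484_487 c) (Ptab_s_487_491 c) (Nat.ble 487 c)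
noncomputable def Ptab_s_491_493 (c : Nat) : Nat := @Bool.rec (fun _ => Nat) (Ptab_491) (Ptab_492) (Nat.ble 492 c)
noncomputable def Ptab_s_493_495 (c : Nat) : Nat := @Bool.rec (fun _ => Nat) (Ptab_493) (Ptab_494) (Nat.ble 494 c)
noncomputable def Ptab_s_491_495 (c : Nat) : Nat := @Bool.rec (fun _ => Nat) (Ptab_s_491_493 c) (Ptab_s_493_495 c) (Nat.ble 493 c)
noncomputable def Ptab_s_495_497 (c : Nat) : Nat := @Bool.rec (fun _ => Nat) (Ptab_495) (Ptab_496) (Nat.ble 496 c)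
noncomputable def Ptab_s_497_499 (c : Nat) : Nat := @Bool.rec (fun _ => Nat) (Ptab_497) (Ptab_498) (Nat.ble 498 c)
noncomputable def Ptab_s_495_499 (c : Nat) : Nat := @Bool.rec (fun _ => Nat) (Ptab_s_495_497 c) (Ptab_s_497_499 c) (Nat.ble 497 c)
noncomputable def Ptab_s_491_499 (c : Nat) : Nat := @Bool.rec (fun _ => Nat) (Ptab_s_491_495 c) (Ptab_s_495_499 c) (Nat.ble 495 c)
noncomputable def Ptab_s_484_499 (c : Nat) : Nat := @Bool.rec (fun _ => Nat) (Ptab_s_484_491 c) (Ptab_s_491_499 c) (Nat.ble 491 c)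
noncomputable def Ptab_s_500_502 (c : Nat) : Nat := @Bool.rec (fun _ => Nat) (Ptab_500) (Ptab_501) (Nat.ble 501 c)
noncomputable def Ptab_s_499_502 (c : Nat) : Nat := @Bool.rec (fun _ => Nat) (Ptab_499) (Ptab_s_500_502 c) (Nat.ble 500 c)
noncomputable def Ptab_s_502_504 (c : Nat) : Nat := @Bool.rec (fun _ => Nat) (Ptab_502) (Ptab_503) (Nat.ble 503 c)
noncomputable def Ptab_s_504_506 (c : Nat) : Nat := @Bool.rec (fun _ => Nat) (Ptab_504) (Ptab_505) (Nat.ble 505 c)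
noncomputable def Ptab_s_502_506 (c : Nat) : Nat := @Bool.rec (fun _ => Nat) (Ptab_s_502_504 c) (Ptab_s_504_506 c) (Nat.ble 504 c)
noncomputable def Ptab_s_499_506 (c : Nat) : Nat := @Bool.rec (fun _ => Nat) (Ptab_s_499_502 c) (Ptab_s_502_506 c) (Nat.ble 502 c)
noncomputable def Ptab_s_506_508 (c : Nat) : Nat := @Bool.rec (fun _ => Nat) (Ptab_506) (Ptab_507) (Nat.ble 507 c)
noncomputable def Ptab_s_508_510 (c : Nat) : Nat := @Bool.rec (fun _ => Nat) (Ptab_508) (Ptab_509) (Nat.ble 509 c)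
noncomputable def Ptab_s_506_510 (c : Nat) : Nat := @Bool.rec (fun _ => Nat) (Ptab_s_506_508 c) (Ptab_s_508_510 c) (Nat.ble 508 c)
noncomputable def Ptab_s_510_512 (c : Nat) : Nat := @Bool.rec (fun _ => Nat) (Ptab_510) (Ptab_511) (Nat.ble 511 c)
noncomputable def Ptab_s_512_514 (c : Nat) : Nat := @Bool.rec (fun _ => Nat) (Ptab_512) (Ptab_513) (Nat.ble 513 c)
noncomputable def Ptab_s_510_514 (c : Nat) : Nat := @Bool.rec (fun _ => Nat) (Ptab_s_510_512 c) (Ptab_s_512_514 c) (Nat.ble 512 c)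
noncomputable def Ptab_s_506_514 (c : Nat) : Nat := @Bool.rec (fun _ => Nat) (Ptab_s_506_510 c) (Ptab_s_510_514 c) (Nat.ble 510 c)
noncomputable def Ptab_s_499_514 (c : Nat) : Nat := @Bool.rec (fun _ => Nat) (Ptab_s_499_506 c) (Ptab_s_506_514 c) (Nat.ble 506 c)
noncomputable def Ptab_s_484_514 (c : Nat) : Nat := @Bool.rec (fun _ => Nat) (Ptab_s_484_499 c) (Ptab_s_499_514 c) (Nat.ble 499 c)
noncomputable def Ptab_s_515_517 (c : Nat) : Nat := @Bool.rec (fun _ => Nat) (Ptab_515) (Ptab_516) (Nat.ble 516 c)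
noncomputable def Ptab_s_514_517 (c : Nat) : Nat := @Bool.rec (fun _ => Nat) (Ptab_514) (Ptab_s_515_517 c) (Nat.ble 515 c)
noncomputable def Ptab_s_517_519 (c : Nat) : Nat := @Bool.rec (fun _ => Nat) (Ptab_517) (Ptab_518) (Nat.ble 518 c)
noncomputable def Ptab_s_519_521 (c : Nat) : Nat := @Bool.rec (fun _ => Nat) (Ptab_519) (Ptab_520) (Nat.ble 520 c)
noncomputable def Ptab_s_517_521 (c : Nat) : Nat := @Bool.rec (fun _ => Nat) (Ptab_s_517_519 c) (Ptab_s_519_521 c) (Nat.ble 519 c)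
noncomputable def Ptab_s_514_521 (c : Nat) : Nat := @Bool.rec (fun _ => Nat) (Ptab_s_514_517 c) (Ptab_s_517_521 c) (Nat.ble 517 c)
noncomputable def Ptab_s_521_523 (c : Nat) : Nat := @Bool.rec (fun _ => Nat) (Ptab_521) (Ptab_522) (Nat.ble 522 c)
noncomputable def Ptab_s_523_525 (c : Nat) : Nat := @Bool.rec (fun _ => Nat) (Ptab_523) (Ptab_524) (Nat.ble 524 c)
noncomputable def Ptab_s_521_525 (c : Nat) : Nat := @Bool.rec (fun _ => Nat) (Ptab_s_521_523 c) (Ptab_s_523_525 c) (Nat.ble 523 c)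
noncomputable def Ptab_s_525_527 (c : Nat) : Nat := @Bool.rec (fun _ => Nat) (Ptab_525) (Ptab_526) (Nat.ble 526 c)
noncomputable def Ptab_s_527_529 (c : Nat) : Nat := @Bool.rec (fun _ => Nat) (Ptab_527) (Ptab_528) (Nat.ble 528 c)
noncomputable def Ptab_s_525_529 (c : Nat) : Nat := @Bool.rec (fun _ => Nat) (Ptab_s_525_527 c) (Ptab_s_527_529 c) (Nat.ble 527 c)
noncomputable def Ptab_s_521_529 (c : Nat) : Nat := @Bool.rec (fun _ => Nat) (Ptab_s_521_525 c) (Ptab_s_525_529 c) (Nat.ble 525 c)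
noncomputable def Ptab_s_514_529 (c : Nat) : Nat := @Bool.rec (fun _ => Nat) (Ptab_s_514_521 c) (Ptab_s_521_529 c) (Nat.ble 521 c)
noncomputable def Ptab_s_530_532 (c : Nat) : Nat := @Bool.rec (fun _ => Nat) (Ptab_530) (Ptab_531) (Nat.ble 531 c)
noncomputable def Ptab_s_529_532 (c : Nat) : Nat := @Bool.rec (fun _ => Nat) (Ptab_529) (Ptab_s_530_532 c) (Nat.ble 530 c)
noncomputable def Ptab_s_532_534 (c : Nat) : Nat := @Bool.rec (fun _ => Nat) (Ptab_532) (Ptab_533) (Nat.ble 533 c)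
noncomputable def Ptab_s_534_536 (c : Nat) : Nat := @Bool.rec (fun _ => Nat) (Ptab_534) (Ptab_535) (Nat.ble 535 c)
noncomputable def Ptab_s_532_536 (c : Nat) : Nat := @Bool.rec (fun _ => Nat) (Ptab_s_532_534 c) (Ptab_s_534_536 c) (Nat.ble 534 c)
noncomputable def Ptab_s_529_536 (c : Nat) : Nat := @Bool.rec (fun _ => Nat) (Ptab_s_529_532 c) (Ptab_s_532_536 c) (Nat.ble 532 c)
noncomputable def Ptab_s_536_538 (c : Nat) : Nat := @Bool.rec (fun _ => Nat) (Ptab_536) (Ptab_537) (Nat.ble 537 c)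
noncomputable def Ptab_s_538_540 (c : Nat) : Nat := @Bool.rec (fun _ => Nat) (Ptab_538) (Ptab_539) (Nat.ble 539 c)
noncomputable def Ptab_s_536_540 (c : Nat) : Nat := @Bool.rec (fun _ => Nat) (Ptab_s_536_538 c) (Ptab_s_538_540 c) (Nat.ble 538 c)
noncomputable def Ptab_s_540_542 (c : Nat) : Nat := @Bool.rec (fun _ => Nat) (Ptab_540) (Ptab_541) (Nat.ble 541 c)
noncomputable def Ptab_s_542_544 (c : Nat) : Nat := @Bool.rec (fun _ => Nat) (Ptab_542) (Ptab_543) (Nat.ble 543 c)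
noncomputable def Ptab_s_540_544 (c : Nat) : Nat := @Bool.rec (fun _ => Nat) (Ptab_s_540_542 c) (Ptab_s_542_544 c) (Nat.ble 542 c)
noncomputable def Ptab_s_536_544 (c : Nat) : Nat := @Bool.rec (fun _ => Nat) (Ptab_s_536_540 c) (Ptab_s_540_544 c) (Nat.ble 540 c)
noncomputable def Ptab_s_529_544 (c : Nat) : Nat := @Bool.rec (fun _ => Nat) (Ptab_s_529_536 c) (Ptab_s_536_544 c) (Nat.ble 536 c)
noncomputable def Ptab_s_514_544 (c : Nat) : Nat := @Bool.rec (fun _ => Nat) (Ptab_s_514_529 c) (Ptab_s_529_544 c) (Nat.ble 529 c)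
noncomputable def Ptab_s_484_544 (c : Nat) : Nat := @Bool.rec (fun _ => Nat) (Ptab_s_484_514 c) (Ptab_s_514_544 c) (Nat.ble 514 c)
noncomputable def Ptab_s_545_547 (c : Nat) : Nat := @Bool.rec (fun _ => Nat) (Ptab_545) (Ptab_546) (Nat.ble 546 c)
noncomputable def Ptab_s_544_547 (c : Nat) : Nat := @Bool.rec (fun _ => Nat) (Ptab_544) (Ptab_s_545_547 c) (Nat.ble 545 c)
noncomputable def Ptab_s_547_549 (c : Nat) : Nat := @Bool.rec (fun _ => Nat) (Ptab_547) (Ptab_548) (Nat.ble 548 c)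
noncomputable def Ptab_s_549_551 (c : Nat) : Nat := @Bool.rec (fun _ => Nat) (Ptab_549) (Ptab_550) (Nat.ble 550 c)
noncomputable def Ptab_s_547_551 (c : Nat) : Nat := @Bool.rec (fun _ => Nat) (Ptab_s_547_549 c) (Ptab_s_549_551 c) (Nat.ble 549 c)
noncomputable def Ptab_s_544_551 (c : Nat) : Nat := @Bool.rec (fun _ => Nat) (Ptab_s_544_547 c) (Ptab_s_547_551 c) (Nat.ble 547 c)
noncomputable def Ptab_s_551_553 (c : Nat) : Nat := @Bool.rec (fun _ => Nat) (Ptab_551) (Ptab_552) (Nat.ble 552 c)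
noncomputable def Ptab_s_553_555 (c : Nat) : Nat := @Bool.rec (fun _ => Nat) (Ptab_553) (Ptab_554) (Nat.ble 554 c)
noncomputable def Ptab_s_551_555 (c : Nat) : Nat := @Bool.rec (fun _ => Nat) (Ptab_s_551_553 c) (Ptab_s_553_555 c) (Nat.ble 553 c)
noncomputable def Ptab_s_555_557 (c : Nat) : Nat := @Bool.rec (fun _ => Nat) (Ptab_555) (Ptab_556) (Nat.ble 556 c)
noncomputable def Ptab_s_557_559 (c : Nat) : Nat := @Bool.rec (fun _ => Nat) (Ptab_557) (Ptab_558) (Nat.ble 558 c)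
noncomputable def Ptab_s_555_559 (c : Nat) : Nat := @Bool.rec (fun _ => Nat) (Ptab_s_555_557 c) (Ptab_s_557_559 c) (Nat.ble 557 c)
noncomputable def Ptab_s_551_559 (c : Nat) : Nat := @Bool.rec (fun _ => Nat) (Ptab_s_551_555 c) (Ptab_s_555_559 c) (Nat.ble 555 c)
noncomputable def Ptab_s_544_559 (c : Nat) : Nat := @Bool.rec (fun _ => Nat) (Ptab_s_544_551 c) (Ptab_s_551_559 c) (Nat.ble 551 c)
noncomputable def Ptab_s_560_562 (c : Nat) : Nat := @Bool.rec (fun _ => Nat) (Ptab_560) (Ptab_561) (Nat.ble 561 c)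
noncomputable def Ptab_s_559_562 (c : Nat) : Nat := @Bool.rec (fun _ => Nat) (Ptab_559) (Ptab_s_560_562 c) (Nat.ble 560 c)
noncomputable def Ptab_s_562_564 (c : Nat) : Nat := @Bool.rec (fun _ => Nat) (Ptab_562) (Ptab_563) (Nat.ble 563 c)
noncomputable def Ptab_s_564_566 (c : Nat) : Nat := @Bool.rec (fun _ => Nat) (Ptab_564) (Ptab_565) (Nat.ble 565 c)
noncomputable def Ptab_s_562_566 (c : Nat) : Nat := @Bool.rec (fun _ => Nat) (Ptab_s_562_564 c) (Ptab_s_564_566 c) (Nat.ble 564 c)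
noncomputable def Ptab_s_559_566 (c : Nat) : Nat := @Bool.rec (fun _ => Nat) (Ptab_s_559_562 c) (Ptab_s_562_566 c) (Nat.ble 562 c)
noncomputable def Ptab_s_566_568 (c : Nat) : Nat := @Bool.rec (fun _ => Nat) (Ptab_566) (Ptab_567) (Nat.ble 567 c)
noncomputable def Ptab_s_568_570 (c : Nat) : Nat := @Bool.rec (fun _ => Nat) (Ptab_568) (Ptab_569) (Nat.ble 569 c)
noncomputable def Ptab_s_566_570 (c : Nat) : Nat := @Bool.rec (fun _ => Nat) (Ptab_s_566_568 c) (Ptab_s_568_570 c) (Nat.ble 568 c)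
noncomputable def Ptab_s_570_572 (c : Nat) : Nat := @Bool.rec (fun _ => Nat) (Ptab_570) (Ptab_571) (Nat.ble 571 c)
noncomputable def Ptab_s_572_574 (c : Nat) : Nat := @Bool.rec (fun _ => Nat) (Ptab_572) (Ptab_573) (Nat.ble 573 c)
noncomputable def Ptab_s_570_574 (c : Nat) : Nat := @Bool.rec (fun _ => Nat) (Ptab_s_570_572 c) (Ptab_s_572_574 c) (Nat.ble 572 c)
noncomputable def Ptab_s_566_574 (c : Nat) : Nat := @Bool.rec (fun _ => Nat) (Ptab_s_566_570 c) (Ptab_s_570_574 c) (Nat.ble 570 c)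
noncomputable def Ptab_s_559_574 (c : Nat) : Nat := @Bool.rec (fun _ => Nat) (Ptab_s_559_566 c) (Ptab_s_566_574 c) (Nat.ble 566 c)
noncomputable def Ptab_s_544_574 (c : Nat) : Nat := @Bool.rec (fun _ => Nat) (Ptab_s_544_559 c) (Ptab_s_559_574 c) (Nat.ble 559 c)
noncomputable def Ptab_s_575_577 (c : Nat) : Nat := @Bool.rec (fun _ => Nat) (Ptab_575) (Ptab_576) (Nat.ble 576 c)
noncomputable def Ptab_s_574_577 (c : Nat) : Nat := @Bool.rec (fun _ => Nat) (Ptab_574) (Ptab_s_575_577 c) (Nat.ble 575 c)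
noncomputable def Ptab_s_577_579 (c : Nat) : Nat := @Bool.rec (fun _ => Nat) (Ptab_577) (Ptab_578) (Nat.ble 578 c)
noncomputable def Ptab_s_579_581 (c : Nat) : Nat := @Bool.rec (fun _ => Nat) (Ptab_579) (Ptab_580) (Nat.ble 580 c)
noncomputable def Ptab_s_577_581 (c : Nat) : Nat := @Bool.rec (fun _ => Nat) (Ptab_s_577_579 c) (Ptab_s_579_581 c) (Nat.ble 579 c)
noncomputable def Ptab_s_574_581 (c : Nat) : Nat := @Bool.rec (fun _ => Nat) (Ptab_s_574_577 c) (Ptab_s_577_581 c) (Nat.ble 577 c)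
noncomputable def Ptab_s_581_583 (c : Nat) : Nat := @Bool.rec (fun _ => Nat) (Ptab_581) (Ptab_582) (Nat.ble 582 c)
noncomputable def Ptab_s_583_585 (c : Nat) : Nat := @Bool.rec (fun _ => Nat) (Ptab_583) (Ptab_584) (Nat.ble 584 c)
noncomputable def Ptab_s_581_585 (c : Nat) : Nat := @Bool.rec (fun _ => Nat) (Ptab_s_581_583 c) (Ptab_s_583_585 c) (Nat.ble 583 c)
noncomputable def Ptab_s_585_587 (c : Nat) : Nat := @Bool.rec (fun _ => Nat) (Ptab_585) (Ptab_586) (Nat.ble 586 c)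
noncomputable def Ptab_s_587_589 (c : Nat) : Nat := @Bool.rec (fun _ => Nat) (Ptab_587) (Ptab_588) (Nat.ble 588 c)
noncomputable def Ptab_s_585_589 (c : Nat) : Nat := @Bool.rec (fun _ => Nat) (Ptab_s_585_587 c) (Ptab_s_587_589 c) (Nat.ble 587 c)
noncomputable def Ptab_s_581_589 (c : Nat) : Nat := @Bool.rec (fun _ => Nat) (Ptab_s_581_585 c) (Ptab_s_585_589 c) (Nat.ble 585 c)
noncomputable def Ptab_s_574_589 (c : Nat) : Nat := @Bool.rec (fun _ => Nat) (Ptab_s_574_581 c) (Ptab_s_581_589 c) (Nat.ble 581 c)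
noncomputable def Ptab_s_589_591 (c : Nat) : Nat := @Bool.rec (fun _ => Nat) (Ptab_589) (Ptab_590) (Nat.ble 590 c)
noncomputable def Ptab_s_591_593 (c : Nat) : Nat := @Bool.rec (fun _ => Nat) (Ptab_591) (Ptab_592) (Nat.ble 592 c)
noncomputable def Ptab_s_589_593 (c : Nat) : Nat := @Bool.rec (fun _ => Nat) (Ptab_s_589_591 c) (Ptab_s_591_593 c) (Nat.ble 591 c)
noncomputable def Ptab_s_593_595 (c : Nat) : Nat := @Bool.rec (fun _ => Nat) (Ptab_593) (Ptab_594) (Nat.ble 594 c)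
noncomputable def Ptab_s_595_597 (c : Nat) : Nat := @Bool.rec (fun _ => Nat) (Ptab_595) (Ptab_596) (Nat.ble 596 c)
noncomputable def Ptab_s_593_597 (c : Nat) : Nat := @Bool.rec (fun _ => Nat) (Ptab_s_593_595 c) (Ptab_s_595_597 c) (Nat.ble 595 c)
noncomputable def Ptab_s_589_597 (c : Nat) : Nat := @Bool.rec (fun _ => Nat) (Ptab_s_589_593 c) (Ptab_s_593_597 c) (Nat.ble 593 c)
noncomputable def Ptab_s_597_599 (c : Nat) : Nat := @Bool.rec (fun _ => Nat) (Ptab_597) (Ptab_598) (Nat.ble 598 c)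
noncomputable def Ptab_s_599_601 (c : Nat) : Nat := @Bool.rec (fun _ => Nat) (Ptab_599) (Ptab_600) (Nat.ble 600 c)
noncomputable def Ptab_s_597_601 (c : Nat) : Nat := @Bool.rec (fun _ => Nat) (Ptab_s_597_599 c) (Ptab_s_599_601 c) (Nat.ble 599 c)
noncomputable def Ptab_s_601_603 (c : Nat) : Nat := @Bool.rec (fun _ => Nat) (Ptab_601) (Ptab_602) (Nat.ble 602 c)
noncomputable def Ptab_s_603_605 (c : Nat) : Nat := @Bool.rec (fun _ => Nat) (Ptab_603) (Ptab_604) (Nat.ble 604 c)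
noncomputable def Ptab_s_601_605 (c : Nat) : Nat := @Bool.rec (fun _ => Nat) (Ptab_s_601_603 c) (Ptab_s_603_605 c) (Nat.ble 603 c)
noncomputable def Ptab_s_597_605 (c : Nat) : Nat := @Bool.rec (fun _ => Nat) (Ptab_s_597_601 c) (Ptab_s_601_605 c) (Nat.ble 601 c)
noncomputable def Ptab_s_589_605 (c : Nat) : Nat := @Bool.rec (fun _ => Nat) (Ptab_s_589_597 c) (Ptab_s_597_605 c) (Nat.ble 597 c)
noncomputable def Ptab_s_574_605 (c : Nat) : Nat := @Bool.rec (fun _ => Nat) (Ptab_s_574_589 c) (Ptab_s_589_605 c) (Nat.ble 589 c)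
noncomputable def Ptab_s_544_605 (c : Nat) : Nat := @Bool.rec (fun _ => Nat) (Ptab_s_544_574 c) (Ptab_s_574_605 c) (Nat.ble 574 c)
noncomputable def Ptab_s_484_605 (c : Nat) : Nat := @Bool.rec (fun _ => Nat) (Ptab_s_484_544 c) (Ptab_s_544_605 c) (Nat.ble 544 c)
noncomputable def Ptab_s_606_608 (c : Nat) : Nat := @Bool.rec (fun _ => Nat) (Ptab_606) (Ptab_607) (Nat.ble 607 c)
noncomputable def Ptab_s_605_608 (c : Nat) : Nat := @Bool.rec (fun _ => Nat) (Ptab_605) (Ptab_s_606_608 c) (Nat.ble 606 c)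
noncomputable def Ptab_s_608_610 (c : Nat) : Nat := @Bool.rec (fun _ => Nat) (Ptab_608) (Ptab_609) (Nat.ble 609 c)
noncomputable def Ptab_s_610_612 (c : Nat) : Nat := @Bool.rec (fun _ => Nat) (Ptab_610) (Ptab_611) (Nat.ble 611 c)
noncomputable def Ptab_s_608_612 (c : Nat) : Nat := @Bool.rec (fun _ => Nat) (Ptab_s_608_610 c) (Ptab_s_610_612 c) (Nat.ble 610 c)
noncomputable def Ptab_s_605_612 (c : Nat) : Nat := @Bool.rec (fun _ => Nat) (Ptab_s_605_608 c) (Ptab_s_608_612 c) (Nat.ble 608 c)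
noncomputable def Ptab_s_612_614 (c : Nat) : Nat := @Bool.rec (fun _ => Nat) (Ptab_612) (Ptab_613) (Nat.ble 613 c)
noncomputable def Ptab_s_614_616 (c : Nat) : Nat := @Bool.rec (fun _ => Nat) (Ptab_614) (Ptab_615) (Nat.ble 615 c)
noncomputable def Ptab_s_612_616 (c : Nat) : Nat := @Bool.rec (fun _ => Nat) (Ptab_s_612_614 c) (Ptab_s_614_616 c) (Nat.ble 614 c)
noncomputable def Ptab_s_616_618 (c : Nat) : Nat := @Bool.rec (fun _ => Nat) (Ptab_616) (Ptab_617) (Nat.ble 617 c)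
noncomputable def Ptab_s_618_620 (c : Nat) : Nat := @Bool.rec (fun _ => Nat) (Ptab_618) (Ptab_619) (Nat.ble 619 c)
noncomputable def Ptab_s_616_620 (c : Nat) : Nat := @Bool.rec (fun _ => Nat) (Ptab_s_616_618 c) (Ptab_s_618_620 c) (Nat.ble 618 c)
noncomputable def Ptab_s_612_620 (c : Nat) : Nat := @Bool.rec (fun _ => Nat) (Ptab_s_612_616 c) (Ptab_s_616_620 c) (Nat.ble 616 c)
noncomputable def Ptab_s_605_620 (c : Nat) : Nat := @Bool.rec (fun _ => Nat) (Ptab_s_605_612 c) (Ptab_s_612_620 c) (Nat.ble 612 c)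
noncomputable def Ptab_s_621_623 (c : Nat) : Nat := @Bool.rec (fun _ => Nat) (Ptab_621) (Ptab_622) (Nat.ble 622 c)
noncomputable def Ptab_s_620_623 (c : Nat) : Nat := @Bool.rec (fun _ => Nat) (Ptab_620) (Ptab_s_621_623 c) (Nat.ble 621 c)
noncomputable def Ptab_s_623_625 (c : Nat) : Nat := @Bool.rec (fun _ => Nat) (Ptab_623) (Ptab_624) (Nat.ble 624 c)
noncomputable def Ptab_s_625_627 (c : Nat) : Nat := @Bool.rec (fun _ => Nat) (Ptab_625) (Ptab_626) (Nat.ble 626 c)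
noncomputable def Ptab_s_623_627 (c : Nat) : Nat := @Bool.rec (fun _ => Nat) (Ptab_s_623_625 c) (Ptab_s_625_627 c) (Nat.ble 625 c)
noncomputable def Ptab_s_620_627 (c : Nat) : Nat := @Bool.rec (fun _ => Nat) (Ptab_s_620_623 c) (Ptab_s_623_627 c) (Nat.ble 623 c)
noncomputable def Ptab_s_627_629 (c : Nat) : Nat := @Bool.rec (fun _ => Nat) (Ptab_627) (Ptab_628) (Nat.ble 628 c)
noncomputable def Ptab_s_629_631 (c : Nat) : Nat := @Bool.rec (fun _ => Nat) (Ptab_629) (Ptab_630) (Nat.ble 630 c)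
noncomputable def Ptab_s_627_631 (c : Nat) : Nat := @Bool.rec (fun _ => Nat) (Ptab_s_627_629 c) (Ptab_s_629_631 c) (Nat.ble 629 c)
noncomputable def Ptab_s_631_633 (c : Nat) : Nat := @Bool.rec (fun _ => Nat) (Ptab_631) (Ptab_632) (Nat.ble 632 c)
noncomputable def Ptab_s_633_635 (c : Nat) : Nat := @Bool.rec (fun _ => Nat) (Ptab_633) (Ptab_634) (Nat.ble 634 c)
noncomputable def Ptab_s_631_635 (c : Nat) : Nat := @Bool.rec (fun _ => Nat) (Ptab_s_631_633 c) (Ptab_s_633_635 c) (Nat.ble 633 c)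
noncomputable def Ptab_s_627_635 (c : Nat) : Nat := @Bool.rec (fun _ => Nat) (Ptab_s_627_631 c) (Ptab_s_631_635 c) (Nat.ble 631 c)
noncomputable def Ptab_s_620_635 (c : Nat) : Nat := @Bool.rec (fun _ => Nat) (Ptab_s_620_627 c) (Ptab_s_627_635 c) (Nat.ble 627 c)
noncomputable def Ptab_s_605_635 (c : Nat) : Nat := @Bool.rec (fun _ => Nat) (Ptab_s_605_620 c) (Ptab_s_620_635 c) (Nat.ble 620 c)
noncomputable def Ptab_s_636_638 (c : Nat) : Nat := @Bool.rec (fun _ => Nat) (Ptab_636) (Ptab_637) (Nat.ble 637 c)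
noncomputable def Ptab_s_635_638 (c : Nat) : Nat := @Bool.rec (fun _ => Nat) (Ptab_635) (Ptab_s_636_638 c) (Nat.ble 636 c)
noncomputable def Ptab_s_638_640 (c : Nat) : Nat := @Bool.rec (fun _ => Nat) (Ptab_638) (Ptab_639) (Nat.ble 639 c)
noncomputable def Ptab_s_640_642 (c : Nat) : Nat := @Bool.rec (fun _ => Nat) (Ptab_640) (Ptab_641) (Nat.ble 641 c)
noncomputable def Ptab_s_638_642 (c : Nat) : Nat := @Bool.rec (fun _ => Nat) (Ptab_s_638_640 c) (Ptab_s_640_642 c) (Nat.ble 640 c)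
noncomputable def Ptab_s_635_642 (c : Nat) : Nat := @Bool.rec (fun _ => Nat) (Ptab_s_635_638 c) (Ptab_s_638_642 c) (Nat.ble 638 c)
noncomputable def Ptab_s_642_644 (c : Nat) : Nat := @Bool.rec (fun _ => Nat) (Ptab_642) (Ptab_643) (Nat.ble 643 c)
noncomputable def Ptab_s_644_646 (c : Nat) : Nat := @Bool.rec (fun _ => Nat) (Ptab_644) (Ptab_645) (Nat.ble 645 c)
noncomputable def Ptab_s_642_646 (c : Nat) : Nat := @Bool.rec (fun _ => Nat) (Ptab_s_642_644 c) (Ptab_s_644_646 c) (Nat.ble 644 c)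
noncomputable def Ptab_s_646_648 (c : Nat) : Nat := @Bool.rec (fun _ => Nat) (Ptab_646) (Ptab_647) (Nat.ble 647 c)
noncomputable def Ptab_s_648_650 (c : Nat) : Nat := @Bool.rec (fun _ => Nat) (Ptab_648) (Ptab_649) (Nat.ble 649 c)
noncomputable def Ptab_s_646_650 (c : Nat) : Nat := @Bool.rec (fun _ => Nat) (Ptab_s_646_648 c) (Ptab_s_648_650 c) (Nat.ble 648 c)
noncomputable def Ptab_s_642_650 (c : Nat) : Nat := @Bool.rec (fun _ => Nat) (Ptab_s_642_646 c) (Ptab_s_646_650 c) (Nat.ble 646 c)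
noncomputable def Ptab_s_635_650 (c : Nat) : Nat := @Bool.rec (fun _ => Nat) (Ptab_s_635_642 c) (Ptab_s_642_650 c) (Nat.ble 642 c)
noncomputable def Ptab_s_651_653 (c : Nat) : Nat := @Bool.rec (fun _ => Nat) (Ptab_651) (Ptab_652) (Nat.ble 652 c)
noncomputable def Ptab_s_650_653 (c : Nat) : Nat := @Bool.rec (fun _ => Nat) (Ptab_650) (Ptab_s_651_653 c) (Nat.ble 651 c)
noncomputable def Ptab_s_653_655 (c : Nat) : Nat := @Bool.rec (fun _ => Nat) (Ptab_653) (Ptab_654) (Nat.ble 654 c)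
noncomputable def Ptab_s_655_657 (c : Nat) : Nat := @Bool.rec (fun _ => Nat) (Ptab_655) (Ptab_656) (Nat.ble 656 c)
noncomputable def Ptab_s_653_657 (c : Nat) : Nat := @Bool.rec (fun _ => Nat) (Ptab_s_653_655 c) (Ptab_s_655_657 c) (Nat.ble 655 c)
noncomputable def Ptab_s_650_657 (c : Nat) : Nat := @Bool.rec (fun _ => Nat) (Ptab_s_650_653 c) (Ptab_s_653_657 c) (Nat.ble 653 c)
noncomputable def Ptab_s_657_659 (c : Nat) : Nat := @Bool.rec (fun _ => Nat) (Ptab_657) (Ptab_658) (Nat.ble 658 c)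
noncomputable def Ptab_s_659_661 (c : Nat) : Nat := @Bool.rec (fun _ => Nat) (Ptab_659) (Ptab_660) (Nat.ble 660 c)
noncomputable def Ptab_s_657_661 (c : Nat) : Nat := @Bool.rec (fun _ => Nat) (Ptab_s_657_659 c) (Ptab_s_659_661 c) (Nat.ble 659 c)
noncomputable def Ptab_s_661_663 (c : Nat) : Nat := @Bool.rec (fun _ => Nat) (Ptab_661) (Ptab_662) (Nat.ble 662 c)
noncomputable def Ptab_s_663_665 (c : Nat) : Nat := @Bool.rec (fun _ => Nat) (Ptab_663) (Ptab_664) (Nat.ble 664 c)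
noncomputable def Ptab_s_661_665 (c : Nat) : Nat := @Bool.rec (fun _ => Nat) (Ptab_s_661_663 c) (Ptab_s_663_665 c) (Nat.ble 663 c)
noncomputable def Ptab_s_657_665 (c : Nat) : Nat := @Bool.rec (fun _ => Nat) (Ptab_s_657_661 c) (Ptab_s_661_665 c) (Nat.ble 661 c)
noncomputable def Ptab_s_650_665 (c : Nat) : Nat := @Bool.rec (fun _ => Nat) (Ptab_s_650_657 c) (Ptab_s_657_665 c) (Nat.ble 657 c)
noncomputable def Ptab_s_635_665 (c : Nat) : Nat := @Bool.rec (fun _ => Nat) (Ptab_s_635_650 c) (Ptab_s_650_665 c) (Nat.ble 650 c)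
noncomputable def Ptab_s_605_665 (c : Nat) : Nat := @Bool.rec (fun _ => Nat) (Ptab_s_605_635 c) (Ptab_s_635_665 c) (Nat.ble 635 c)
noncomputable def Ptab_s_666_668 (c : Nat) : Nat := @Bool.rec (fun _ => Nat) (Ptab_666) (Ptab_667) (Nat.ble 667 c)
noncomputable def Ptab_s_665_668 (c : Nat) : Nat := @Bool.rec (fun _ => Nat) (Ptab_665) (Ptab_s_666_668 c) (Nat.ble 666 c)
noncomputable def Ptab_s_668_670 (c : Nat) : Nat := @Bool.rec (fun _ => Nat) (Ptab_668) (Ptab_669) (Nat.ble 669 c)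
noncomputable def Ptab_s_670_672 (c : Nat) : Nat := @Bool.rec (fun _ => Nat) (Ptab_670) (Ptab_671) (Nat.ble 671 c)
noncomputable def Ptab_s_668_672 (c : Nat) : Nat := @Bool.rec (fun _ => Nat) (Ptab_s_668_670 c) (Ptab_s_670_672 c) (Nat.ble 670 c)
noncomputable def Ptab_s_665_672 (c : Nat) : Nat := @Bool.rec (fun _ => Nat) (Ptab_s_665_668 c) (Ptab_s_668_672 c) (Nat.ble 668 c)
noncomputable def Ptab_s_672_674 (c : Nat) : Nat := @Bool.rec (fun _ => Nat) (Ptab_672) (Ptab_673) (Nat.ble 673 c)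
noncomputable def Ptab_s_674_676 (c : Nat) : Nat := @Bool.rec (fun _ => Nat) (Ptab_674) (Ptab_675) (Nat.ble 675 c)
noncomputable def Ptab_s_672_676 (c : Nat) : Nat := @Bool.rec (fun _ => Nat) (Ptab_s_672_674 c) (Ptab_s_674_676 c) (Nat.ble 674 c)
noncomputable def Ptab_s_676_678 (c : Nat) : Nat := @Bool.rec (fun _ => Nat) (Ptab_676) (Ptab_677) (Nat.ble 677 c)
noncomputable def Ptab_s_678_680 (c : Nat) : Nat := @Bool.rec (fun _ => Nat) (Ptab_678) (Ptab_679) (Nat.ble 679 c)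
noncomputable def Ptab_s_676_680 (c : Nat) : Nat := @Bool.rec (fun _ => Nat) (Ptab_s_676_678 c) (Ptab_s_678_680 c) (Nat.ble 678 c)
noncomputable def Ptab_s_672_680 (c : Nat) : Nat := @Bool.rec (fun _ => Nat) (Ptab_s_672_676 c) (Ptab_s_676_680 c) (Nat.ble 676 c)
noncomputable def Ptab_s_665_680 (c : Nat) : Nat := @Bool.rec (fun _ => Nat) (Ptab_s_665_672 c) (Ptab_s_672_680 c) (Nat.ble 672 c)
noncomputable def Ptab_s_681_683 (c : Nat) : Nat := @Bool.rec (fun _ => Nat) (Ptab_681) (Ptab_682) (Nat.ble 682 c)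
noncomputable def Ptab_s_680_683 (c : Nat) : Nat := @Bool.rec (fun _ => Nat) (Ptab_680) (Ptab_s_681_683 c) (Nat.ble 681 c)
noncomputable def Ptab_s_683_685 (c : Nat) : Nat := @Bool.rec (fun _ => Nat) (Ptab_683) (Ptab_684) (Nat.ble 684 c)
noncomputable def Ptab_s_685_687 (c : Nat) : Nat := @Bool.rec (fun _ => Nat) (Ptab_685) (Ptab_686) (Nat.ble 686 c)
noncomputable def Ptab_s_683_687 (c : Nat) : Nat := @Bool.rec (fun _ => Nat) (Ptab_s_683_685 c) (Ptab_s_685_687 c) (Nat.ble 685 c)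
noncomputable def Ptab_s_680_687 (c : Nat) : Nat := @Bool.rec (fun _ => Nat) (Ptab_s_680_683 c) (Ptab_s_683_687 c) (Nat.ble 683 c)
noncomputable def Ptab_s_687_689 (c : Nat) : Nat := @Bool.rec (fun _ => Nat) (Ptab_687) (Ptab_688) (Nat.ble 688 c)
noncomputable def Ptab_s_689_691 (c : Nat) : Nat := @Bool.rec (fun _ => Nat) (Ptab_689) (Ptab_690) (Nat.ble 690 c)
noncomputable def Ptab_s_687_691 (c : Nat) : Nat := @Bool.rec (fun _ => Nat) (Ptab_s_687_689 c) (Ptab_s_689_691 c) (Nat.ble 689 c)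
noncomputable def Ptab_s_691_693 (c : Nat) : Nat := @Bool.rec (fun _ => Nat) (Ptab_691) (Ptab_692) (Nat.ble 692 c)
noncomputable def Ptab_s_693_695 (c : Nat) : Nat := @Bool.rec (fun _ => Nat) (Ptab_693) (Ptab_694) (Nat.ble 694 c)
noncomputable def Ptab_s_691_695 (c : Nat) : Nat := @Bool.rec (fun _ => Nat) (Ptab_s_691_693 c) (Ptab_s_693_695 c) (Nat.ble 693 c)
noncomputable def Ptab_s_687_695 (c : Nat) : Nat := @Bool.rec (fun _ => Nat) (Ptab_s_687_691 c) (Ptab_s_691_695 c) (Nat.ble 691 c)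
noncomputable def Ptab_s_680_695 (c : Nat) : Nat := @Bool.rec (fun _ => Nat) (Ptab_s_680_687 c) (Ptab_s_687_695 c) (Nat.ble 687 c)
noncomputable def Ptab_s_665_695 (c : Nat) : Nat := @Bool.rec (fun _ => Nat) (Ptab_s_665_680 c) (Ptab_s_680_695 c) (Nat.ble 680 c)
noncomputable def Ptab_s_696_698 (c : Nat) : Nat := @Bool.rec (fun _ => Nat) (Ptab_696) (Ptab_697) (Nat.ble 697 c)
noncomputable def Ptab_s_695_698 (c : Nat) : Nat := @Bool.rec (fun _ => Nat) (Ptab_695) (Ptab_s_696_698 c) (Nat.ble 696 c)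
noncomputable def Ptab_s_698_700 (c : Nat) : Nat := @Bool.rec (fun _ => Nat) (Ptab_698) (Ptab_699) (Nat.ble 699 c)
noncomputable def Ptab_s_700_702 (c : Nat) : Nat := @Bool.rec (fun _ => Nat) (Ptab_700) (Ptab_701) (Nat.ble 701 c)
noncomputable def Ptab_s_698_702 (c : Nat) : Nat := @Bool.rec (fun _ => Nat) (Ptab_s_698_700 c) (Ptab_s_700_702 c) (Nat.ble 700 c)
noncomputable def Ptab_s_695_702 (c : Nat) : Nat := @Bool.rec (fun _ => Nat) (Ptab_s_695_698 c) (Ptab_s_698_702 c) (Nat.ble 698 c)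
noncomputable def Ptab_s_702_704 (c : Nat) : Nat := @Bool.rec (fun _ => Nat) (Ptab_702) (Ptab_703) (Nat.ble 703 c)
noncomputable def Ptab_s_704_706 (c : Nat) : Nat := @Bool.rec (fun _ => Nat) (Ptab_704) (Ptab_705) (Nat.ble 705 c)
noncomputable def Ptab_s_702_706 (c : Nat) : Nat := @Bool.rec (fun _ => Nat) (Ptab_s_702_704 c) (Ptab_s_704_706 c) (Nat.ble 704 c)
noncomputable def Ptab_s_706_708 (c : Nat) : Nat := @Bool.rec (fun _ => Nat) (Ptab_706) (Ptab_707) (Nat.ble 707 c)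
noncomputable def Ptab_s_708_710 (c : Nat) : Nat := @Bool.rec (fun _ => Nat) (Ptab_708) (Ptab_709) (Nat.ble 709 c)
noncomputable def Ptab_s_706_710 (c : Nat) : Nat := @Bool.rec (fun _ => Nat) (Ptab_s_706_708 c) (Ptab_s_708_710 c) (Nat.ble 708 c)
noncomputable def Ptab_s_702_710 (c : Nat) : Nat := @Bool.rec (fun _ => Nat) (Ptab_s_702_706 c) (Ptab_s_706_710 c) (Nat.ble 706 c)
noncomputable def Ptab_s_695_710 (c : Nat) : Nat := @Bool.rec (fun _ => Nat) (Ptab_s_695_702 c) (Ptab_s_702_710 c) (Nat.ble 702 c)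
noncomputable def Ptab_s_710_712 (c : Nat) : Nat := @Bool.rec (fun _ => Nat) (Ptab_710) (Ptab_711) (Nat.ble 711 c)
noncomputable def Ptab_s_712_714 (c : Nat) : Nat := @Bool.rec (fun _ => Nat) (Ptab_712) (Ptab_713) (Nat.ble 713 c)
noncomputable def Ptab_s_710_714 (c : Nat) : Nat := @Bool.rec (fun _ => Nat) (Ptab_s_710_712 c) (Ptab_s_712_714 c) (Nat.ble 712 c)
noncomputable def Ptab_s_714_716 (c : Nat) : Nat := @Bool.rec (fun _ => Nat) (Ptab_714) (Ptab_715) (Nat.ble 715 c)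
noncomputable def Ptab_s_716_718 (c : Nat) : Nat := @Bool.rec (fun _ => Nat) (Ptab_716) (Ptab_717) (Nat.ble 717 c)
noncomputable def Ptab_s_714_718 (c : Nat) : Nat := @Bool.rec (fun _ => Nat) (Ptab_s_714_716 c) (Ptab_s_716_718 c) (Nat.ble 716 c)
noncomputable def Ptab_s_710_718 (c : Nat) : Nat := @Bool.rec (fun _ => Nat) (Ptab_s_710_714 c) (Ptab_s_714_718 c) (Nat.ble 714 c)
noncomputable def Ptab_s_718_720 (c : Nat) : Nat := @Bool.rec (fun _ => Nat) (Ptab_718) (Ptab_719) (Nat.ble 719 c)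
noncomputable def Ptab_s_720_722 (c : Nat) : Nat := @Bool.rec (fun _ => Nat) (Ptab_720) (Ptab_721) (Nat.ble 721 c)
noncomputable def Ptab_s_718_722 (c : Nat) : Nat := @Bool.rec (fun _ => Nat) (Ptab_s_718_720 c) (Ptab_s_720_722 c) (Nat.ble 720 c)
noncomputable def Ptab_s_722_724 (c : Nat) : Nat := @Bool.rec (fun _ => Nat) (Ptab_722) (Ptab_723) (Nat.ble 723 c)
noncomputable def Ptab_s_724_726 (c : Nat) : Nat := @Bool.rec (fun _ => Nat) (Ptab_724) (Ptab_725) (Nat.ble 725 c)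
noncomputable def Ptab_s_722_726 (c : Nat) : Nat := @Bool.rec (fun _ => Nat) (Ptab_s_722_724 c) (Ptab_s_724_726 c) (Nat.ble 724 c)
noncomputable def Ptab_s_718_726 (c : Nat) : Nat := @Bool.rec (fun _ => Nat) (Ptab_s_718_722 c) (Ptab_s_722_726 c) (Nat.ble 722 c)
noncomputable def Ptab_s_710_726 (c : Nat) : Nat := @Bool.rec (fun _ => Nat) (Ptab_s_710_718 c) (Ptab_s_718_726 c) (Nat.ble 718 c)
noncomputable def Ptab_s_695_726 (c : Nat) : Nat := @Bool.rec (fun _ => Nat) (Ptab_s_695_710 c) (Ptab_s_710_726 c) (Nat.ble 710 c)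
noncomputable def Ptab_s_665_726 (c : Nat) : Nat := @Bool.rec (fun _ => Nat) (Ptab_s_665_695 c) (Ptab_s_695_726 c) (Nat.ble 695 c)
noncomputable def Ptab_s_605_726 (c : Nat) : Nat := @Bool.rec (fun _ => Nat) (Ptab_s_605_665 c) (Ptab_s_665_726 c) (Nat.ble 665 c)
noncomputable def Ptab_s_484_726 (c : Nat) : Nat := @Bool.rec (fun _ => Nat) (Ptab_s_484_605 c) (Ptab_s_605_726 c) (Nat.ble 605 c)
noncomputable def Ptab_s_727_729 (c : Nat) : Nat := @Bool.rec (fun _ => Nat) (Ptab_727) (Ptab_728) (Nat.ble 728 c)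
noncomputable def Ptab_s_726_729 (c : Nat) : Nat := @Bool.rec (fun _ => Nat) (Ptab_726) (Ptab_s_727_729 c) (Nat.ble 727 c)
noncomputable def Ptab_s_729_731 (c : Nat) : Nat := @Bool.rec (fun _ => Nat) (Ptab_729) (Ptab_730) (Nat.ble 730 c)
noncomputable def Ptab_s_731_733 (c : Nat) : Nat := @Bool.rec (fun _ => Nat) (Ptab_731) (Ptab_732) (Nat.ble 732 c)
noncomputable def Ptab_s_729_733 (c : Nat) : Nat := @Bool.rec (fun _ => Nat) (Ptab_s_729_731 c) (Ptab_s_731_733 c) (Nat.ble 731 c)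
noncomputable def Ptab_s_726_733 (c : Nat) : Nat := @Bool.rec (fun _ => Nat) (Ptab_s_726_729 c) (Ptab_s_729_733 c) (Nat.ble 729 c)
noncomputable def Ptab_s_733_735 (c : Nat) : Nat := @Bool.rec (fun _ => Nat) (Ptab_733) (Ptab_734) (Nat.ble 734 c)
noncomputable def Ptab_s_735_737 (c : Nat) : Nat := @Bool.rec (fun _ => Nat) (Ptab_735) (Ptab_736) (Nat.ble 736 c)
noncomputable def Ptab_s_733_737 (c : Nat) : Nat := @Bool.rec (fun _ => Nat) (Ptab_s_733_735 c) (Ptab_s_735_737 c) (Nat.ble 735 c)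
noncomputable def Ptab_s_737_739 (c : Nat) : Nat := @Bool.rec (fun _ => Nat) (Ptab_737) (Ptab_738) (Nat.ble 738 c)
noncomputable def Ptab_s_739_741 (c : Nat) : Nat := @Bool.rec (fun _ => Nat) (Ptab_739) (Ptab_740) (Nat.ble 740 c)
noncomputable def Ptab_s_737_741 (c : Nat) : Nat := @Bool.rec (fun _ => Nat) (Ptab_s_737_739 c) (Ptab_s_739_741 c) (Nat.ble 739 c)
noncomputable def Ptab_s_733_741 (c : Nat) : Nat := @Bool.rec (fun _ => Nat) (Ptab_s_733_737 c) (Ptab_s_737_741 c) (Nat.ble 737 c)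
noncomputable def Ptab_s_726_741 (c : Nat) : Nat := @Bool.rec (fun _ => Nat) (Ptab_s_726_733 c) (Ptab_s_733_741 c) (Nat.ble 733 c)
noncomputable def Ptab_s_742_744 (c : Nat) : Nat := @Bool.rec (fun _ => Nat) (Ptab_742) (Ptab_743) (Nat.ble 743 c)
noncomputable def Ptab_s_741_744 (c : Nat) : Nat := @Bool.rec (fun _ => Nat) (Ptab_741) (Ptab_s_742_744 c) (Nat.ble 742 c)
noncomputable def Ptab_s_744_746 (c : Nat) : Nat := @Bool.rec (fun _ => Nat) (Ptab_744) (Ptab_745) (Nat.ble 745 c)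
noncomputable def Ptab_s_746_748 (c : Nat) : Nat := @Bool.rec (fun _ => Nat) (Ptab_746) (Ptab_747) (Nat.ble 747 c)
noncomputable def Ptab_s_744_748 (c : Nat) : Nat := @Bool.rec (fun _ => Nat) (Ptab_s_744_746 c) (Ptab_s_746_748 c) (Nat.ble 746 c)
noncomputable def Ptab_s_741_748 (c : Nat) : Nat := @Bool.rec (fun _ => Nat) (Ptab_s_741_744 c) (Ptab_s_744_748 c) (Nat.ble 744 c)
noncomputable def Ptab_s_748_750 (c : Nat) : Nat := @Bool.rec (fun _ => Nat) (Ptab_748) (Ptab_749) (Nat.ble 749 c)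
noncomputable def Ptab_s_750_752 (c : Nat) : Nat := @Bool.rec (fun _ => Nat) (Ptab_750) (Ptab_751) (Nat.ble 751 c)
noncomputable def Ptab_s_748_752 (c : Nat) : Nat := @Bool.rec (fun _ => Nat) (Ptab_s_748_750 c) (Ptab_s_750_752 c) (Nat.ble 750 c)
noncomputable def Ptab_s_752_754 (c : Nat) : Nat := @Bool.rec (fun _ => Nat) (Ptab_752) (Ptab_753) (Nat.ble 753 c)
noncomputable def Ptab_s_754_756 (c : Nat) : Nat := @Bool.rec (fun _ => Nat) (Ptab_754) (Ptab_755) (Nat.ble 755 c)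
noncomputable def Ptab_s_752_756 (c : Nat) : Nat := @Bool.rec (fun _ => Nat) (Ptab_s_752_754 c) (Ptab_s_754_756 c) (Nat.ble 754 c)
noncomputable def Ptab_s_748_756 (c : Nat) : Nat := @Bool.rec (fun _ => Nat) (Ptab_s_748_752 c) (Ptab_s_752_756 c) (Nat.ble 752 c)
noncomputable def Ptab_s_741_756 (c : Nat) : Nat := @Bool.rec (fun _ => Nat) (Ptab_s_741_748 c) (Ptab_s_748_756 c) (Nat.ble 748 c)
noncomputable def Ptab_s_726_756 (c : Nat) : Nat := @Bool.rec (fun _ => Nat) (Ptab_s_726_741 c) (Ptab_s_741_756 c) (Nat.ble 741 c)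
noncomputable def Ptab_s_757_759 (c : Nat) : Nat := @Bool.rec (fun _ => Nat) (Ptab_757) (Ptab_758) (Nat.ble 758 c)
noncomputable def Ptab_s_756_759 (c : Nat) : Nat := @Bool.rec (fun _ => Nat) (Ptab_756) (Ptab_s_757_759 c) (Nat.ble 757 c)
noncomputable def Ptab_s_759_761 (c : Nat) : Nat := @Bool.rec (fun _ => Nat) (Ptab_759) (Ptab_760) (Nat.ble 760 c)
noncomputable def Ptab_s_761_763 (c : Nat) : Nat := @Bool.rec (fun _ => Nat) (Ptab_761) (Ptab_762) (Nat.ble 762 c)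
noncomputable def Ptab_s_759_763 (c : Nat) : Nat := @Bool.rec (fun _ => Nat) (Ptab_s_759_761 c) (Ptab_s_761_763 c) (Nat.ble 761 c)
noncomputable def Ptab_s_756_763 (c : Nat) : Nat := @Bool.rec (fun _ => Nat) (Ptab_s_756_759 c) (Ptab_s_759_763 c) (Nat.ble 759 c)
noncomputable def Ptab_s_763_765 (c : Nat) : Nat := @Bool.rec (fun _ => Nat) (Ptab_763) (Ptab_764) (Nat.ble 764 c)
noncomputable def Ptab_s_765_767 (c : Nat) : Nat := @Bool.rec (fun _ => Nat) (Ptab_765) (Ptab_766) (Nat.ble 766 c)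
noncomputable def Ptab_s_763_767 (c : Nat) : Nat := @Bool.rec (fun _ => Nat) (Ptab_s_763_765 c) (Ptab_s_765_767 c) (Nat.ble 765 c)
noncomputable def Ptab_s_767_769 (c : Nat) : Nat := @Bool.rec (fun _ => Nat) (Ptab_767) (Ptab_768) (Nat.ble 768 c)
noncomputable def Ptab_s_769_771 (c : Nat) : Nat := @Bool.rec (fun _ => Nat) (Ptab_769) (Ptab_770) (Nat.ble 770 c)
noncomputable def Ptab_s_767_771 (c : Nat) : Nat := @Bool.rec (fun _ => Nat) (Ptab_s_767_769 c) (Ptab_s_769_771 c) (Nat.ble 769 c)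
noncomputable def Ptab_s_763_771 (c : Nat) : Nat := @Bool.rec (fun _ => Nat) (Ptab_s_763_767 c) (Ptab_s_767_771 c) (Nat.ble 767 c)
noncomputable def Ptab_s_756_771 (c : Nat) : Nat := @Bool.rec (fun _ => Nat) (Ptab_s_756_763 c) (Ptab_s_763_771 c) (Nat.ble 763 c)
noncomputable def Ptab_s_772_774 (c : Nat) : Nat := @Bool.rec (fun _ => Nat) (Ptab_772) (Ptab_773) (Nat.ble 773 c)
noncomputable def Ptab_s_771_774 (c : Nat) : Nat := @Bool.rec (fun _ => Nat) (Ptab_771) (Ptab_s_772_774 c) (Nat.ble 772 c)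
noncomputable def Ptab_s_774_776 (c : Nat) : Nat := @Bool.rec (fun _ => Nat) (Ptab_774) (Ptab_775) (Nat.ble 775 c)
noncomputable def Ptab_s_776_778 (c : Nat) : Nat := @Bool.rec (fun _ => Nat) (Ptab_776) (Ptab_777) (Nat.ble 777 c)
noncomputable def Ptab_s_774_778 (c : Nat) : Nat := @Bool.rec (fun _ => Nat) (Ptab_s_774_776 c) (Ptab_s_776_778 c) (Nat.ble 776 c)
noncomputable def Ptab_s_771_778 (c : Nat) : Nat := @Bool.rec (fun _ => Nat) (Ptab_s_771_774 c) (Ptab_s_774_778 c) (Nat.ble 774 c)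
noncomputable def Ptab_s_778_780 (c : Nat) : Nat := @Bool.rec (fun _ => Nat) (Ptab_778) (Ptab_779) (Nat.ble 779 c)
noncomputable def Ptab_s_780_782 (c : Nat) : Nat := @Bool.rec (fun _ => Nat) (Ptab_780) (Ptab_781) (Nat.ble 781 c)
noncomputable def Ptab_s_778_782 (c : Nat) : Nat := @Bool.rec (fun _ => Nat) (Ptab_s_778_780 c) (Ptab_s_780_782 c) (Nat.ble 780 c)
noncomputable def Ptab_s_782_784 (c : Nat) : Nat := @Bool.rec (fun _ => Nat) (Ptab_782) (Ptab_783) (Nat.ble 783 c)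
noncomputable def Ptab_s_784_786 (c : Nat) : Nat := @Bool.rec (fun _ => Nat) (Ptab_784) (Ptab_785) (Nat.ble 785 c)
noncomputable def Ptab_s_782_786 (c : Nat) : Nat := @Bool.rec (fun _ => Nat) (Ptab_s_782_784 c) (Ptab_s_784_786 c) (Nat.ble 784 c)
noncomputable def Ptab_s_778_786 (c : Nat) : Nat := @Bool.rec (fun _ => Nat) (Ptab_s_778_782 c) (Ptab_s_782_786 c) (Nat.ble 782 c)
noncomputable def Ptab_s_771_786 (c : Nat) : Nat := @Bool.rec (fun _ => Nat) (Ptab_s_771_778 c) (Ptab_s_778_786 c) (Nat.ble 778 c)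
noncomputable def Ptab_s_756_786 (c : Nat) : Nat := @Bool.rec (fun _ => Nat) (Ptab_s_756_771 c) (Ptab_s_771_786 c) (Nat.ble 771 c)
noncomputable def Ptab_s_726_786 (c : Nat) : Nat := @Bool.rec (fun _ => Nat) (Ptab_s_726_756 c) (Ptab_s_756_786 c) (Nat.ble 756 c)
noncomputable def Ptab_s_787_789 (c : Nat) : Nat := @Bool.rec (fun _ => Nat) (Ptab_787) (Ptab_788) (Nat.ble 788 c)
noncomputable def Ptab_s_786_789 (c : Nat) : Nat := @Bool.rec (fun _ => Nat) (Ptab_786) (Ptab_s_787_789 c) (Nat.ble 787 c)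
noncomputable def Ptab_s_789_791 (c : Nat) : Nat := @Bool.rec (fun _ => Nat) (Ptab_789) (Ptab_790) (Nat.ble 790 c)
noncomputable def Ptab_s_791_793 (c : Nat) : Nat := @Bool.rec (fun _ => Nat) (Ptab_791) (Ptab_792) (Nat.ble 792 c)
noncomputable def Ptab_s_789_793 (c : Nat) : Nat := @Bool.rec (fun _ => Nat) (Ptab_s_789_791 c) (Ptab_s_791_793 c) (Nat.ble 791 c)
noncomputable def Ptab_s_786_793 (c : Nat) : Nat := @Bool.rec (fun _ => Nat) (Ptab_s_786_789 c) (Ptab_s_789_793 c) (Nat.ble 789 c)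
noncomputable def Ptab_s_793_795 (c : Nat) : Nat := @Bool.rec (fun _ => Nat) (Ptab_793) (Ptab_794) (Nat.ble 794 c)
noncomputable def Ptab_s_795_797 (c : Nat) : Nat := @Bool.rec (fun _ => Nat) (Ptab_795) (Ptab_796) (Nat.ble 796 c)
noncomputable def Ptab_s_793_797 (c : Nat) : Nat := @Bool.rec (fun _ => Nat) (Ptab_s_793_795 c) (Ptab_s_795_797 c) (Nat.ble 795 c)
noncomputable def Ptab_s_797_799 (c : Nat) : Nat := @Bool.rec (fun _ => Nat) (Ptab_797) (Ptab_798) (Nat.ble 798 c)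
noncomputable def Ptab_s_799_801 (c : Nat) : Nat := @Bool.rec (fun _ => Nat) (Ptab_799) (Ptab_800) (Nat.ble 800 c)
noncomputable def Ptab_s_797_801 (c : Nat) : Nat := @Bool.rec (fun _ => Nat) (Ptab_s_797_799 c) (Ptab_s_799_801 c) (Nat.ble 799 c)
noncomputable def Ptab_s_793_801 (c : Nat) : Nat := @Bool.rec (fun _ => Nat) (Ptab_s_793_797 c) (Ptab_s_797_801 c) (Nat.ble 797 c)
noncomputable def Ptab_s_786_801 (c : Nat) : Nat := @Bool.rec (fun _ => Nat) (Ptab_s_786_793 c) (Ptab_s_793_801 c) (Nat.ble 793 c)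
noncomputable def Ptab_s_802_804 (c : Nat) : Nat := @Bool.rec (fun _ => Nat) (Ptab_802) (Ptab_803) (Nat.ble 803 c)
noncomputable def Ptab_s_801_804 (c : Nat) : Nat := @Bool.rec (fun _ => Nat) (Ptab_801) (Ptab_s_802_804 c) (Nat.ble 802 c)
noncomputable def Ptab_s_804_806 (c : Nat) : Nat := @Bool.rec (fun _ => Nat) (Ptab_804) (Ptab_805) (Nat.ble 805 c)
noncomputable def Ptab_s_806_808 (c : Nat) : Nat := @Bool.rec (fun _ => Nat) (Ptab_806) (Ptab_807) (Nat.ble 807 c)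
noncomputable def Ptab_s_804_808 (c : Nat) : Nat := @Bool.rec (fun _ => Nat) (Ptab_s_804_806 c) (Ptab_s_806_808 c) (Nat.ble 806 c)
noncomputable def Ptab_s_801_808 (c : Nat) : Nat := @Bool.rec (fun _ => Nat) (Ptab_s_801_804 c) (Ptab_s_804_808 c) (Nat.ble 804 c)
noncomputable def Ptab_s_808_810 (c : Nat) : Nat := @Bool.rec (fun _ => Nat) (Ptab_808) (Ptab_809) (Nat.ble 809 c)
noncomputable def Ptab_s_810_812 (c : Nat) : Nat := @Bool.rec (fun _ => Nat) (Ptab_810) (Ptab_811) (Nat.ble 811 c)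
noncomputable def Ptab_s_808_812 (c : Nat) : Nat := @Bool.rec (fun _ => Nat) (Ptab_s_808_810 c) (Ptab_s_810_812 c) (Nat.ble 810 c)
noncomputable def Ptab_s_812_814 (c : Nat) : Nat := @Bool.rec (fun _ => Nat) (Ptab_812) (Ptab_813) (Nat.ble 813 c)
noncomputable def Ptab_s_814_816 (c : Nat) : Nat := @Bool.rec (fun _ => Nat) (Ptab_814) (Ptab_815) (Nat.ble 815 c)
noncomputable def Ptab_s_812_816 (c : Nat) : Nat := @Bool.rec (fun _ => Nat) (Ptab_s_812_814 c) (Ptab_s_814_816 c) (Nat.ble 814 c)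
noncomputable def Ptab_s_808_816 (c : Nat) : Nat := @Bool.rec (fun _ => Nat) (Ptab_s_808_812 c) (Ptab_s_812_816 c) (Nat.ble 812 c)
noncomputable def Ptab_s_801_816 (c : Nat) : Nat := @Bool.rec (fun _ => Nat) (Ptab_s_801_808 c) (Ptab_s_808_816 c) (Nat.ble 808 c)
noncomputable def Ptab_s_786_816 (c : Nat) : Nat := @Bool.rec (fun _ => Nat) (Ptab_s_786_801 c) (Ptab_s_801_816 c) (Nat.ble 801 c)
noncomputable def Ptab_s_817_819 (c : Nat) : Nat := @Bool.rec (fun _ => Nat) (Ptab_817) (Ptab_818) (Nat.ble 818 c)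
noncomputable def Ptab_s_816_819 (c : Nat) : Nat := @Bool.rec (fun _ => Nat) (Ptab_816) (Ptab_s_817_819 c) (Nat.ble 817 c)
noncomputable def Ptab_s_819_821 (c : Nat) : Nat := @Bool.rec (fun _ => Nat) (Ptab_819) (Ptab_820) (Nat.ble 820 c)
noncomputable def Ptab_s_821_823 (c : Nat) : Nat := @Bool.rec (fun _ => Nat) (Ptab_821) (Ptab_822) (Nat.ble 822 c)
noncomputable def Ptab_s_819_823 (c : Nat) : Nat := @Bool.rec (fun _ => Nat) (Ptab_s_819_821 c) (Ptab_s_821_823 c) (Nat.ble 821 c)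
noncomputable def Ptab_s_816_823 (c : Nat) : Nat := @Bool.rec (fun _ => Nat) (Ptab_s_816_819 c) (Ptab_s_819_823 c) (Nat.ble 819 c)
noncomputable def Ptab_s_823_825 (c : Nat) : Nat := @Bool.rec (fun _ => Nat) (Ptab_823) (Ptab_824) (Nat.ble 824 c)
noncomputable def Ptab_s_825_827 (c : Nat) : Nat := @Bool.rec (fun _ => Nat) (Ptab_825) (Ptab_826) (Nat.ble 826 c)
noncomputable def Ptab_s_823_827 (c : Nat) : Nat := @Bool.rec (fun _ => Nat) (Ptab_s_823_825 c) (Ptab_s_825_827 c) (Nat.ble 825 c)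
noncomputable def Ptab_s_827_829 (c : Nat) : Nat := @Bool.rec (fun _ => Nat) (Ptab_827) (Ptab_828) (Nat.ble 828 c)
noncomputable def Ptab_s_829_831 (c : Nat) : Nat := @Bool.rec (fun _ => Nat) (Ptab_829) (Ptab_830) (Nat.ble 830 c)
noncomputable def Ptab_s_827_831 (c : Nat) : Nat := @Bool.rec (fun _ => Nat) (Ptab_s_827_829 c) (Ptab_s_829_831 c) (Nat.ble 829 c)
noncomputable def Ptab_s_823_831 (c : Nat) : Nat := @Bool.rec (fun _ => Nat) (Ptab_s_823_827 c) (Ptab_s_827_831 c) (Nat.ble 827 c)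
noncomputable def Ptab_s_816_831 (c : Nat) : Nat := @Bool.rec (fun _ => Nat) (Ptab_s_816_823 c) (Ptab_s_823_831 c) (Nat.ble 823 c)
noncomputable def Ptab_s_831_833 (c : Nat) : Nat := @Bool.rec (fun _ => Nat) (Ptab_831) (Ptab_832) (Nat.ble 832 c)
noncomputable def Ptab_s_833_835 (c : Nat) : Nat := @Bool.rec (fun _ => Nat) (Ptab_833) (Ptab_834) (Nat.ble 834 c)
noncomputable def Ptab_s_831_835 (c : Nat) : Nat := @Bool.rec (fun _ => Nat) (Ptab_s_831_833 c) (Ptab_s_833_835 c) (Nat.ble 833 c)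
noncomputable def Ptab_s_835_837 (c : Nat) : Nat := @Bool.rec (fun _ => Nat) (Ptab_835) (Ptab_836) (Nat.ble 836 c)
noncomputable def Ptab_s_837_839 (c : Nat) : Nat := @Bool.rec (fun _ => Nat) (Ptab_837) (Ptab_838) (Nat.ble 838 c)
noncomputable def Ptab_s_835_839 (c : Nat) : Nat := @Bool.rec (fun _ => Nat) (Ptab_s_835_837 c) (Ptab_s_837_839 c) (Nat.ble 837 c)
noncomputable def Ptab_s_831_839 (c : Nat) : Nat := @Bool.rec (fun _ => Nat) (Ptab_s_831_835 c) (Ptab_s_835_839 c) (Nat.ble 835 c)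
noncomputable def Ptab_s_839_841 (c : Nat) : Nat := @Bool.rec (fun _ => Nat) (Ptab_839) (Ptab_840) (Nat.ble 840 c)
noncomputable def Ptab_s_841_843 (c : Nat) : Nat := @Bool.rec (fun _ => Nat) (Ptab_841) (Ptab_842) (Nat.ble 842 c)
noncomputable def Ptab_s_839_843 (c : Nat) : Nat := @Bool.rec (fun _ => Nat) (Ptab_s_839_841 c) (Ptab_s_841_843 c) (Nat.ble 841 c)
noncomputable def Ptab_s_843_845 (c : Nat) : Nat := @Bool.rec (fun _ => Nat) (Ptab_843) (Ptab_844) (Nat.ble 844 c)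
noncomputable def Ptab_s_845_847 (c : Nat) : Nat := @Bool.rec (fun _ => Nat) (Ptab_845) (Ptab_846) (Nat.ble 846 c)
noncomputable def Ptab_s_843_847 (c : Nat) : Nat := @Bool.rec (fun _ => Nat) (Ptab_s_843_845 c) (Ptab_s_845_847 c) (Nat.ble 845 c)
noncomputable def Ptab_s_839_847 (c : Nat) : Nat := @Bool.rec (fun _ => Nat) (Ptab_s_839_843 c) (Ptab_s_843_847 c) (Nat.ble 843 c)
noncomputable def Ptab_s_831_847 (c : Nat) : Nat := @Bool.rec (fun _ => Nat) (Ptab_s_831_839 c) (Ptab_s_839_847 c) (Nat.ble 839 c)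
noncomputable def Ptab_s_816_847 (c : Nat) : Nat := @Bool.rec (fun _ => Nat) (Ptab_s_816_831 c) (Ptab_s_831_847 c) (Nat.ble 831 c)
noncomputable def Ptab_s_786_847 (c : Nat) : Nat := @Bool.rec (fun _ => Nat) (Ptab_s_786_816 c) (Ptab_s_816_847 c) (Nat.ble 816 c)
noncomputable def Ptab_s_726_847 (c : Nat) : Nat := @Bool.rec (fun _ => Nat) (Ptab_s_726_786 c) (Ptab_s_786_847 c) (Nat.ble 786 c)
noncomputable def Ptab_s_848_850 (c : Nat) : Nat := @Bool.rec (fun _ => Nat) (Ptab_848) (Ptab_849) (Nat.ble 849 c)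
noncomputable def Ptab_s_847_850 (c : Nat) : Nat := @Bool.rec (fun _ => Nat) (Ptab_847) (Ptab_s_848_850 c) (Nat.ble 848 c)
noncomputable def Ptab_s_850_852 (c : Nat) : Nat := @Bool.rec (fun _ => Nat) (Ptab_850) (Ptab_851) (Nat.ble 851 c)
noncomputable def Ptab_s_852_854 (c : Nat) : Nat := @Bool.rec (fun _ => Nat) (Ptab_852) (Ptab_853) (Nat.ble 853 c)
noncomputable def Ptab_s_850_854 (c : Nat) : Nat := @Bool.rec (fun _ => Nat) (Ptab_s_850_852 c) (Ptab_s_852_854 c) (Nat.ble 852 c)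
noncomputable def Ptab_s_847_854 (c : Nat) : Nat := @Bool.rec (fun _ => Nat) (Ptab_s_847_850 c) (Ptab_s_850_854 c) (Nat.ble 850 c)
noncomputable def Ptab_s_854_856 (c : Nat) : Nat := @Bool.rec (fun _ => Nat) (Ptab_854) (Ptab_855) (Nat.ble 855 c)
noncomputable def Ptab_s_856_858 (c : Nat) : Nat := @Bool.rec (fun _ => Nat) (Ptab_856) (Ptab_857) (Nat.ble 857 c)
noncomputable def Ptab_s_854_858 (c : Nat) : Nat := @Bool.rec (fun _ => Nat) (Ptab_s_854_856 c) (Ptab_s_856_858 c) (Nat.ble 856 c)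
noncomputable def Ptab_s_858_860 (c : Nat) : Nat := @Bool.rec (fun _ => Nat) (Ptab_858) (Ptab_859) (Nat.ble 859 c)
noncomputable def Ptab_s_860_862 (c : Nat) : Nat := @Bool.rec (fun _ => Nat) (Ptab_860) (Ptab_861) (Nat.ble 861 c)
noncomputable def Ptab_s_858_862 (c : Nat) : Nat := @Bool.rec (fun _ => Nat) (Ptab_s_858_860 c) (Ptab_s_860_862 c) (Nat.ble 860 c)
noncomputable def Ptab_s_854_862 (c : Nat) : Nat := @Bool.rec (fun _ => Nat) (Ptab_s_854_858 c) (Ptab_s_858_862 c) (Nat.ble 858 c)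
noncomputable def Ptab_s_847_862 (c : Nat) : Nat := @Bool.rec (fun _ => Nat) (Ptab_s_847_854 c) (Ptab_s_854_862 c) (Nat.ble 854 c)
noncomputable def Ptab_s_863_865 (c : Nat) : Nat := @Bool.rec (fun _ => Nat) (Ptab_863) (Ptab_864) (Nat.ble 864 c)
noncomputable def Ptab_s_862_865 (c : Nat) : Nat := @Bool.rec (fun _ => Nat) (Ptab_862) (Ptab_s_863_865 c) (Nat.ble 863 c)
noncomputable def Ptab_s_865_867 (c : Nat) : Nat := @Bool.rec (fun _ => Nat) (Ptab_865) (Ptab_866) (Nat.ble 866 c)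
noncomputable def Ptab_s_867_869 (c : Nat) : Nat := @Bool.rec (fun _ => Nat) (Ptab_867) (Ptab_868) (Nat.ble 868 c)
noncomputable def Ptab_s_865_869 (c : Nat) : Nat := @Bool.rec (fun _ => Nat) (Ptab_s_865_867 c) (Ptab_s_867_869 c) (Nat.ble 867 c)
noncomputable def Ptab_s_862_869 (c : Nat) : Nat := @Bool.rec (fun _ => Nat) (Ptab_s_862_865 c) (Ptab_s_865_869 c) (Nat.ble 865 c)
noncomputable def Ptab_s_869_871 (c : Nat) : Nat := @Bool.rec (fun _ => Nat) (Ptab_869) (Ptab_870) (Nat.ble 870 c)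
noncomputable def Ptab_s_871_873 (c : Nat) : Nat := @Bool.rec (fun _ => Nat) (Ptab_871) (Ptab_872) (Nat.ble 872 c)
noncomputable def Ptab_s_869_873 (c : Nat) : Nat := @Bool.rec (fun _ => Nat) (Ptab_s_869_871 c) (Ptab_s_871_873 c) (Nat.ble 871 c)
noncomputable def Ptab_s_873_875 (c : Nat) : Nat := @Bool.rec (fun _ => Nat) (Ptab_873) (Ptab_874) (Nat.ble 874 c)
noncomputable def Ptab_s_875_877 (c : Nat) : Nat := @Bool.rec (fun _ => Nat) (Ptab_875) (Ptab_876) (Nat.ble 876 c)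
noncomputable def Ptab_s_873_877 (c : Nat) : Nat := @Bool.rec (fun _ => Nat) (Ptab_s_873_875 c) (Ptab_s_875_877 c) (Nat.ble 875 c)
noncomputable def Ptab_s_869_877 (c : Nat) : Nat := @Bool.rec (fun _ => Nat) (Ptab_s_869_873 c) (Ptab_s_873_877 c) (Nat.ble 873 c)
noncomputable def Ptab_s_862_877 (c : Nat) : Nat := @Bool.rec (fun _ => Nat) (Ptab_s_862_869 c) (Ptab_s_869_877 c) (Nat.ble 869 c)
noncomputable def Ptab_s_847_877 (c : Nat) : Nat := @Bool.rec (fun _ => Nat) (Ptab_s_847_862 c) (Ptab_s_862_877 c) (Nat.ble 862 c)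
noncomputable def Ptab_s_878_880 (c : Nat) : Nat := @Bool.rec (fun _ => Nat) (Ptab_878) (Ptab_879) (Nat.ble 879 c)
noncomputable def Ptab_s_877_880 (c : Nat) : Nat := @Bool.rec (fun _ => Nat) (Ptab_877) (Ptab_s_878_880 c) (Nat.ble 878 c)
noncomputable def Ptab_s_880_882 (c : Nat) : Nat := @Bool.rec (fun _ => Nat) (Ptab_880) (Ptab_881) (Nat.ble 881 c)
noncomputable def Ptab_s_882_884 (c : Nat) : Nat := @Bool.rec (fun _ => Nat) (Ptab_882) (Ptab_883) (Nat.ble 883 c)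
noncomputable def Ptab_s_880_884 (c : Nat) : Nat := @Bool.rec (fun _ => Nat) (Ptab_s_880_882 c) (Ptab_s_882_884 c) (Nat.ble 882 c)
noncomputable def Ptab_s_877_884 (c : Nat) : Nat := @Bool.rec (fun _ => Nat) (Ptab_s_877_880 c) (Ptab_s_880_884 c) (Nat.ble 880 c)
noncomputable def Ptab_s_884_886 (c : Nat) : Nat := @Bool.rec (fun _ => Nat) (Ptab_884) (Ptab_885) (Nat.ble 885 c)
noncomputable def Ptab_s_886_888 (c : Nat) : Nat := @Bool.rec (fun _ => Nat) (Ptab_886) (Ptab_887) (Nat.ble 887 c)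
noncomputable def Ptab_s_884_888 (c : Nat) : Nat := @Bool.rec (fun _ => Nat) (Ptab_s_884_886 c) (Ptab_s_886_888 c) (Nat.ble 886 c)
noncomputable def Ptab_s_888_890 (c : Nat) : Nat := @Bool.rec (fun _ => Nat) (Ptab_888) (Ptab_889) (Nat.ble 889 c)
noncomputable def Ptab_s_890_892 (c : Nat) : Nat := @Bool.rec (fun _ => Nat) (Ptab_890) (Ptab_891) (Nat.ble 891 c)
noncomputable def Ptab_s_888_892 (c : Nat) : Nat := @Bool.rec (fun _ => Nat) (Ptab_s_888_890 c) (Ptab_s_890_892 c) (Nat.ble 890 c)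
noncomputable def Ptab_s_884_892 (c : Nat) : Nat := @Bool.rec (fun _ => Nat) (Ptab_s_884_888 c) (Ptab_s_888_892 c) (Nat.ble 888 c)
noncomputable def Ptab_s_877_892 (c : Nat) : Nat := @Bool.rec (fun _ => Nat) (Ptab_s_877_884 c) (Ptab_s_884_892 c) (Nat.ble 884 c)
noncomputable def Ptab_s_892_894 (c : Nat) : Nat := @Bool.rec (fun _ => Nat) (Ptab_892) (Ptab_893) (Nat.ble 893 c)
noncomputable def Ptab_s_894_896 (c : Nat) : Nat := @Bool.rec (fun _ => Nat) (Ptab_894) (Ptab_895) (Nat.ble 895 c)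
noncomputable def Ptab_s_892_896 (c : Nat) : Nat := @Bool.rec (fun _ => Nat) (Ptab_s_892_894 c) (Ptab_s_894_896 c) (Nat.ble 894 c)
noncomputable def Ptab_s_896_898 (c : Nat) : Nat := @Bool.rec (fun _ => Nat) (Ptab_896) (Ptab_897) (Nat.ble 897 c)
noncomputable def Ptab_s_898_900 (c : Nat) : Nat := @Bool.rec (fun _ => Nat) (Ptab_898) (Ptab_899) (Nat.ble 899 c)
noncomputable def Ptab_s_896_900 (c : Nat) : Nat := @Bool.rec (fun _ => Nat) (Ptab_s_896_898 c) (Ptab_s_898_900 c) (Nat.ble 898 c)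
noncomputable def Ptab_s_892_900 (c : Nat) : Nat := @Bool.rec (fun _ => Nat) (Ptab_s_892_896 c) (Ptab_s_896_900 c) (Nat.ble 896 c)
noncomputable def Ptab_s_900_902 (c : Nat) : Nat := @Bool.rec (fun _ => Nat) (Ptab_900) (Ptab_901) (Nat.ble 901 c)
noncomputable def Ptab_s_902_904 (c : Nat) : Nat := @Bool.rec (fun _ => Nat) (Ptab_902) (Ptab_903) (Nat.ble 903 c)
noncomputable def Ptab_s_900_904 (c : Nat) : Nat := @Bool.rec (fun _ => Nat) (Ptab_s_900_902 c) (Ptab_s_902_904 c) (Nat.ble 902 c)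
noncomputable def Ptab_s_904_906 (c : Nat) : Nat := @Bool.rec (fun _ => Nat) (Ptab_904) (Ptab_905) (Nat.ble 905 c)
noncomputable def Ptab_s_906_908 (c : Nat) : Nat := @Bool.rec (fun _ => Nat) (Ptab_906) (Ptab_907) (Nat.ble 907 c)
noncomputable def Ptab_s_904_908 (c : Nat) : Nat := @Bool.rec (fun _ => Nat) (Ptab_s_904_906 c) (Ptab_s_906_908 c) (Nat.ble 906 c)
noncomputable def Ptab_s_900_908 (c : Nat) : Nat := @Bool.rec (fun _ => Nat) (Ptab_s_900_904 c) (Ptab_s_904_908 c) (Nat.ble 904 c)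
noncomputable def Ptab_s_892_908 (c : Nat) : Nat := @Bool.rec (fun _ => Nat) (Ptab_s_892_900 c) (Ptab_s_900_908 c) (Nat.ble 900 c)
noncomputable def Ptab_s_877_908 (c : Nat) : Nat := @Bool.rec (fun _ => Nat) (Ptab_s_877_892 c) (Ptab_s_892_908 c) (Nat.ble 892 c)
noncomputable def Ptab_s_847_908 (c : Nat) : Nat := @Bool.rec (fun _ => Nat) (Ptab_s_847_877 c) (Ptab_s_877_908 c) (Nat.ble 877 c)
noncomputable def Ptab_s_909_911 (c : Nat) : Nat := @Bool.rec (fun _ => Nat) (Ptab_909) (Ptab_910) (Nat.ble 910 c)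
noncomputable def Ptab_s_908_911 (c : Nat) : Nat := @Bool.rec (fun _ => Nat) (Ptab_908) (Ptab_s_909_911 c) (Nat.ble 909 c)
noncomputable def Ptab_s_911_913 (c : Nat) : Nat := @Bool.rec (fun _ => Nat) (Ptab_911) (Ptab_912) (Nat.ble 912 c)
noncomputable def Ptab_s_913_915 (c : Nat) : Nat := @Bool.rec (fun _ => Nat) (Ptab_913) (Ptab_914) (Nat.ble 914 c)
noncomputable def Ptab_s_911_915 (c : Nat) : Nat := @Bool.rec (fun _ => Nat) (Ptab_s_911_913 c) (Ptab_s_913_915 c) (Nat.ble 913 c)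
noncomputable def Ptab_s_908_915 (c : Nat) : Nat := @Bool.rec (fun _ => Nat) (Ptab_s_908_911 c) (Ptab_s_911_915 c) (Nat.ble 911 c)
noncomputable def Ptab_s_915_917 (c : Nat) : Nat := @Bool.rec (fun _ => Nat) (Ptab_915) (Ptab_916) (Nat.ble 916 c)
noncomputable def Ptab_s_917_919 (c : Nat) : Nat := @Bool.rec (fun _ => Nat) (Ptab_917) (Ptab_918) (Nat.ble 918 c)
noncomputable def Ptab_s_915_919 (c : Nat) : Nat := @Bool.rec (fun _ => Nat) (Ptab_s_915_917 c) (Ptab_s_917_919 c) (Nat.ble 917 c)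
noncomputable def Ptab_s_919_921 (c : Nat) : Nat := @Bool.rec (fun _ => Nat) (Ptab_919) (Ptab_920) (Nat.ble 920 c)
noncomputable def Ptab_s_921_923 (c : Nat) : Nat := @Bool.rec (fun _ => Nat) (Ptab_921) (Ptab_922) (Nat.ble 922 c)
noncomputable def Ptab_s_919_923 (c : Nat) : Nat := @Bool.rec (fun _ => Nat) (Ptab_s_919_921 c) (Ptab_s_921_923 c) (Nat.ble 921 c)
noncomputable def Ptab_s_915_923 (c : Nat) : Nat := @Bool.rec (fun _ => Nat) (Ptab_s_915_919 c) (Ptab_s_919_923 c) (Nat.ble 919 c)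
noncomputable def Ptab_s_908_923 (c : Nat) : Nat := @Bool.rec (fun _ => Nat) (Ptab_s_908_915 c) (Ptab_s_915_923 c) (Nat.ble 915 c)
noncomputable def Ptab_s_924_926 (c : Nat) : Nat := @Bool.rec (fun _ => Nat) (Ptab_924) (Ptab_925) (Nat.ble 925 c)
noncomputable def Ptab_s_923_926 (c : Nat) : Nat := @Bool.rec (fun _ => Nat) (Ptab_923) (Ptab_s_924_926 c) (Nat.ble 924 c)
noncomputable def Ptab_s_926_928 (c : Nat) : Nat := @Bool.rec (fun _ => Nat) (Ptab_926) (Ptab_927) (Nat.ble 927 c)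
noncomputable def Ptab_s_928_930 (c : Nat) : Nat := @Bool.rec (fun _ => Nat) (Ptab_928) (Ptab_929) (Nat.ble 929 c)
noncomputable def Ptab_s_926_930 (c : Nat) : Nat := @Bool.rec (fun _ => Nat) (Ptab_s_926_928 c) (Ptab_s_928_930 c) (Nat.ble 928 c)
noncomputable def Ptab_s_923_930 (c : Nat) : Nat := @Bool.rec (fun _ => Nat) (Ptab_s_923_926 c) (Ptab_s_926_930 c) (Nat.ble 926 c)
noncomputable def Ptab_s_930_932 (c : Nat) : Nat := @Bool.rec (fun _ => Nat) (Ptab_930) (Ptab_931) (Nat.ble 931 c)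
noncomputable def Ptab_s_932_934 (c : Nat) : Nat := @Bool.rec (fun _ => Nat) (Ptab_932) (Ptab_933) (Nat.ble 933 c)
noncomputable def Ptab_s_930_934 (c : Nat) : Nat := @Bool.rec (fun _ => Nat) (Ptab_s_930_932 c) (Ptab_s_932_934 c) (Nat.ble 932 c)
noncomputable def Ptab_s_934_936 (c : Nat) : Nat := @Bool.rec (fun _ => Nat) (Ptab_934) (Ptab_935) (Nat.ble 935 c)
noncomputable def Ptab_s_936_938 (c : Nat) : Nat := @Bool.rec (fun _ => Nat) (Ptab_936) (Ptab_937) (Nat.ble 937 c)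
noncomputable def Ptab_s_934_938 (c : Nat) : Nat := @Bool.rec (fun _ => Nat) (Ptab_s_934_936 c) (Ptab_s_936_938 c) (Nat.ble 936 c)
noncomputable def Ptab_s_930_938 (c : Nat) : Nat := @Bool.rec (fun _ => Nat) (Ptab_s_930_934 c) (Ptab_s_934_938 c) (Nat.ble 934 c)
noncomputable def Ptab_s_923_938 (c : Nat) : Nat := @Bool.rec (fun _ => Nat) (Ptab_s_923_930 c) (Ptab_s_930_938 c) (Nat.ble 930 c)
noncomputable def Ptab_s_908_938 (c : Nat) : Nat := @Bool.rec (fun _ => Nat) (Ptab_s_908_923 c) (Ptab_s_923_938 c) (Nat.ble 923 c)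
noncomputable def Ptab_s_939_941 (c : Nat) : Nat := @Bool.rec (fun _ => Nat) (Ptab_939) (Ptab_940) (Nat.ble 940 c)
noncomputable def Ptab_s_938_941 (c : Nat) : Nat := @Bool.rec (fun _ => Nat) (Ptab_938) (Ptab_s_939_941 c) (Nat.ble 939 c)
noncomputable def Ptab_s_941_943 (c : Nat) : Nat := @Bool.rec (fun _ => Nat) (Ptab_941) (Ptab_942) (Nat.ble 942 c)
noncomputable def Ptab_s_943_945 (c : Nat) : Nat := @Bool.rec (fun _ => Nat) (Ptab_943) (Ptab_944) (Nat.ble 944 c)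
noncomputable def Ptab_s_941_945 (c : Nat) : Nat := @Bool.rec (fun _ => Nat) (Ptab_s_941_943 c) (Ptab_s_943_945 c) (Nat.ble 943 c)
noncomputable def Ptab_s_938_945 (c : Nat) : Nat := @Bool.rec (fun _ => Nat) (Ptab_s_938_941 c) (Ptab_s_941_945 c) (Nat.ble 941 c)
noncomputable def Ptab_s_945_947 (c : Nat) : Nat := @Bool.rec (fun _ => Nat) (Ptab_945) (Ptab_946) (Nat.ble 946 c)
noncomputable def Ptab_s_947_949 (c : Nat) : Nat := @Bool.rec (fun _ => Nat) (Ptab_947) (Ptab_948) (Nat.ble 948 c)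
noncomputable def Ptab_s_945_949 (c : Nat) : Nat := @Bool.rec (fun _ => Nat) (Ptab_s_945_947 c) (Ptab_s_947_949 c) (Nat.ble 947 c)
noncomputable def Ptab_s_949_951 (c : Nat) : Nat := @Bool.rec (fun _ => Nat) (Ptab_949) (Ptab_950) (Nat.ble 950 c)
noncomputable def Ptab_s_951_953 (c : Nat) : Nat := @Bool.rec (fun _ => Nat) (Ptab_951) (Ptab_952) (Nat.ble 952 c)
noncomputable def Ptab_s_949_953 (c : Nat) : Nat := @Bool.rec (fun _ => Nat) (Ptab_s_949_951 c) (Ptab_s_951_953 c) (Nat.ble 951 c)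
noncomputable def Ptab_s_945_953 (c : Nat) : Nat := @Bool.rec (fun _ => Nat) (Ptab_s_945_949 c) (Ptab_s_949_953 c) (Nat.ble 949 c)
noncomputable def Ptab_s_938_953 (c : Nat) : Nat := @Bool.rec (fun _ => Nat) (Ptab_s_938_945 c) (Ptab_s_945_953 c) (Nat.ble 945 c)
noncomputable def Ptab_s_953_955 (c : Nat) : Nat := @Bool.rec (fun _ => Nat) (Ptab_953) (Ptab_954) (Nat.ble 954 c)
noncomputable def Ptab_s_955_957 (c : Nat) : Nat := @Bool.rec (fun _ => Nat) (Ptab_955) (Ptab_956) (Nat.ble 956 c)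
noncomputable def Ptab_s_953_957 (c : Nat) : Nat := @Bool.rec (fun _ => Nat) (Ptab_s_953_955 c) (Ptab_s_955_957 c) (Nat.ble 955 c)
noncomputable def Ptab_s_957_959 (c : Nat) : Nat := @Bool.rec (fun _ => Nat) (Ptab_957) (Ptab_958) (Nat.ble 958 c)
noncomputable def Ptab_s_959_961 (c : Nat) : Nat := @Bool.rec (fun _ => Nat) (Ptab_959) (Ptab_960) (Nat.ble 960 c)
noncomputable def Ptab_s_957_961 (c : Nat) : Nat := @Bool.rec (fun _ => Nat) (Ptab_s_957_959 c) (Ptab_s_959_961 c) (Nat.ble 959 c)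
noncomputable def Ptab_s_953_961 (c : Nat) : Nat := @Bool.rec (fun _ => Nat) (Ptab_s_953_957 c) (Ptab_s_957_961 c) (Nat.ble 957 c)
noncomputable def Ptab_s_961_963 (c : Nat) : Nat := @Bool.rec (fun _ => Nat) (Ptab_961) (Ptab_962) (Nat.ble 962 c)
noncomputable def Ptab_s_963_965 (c : Nat) : Nat := @Bool.rec (fun _ => Nat) (Ptab_963) (Ptab_964) (Nat.ble 964 c)
noncomputable def Ptab_s_961_965 (c : Nat) : Nat := @Bool.rec (fun _ => Nat) (Ptab_s_961_963 c) (Ptab_s_963_965 c) (Nat.ble 963 c)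
noncomputable def Ptab_s_965_967 (c : Nat) : Nat := @Bool.rec (fun _ => Nat) (Ptab_965) (Ptab_966) (Nat.ble 966 c)
noncomputable def Ptab_s_967_969 (c : Nat) : Nat := @Bool.rec (fun _ => Nat) (Ptab_967) (Ptab_968) (Nat.ble 968 c)
noncomputable def Ptab_s_965_969 (c : Nat) : Nat := @Bool.rec (fun _ => Nat) (Ptab_s_965_967 c) (Ptab_s_967_969 c) (Nat.ble 967 c)
noncomputable def Ptab_s_961_969 (c : Nat) : Nat := @Bool.rec (fun _ => Nat) (Ptab_s_961_965 c) (Ptab_s_965_969 c) (Nat.ble 965 c)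
noncomputable def Ptab_s_953_969 (c : Nat) : Nat := @Bool.rec (fun _ => Nat) (Ptab_s_953_961 c) (Ptab_s_961_969 c) (Nat.ble 961 c)
noncomputable def Ptab_s_938_969 (c : Nat) : Nat := @Bool.rec (fun _ => Nat) (Ptab_s_938_953 c) (Ptab_s_953_969 c) (Nat.ble 953 c)
noncomputable def Ptab_s_908_969 (c : Nat) : Nat := @Bool.rec (fun _ => Nat) (Ptab_s_908_938 c) (Ptab_s_938_969 c) (Nat.ble 938 c)
noncomputable def Ptab_s_847_969 (c : Nat) : Nat := @Bool.rec (fun _ => Nat) (Ptab_s_847_908 c) (Ptab_s_908_969 c) (Nat.ble 908 c)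
noncomputable def Ptab_s_726_969 (c : Nat) : Nat := @Bool.rec (fun _ => Nat) (Ptab_s_726_847 c) (Ptab_s_847_969 c) (Nat.ble 847 c)
noncomputable def Ptab_s_484_969 (c : Nat) : Nat := @Bool.rec (fun _ => Nat) (Ptab_s_484_726 c) (Ptab_s_726_969 c) (Nat.ble 726 c)
noncomputable def Ptab_s_0_969 (c : Nat) : Nat := @Bool.rec (fun _ => Nat) (Ptab_s_0_484 c) (Ptab_s_484_969 c) (Nat.ble 484 c)
noncomputable def Ptab_s_970_972 (c : Nat) : Nat := @Bool.rec (fun _ => Nat) (Ptab_970) (Ptab_971) (Nat.ble 971 c)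
noncomputable def Ptab_s_969_972 (c : Nat) : Nat := @Bool.rec (fun _ => Nat) (Ptab_969) (Ptab_s_970_972 c) (Nat.ble 970 c)
noncomputable def Ptab_s_972_974 (c : Nat) : Nat := @Bool.rec (fun _ => Nat) (Ptab_972) (Ptab_973) (Nat.ble 973 c)
noncomputable def Ptab_s_974_976 (c : Nat) : Nat := @Bool.rec (fun _ => Nat) (Ptab_974) (Ptab_975) (Nat.ble 975 c)
noncomputable def Ptab_s_972_976 (c : Nat) : Nat := @Bool.rec (fun _ => Nat) (Ptab_s_972_974 c) (Ptab_s_974_976 c) (Nat.ble 974 c)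
noncomputable def Ptab_s_969_976 (c : Nat) : Nat := @Bool.rec (fun _ => Nat) (Ptab_s_969_972 c) (Ptab_s_972_976 c) (Nat.ble 972 c)
noncomputable def Ptab_s_976_978 (c : Nat) : Nat := @Bool.rec (fun _ => Nat) (Ptab_976) (Ptab_977) (Nat.ble 977 c)
noncomputable def Ptab_s_978_980 (c : Nat) : Nat := @Bool.rec (fun _ => Nat) (Ptab_978) (Ptab_979) (Nat.ble 979 c)
noncomputable def Ptab_s_976_980 (c : Nat) : Nat := @Bool.rec (fun _ => Nat) (Ptab_s_976_978 c) (Ptab_s_978_980 c) (Nat.ble 978 c)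
noncomputable def Ptab_s_980_982 (c : Nat) : Nat := @Bool.rec (fun _ => Nat) (Ptab_980) (Ptab_981) (Nat.ble 981 c)
noncomputable def Ptab_s_982_984 (c : Nat) : Nat := @Bool.rec (fun _ => Nat) (Ptab_982) (Ptab_983) (Nat.ble 983 c)
noncomputable def Ptab_s_980_984 (c : Nat) : Nat := @Bool.rec (fun _ => Nat) (Ptab_s_980_982 c) (Ptab_s_982_984 c) (Nat.ble 982 c)
noncomputable def Ptab_s_976_984 (c : Nat) : Nat := @Bool.rec (fun _ => Nat) (Ptab_s_976_980 c) (Ptab_s_980_984 c) (Nat.ble 980 c)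
noncomputable def Ptab_s_969_984 (c : Nat) : Nat := @Bool.rec (fun _ => Nat) (Ptab_s_969_976 c) (Ptab_s_976_984 c) (Nat.ble 976 c)
noncomputable def Ptab_s_985_987 (c : Nat) : Nat := @Bool.rec (fun _ => Nat) (Ptab_985) (Ptab_986) (Nat.ble 986 c)
noncomputable def Ptab_s_984_987 (c : Nat) : Nat := @Bool.rec (fun _ => Nat) (Ptab_984) (Ptab_s_985_987 c) (Nat.ble 985 c)
noncomputable def Ptab_s_987_989 (c : Nat) : Nat := @Bool.rec (fun _ => Nat) (Ptab_987) (Ptab_988) (Nat.ble 988 c)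
noncomputable def Ptab_s_989_991 (c : Nat) : Nat := @Bool.rec (fun _ => Nat) (Ptab_989) (Ptab_990) (Nat.ble 990 c)
noncomputable def Ptab_s_987_991 (c : Nat) : Nat := @Bool.rec (fun _ => Nat) (Ptab_s_987_989 c) (Ptab_s_989_991 c) (Nat.ble 989 c)
noncomputable def Ptab_s_984_991 (c : Nat) : Nat := @Bool.rec (fun _ => Nat) (Ptab_s_984_987 c) (Ptab_s_987_991 c) (Nat.ble 987 c)
noncomputable def Ptab_s_991_993 (c : Nat) : Nat := @Bool.rec (fun _ => Nat) (Ptab_991) (Ptab_992) (Nat.ble 992 c)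
noncomputable def Ptab_s_993_995 (c : Nat) : Nat := @Bool.rec (fun _ => Nat) (Ptab_993) (Ptab_994) (Nat.ble 994 c)
noncomputable def Ptab_s_991_995 (c : Nat) : Nat := @Bool.rec (fun _ => Nat) (Ptab_s_991_993 c) (Ptab_s_993_995 c) (Nat.ble 993 c)
noncomputable def Ptab_s_995_997 (c : Nat) : Nat := @Bool.rec (fun _ => Nat) (Ptab_995) (Ptab_996) (Nat.ble 996 c)
noncomputable def Ptab_s_997_999 (c : Nat) : Nat := @Bool.rec (fun _ => Nat) (Ptab_997) (Ptab_998) (Nat.ble 998 c)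
noncomputable def Ptab_s_995_999 (c : Nat) : Nat := @Bool.rec (fun _ => Nat) (Ptab_s_995_997 c) (Ptab_s_997_999 c) (Nat.ble 997 c)
noncomputable def Ptab_s_991_999 (c : Nat) : Nat := @Bool.rec (fun _ => Nat) (Ptab_s_991_995 c) (Ptab_s_995_999 c) (Nat.ble 995 c)
noncomputable def Ptab_s_984_999 (c : Nat) : Nat := @Bool.rec (fun _ => Nat) (Ptab_s_984_991 c) (Ptab_s_991_999 c) (Nat.ble 991 c)
noncomputable def Ptab_s_969_999 (c : Nat) : Nat := @Bool.rec (fun _ => Nat) (Ptab_s_969_984 c) (Ptab_s_984_999 c) (Nat.ble 984 c)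
noncomputable def Ptab_s_1000_1002 (c : Nat) : Nat := @Bool.rec (fun _ => Nat) (Ptab_1000) (Ptab_1001) (Nat.ble 1001 c)
noncomputable def Ptab_s_999_1002 (c : Nat) : Nat := @Bool.rec (fun _ => Nat) (Ptab_999) (Ptab_s_1000_1002 c) (Nat.ble 1000 c)
noncomputable def Ptab_s_1002_1004 (c : Nat) : Nat := @Bool.rec (fun _ => Nat) (Ptab_1002) (Ptab_1003) (Nat.ble 1003 c)
noncomputable def Ptab_s_1004_1006 (c : Nat) : Nat := @Bool.rec (fun _ => Nat) (Ptab_1004) (Ptab_1005) (Nat.ble 1005 c)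
noncomputable def Ptab_s_1002_1006 (c : Nat) : Nat := @Bool.rec (fun _ => Nat) (Ptab_s_1002_1004 c) (Ptab_s_1004_1006 c) (Nat.ble 1004 c)
noncomputable def Ptab_s_999_1006 (c : Nat) : Nat := @Bool.rec (fun _ => Nat) (Ptab_s_999_1002 c) (Ptab_s_1002_1006 c) (Nat.ble 1002 c)
noncomputable def Ptab_s_1006_1008 (c : Nat) : Nat := @Bool.rec (fun _ => Nat) (Ptab_1006) (Ptab_1007) (Nat.ble 1007 c)
noncomputable def Ptab_s_1008_1010 (c : Nat) : Nat := @Bool.rec (fun _ => Nat) (Ptab_1008) (Ptab_1009) (Nat.ble 1009 c)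
noncomputable def Ptab_s_1006_1010 (c : Nat) : Nat := @Bool.rec (fun _ => Nat) (Ptab_s_1006_1008 c) (Ptab_s_1008_1010 c) (Nat.ble 1008 c)
noncomputable def Ptab_s_1010_1012 (c : Nat) : Nat := @Bool.rec (fun _ => Nat) (Ptab_1010) (Ptab_1011) (Nat.ble 1011 c)
noncomputable def Ptab_s_1012_1014 (c : Nat) : Nat := @Bool.rec (fun _ => Nat) (Ptab_1012) (Ptab_1013) (Nat.ble 1013 c)
noncomputable def Ptab_s_1010_1014 (c : Nat) : Nat := @Bool.rec (fun _ => Nat) (Ptab_s_1010_1012 c) (Ptab_s_1012_1014 c) (Nat.ble 1012 c)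
noncomputable def Ptab_s_1006_1014 (c : Nat) : Nat := @Bool.rec (fun _ => Nat) (Ptab_s_1006_1010 c) (Ptab_s_1010_1014 c) (Nat.ble 1010 c)
noncomputable def Ptab_s_999_1014 (c : Nat) : Nat := @Bool.rec (fun _ => Nat) (Ptab_s_999_1006 c) (Ptab_s_1006_1014 c) (Nat.ble 1006 c)
noncomputable def Ptab_s_1015_1017 (c : Nat) : Nat := @Bool.rec (fun _ => Nat) (Ptab_1015) (Ptab_1016) (Nat.ble 1016 c)
noncomputable def Ptab_s_1014_1017 (c : Nat) : Nat := @Bool.rec (fun _ => Nat) (Ptab_1014) (Ptab_s_1015_1017 c) (Nat.ble 1015 c)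
noncomputable def Ptab_s_1017_1019 (c : Nat) : Nat := @Bool.rec (fun _ => Nat) (Ptab_1017) (Ptab_1018) (Nat.ble 1018 c)
noncomputable def Ptab_s_1019_1021 (c : Nat) : Nat := @Bool.rec (fun _ => Nat) (Ptab_1019) (Ptab_1020) (Nat.ble 1020 c)
noncomputable def Ptab_s_1017_1021 (c : Nat) : Nat := @Bool.rec (fun _ => Nat) (Ptab_s_1017_1019 c) (Ptab_s_1019_1021 c) (Nat.ble 1019 c)
noncomputable def Ptab_s_1014_1021 (c : Nat) : Nat := @Bool.rec (fun _ => Nat) (Ptab_s_1014_1017 c) (Ptab_s_1017_1021 c) (Nat.ble 1017 c)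
noncomputable def Ptab_s_1021_1023 (c : Nat) : Nat := @Bool.rec (fun _ => Nat) (Ptab_1021) (Ptab_1022) (Nat.ble 1022 c)
noncomputable def Ptab_s_1023_1025 (c : Nat) : Nat := @Bool.rec (fun _ => Nat) (Ptab_1023) (Ptab_1024) (Nat.ble 1024 c)
noncomputable def Ptab_s_1021_1025 (c : Nat) : Nat := @Bool.rec (fun _ => Nat) (Ptab_s_1021_1023 c) (Ptab_s_1023_1025 c) (Nat.ble 1023 c)
noncomputable def Ptab_s_1025_1027 (c : Nat) : Nat := @Bool.rec (fun _ => Nat) (Ptab_1025) (Ptab_1026) (Nat.ble 1026 c)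
noncomputable def Ptab_s_1027_1029 (c : Nat) : Nat := @Bool.rec (fun _ => Nat) (Ptab_1027) (Ptab_1028) (Nat.ble 1028 c)
noncomputable def Ptab_s_1025_1029 (c : Nat) : Nat := @Bool.rec (fun _ => Nat) (Ptab_s_1025_1027 c) (Ptab_s_1027_1029 c) (Nat.ble 1027 c)
noncomputable def Ptab_s_1021_1029 (c : Nat) : Nat := @Bool.rec (fun _ => Nat) (Ptab_s_1021_1025 c) (Ptab_s_1025_1029 c) (Nat.ble 1025 c)
noncomputable def Ptab_s_1014_1029 (c : Nat) : Nat := @Bool.rec (fun _ => Nat) (Ptab_s_1014_1021 c) (Ptab_s_1021_1029 c) (Nat.ble 1021 c)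
noncomputable def Ptab_s_999_1029 (c : Nat) : Nat := @Bool.rec (fun _ => Nat) (Ptab_s_999_1014 c) (Ptab_s_1014_1029 c) (Nat.ble 1014 c)
noncomputable def Ptab_s_969_1029 (c : Nat) : Nat := @Bool.rec (fun _ => Nat) (Ptab_s_969_999 c) (Ptab_s_999_1029 c) (Nat.ble 999 c)
noncomputable def Ptab_s_1030_1032 (c : Nat) : Nat := @Bool.rec (fun _ => Nat) (Ptab_1030) (Ptab_1031) (Nat.ble 1031 c)
noncomputable def Ptab_s_1029_1032 (c : Nat) : Nat := @Bool.rec (fun _ => Nat) (Ptab_1029) (Ptab_s_1030_1032 c) (Nat.ble 1030 c)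
noncomputable def Ptab_s_1032_1034 (c : Nat) : Nat := @Bool.rec (fun _ => Nat) (Ptab_1032) (Ptab_1033) (Nat.ble 1033 c)
noncomputable def Ptab_s_1034_1036 (c : Nat) : Nat := @Bool.rec (fun _ => Nat) (Ptab_1034) (Ptab_1035) (Nat.ble 1035 c)
noncomputable def Ptab_s_1032_1036 (c : Nat) : Nat := @Bool.rec (fun _ => Nat) (Ptab_s_1032_1034 c) (Ptab_s_1034_1036 c) (Nat.ble 1034 c)
noncomputable def Ptab_s_1029_1036 (c : Nat) : Nat := @Bool.rec (fun _ => Nat) (Ptab_s_1029_1032 c) (Ptab_s_1032_1036 c) (Nat.ble 1032 c)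
noncomputable def Ptab_s_1036_1038 (c : Nat) : Nat := @Bool.rec (fun _ => Nat) (Ptab_1036) (Ptab_1037) (Nat.ble 1037 c)
noncomputable def Ptab_s_1038_1040 (c : Nat) : Nat := @Bool.rec (fun _ => Nat) (Ptab_1038) (Ptab_1039) (Nat.ble 1039 c)
noncomputable def Ptab_s_1036_1040 (c : Nat) : Nat := @Bool.rec (fun _ => Nat) (Ptab_s_1036_1038 c) (Ptab_s_1038_1040 c) (Nat.ble 1038 c)
noncomputable def Ptab_s_1040_1042 (c : Nat) : Nat := @Bool.rec (fun _ => Nat) (Ptab_1040) (Ptab_1041) (Nat.ble 1041 c)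
noncomputable def Ptab_s_1042_1044 (c : Nat) : Nat := @Bool.rec (fun _ => Nat) (Ptab_1042) (Ptab_1043) (Nat.ble 1043 c)
noncomputable def Ptab_s_1040_1044 (c : Nat) : Nat := @Bool.rec (fun _ => Nat) (Ptab_s_1040_1042 c) (Ptab_s_1042_1044 c) (Nat.ble 1042 c)
noncomputable def Ptab_s_1036_1044 (c : Nat) : Nat := @Bool.rec (fun _ => Nat) (Ptab_s_1036_1040 c) (Ptab_s_1040_1044 c) (Nat.ble 1040 c)
noncomputable def Ptab_s_1029_1044 (c : Nat) : Nat := @Bool.rec (fun _ => Nat) (Ptab_s_1029_1036 c) (Ptab_s_1036_1044 c) (Nat.ble 1036 c)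
noncomputable def Ptab_s_1045_1047 (c : Nat) : Nat := @Bool.rec (fun _ => Nat) (Ptab_1045) (Ptab_1046) (Nat.ble 1046 c)
noncomputable def Ptab_s_1044_1047 (c : Nat) : Nat := @Bool.rec (fun _ => Nat) (Ptab_1044) (Ptab_s_1045_1047 c) (Nat.ble 1045 c)
noncomputable def Ptab_s_1047_1049 (c : Nat) : Nat := @Bool.rec (fun _ => Nat) (Ptab_1047) (Ptab_1048) (Nat.ble 1048 c)
noncomputable def Ptab_s_1049_1051 (c : Nat) : Nat := @Bool.rec (fun _ => Nat) (Ptab_1049) (Ptab_1050) (Nat.ble 1050 c)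
noncomputable def Ptab_s_1047_1051 (c : Nat) : Nat := @Bool.rec (fun _ => Nat) (Ptab_s_1047_1049 c) (Ptab_s_1049_1051 c) (Nat.ble 1049 c)
noncomputable def Ptab_s_1044_1051 (c : Nat) : Nat := @Bool.rec (fun _ => Nat) (Ptab_s_1044_1047 c) (Ptab_s_1047_1051 c) (Nat.ble 1047 c)
noncomputable def Ptab_s_1051_1053 (c : Nat) : Nat := @Bool.rec (fun _ => Nat) (Ptab_1051) (Ptab_1052) (Nat.ble 1052 c)
noncomputable def Ptab_s_1053_1055 (c : Nat) : Nat := @Bool.rec (fun _ => Nat) (Ptab_1053) (Ptab_1054) (Nat.ble 1054 c)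
noncomputable def Ptab_s_1051_1055 (c : Nat) : Nat := @Bool.rec (fun _ => Nat) (Ptab_s_1051_1053 c) (Ptab_s_1053_1055 c) (Nat.ble 1053 c)
noncomputable def Ptab_s_1055_1057 (c : Nat) : Nat := @Bool.rec (fun _ => Nat) (Ptab_1055) (Ptab_1056) (Nat.ble 1056 c)
noncomputable def Ptab_s_1057_1059 (c : Nat) : Nat := @Bool.rec (fun _ => Nat) (Ptab_1057) (Ptab_1058) (Nat.ble 1058 c)
noncomputable def Ptab_s_1055_1059 (c : Nat) : Nat := @Bool.rec (fun _ => Nat) (Ptab_s_1055_1057 c) (Ptab_s_1057_1059 c) (Nat.ble 1057 c)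
noncomputable def Ptab_s_1051_1059 (c : Nat) : Nat := @Bool.rec (fun _ => Nat) (Ptab_s_1051_1055 c) (Ptab_s_1055_1059 c) (Nat.ble 1055 c)
noncomputable def Ptab_s_1044_1059 (c : Nat) : Nat := @Bool.rec (fun _ => Nat) (Ptab_s_1044_1051 c) (Ptab_s_1051_1059 c) (Nat.ble 1051 c)
noncomputable def Ptab_s_1029_1059 (c : Nat) : Nat := @Bool.rec (fun _ => Nat) (Ptab_s_1029_1044 c) (Ptab_s_1044_1059 c) (Nat.ble 1044 c)
noncomputable def Ptab_s_1060_1062 (c : Nat) : Nat := @Bool.rec (fun _ => Nat) (Ptab_1060) (Ptab_1061) (Nat.ble 1061 c)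
noncomputable def Ptab_s_1059_1062 (c : Nat) : Nat := @Bool.rec (fun _ => Nat) (Ptab_1059) (Ptab_s_1060_1062 c) (Nat.ble 1060 c)
noncomputable def Ptab_s_1062_1064 (c : Nat) : Nat := @Bool.rec (fun _ => Nat) (Ptab_1062) (Ptab_1063) (Nat.ble 1063 c)
noncomputable def Ptab_s_1064_1066 (c : Nat) : Nat := @Bool.rec (fun _ => Nat) (Ptab_1064) (Ptab_1065) (Nat.ble 1065 c)
noncomputable def Ptab_s_1062_1066 (c : Nat) : Nat := @Bool.rec (fun _ => Nat) (Ptab_s_1062_1064 c) (Ptab_s_1064_1066 c) (Nat.ble 1064 c)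
noncomputable def Ptab_s_1059_1066 (c : Nat) : Nat := @Bool.rec (fun _ => Nat) (Ptab_s_1059_1062 c) (Ptab_s_1062_1066 c) (Nat.ble 1062 c)
noncomputable def Ptab_s_1066_1068 (c : Nat) : Nat := @Bool.rec (fun _ => Nat) (Ptab_1066) (Ptab_1067) (Nat.ble 1067 c)
noncomputable def Ptab_s_1068_1070 (c : Nat) : Nat := @Bool.rec (fun _ => Nat) (Ptab_1068) (Ptab_1069) (Nat.ble 1069 c)
noncomputable def Ptab_s_1066_1070 (c : Nat) : Nat := @Bool.rec (fun _ => Nat) (Ptab_s_1066_1068 c) (Ptab_s_1068_1070 c) (Nat.ble 1068 c)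
noncomputable def Ptab_s_1070_1072 (c : Nat) : Nat := @Bool.rec (fun _ => Nat) (Ptab_1070) (Ptab_1071) (Nat.ble 1071 c)
noncomputable def Ptab_s_1072_1074 (c : Nat) : Nat := @Bool.rec (fun _ => Nat) (Ptab_1072) (Ptab_1073) (Nat.ble 1073 c)
noncomputable def Ptab_s_1070_1074 (c : Nat) : Nat := @Bool.rec (fun _ => Nat) (Ptab_s_1070_1072 c) (Ptab_s_1072_1074 c) (Nat.ble 1072 c)
noncomputable def Ptab_s_1066_1074 (c : Nat) : Nat := @Bool.rec (fun _ => Nat) (Ptab_s_1066_1070 c) (Ptab_s_1070_1074 c) (Nat.ble 1070 c)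
noncomputable def Ptab_s_1059_1074 (c : Nat) : Nat := @Bool.rec (fun _ => Nat) (Ptab_s_1059_1066 c) (Ptab_s_1066_1074 c) (Nat.ble 1066 c)
noncomputable def Ptab_s_1074_1076 (c : Nat) : Nat := @Bool.rec (fun _ => Nat) (Ptab_1074) (Ptab_1075) (Nat.ble 1075 c)
noncomputable def Ptab_s_1076_1078 (c : Nat) : Nat := @Bool.rec (fun _ => Nat) (Ptab_1076) (Ptab_1077) (Nat.ble 1077 c)
noncomputable def Ptab_s_1074_1078 (c : Nat) : Nat := @Bool.rec (fun _ => Nat) (Ptab_s_1074_1076 c) (Ptab_s_1076_1078 c) (Nat.ble 1076 c)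
noncomputable def Ptab_s_1078_1080 (c : Nat) : Nat := @Bool.rec (fun _ => Nat) (Ptab_1078) (Ptab_1079) (Nat.ble 1079 c)
noncomputable def Ptab_s_1080_1082 (c : Nat) : Nat := @Bool.rec (fun _ => Nat) (Ptab_1080) (Ptab_1081) (Nat.ble 1081 c)
noncomputable def Ptab_s_1078_1082 (c : Nat) : Nat := @Bool.rec (fun _ => Nat) (Ptab_s_1078_1080 c) (Ptab_s_1080_1082 c) (Nat.ble 1080 c)
noncomputable def Ptab_s_1074_1082 (c : Nat) : Nat := @Bool.rec (fun _ => Nat) (Ptab_s_1074_1078 c) (Ptab_s_1078_1082 c) (Nat.ble 1078 c)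
noncomputable def Ptab_s_1082_1084 (c : Nat) : Nat := @Bool.rec (fun _ => Nat) (Ptab_1082) (Ptab_1083) (Nat.ble 1083 c)
noncomputable def Ptab_s_1084_1086 (c : Nat) : Nat := @Bool.rec (fun _ => Nat) (Ptab_1084) (Ptab_1085) (Nat.ble 1085 c)
noncomputable def Ptab_s_1082_1086 (c : Nat) : Nat := @Bool.rec (fun _ => Nat) (Ptab_s_1082_1084 c) (Ptab_s_1084_1086 c) (Nat.ble 1084 c)
noncomputable def Ptab_s_1086_1088 (c : Nat) : Nat := @Bool.rec (fun _ => Nat) (Ptab_1086) (Ptab_1087) (Nat.ble 1087 c)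
noncomputable def Ptab_s_1088_1090 (c : Nat) : Nat := @Bool.rec (fun _ => Nat) (Ptab_1088) (Ptab_1089) (Nat.ble 1089 c)
noncomputable def Ptab_s_1086_1090 (c : Nat) : Nat := @Bool.rec (fun _ => Nat) (Ptab_s_1086_1088 c) (Ptab_s_1088_1090 c) (Nat.ble 1088 c)
noncomputable def Ptab_s_1082_1090 (c : Nat) : Nat := @Bool.rec (fun _ => Nat) (Ptab_s_1082_1086 c) (Ptab_s_1086_1090 c) (Nat.ble 1086 c)
noncomputable def Ptab_s_1074_1090 (c : Nat) : Nat := @Bool.rec (fun _ => Nat) (Ptab_s_1074_1082 c) (Ptab_s_1082_1090 c) (Nat.ble 1082 c)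
noncomputable def Ptab_s_1059_1090 (c : Nat) : Nat := @Bool.rec (fun _ => Nat) (Ptab_s_1059_1074 c) (Ptab_s_1074_1090 c) (Nat.ble 1074 c)
noncomputable def Ptab_s_1029_1090 (c : Nat) : Nat := @Bool.rec (fun _ => Nat) (Ptab_s_1029_1059 c) (Ptab_s_1059_1090 c) (Nat.ble 1059 c)
noncomputable def Ptab_s_969_1090 (c : Nat) : Nat := @Bool.rec (fun _ => Nat) (Ptab_s_969_1029 c) (Ptab_s_1029_1090 c) (Nat.ble 1029 c)
noncomputable def Ptab_s_1091_1093 (c : Nat) : Nat := @Bool.rec (fun _ => Nat) (Ptab_1091) (Ptab_1092) (Nat.ble 1092 c)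
noncomputable def Ptab_s_1090_1093 (c : Nat) : Nat := @Bool.rec (fun _ => Nat) (Ptab_1090) (Ptab_s_1091_1093 c) (Nat.ble 1091 c)
noncomputable def Ptab_s_1093_1095 (c : Nat) : Nat := @Bool.rec (fun _ => Nat) (Ptab_1093) (Ptab_1094) (Nat.ble 1094 c)
noncomputable def Ptab_s_1095_1097 (c : Nat) : Nat := @Bool.rec (fun _ => Nat) (Ptab_1095) (Ptab_1096) (Nat.ble 1096 c)
noncomputable def Ptab_s_1093_1097 (c : Nat) : Nat := @Bool.rec (fun _ => Nat) (Ptab_s_1093_1095 c) (Ptab_s_1095_1097 c) (Nat.ble 1095 c)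
noncomputable def Ptab_s_1090_1097 (c : Nat) : Nat := @Bool.rec (fun _ => Nat) (Ptab_s_1090_1093 c) (Ptab_s_1093_1097 c) (Nat.ble 1093 c)
noncomputable def Ptab_s_1097_1099 (c : Nat) : Nat := @Bool.rec (fun _ => Nat) (Ptab_1097) (Ptab_1098) (Nat.ble 1098 c)
noncomputable def Ptab_s_1099_1101 (c : Nat) : Nat := @Bool.rec (fun _ => Nat) (Ptab_1099) (Ptab_1100) (Nat.ble 1100 c)
noncomputable def Ptab_s_1097_1101 (c : Nat) : Nat := @Bool.rec (fun _ => Nat) (Ptab_s_1097_1099 c) (Ptab_s_1099_1101 c) (Nat.ble 1099 c)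
noncomputable def Ptab_s_1101_1103 (c : Nat) : Nat := @Bool.rec (fun _ => Nat) (Ptab_1101) (Ptab_1102) (Nat.ble 1102 c)
noncomputable def Ptab_s_1103_1105 (c : Nat) : Nat := @Bool.rec (fun _ => Nat) (Ptab_1103) (Ptab_1104) (Nat.ble 1104 c)
noncomputable def Ptab_s_1101_1105 (c : Nat) : Nat := @Bool.rec (fun _ => Nat) (Ptab_s_1101_1103 c) (Ptab_s_1103_1105 c) (Nat.ble 1103 c)
noncomputable def Ptab_s_1097_1105 (c : Nat) : Nat := @Bool.rec (fun _ => Nat) (Ptab_s_1097_1101 c) (Ptab_s_1101_1105 c) (Nat.ble 1101 c)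
noncomputable def Ptab_s_1090_1105 (c : Nat) : Nat := @Bool.rec (fun _ => Nat) (Ptab_s_1090_1097 c) (Ptab_s_1097_1105 c) (Nat.ble 1097 c)
noncomputable def Ptab_s_1106_1108 (c : Nat) : Nat := @Bool.rec (fun _ => Nat) (Ptab_1106) (Ptab_1107) (Nat.ble 1107 c)
noncomputable def Ptab_s_1105_1108 (c : Nat) : Nat := @Bool.rec (fun _ => Nat) (Ptab_1105) (Ptab_s_1106_1108 c) (Nat.ble 1106 c)
noncomputable def Ptab_s_1108_1110 (c : Nat) : Nat := @Bool.rec (fun _ => Nat) (Ptab_1108) (Ptab_1109) (Nat.ble 1109 c)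
noncomputable def Ptab_s_1110_1112 (c : Nat) : Nat := @Bool.rec (fun _ => Nat) (Ptab_1110) (Ptab_1111) (Nat.ble 1111 c)
noncomputable def Ptab_s_1108_1112 (c : Nat) : Nat := @Bool.rec (fun _ => Nat) (Ptab_s_1108_1110 c) (Ptab_s_1110_1112 c) (Nat.ble 1110 c)
noncomputable def Ptab_s_1105_1112 (c : Nat) : Nat := @Bool.rec (fun _ => Nat) (Ptab_s_1105_1108 c) (Ptab_s_1108_1112 c) (Nat.ble 1108 c)
noncomputable def Ptab_s_1112_1114 (c : Nat) : Nat := @Bool.rec (fun _ => Nat) (Ptab_1112) (Ptab_1113) (Nat.ble 1113 c)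
noncomputable def Ptab_s_1114_1116 (c : Nat) : Nat := @Bool.rec (fun _ => Nat) (Ptab_1114) (Ptab_1115) (Nat.ble 1115 c)
noncomputable def Ptab_s_1112_1116 (c : Nat) : Nat := @Bool.rec (fun _ => Nat) (Ptab_s_1112_1114 c) (Ptab_s_1114_1116 c) (Nat.ble 1114 c)
noncomputable def Ptab_s_1116_1118 (c : Nat) : Nat := @Bool.rec (fun _ => Nat) (Ptab_1116) (Ptab_1117) (Nat.ble 1117 c)
noncomputable def Ptab_s_1118_1120 (c : Nat) : Nat := @Bool.rec (fun _ => Nat) (Ptab_1118) (Ptab_1119) (Nat.ble 1119 c)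
noncomputable def Ptab_s_1116_1120 (c : Nat) : Nat := @Bool.rec (fun _ => Nat) (Ptab_s_1116_1118 c) (Ptab_s_1118_1120 c) (Nat.ble 1118 c)
noncomputable def Ptab_s_1112_1120 (c : Nat) : Nat := @Bool.rec (fun _ => Nat) (Ptab_s_1112_1116 c) (Ptab_s_1116_1120 c) (Nat.ble 1116 c)
noncomputable def Ptab_s_1105_1120 (c : Nat) : Nat := @Bool.rec (fun _ => Nat) (Ptab_s_1105_1112 c) (Ptab_s_1112_1120 c) (Nat.ble 1112 c)
noncomputable def Ptab_s_1090_1120 (c : Nat) : Nat := @Bool.rec (fun _ => Nat) (Ptab_s_1090_1105 c) (Ptab_s_1105_1120 c) (Nat.ble 1105 c)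
noncomputable def Ptab_s_1121_1123 (c : Nat) : Nat := @Bool.rec (fun _ => Nat) (Ptab_1121) (Ptab_1122) (Nat.ble 1122 c)
noncomputable def Ptab_s_1120_1123 (c : Nat) : Nat := @Bool.rec (fun _ => Nat) (Ptab_1120) (Ptab_s_1121_1123 c) (Nat.ble 1121 c)
noncomputable def Ptab_s_1123_1125 (c : Nat) : Nat := @Bool.rec (fun _ => Nat) (Ptab_1123) (Ptab_1124) (Nat.ble 1124 c)
noncomputable def Ptab_s_1125_1127 (c : Nat) : Nat := @Bool.rec (fun _ => Nat) (Ptab_1125) (Ptab_1126) (Nat.ble 1126 c)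
noncomputable def Ptab_s_1123_1127 (c : Nat) : Nat := @Bool.rec (fun _ => Nat) (Ptab_s_1123_1125 c) (Ptab_s_1125_1127 c) (Nat.ble 1125 c)
noncomputable def Ptab_s_1120_1127 (c : Nat) : Nat := @Bool.rec (fun _ => Nat) (Ptab_s_1120_1123 c) (Ptab_s_1123_1127 c) (Nat.ble 1123 c)
noncomputable def Ptab_s_1127_1129 (c : Nat) : Nat := @Bool.rec (fun _ => Nat) (Ptab_1127) (Ptab_1128) (Nat.ble 1128 c)
noncomputable def Ptab_s_1129_1131 (c : Nat) : Nat := @Bool.rec (fun _ => Nat) (Ptab_1129) (Ptab_1130) (Nat.ble 1130 c)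
noncomputable def Ptab_s_1127_1131 (c : Nat) : Nat := @Bool.rec (fun _ => Nat) (Ptab_s_1127_1129 c) (Ptab_s_1129_1131 c) (Nat.ble 1129 c)
noncomputable def Ptab_s_1131_1133 (c : Nat) : Nat := @Bool.rec (fun _ => Nat) (Ptab_1131) (Ptab_1132) (Nat.ble 1132 c)
noncomputable def Ptab_s_1133_1135 (c : Nat) : Nat := @Bool.rec (fun _ => Nat) (Ptab_1133) (Ptab_1134) (Nat.ble 1134 c)
noncomputable def Ptab_s_1131_1135 (c : Nat) : Nat := @Bool.rec (fun _ => Nat) (Ptab_s_1131_1133 c) (Ptab_s_1133_1135 c) (Nat.ble 1133 c)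
noncomputable def Ptab_s_1127_1135 (c : Nat) : Nat := @Bool.rec (fun _ => Nat) (Ptab_s_1127_1131 c) (Ptab_s_1131_1135 c) (Nat.ble 1131 c)
noncomputable def Ptab_s_1120_1135 (c : Nat) : Nat := @Bool.rec (fun _ => Nat) (Ptab_s_1120_1127 c) (Ptab_s_1127_1135 c) (Nat.ble 1127 c)
noncomputable def Ptab_s_1136_1138 (c : Nat) : Nat := @Bool.rec (fun _ => Nat) (Ptab_1136) (Ptab_1137) (Nat.ble 1137 c)
noncomputable def Ptab_s_1135_1138 (c : Nat) : Nat := @Bool.rec (fun _ => Nat) (Ptab_1135) (Ptab_s_1136_1138 c) (Nat.ble 1136 c)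
noncomputable def Ptab_s_1138_1140 (c : Nat) : Nat := @Bool.rec (fun _ => Nat) (Ptab_1138) (Ptab_1139) (Nat.ble 1139 c)
noncomputable def Ptab_s_1140_1142 (c : Nat) : Nat := @Bool.rec (fun _ => Nat) (Ptab_1140) (Ptab_1141) (Nat.ble 1141 c)
noncomputable def Ptab_s_1138_1142 (c : Nat) : Nat := @Bool.rec (fun _ => Nat) (Ptab_s_1138_1140 c) (Ptab_s_1140_1142 c) (Nat.ble 1140 c)
noncomputable def Ptab_s_1135_1142 (c : Nat) : Nat := @Bool.rec (fun _ => Nat) (Ptab_s_1135_1138 c) (Ptab_s_1138_1142 c) (Nat.ble 1138 c)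
noncomputable def Ptab_s_1142_1144 (c : Nat) : Nat := @Bool.rec (fun _ => Nat) (Ptab_1142) (Ptab_1143) (Nat.ble 1143 c)
noncomputable def Ptab_s_1144_1146 (c : Nat) : Nat := @Bool.rec (fun _ => Nat) (Ptab_1144) (Ptab_1145) (Nat.ble 1145 c)
noncomputable def Ptab_s_1142_1146 (c : Nat) : Nat := @Bool.rec (fun _ => Nat) (Ptab_s_1142_1144 c) (Ptab_s_1144_1146 c) (Nat.ble 1144 c)
noncomputable def Ptab_s_1146_1148 (c : Nat) : Nat := @Bool.rec (fun _ => Nat) (Ptab_1146) (Ptab_1147) (Nat.ble 1147 c)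
noncomputable def Ptab_s_1148_1150 (c : Nat) : Nat := @Bool.rec (fun _ => Nat) (Ptab_1148) (Ptab_1149) (Nat.ble 1149 c)
noncomputable def Ptab_s_1146_1150 (c : Nat) : Nat := @Bool.rec (fun _ => Nat) (Ptab_s_1146_1148 c) (Ptab_s_1148_1150 c) (Nat.ble 1148 c)
noncomputable def Ptab_s_1142_1150 (c : Nat) : Nat := @Bool.rec (fun _ => Nat) (Ptab_s_1142_1146 c) (Ptab_s_1146_1150 c) (Nat.ble 1146 c)
noncomputable def Ptab_s_1135_1150 (c : Nat) : Nat := @Bool.rec (fun _ => Nat) (Ptab_s_1135_1142 c) (Ptab_s_1142_1150 c) (Nat.ble 1142 c)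
noncomputable def Ptab_s_1120_1150 (c : Nat) : Nat := @Bool.rec (fun _ => Nat) (Ptab_s_1120_1135 c) (Ptab_s_1135_1150 c) (Nat.ble 1135 c)
noncomputable def Ptab_s_1090_1150 (c : Nat) : Nat := @Bool.rec (fun _ => Nat) (Ptab_s_1090_1120 c) (Ptab_s_1120_1150 c) (Nat.ble 1120 c)
noncomputable def Ptab_s_1151_1153 (c : Nat) : Nat := @Bool.rec (fun _ => Nat) (Ptab_1151) (Ptab_1152) (Nat.ble 1152 c)
noncomputable def Ptab_s_1150_1153 (c : Nat) : Nat := @Bool.rec (fun _ => Nat) (Ptab_1150) (Ptab_s_1151_1153 c) (Nat.ble 1151 c)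
noncomputable def Ptab_s_1153_1155 (c : Nat) : Nat := @Bool.rec (fun _ => Nat) (Ptab_1153) (Ptab_1154) (Nat.ble 1154 c)
noncomputable def Ptab_s_1155_1157 (c : Nat) : Nat := @Bool.rec (fun _ => Nat) (Ptab_1155) (Ptab_1156) (Nat.ble 1156 c)
noncomputable def Ptab_s_1153_1157 (c : Nat) : Nat := @Bool.rec (fun _ => Nat) (Ptab_s_1153_1155 c) (Ptab_s_1155_1157 c) (Nat.ble 1155 c)
noncomputable def Ptab_s_1150_1157 (c : Nat) : Nat := @Bool.rec (fun _ => Nat) (Ptab_s_1150_1153 c) (Ptab_s_1153_1157 c) (Nat.ble 1153 c)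
noncomputable def Ptab_s_1157_1159 (c : Nat) : Nat := @Bool.rec (fun _ => Nat) (Ptab_1157) (Ptab_1158) (Nat.ble 1158 c)
noncomputable def Ptab_s_1159_1161 (c : Nat) : Nat := @Bool.rec (fun _ => Nat) (Ptab_1159) (Ptab_1160) (Nat.ble 1160 c)
noncomputable def Ptab_s_1157_1161 (c : Nat) : Nat := @Bool.rec (fun _ => Nat) (Ptab_s_1157_1159 c) (Ptab_s_1159_1161 c) (Nat.ble 1159 c)
noncomputable def Ptab_s_1161_1163 (c : Nat) : Nat := @Bool.rec (fun _ => Nat) (Ptab_1161) (Ptab_1162) (Nat.ble 1162 c)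
noncomputable def Ptab_s_1163_1165 (c : Nat) : Nat := @Bool.rec (fun _ => Nat) (Ptab_1163) (Ptab_1164) (Nat.ble 1164 c)
noncomputable def Ptab_s_1161_1165 (c : Nat) : Nat := @Bool.rec (fun _ => Nat) (Ptab_s_1161_1163 c) (Ptab_s_1163_1165 c) (Nat.ble 1163 c)
noncomputable def Ptab_s_1157_1165 (c : Nat) : Nat := @Bool.rec (fun _ => Nat) (Ptab_s_1157_1161 c) (Ptab_s_1161_1165 c) (Nat.ble 1161 c)
noncomputable def Ptab_s_1150_1165 (c : Nat) : Nat := @Bool.rec (fun _ => Nat) (Ptab_s_1150_1157 c) (Ptab_s_1157_1165 c) (Nat.ble 1157 c)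
noncomputable def Ptab_s_1166_1168 (c : Nat) : Nat := @Bool.rec (fun _ => Nat) (Ptab_1166) (Ptab_1167) (Nat.ble 1167 c)
noncomputable def Ptab_s_1165_1168 (c : Nat) : Nat := @Bool.rec (fun _ => Nat) (Ptab_1165) (Ptab_s_1166_1168 c) (Nat.ble 1166 c)
noncomputable def Ptab_s_1168_1170 (c : Nat) : Nat := @Bool.rec (fun _ => Nat) (Ptab_1168) (Ptab_1169) (Nat.ble 1169 c)
noncomputable def Ptab_s_1170_1172 (c : Nat) : Nat := @Bool.rec (fun _ => Nat) (Ptab_1170) (Ptab_1171) (Nat.ble 1171 c)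
noncomputable def Ptab_s_1168_1172 (c : Nat) : Nat := @Bool.rec (fun _ => Nat) (Ptab_s_1168_1170 c) (Ptab_s_1170_1172 c) (Nat.ble 1170 c)
noncomputable def Ptab_s_1165_1172 (c : Nat) : Nat := @Bool.rec (fun _ => Nat) (Ptab_s_1165_1168 c) (Ptab_s_1168_1172 c) (Nat.ble 1168 c)
noncomputable def Ptab_s_1172_1174 (c : Nat) : Nat := @Bool.rec (fun _ => Nat) (Ptab_1172) (Ptab_1173) (Nat.ble 1173 c)
noncomputable def Ptab_s_1174_1176 (c : Nat) : Nat := @Bool.rec (fun _ => Nat) (Ptab_1174) (Ptab_1175) (Nat.ble 1175 c)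
noncomputable def Ptab_s_1172_1176 (c : Nat) : Nat := @Bool.rec (fun _ => Nat) (Ptab_s_1172_1174 c) (Ptab_s_1174_1176 c) (Nat.ble 1174 c)
noncomputable def Ptab_s_1176_1178 (c : Nat) : Nat := @Bool.rec (fun _ => Nat) (Ptab_1176) (Ptab_1177) (Nat.ble 1177 c)
noncomputable def Ptab_s_1178_1180 (c : Nat) : Nat := @Bool.rec (fun _ => Nat) (Ptab_1178) (Ptab_1179) (Nat.ble 1179 c)
noncomputable def Ptab_s_1176_1180 (c : Nat) : Nat := @Bool.rec (fun _ => Nat) (Ptab_s_1176_1178 c) (Ptab_s_1178_1180 c) (Nat.ble 1178 c)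
noncomputable def Ptab_s_1172_1180 (c : Nat) : Nat := @Bool.rec (fun _ => Nat) (Ptab_s_1172_1176 c) (Ptab_s_1176_1180 c) (Nat.ble 1176 c)
noncomputable def Ptab_s_1165_1180 (c : Nat) : Nat := @Bool.rec (fun _ => Nat) (Ptab_s_1165_1172 c) (Ptab_s_1172_1180 c) (Nat.ble 1172 c)
noncomputable def Ptab_s_1150_1180 (c : Nat) : Nat := @Bool.rec (fun _ => Nat) (Ptab_s_1150_1165 c) (Ptab_s_1165_1180 c) (Nat.ble 1165 c)
noncomputable def Ptab_s_1181_1183 (c : Nat) : Nat := @Bool.rec (fun _ => Nat) (Ptab_1181) (Ptab_1182) (Nat.ble 1182 c)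
noncomputable def Ptab_s_1180_1183 (c : Nat) : Nat := @Bool.rec (fun _ => Nat) (Ptab_1180) (Ptab_s_1181_1183 c) (Nat.ble 1181 c)
noncomputable def Ptab_s_1183_1185 (c : Nat) : Nat := @Bool.rec (fun _ => Nat) (Ptab_1183) (Ptab_1184) (Nat.ble 1184 c)
noncomputable def Ptab_s_1185_1187 (c : Nat) : Nat := @Bool.rec (fun _ => Nat) (Ptab_1185) (Ptab_1186) (Nat.ble 1186 c)
noncomputable def Ptab_s_1183_1187 (c : Nat) : Nat := @Bool.rec (fun _ => Nat) (Ptab_s_1183_1185 c) (Ptab_s_1185_1187 c) (Nat.ble 1185 c)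
noncomputable def Ptab_s_1180_1187 (c : Nat) : Nat := @Bool.rec (fun _ => Nat) (Ptab_s_1180_1183 c) (Ptab_s_1183_1187 c) (Nat.ble 1183 c)
noncomputable def Ptab_s_1187_1189 (c : Nat) : Nat := @Bool.rec (fun _ => Nat) (Ptab_1187) (Ptab_1188) (Nat.ble 1188 c)
noncomputable def Ptab_s_1189_1191 (c : Nat) : Nat := @Bool.rec (fun _ => Nat) (Ptab_1189) (Ptab_1190) (Nat.ble 1190 c)
noncomputable def Ptab_s_1187_1191 (c : Nat) : Nat := @Bool.rec (fun _ => Nat) (Ptab_s_1187_1189 c) (Ptab_s_1189_1191 c) (Nat.ble 1189 c)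
noncomputable def Ptab_s_1191_1193 (c : Nat) : Nat := @Bool.rec (fun _ => Nat) (Ptab_1191) (Ptab_1192) (Nat.ble 1192 c)
noncomputable def Ptab_s_1193_1195 (c : Nat) : Nat := @Bool.rec (fun _ => Nat) (Ptab_1193) (Ptab_1194) (Nat.ble 1194 c)
noncomputable def Ptab_s_1191_1195 (c : Nat) : Nat := @Bool.rec (fun _ => Nat) (Ptab_s_1191_1193 c) (Ptab_s_1193_1195 c) (Nat.ble 1193 c)
noncomputable def Ptab_s_1187_1195 (c : Nat) : Nat := @Bool.rec (fun _ => Nat) (Ptab_s_1187_1191 c) (Ptab_s_1191_1195 c) (Nat.ble 1191 c)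
noncomputable def Ptab_s_1180_1195 (c : Nat) : Nat := @Bool.rec (fun _ => Nat) (Ptab_s_1180_1187 c) (Ptab_s_1187_1195 c) (Nat.ble 1187 c)
noncomputable def Ptab_s_1195_1197 (c : Nat) : Nat := @Bool.rec (fun _ => Nat) (Ptab_1195) (Ptab_1196) (Nat.ble 1196 c)
noncomputable def Ptab_s_1197_1199 (c : Nat) : Nat := @Bool.rec (fun _ => Nat) (Ptab_1197) (Ptab_1198) (Nat.ble 1198 c)
noncomputable def Ptab_s_1195_1199 (c : Nat) : Nat := @Bool.rec (fun _ => Nat) (Ptab_s_1195_1197 c) (Ptab_s_1197_1199 c) (Nat.ble 1197 c)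
noncomputable def Ptab_s_1199_1201 (c : Nat) : Nat := @Bool.rec (fun _ => Nat) (Ptab_1199) (Ptab_1200) (Nat.ble 1200 c)
noncomputable def Ptab_s_1201_1203 (c : Nat) : Nat := @Bool.rec (fun _ => Nat) (Ptab_1201) (Ptab_1202) (Nat.ble 1202 c)
noncomputable def Ptab_s_1199_1203 (c : Nat) : Nat := @Bool.rec (fun _ => Nat) (Ptab_s_1199_1201 c) (Ptab_s_1201_1203 c) (Nat.ble 1201 c)
noncomputable def Ptab_s_1195_1203 (c : Nat) : Nat := @Bool.rec (fun _ => Nat) (Ptab_s_1195_1199 c) (Ptab_s_1199_1203 c) (Nat.ble 1199 c)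
noncomputable def Ptab_s_1203_1205 (c : Nat) : Nat := @Bool.rec (fun _ => Nat) (Ptab_1203) (Ptab_1204) (Nat.ble 1204 c)
noncomputable def Ptab_s_1205_1207 (c : Nat) : Nat := @Bool.rec (fun _ => Nat) (Ptab_1205) (Ptab_1206) (Nat.ble 1206 c)
noncomputable def Ptab_s_1203_1207 (c : Nat) : Nat := @Bool.rec (fun _ => Nat) (Ptab_s_1203_1205 c) (Ptab_s_1205_1207 c) (Nat.ble 1205 c)
noncomputable def Ptab_s_1207_1209 (c : Nat) : Nat := @Bool.rec (fun _ => Nat) (Ptab_1207) (Ptab_1208) (Nat.ble 1208 c)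
noncomputable def Ptab_s_1209_1211 (c : Nat) : Nat := @Bool.rec (fun _ => Nat) (Ptab_1209) (Ptab_1210) (Nat.ble 1210 c)
noncomputable def Ptab_s_1207_1211 (c : Nat) : Nat := @Bool.rec (fun _ => Nat) (Ptab_s_1207_1209 c) (Ptab_s_1209_1211 c) (Nat.ble 1209 c)
noncomputable def Ptab_s_1203_1211 (c : Nat) : Nat := @Bool.rec (fun _ => Nat) (Ptab_s_1203_1207 c) (Ptab_s_1207_1211 c) (Nat.ble 1207 c)
noncomputable def Ptab_s_1195_1211 (c : Nat) : Nat := @Bool.rec (fun _ => Nat) (Ptab_s_1195_1203 c) (Ptab_s_1203_1211 c) (Nat.ble 1203 c)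
noncomputable def Ptab_s_1180_1211 (c : Nat) : Nat := @Bool.rec (fun _ => Nat) (Ptab_s_1180_1195 c) (Ptab_s_1195_1211 c) (Nat.ble 1195 c)
noncomputable def Ptab_s_1150_1211 (c : Nat) : Nat := @Bool.rec (fun _ => Nat) (Ptab_s_1150_1180 c) (Ptab_s_1180_1211 c) (Nat.ble 1180 c)
noncomputable def Ptab_s_1090_1211 (c : Nat) : Nat := @Bool.rec (fun _ => Nat) (Ptab_s_1090_1150 c) (Ptab_s_1150_1211 c) (Nat.ble 1150 c)
noncomputable def Ptab_s_969_1211 (c : Nat) : Nat := @Bool.rec (fun _ => Nat) (Ptab_s_969_1090 c) (Ptab_s_1090_1211 c) (Nat.ble 1090 c)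
noncomputable def Ptab_s_1212_1214 (c : Nat) : Nat := @Bool.rec (fun _ => Nat) (Ptab_1212) (Ptab_1213) (Nat.ble 1213 c)
noncomputable def Ptab_s_1211_1214 (c : Nat) : Nat := @Bool.rec (fun _ => Nat) (Ptab_1211) (Ptab_s_1212_1214 c) (Nat.ble 1212 c)
noncomputable def Ptab_s_1214_1216 (c : Nat) : Nat := @Bool.rec (fun _ => Nat) (Ptab_1214) (Ptab_1215) (Nat.ble 1215 c)
noncomputable def Ptab_s_1216_1218 (c : Nat) : Nat := @Bool.rec (fun _ => Nat) (Ptab_1216) (Ptab_1217) (Nat.ble 1217 c)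
noncomputable def Ptab_s_1214_1218 (c : Nat) : Nat := @Bool.rec (fun _ => Nat) (Ptab_s_1214_1216 c) (Ptab_s_1216_1218 c) (Nat.ble 1216 c)
noncomputable def Ptab_s_1211_1218 (c : Nat) : Nat := @Bool.rec (fun _ => Nat) (Ptab_s_1211_1214 c) (Ptab_s_1214_1218 c) (Nat.ble 1214 c)
noncomputable def Ptab_s_1218_1220 (c : Nat) : Nat := @Bool.rec (fun _ => Nat) (Ptab_1218) (Ptab_1219) (Nat.ble 1219 c)
noncomputable def Ptab_s_1220_1222 (c : Nat) : Nat := @Bool.rec (fun _ => Nat) (Ptab_1220) (Ptab_1221) (Nat.ble 1221 c)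
noncomputable def Ptab_s_1218_1222 (c : Nat) : Nat := @Bool.rec (fun _ => Nat) (Ptab_s_1218_1220 c) (Ptab_s_1220_1222 c) (Nat.ble 1220 c)
noncomputable def Ptab_s_1222_1224 (c : Nat) : Nat := @Bool.rec (fun _ => Nat) (Ptab_1222) (Ptab_1223) (Nat.ble 1223 c)
noncomputable def Ptab_s_1224_1226 (c : Nat) : Nat := @Bool.rec (fun _ => Nat) (Ptab_1224) (Ptab_1225) (Nat.ble 1225 c)
noncomputable def Ptab_s_1222_1226 (c : Nat) : Nat := @Bool.rec (fun _ => Nat) (Ptab_s_1222_1224 c) (Ptab_s_1224_1226 c) (Nat.ble 1224 c)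
noncomputable def Ptab_s_1218_1226 (c : Nat) : Nat := @Bool.rec (fun _ => Nat) (Ptab_s_1218_1222 c) (Ptab_s_1222_1226 c) (Nat.ble 1222 c)
noncomputable def Ptab_s_1211_1226 (c : Nat) : Nat := @Bool.rec (fun _ => Nat) (Ptab_s_1211_1218 c) (Ptab_s_1218_1226 c) (Nat.ble 1218 c)
noncomputable def Ptab_s_1227_1229 (c : Nat) : Nat := @Bool.rec (fun _ => Nat) (Ptab_1227) (Ptab_1228) (Nat.ble 1228 c)
noncomputable def Ptab_s_1226_1229 (c : Nat) : Nat := @Bool.rec (fun _ => Nat) (Ptab_1226) (Ptab_s_1227_1229 c) (Nat.ble 1227 c)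
noncomputable def Ptab_s_1229_1231 (c : Nat) : Nat := @Bool.rec (fun _ => Nat) (Ptab_1229) (Ptab_1230) (Nat.ble 1230 c)
noncomputable def Ptab_s_1231_1233 (c : Nat) : Nat := @Bool.rec (fun _ => Nat) (Ptab_1231) (Ptab_1232) (Nat.ble 1232 c)
noncomputable def Ptab_s_1229_1233 (c : Nat) : Nat := @Bool.rec (fun _ => Nat) (Ptab_s_1229_1231 c) (Ptab_s_1231_1233 c) (Nat.ble 1231 c)
noncomputable def Ptab_s_1226_1233 (c : Nat) : Nat := @Bool.rec (fun _ => Nat) (Ptab_s_1226_1229 c) (Ptab_s_1229_1233 c) (Nat.ble 1229 c)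
noncomputable def Ptab_s_1233_1235 (c : Nat) : Nat := @Bool.rec (fun _ => Nat) (Ptab_1233) (Ptab_1234) (Nat.ble 1234 c)
noncomputable def Ptab_s_1235_1237 (c : Nat) : Nat := @Bool.rec (fun _ => Nat) (Ptab_1235) (Ptab_1236) (Nat.ble 1236 c)
noncomputable def Ptab_s_1233_1237 (c : Nat) : Nat := @Bool.rec (fun _ => Nat) (Ptab_s_1233_1235 c) (Ptab_s_1235_1237 c) (Nat.ble 1235 c)
noncomputable def Ptab_s_1237_1239 (c : Nat) : Nat := @Bool.rec (fun _ => Nat) (Ptab_1237) (Ptab_1238) (Nat.ble 1238 c)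
noncomputable def Ptab_s_1239_1241 (c : Nat) : Nat := @Bool.rec (fun _ => Nat) (Ptab_1239) (Ptab_1240) (Nat.ble 1240 c)
noncomputable def Ptab_s_1237_1241 (c : Nat) : Nat := @Bool.rec (fun _ => Nat) (Ptab_s_1237_1239 c) (Ptab_s_1239_1241 c) (Nat.ble 1239 c)
noncomputable def Ptab_s_1233_1241 (c : Nat) : Nat := @Bool.rec (fun _ => Nat) (Ptab_s_1233_1237 c) (Ptab_s_1237_1241 c) (Nat.ble 1237 c)
noncomputable def Ptab_s_1226_1241 (c : Nat) : Nat := @Bool.rec (fun _ => Nat) (Ptab_s_1226_1233 c) (Ptab_s_1233_1241 c) (Nat.ble 1233 c)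
noncomputable def Ptab_s_1211_1241 (c : Nat) : Nat := @Bool.rec (fun _ => Nat) (Ptab_s_1211_1226 c) (Ptab_s_1226_1241 c) (Nat.ble 1226 c)
noncomputable def Ptab_s_1242_1244 (c : Nat) : Nat := @Bool.rec (fun _ => Nat) (Ptab_1242) (Ptab_1243) (Nat.ble 1243 c)
noncomputable def Ptab_s_1241_1244 (c : Nat) : Nat := @Bool.rec (fun _ => Nat) (Ptab_1241) (Ptab_s_1242_1244 c) (Nat.ble 1242 c)
noncomputable def Ptab_s_1244_1246 (c : Nat) : Nat := @Bool.rec (fun _ => Nat) (Ptab_1244) (Ptab_1245) (Nat.ble 1245 c)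
noncomputable def Ptab_s_1246_1248 (c : Nat) : Nat := @Bool.rec (fun _ => Nat) (Ptab_1246) (Ptab_1247) (Nat.ble 1247 c)
noncomputable def Ptab_s_1244_1248 (c : Nat) : Nat := @Bool.rec (fun _ => Nat) (Ptab_s_1244_1246 c) (Ptab_s_1246_1248 c) (Nat.ble 1246 c)
noncomputable def Ptab_s_1241_1248 (c : Nat) : Nat := @Bool.rec (fun _ => Nat) (Ptab_s_1241_1244 c) (Ptab_s_1244_1248 c) (Nat.ble 1244 c)
noncomputable def Ptab_s_1248_1250 (c : Nat) : Nat := @Bool.rec (fun _ => Nat) (Ptab_1248) (Ptab_1249) (Nat.ble 1249 c)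
noncomputable def Ptab_s_1250_1252 (c : Nat) : Nat := @Bool.rec (fun _ => Nat) (Ptab_1250) (Ptab_1251) (Nat.ble 1251 c)
noncomputable def Ptab_s_1248_1252 (c : Nat) : Nat := @Bool.rec (fun _ => Nat) (Ptab_s_1248_1250 c) (Ptab_s_1250_1252 c) (Nat.ble 1250 c)
noncomputable def Ptab_s_1252_1254 (c : Nat) : Nat := @Bool.rec (fun _ => Nat) (Ptab_1252) (Ptab_1253) (Nat.ble 1253 c)
noncomputable def Ptab_s_1254_1256 (c : Nat) : Nat := @Bool.rec (fun _ => Nat) (Ptab_1254) (Ptab_1255) (Nat.ble 1255 c)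
noncomputable def Ptab_s_1252_1256 (c : Nat) : Nat := @Bool.rec (fun _ => Nat) (Ptab_s_1252_1254 c) (Ptab_s_1254_1256 c) (Nat.ble 1254 c)
noncomputable def Ptab_s_1248_1256 (c : Nat) : Nat := @Bool.rec (fun _ => Nat) (Ptab_s_1248_1252 c) (Ptab_s_1252_1256 c) (Nat.ble 1252 c)
noncomputable def Ptab_s_1241_1256 (c : Nat) : Nat := @Bool.rec (fun _ => Nat) (Ptab_s_1241_1248 c) (Ptab_s_1248_1256 c) (Nat.ble 1248 c)
noncomputable def Ptab_s_1257_1259 (c : Nat) : Nat := @Bool.rec (fun _ => Nat) (Ptab_1257) (Ptab_1258) (Nat.ble 1258 c)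
noncomputable def Ptab_s_1256_1259 (c : Nat) : Nat := @Bool.rec (fun _ => Nat) (Ptab_1256) (Ptab_s_1257_1259 c) (Nat.ble 1257 c)
noncomputable def Ptab_s_1259_1261 (c : Nat) : Nat := @Bool.rec (fun _ => Nat) (Ptab_1259) (Ptab_1260) (Nat.ble 1260 c)
noncomputable def Ptab_s_1261_1263 (c : Nat) : Nat := @Bool.rec (fun _ => Nat) (Ptab_1261) (Ptab_1262) (Nat.ble 1262 c)
noncomputable def Ptab_s_1259_1263 (c : Nat) : Nat := @Bool.rec (fun _ => Nat) (Ptab_s_1259_1261 c) (Ptab_s_1261_1263 c) (Nat.ble 1261 c)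
noncomputable def Ptab_s_1256_1263 (c : Nat) : Nat := @Bool.rec (fun _ => Nat) (Ptab_s_1256_1259 c) (Ptab_s_1259_1263 c) (Nat.ble 1259 c)
noncomputable def Ptab_s_1263_1265 (c : Nat) : Nat := @Bool.rec (fun _ => Nat) (Ptab_1263) (Ptab_1264) (Nat.ble 1264 c)
noncomputable def Ptab_s_1265_1267 (c : Nat) : Nat := @Bool.rec (fun _ => Nat) (Ptab_1265) (Ptab_1266) (Nat.ble 1266 c)
noncomputable def Ptab_s_1263_1267 (c : Nat) : Nat := @Bool.rec (fun _ => Nat) (Ptab_s_1263_1265 c) (Ptab_s_1265_1267 c) (Nat.ble 1265 c)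
noncomputable def Ptab_s_1267_1269 (c : Nat) : Nat := @Bool.rec (fun _ => Nat) (Ptab_1267) (Ptab_1268) (Nat.ble 1268 c)
noncomputable def Ptab_s_1269_1271 (c : Nat) : Nat := @Bool.rec (fun _ => Nat) (Ptab_1269) (Ptab_1270) (Nat.ble 1270 c)
noncomputable def Ptab_s_1267_1271 (c : Nat) : Nat := @Bool.rec (fun _ => Nat) (Ptab_s_1267_1269 c) (Ptab_s_1269_1271 c) (Nat.ble 1269 c)
noncomputable def Ptab_s_1263_1271 (c : Nat) : Nat := @Bool.rec (fun _ => Nat) (Ptab_s_1263_1267 c) (Ptab_s_1267_1271 c) (Nat.ble 1267 c)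
noncomputable def Ptab_s_1256_1271 (c : Nat) : Nat := @Bool.rec (fun _ => Nat) (Ptab_s_1256_1263 c) (Ptab_s_1263_1271 c) (Nat.ble 1263 c)
noncomputable def Ptab_s_1241_1271 (c : Nat) : Nat := @Bool.rec (fun _ => Nat) (Ptab_s_1241_1256 c) (Ptab_s_1256_1271 c) (Nat.ble 1256 c)
noncomputable def Ptab_s_1211_1271 (c : Nat) : Nat := @Bool.rec (fun _ => Nat) (Ptab_s_1211_1241 c) (Ptab_s_1241_1271 c) (Nat.ble 1241 c)
noncomputable def Ptab_s_1272_1274 (c : Nat) : Nat := @Bool.rec (fun _ => Nat) (Ptab_1272) (Ptab_1273) (Nat.ble 1273 c)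
noncomputable def Ptab_s_1271_1274 (c : Nat) : Nat := @Bool.rec (fun _ => Nat) (Ptab_1271) (Ptab_s_1272_1274 c) (Nat.ble 1272 c)
noncomputable def Ptab_s_1274_1276 (c : Nat) : Nat := @Bool.rec (fun _ => Nat) (Ptab_1274) (Ptab_1275) (Nat.ble 1275 c)
noncomputable def Ptab_s_1276_1278 (c : Nat) : Nat := @Bool.rec (fun _ => Nat) (Ptab_1276) (Ptab_1277) (Nat.ble 1277 c)
noncomputable def Ptab_s_1274_1278 (c : Nat) : Nat := @Bool.rec (fun _ => Nat) (Ptab_s_1274_1276 c) (Ptab_s_1276_1278 c) (Nat.ble 1276 c)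
noncomputable def Ptab_s_1271_1278 (c : Nat) : Nat := @Bool.rec (fun _ => Nat) (Ptab_s_1271_1274 c) (Ptab_s_1274_1278 c) (Nat.ble 1274 c)
noncomputable def Ptab_s_1278_1280 (c : Nat) : Nat := @Bool.rec (fun _ => Nat) (Ptab_1278) (Ptab_1279) (Nat.ble 1279 c)
noncomputable def Ptab_s_1280_1282 (c : Nat) : Nat := @Bool.rec (fun _ => Nat) (Ptab_1280) (Ptab_1281) (Nat.ble 1281 c)
noncomputable def Ptab_s_1278_1282 (c : Nat) : Nat := @Bool.rec (fun _ => Nat) (Ptab_s_1278_1280 c) (Ptab_s_1280_1282 c) (Nat.ble 1280 c)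
noncomputable def Ptab_s_1282_1284 (c : Nat) : Nat := @Bool.rec (fun _ => Nat) (Ptab_1282) (Ptab_1283) (Nat.ble 1283 c)
noncomputable def Ptab_s_1284_1286 (c : Nat) : Nat := @Bool.rec (fun _ => Nat) (Ptab_1284) (Ptab_1285) (Nat.ble 1285 c)
noncomputable def Ptab_s_1282_1286 (c : Nat) : Nat := @Bool.rec (fun _ => Nat) (Ptab_s_1282_1284 c) (Ptab_s_1284_1286 c) (Nat.ble 1284 c)
noncomputable def Ptab_s_1278_1286 (c : Nat) : Nat := @Bool.rec (fun _ => Nat) (Ptab_s_1278_1282 c) (Ptab_s_1282_1286 c) (Nat.ble 1282 c)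
noncomputable def Ptab_s_1271_1286 (c : Nat) : Nat := @Bool.rec (fun _ => Nat) (Ptab_s_1271_1278 c) (Ptab_s_1278_1286 c) (Nat.ble 1278 c)
noncomputable def Ptab_s_1287_1289 (c : Nat) : Nat := @Bool.rec (fun _ => Nat) (Ptab_1287) (Ptab_1288) (Nat.ble 1288 c)
noncomputable def Ptab_s_1286_1289 (c : Nat) : Nat := @Bool.rec (fun _ => Nat) (Ptab_1286) (Ptab_s_1287_1289 c) (Nat.ble 1287 c)
noncomputable def Ptab_s_1289_1291 (c : Nat) : Nat := @Bool.rec (fun _ => Nat) (Ptab_1289) (Ptab_1290) (Nat.ble 1290 c)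
noncomputable def Ptab_s_1291_1293 (c : Nat) : Nat := @Bool.rec (fun _ => Nat) (Ptab_1291) (Ptab_1292) (Nat.ble 1292 c)
noncomputable def Ptab_s_1289_1293 (c : Nat) : Nat := @Bool.rec (fun _ => Nat) (Ptab_s_1289_1291 c) (Ptab_s_1291_1293 c) (Nat.ble 1291 c)
noncomputable def Ptab_s_1286_1293 (c : Nat) : Nat := @Bool.rec (fun _ => Nat) (Ptab_s_1286_1289 c) (Ptab_s_1289_1293 c) (Nat.ble 1289 c)
noncomputable def Ptab_s_1293_1295 (c : Nat) : Nat := @Bool.rec (fun _ => Nat) (Ptab_1293) (Ptab_1294) (Nat.ble 1294 c)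
noncomputable def Ptab_s_1295_1297 (c : Nat) : Nat := @Bool.rec (fun _ => Nat) (Ptab_1295) (Ptab_1296) (Nat.ble 1296 c)
noncomputable def Ptab_s_1293_1297 (c : Nat) : Nat := @Bool.rec (fun _ => Nat) (Ptab_s_1293_1295 c) (Ptab_s_1295_1297 c) (Nat.ble 1295 c)
noncomputable def Ptab_s_1297_1299 (c : Nat) : Nat := @Bool.rec (fun _ => Nat) (Ptab_1297) (Ptab_1298) (Nat.ble 1298 c)
noncomputable def Ptab_s_1299_1301 (c : Nat) : Nat := @Bool.rec (fun _ => Nat) (Ptab_1299) (Ptab_1300) (Nat.ble 1300 c)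
noncomputable def Ptab_s_1297_1301 (c : Nat) : Nat := @Bool.rec (fun _ => Nat) (Ptab_s_1297_1299 c) (Ptab_s_1299_1301 c) (Nat.ble 1299 c)
noncomputable def Ptab_s_1293_1301 (c : Nat) : Nat := @Bool.rec (fun _ => Nat) (Ptab_s_1293_1297 c) (Ptab_s_1297_1301 c) (Nat.ble 1297 c)
noncomputable def Ptab_s_1286_1301 (c : Nat) : Nat := @Bool.rec (fun _ => Nat) (Ptab_s_1286_1293 c) (Ptab_s_1293_1301 c) (Nat.ble 1293 c)
noncomputable def Ptab_s_1271_1301 (c : Nat) : Nat := @Bool.rec (fun _ => Nat) (Ptab_s_1271_1286 c) (Ptab_s_1286_1301 c) (Nat.ble 1286 c)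
noncomputable def Ptab_s_1302_1304 (c : Nat) : Nat := @Bool.rec (fun _ => Nat) (Ptab_1302) (Ptab_1303) (Nat.ble 1303 c)
noncomputable def Ptab_s_1301_1304 (c : Nat) : Nat := @Bool.rec (fun _ => Nat) (Ptab_1301) (Ptab_s_1302_1304 c) (Nat.ble 1302 c)
noncomputable def Ptab_s_1304_1306 (c : Nat) : Nat := @Bool.rec (fun _ => Nat) (Ptab_1304) (Ptab_1305) (Nat.ble 1305 c)
noncomputable def Ptab_s_1306_1308 (c : Nat) : Nat := @Bool.rec (fun _ => Nat) (Ptab_1306) (Ptab_1307) (Nat.ble 1307 c)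
noncomputable def Ptab_s_1304_1308 (c : Nat) : Nat := @Bool.rec (fun _ => Nat) (Ptab_s_1304_1306 c) (Ptab_s_1306_1308 c) (Nat.ble 1306 c)
noncomputable def Ptab_s_1301_1308 (c : Nat) : Nat := @Bool.rec (fun _ => Nat) (Ptab_s_1301_1304 c) (Ptab_s_1304_1308 c) (Nat.ble 1304 c)
noncomputable def Ptab_s_1308_1310 (c : Nat) : Nat := @Bool.rec (fun _ => Nat) (Ptab_1308) (Ptab_1309) (Nat.ble 1309 c)
noncomputable def Ptab_s_1310_1312 (c : Nat) : Nat := @Bool.rec (fun _ => Nat) (Ptab_1310) (Ptab_1311) (Nat.ble 1311 c)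
noncomputable def Ptab_s_1308_1312 (c : Nat) : Nat := @Bool.rec (fun _ => Nat) (Ptab_s_1308_1310 c) (Ptab_s_1310_1312 c) (Nat.ble 1310 c)
noncomputable def Ptab_s_1312_1314 (c : Nat) : Nat := @Bool.rec (fun _ => Nat) (Ptab_1312) (Ptab_1313) (Nat.ble 1313 c)
noncomputable def Ptab_s_1314_1316 (c : Nat) : Nat := @Bool.rec (fun _ => Nat) (Ptab_1314) (Ptab_1315) (Nat.ble 1315 c)
noncomputable def Ptab_s_1312_1316 (c : Nat) : Nat := @Bool.rec (fun _ => Nat) (Ptab_s_1312_1314 c) (Ptab_s_1314_1316 c) (Nat.ble 1314 c)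
noncomputable def Ptab_s_1308_1316 (c : Nat) : Nat := @Bool.rec (fun _ => Nat) (Ptab_s_1308_1312 c) (Ptab_s_1312_1316 c) (Nat.ble 1312 c)
noncomputable def Ptab_s_1301_1316 (c : Nat) : Nat := @Bool.rec (fun _ => Nat) (Ptab_s_1301_1308 c) (Ptab_s_1308_1316 c) (Nat.ble 1308 c)
noncomputable def Ptab_s_1316_1318 (c : Nat) : Nat := @Bool.rec (fun _ => Nat) (Ptab_1316) (Ptab_1317) (Nat.ble 1317 c)
noncomputable def Ptab_s_1318_1320 (c : Nat) : Nat := @Bool.rec (fun _ => Nat) (Ptab_1318) (Ptab_1319) (Nat.ble 1319 c)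
noncomputable def Ptab_s_1316_1320 (c : Nat) : Nat := @Bool.rec (fun _ => Nat) (Ptab_s_1316_1318 c) (Ptab_s_1318_1320 c) (Nat.ble 1318 c)
noncomputable def Ptab_s_1320_1322 (c : Nat) : Nat := @Bool.rec (fun _ => Nat) (Ptab_1320) (Ptab_1321) (Nat.ble 1321 c)
noncomputable def Ptab_s_1322_1324 (c : Nat) : Nat := @Bool.rec (fun _ => Nat) (Ptab_1322) (Ptab_1323) (Nat.ble 1323 c)
noncomputable def Ptab_s_1320_1324 (c : Nat) : Nat := @Bool.rec (fun _ => Nat) (Ptab_s_1320_1322 c) (Ptab_s_1322_1324 c) (Nat.ble 1322 c)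
noncomputable def Ptab_s_1316_1324 (c : Nat) : Nat := @Bool.rec (fun _ => Nat) (Ptab_s_1316_1320 c) (Ptab_s_1320_1324 c) (Nat.ble 1320 c)
noncomputable def Ptab_s_1324_1326 (c : Nat) : Nat := @Bool.rec (fun _ => Nat) (Ptab_1324) (Ptab_1325) (Nat.ble 1325 c)
noncomputable def Ptab_s_1326_1328 (c : Nat) : Nat := @Bool.rec (fun _ => Nat) (Ptab_1326) (Ptab_1327) (Nat.ble 1327 c)
noncomputable def Ptab_s_1324_1328 (c : Nat) : Nat := @Bool.rec (fun _ => Nat) (Ptab_s_1324_1326 c) (Ptab_s_1326_1328 c) (Nat.ble 1326 c)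
noncomputable def Ptab_s_1328_1330 (c : Nat) : Nat := @Bool.rec (fun _ => Nat) (Ptab_1328) (Ptab_1329) (Nat.ble 1329 c)
noncomputable def Ptab_s_1330_1332 (c : Nat) : Nat := @Bool.rec (fun _ => Nat) (Ptab_1330) (Ptab_1331) (Nat.ble 1331 c)
noncomputable def Ptab_s_1328_1332 (c : Nat) : Nat := @Bool.rec (fun _ => Nat) (Ptab_s_1328_1330 c) (Ptab_s_1330_1332 c) (Nat.ble 1330 c)
noncomputable def Ptab_s_1324_1332 (c : Nat) : Nat := @Bool.rec (fun _ => Nat) (Ptab_s_1324_1328 c) (Ptab_s_1328_1332 c) (Nat.ble 1328 c)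
noncomputable def Ptab_s_1316_1332 (c : Nat) : Nat := @Bool.rec (fun _ => Nat) (Ptab_s_1316_1324 c) (Ptab_s_1324_1332 c) (Nat.ble 1324 c)
noncomputable def Ptab_s_1301_1332 (c : Nat) : Nat := @Bool.rec (fun _ => Nat) (Ptab_s_1301_1316 c) (Ptab_s_1316_1332 c) (Nat.ble 1316 c)
noncomputable def Ptab_s_1271_1332 (c : Nat) : Nat := @Bool.rec (fun _ => Nat) (Ptab_s_1271_1301 c) (Ptab_s_1301_1332 c) (Nat.ble 1301 c)
noncomputable def Ptab_s_1211_1332 (c : Nat) : Nat := @Bool.rec (fun _ => Nat) (Ptab_s_1211_1271 c) (Ptab_s_1271_1332 c) (Nat.ble 1271 c)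
noncomputable def Ptab_s_1333_1335 (c : Nat) : Nat := @Bool.rec (fun _ => Nat) (Ptab_1333) (Ptab_1334) (Nat.ble 1334 c)
noncomputable def Ptab_s_1332_1335 (c : Nat) : Nat := @Bool.rec (fun _ => Nat) (Ptab_1332) (Ptab_s_1333_1335 c) (Nat.ble 1333 c)
noncomputable def Ptab_s_1335_1337 (c : Nat) : Nat := @Bool.rec (fun _ => Nat) (Ptab_1335) (Ptab_1336) (Nat.ble 1336 c)
noncomputable def Ptab_s_1337_1339 (c : Nat) : Nat := @Bool.rec (fun _ => Nat) (Ptab_1337) (Ptab_1338) (Nat.ble 1338 c)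
noncomputable def Ptab_s_1335_1339 (c : Nat) : Nat := @Bool.rec (fun _ => Nat) (Ptab_s_1335_1337 c) (Ptab_s_1337_1339 c) (Nat.ble 1337 c)
noncomputable def Ptab_s_1332_1339 (c : Nat) : Nat := @Bool.rec (fun _ => Nat) (Ptab_s_1332_1335 c) (Ptab_s_1335_1339 c) (Nat.ble 1335 c)
noncomputable def Ptab_s_1339_1341 (c : Nat) : Nat := @Bool.rec (fun _ => Nat) (Ptab_1339) (Ptab_1340) (Nat.ble 1340 c)
noncomputable def Ptab_s_1341_1343 (c : Nat) : Nat := @Bool.rec (fun _ => Nat) (Ptab_1341) (Ptab_1342) (Nat.ble 1342 c)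
noncomputable def Ptab_s_1339_1343 (c : Nat) : Nat := @Bool.rec (fun _ => Nat) (Ptab_s_1339_1341 c) (Ptab_s_1341_1343 c) (Nat.ble 1341 c)
noncomputable def Ptab_s_1343_1345 (c : Nat) : Nat := @Bool.rec (fun _ => Nat) (Ptab_1343) (Ptab_1344) (Nat.ble 1344 c)
noncomputable def Ptab_s_1345_1347 (c : Nat) : Nat := @Bool.rec (fun _ => Nat) (Ptab_1345) (Ptab_1346) (Nat.ble 1346 c)
noncomputable def Ptab_s_1343_1347 (c : Nat) : Nat := @Bool.rec (fun _ => Nat) (Ptab_s_1343_1345 c) (Ptab_s_1345_1347 c) (Nat.ble 1345 c)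
noncomputable def Ptab_s_1339_1347 (c : Nat) : Nat := @Bool.rec (fun _ => Nat) (Ptab_s_1339_1343 c) (Ptab_s_1343_1347 c) (Nat.ble 1343 c)
noncomputable def Ptab_s_1332_1347 (c : Nat) : Nat := @Bool.rec (fun _ => Nat) (Ptab_s_1332_1339 c) (Ptab_s_1339_1347 c) (Nat.ble 1339 c)
noncomputable def Ptab_s_1348_1350 (c : Nat) : Nat := @Bool.rec (fun _ => Nat) (Ptab_1348) (Ptab_1349) (Nat.ble 1349 c)
noncomputable def Ptab_s_1347_1350 (c : Nat) : Nat := @Bool.rec (fun _ => Nat) (Ptab_1347) (Ptab_s_1348_1350 c) (Nat.ble 1348 c)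
noncomputable def Ptab_s_1350_1352 (c : Nat) : Nat := @Bool.rec (fun _ => Nat) (Ptab_1350) (Ptab_1351) (Nat.ble 1351 c)
noncomputable def Ptab_s_1352_1354 (c : Nat) : Nat := @Bool.rec (fun _ => Nat) (Ptab_1352) (Ptab_1353) (Nat.ble 1353 c)
noncomputable def Ptab_s_1350_1354 (c : Nat) : Nat := @Bool.rec (fun _ => Nat) (Ptab_s_1350_1352 c) (Ptab_s_1352_1354 c) (Nat.ble 1352 c)
noncomputable def Ptab_s_1347_1354 (c : Nat) : Nat := @Bool.rec (fun _ => Nat) (Ptab_s_1347_1350 c) (Ptab_s_1350_1354 c) (Nat.ble 1350 c)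
noncomputable def Ptab_s_1354_1356 (c : Nat) : Nat := @Bool.rec (fun _ => Nat) (Ptab_1354) (Ptab_1355) (Nat.ble 1355 c)
noncomputable def Ptab_s_1356_1358 (c : Nat) : Nat := @Bool.rec (fun _ => Nat) (Ptab_1356) (Ptab_1357) (Nat.ble 1357 c)
noncomputable def Ptab_s_1354_1358 (c : Nat) : Nat := @Bool.rec (fun _ => Nat) (Ptab_s_1354_1356 c) (Ptab_s_1356_1358 c) (Nat.ble 1356 c)
noncomputable def Ptab_s_1358_1360 (c : Nat) : Nat := @Bool.rec (fun _ => Nat) (Ptab_1358) (Ptab_1359) (Nat.ble 1359 c)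
noncomputable def Ptab_s_1360_1362 (c : Nat) : Nat := @Bool.rec (fun _ => Nat) (Ptab_1360) (Ptab_1361) (Nat.ble 1361 c)
noncomputable def Ptab_s_1358_1362 (c : Nat) : Nat := @Bool.rec (fun _ => Nat) (Ptab_s_1358_1360 c) (Ptab_s_1360_1362 c) (Nat.ble 1360 c)
noncomputable def Ptab_s_1354_1362 (c : Nat) : Nat := @Bool.rec (fun _ => Nat) (Ptab_s_1354_1358 c) (Ptab_s_1358_1362 c) (Nat.ble 1358 c)
noncomputable def Ptab_s_1347_1362 (c : Nat) : Nat := @Bool.rec (fun _ => Nat) (Ptab_s_1347_1354 c) (Ptab_s_1354_1362 c) (Nat.ble 1354 c)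
noncomputable def Ptab_s_1332_1362 (c : Nat) : Nat := @Bool.rec (fun _ => Nat) (Ptab_s_1332_1347 c) (Ptab_s_1347_1362 c) (Nat.ble 1347 c)
noncomputable def Ptab_s_1363_1365 (c : Nat) : Nat := @Bool.rec (fun _ => Nat) (Ptab_1363) (Ptab_1364) (Nat.ble 1364 c)
noncomputable def Ptab_s_1362_1365 (c : Nat) : Nat := @Bool.rec (fun _ => Nat) (Ptab_1362) (Ptab_s_1363_1365 c) (Nat.ble 1363 c)
noncomputable def Ptab_s_1365_1367 (c : Nat) : Nat := @Bool.rec (fun _ => Nat) (Ptab_1365) (Ptab_1366) (Nat.ble 1366 c)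
noncomputable def Ptab_s_1367_1369 (c : Nat) : Nat := @Bool.rec (fun _ => Nat) (Ptab_1367) (Ptab_1368) (Nat.ble 1368 c)
noncomputable def Ptab_s_1365_1369 (c : Nat) : Nat := @Bool.rec (fun _ => Nat) (Ptab_s_1365_1367 c) (Ptab_s_1367_1369 c) (Nat.ble 1367 c)
noncomputable def Ptab_s_1362_1369 (c : Nat) : Nat := @Bool.rec (fun _ => Nat) (Ptab_s_1362_1365 c) (Ptab_s_1365_1369 c) (Nat.ble 1365 c)
noncomputable def Ptab_s_1369_1371 (c : Nat) : Nat := @Bool.rec (fun _ => Nat) (Ptab_1369) (Ptab_1370) (Nat.ble 1370 c)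
noncomputable def Ptab_s_1371_1373 (c : Nat) : Nat := @Bool.rec (fun _ => Nat) (Ptab_1371) (Ptab_1372) (Nat.ble 1372 c)
noncomputable def Ptab_s_1369_1373 (c : Nat) : Nat := @Bool.rec (fun _ => Nat) (Ptab_s_1369_1371 c) (Ptab_s_1371_1373 c) (Nat.ble 1371 c)
noncomputable def Ptab_s_1373_1375 (c : Nat) : Nat := @Bool.rec (fun _ => Nat) (Ptab_1373) (Ptab_1374) (Nat.ble 1374 c)
noncomputable def Ptab_s_1375_1377 (c : Nat) : Nat := @Bool.rec (fun _ => Nat) (Ptab_1375) (Ptab_1376) (Nat.ble 1376 c)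
noncomputable def Ptab_s_1373_1377 (c : Nat) : Nat := @Bool.rec (fun _ => Nat) (Ptab_s_1373_1375 c) (Ptab_s_1375_1377 c) (Nat.ble 1375 c)
noncomputable def Ptab_s_1369_1377 (c : Nat) : Nat := @Bool.rec (fun _ => Nat) (Ptab_s_1369_1373 c) (Ptab_s_1373_1377 c) (Nat.ble 1373 c)
noncomputable def Ptab_s_1362_1377 (c : Nat) : Nat := @Bool.rec (fun _ => Nat) (Ptab_s_1362_1369 c) (Ptab_s_1369_1377 c) (Nat.ble 1369 c)
noncomputable def Ptab_s_1377_1379 (c : Nat) : Nat := @Bool.rec (fun _ => Nat) (Ptab_1377) (Ptab_1378) (Nat.ble 1378 c)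
noncomputable def Ptab_s_1379_1381 (c : Nat) : Nat := @Bool.rec (fun _ => Nat) (Ptab_1379) (Ptab_1380) (Nat.ble 1380 c)
noncomputable def Ptab_s_1377_1381 (c : Nat) : Nat := @Bool.rec (fun _ => Nat) (Ptab_s_1377_1379 c) (Ptab_s_1379_1381 c) (Nat.ble 1379 c)
noncomputable def Ptab_s_1381_1383 (c : Nat) : Nat := @Bool.rec (fun _ => Nat) (Ptab_1381) (Ptab_1382) (Nat.ble 1382 c)
noncomputable def Ptab_s_1383_1385 (c : Nat) : Nat := @Bool.rec (fun _ => Nat) (Ptab_1383) (Ptab_1384) (Nat.ble 1384 c)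
noncomputable def Ptab_s_1381_1385 (c : Nat) : Nat := @Bool.rec (fun _ => Nat) (Ptab_s_1381_1383 c) (Ptab_s_1383_1385 c) (Nat.ble 1383 c)
noncomputable def Ptab_s_1377_1385 (c : Nat) : Nat := @Bool.rec (fun _ => Nat) (Ptab_s_1377_1381 c) (Ptab_s_1381_1385 c) (Nat.ble 1381 c)
noncomputable def Ptab_s_1385_1387 (c : Nat) : Nat := @Bool.rec (fun _ => Nat) (Ptab_1385) (Ptab_1386) (Nat.ble 1386 c)
noncomputable def Ptab_s_1387_1389 (c : Nat) : Nat := @Bool.rec (fun _ => Nat) (Ptab_1387) (Ptab_1388) (Nat.ble 1388 c)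
noncomputable def Ptab_s_1385_1389 (c : Nat) : Nat := @Bool.rec (fun _ => Nat) (Ptab_s_1385_1387 c) (Ptab_s_1387_1389 c) (Nat.ble 1387 c)
noncomputable def Ptab_s_1389_1391 (c : Nat) : Nat := @Bool.rec (fun _ => Nat) (Ptab_1389) (Ptab_1390) (Nat.ble 1390 c)
noncomputable def Ptab_s_1391_1393 (c : Nat) : Nat := @Bool.rec (fun _ => Nat) (Ptab_1391) (Ptab_1392) (Nat.ble 1392 c)
noncomputable def Ptab_s_1389_1393 (c : Nat) : Nat := @Bool.rec (fun _ => Nat) (Ptab_s_1389_1391 c) (Ptab_s_1391_1393 c) (Nat.ble 1391 c)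
noncomputable def Ptab_s_1385_1393 (c : Nat) : Nat := @Bool.rec (fun _ => Nat) (Ptab_s_1385_1389 c) (Ptab_s_1389_1393 c) (Nat.ble 1389 c)
noncomputable def Ptab_s_1377_1393 (c : Nat) : Nat := @Bool.rec (fun _ => Nat) (Ptab_s_1377_1385 c) (Ptab_s_1385_1393 c) (Nat.ble 1385 c)
noncomputable def Ptab_s_1362_1393 (c : Nat) : Nat := @Bool.rec (fun _ => Nat) (Ptab_s_1362_1377 c) (Ptab_s_1377_1393 c) (Nat.ble 1377 c)
noncomputable def Ptab_s_1332_1393 (c : Nat) : Nat := @Bool.rec (fun _ => Nat) (Ptab_s_1332_1362 c) (Ptab_s_1362_1393 c) (Nat.ble 1362 c)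
noncomputable def Ptab_s_1394_1396 (c : Nat) : Nat := @Bool.rec (fun _ => Nat) (Ptab_1394) (Ptab_1395) (Nat.ble 1395 c)
noncomputable def Ptab_s_1393_1396 (c : Nat) : Nat := @Bool.rec (fun _ => Nat) (Ptab_1393) (Ptab_s_1394_1396 c) (Nat.ble 1394 c)
noncomputable def Ptab_s_1396_1398 (c : Nat) : Nat := @Bool.rec (fun _ => Nat) (Ptab_1396) (Ptab_1397) (Nat.ble 1397 c)
noncomputable def Ptab_s_1398_1400 (c : Nat) : Nat := @Bool.rec (fun _ => Nat) (Ptab_1398) (Ptab_1399) (Nat.ble 1399 c)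
noncomputable def Ptab_s_1396_1400 (c : Nat) : Nat := @Bool.rec (fun _ => Nat) (Ptab_s_1396_1398 c) (Ptab_s_1398_1400 c) (Nat.ble 1398 c)
noncomputable def Ptab_s_1393_1400 (c : Nat) : Nat := @Bool.rec (fun _ => Nat) (Ptab_s_1393_1396 c) (Ptab_s_1396_1400 c) (Nat.ble 1396 c)
noncomputable def Ptab_s_1400_1402 (c : Nat) : Nat := @Bool.rec (fun _ => Nat) (Ptab_1400) (Ptab_1401) (Nat.ble 1401 c)
noncomputable def Ptab_s_1402_1404 (c : Nat) : Nat := @Bool.rec (fun _ => Nat) (Ptab_1402) (Ptab_1403) (Nat.ble 1403 c)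
noncomputable def Ptab_s_1400_1404 (c : Nat) : Nat := @Bool.rec (fun _ => Nat) (Ptab_s_1400_1402 c) (Ptab_s_1402_1404 c) (Nat.ble 1402 c)
noncomputable def Ptab_s_1404_1406 (c : Nat) : Nat := @Bool.rec (fun _ => Nat) (Ptab_1404) (Ptab_1405) (Nat.ble 1405 c)
noncomputable def Ptab_s_1406_1408 (c : Nat) : Nat := @Bool.rec (fun _ => Nat) (Ptab_1406) (Ptab_1407) (Nat.ble 1407 c)
noncomputable def Ptab_s_1404_1408 (c : Nat) : Nat := @Bool.rec (fun _ => Nat) (Ptab_s_1404_1406 c) (Ptab_s_1406_1408 c) (Nat.ble 1406 c)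
noncomputable def Ptab_s_1400_1408 (c : Nat) : Nat := @Bool.rec (fun _ => Nat) (Ptab_s_1400_1404 c) (Ptab_s_1404_1408 c) (Nat.ble 1404 c)
noncomputable def Ptab_s_1393_1408 (c : Nat) : Nat := @Bool.rec (fun _ => Nat) (Ptab_s_1393_1400 c) (Ptab_s_1400_1408 c) (Nat.ble 1400 c)
noncomputable def Ptab_s_1409_1411 (c : Nat) : Nat := @Bool.rec (fun _ => Nat) (Ptab_1409) (Ptab_1410) (Nat.ble 1410 c)
noncomputable def Ptab_s_1408_1411 (c : Nat) : Nat := @Bool.rec (fun _ => Nat) (Ptab_1408) (Ptab_s_1409_1411 c) (Nat.ble 1409 c)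
noncomputable def Ptab_s_1411_1413 (c : Nat) : Nat := @Bool.rec (fun _ => Nat) (Ptab_1411) (Ptab_1412) (Nat.ble 1412 c)
noncomputable def Ptab_s_1413_1415 (c : Nat) : Nat := @Bool.rec (fun _ => Nat) (Ptab_1413) (Ptab_1414) (Nat.ble 1414 c)
noncomputable def Ptab_s_1411_1415 (c : Nat) : Nat := @Bool.rec (fun _ => Nat) (Ptab_s_1411_1413 c) (Ptab_s_1413_1415 c) (Nat.ble 1413 c)
noncomputable def Ptab_s_1408_1415 (c : Nat) : Nat := @Bool.rec (fun _ => Nat) (Ptab_s_1408_1411 c) (Ptab_s_1411_1415 c) (Nat.ble 1411 c)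
noncomputable def Ptab_s_1415_1417 (c : Nat) : Nat := @Bool.rec (fun _ => Nat) (Ptab_1415) (Ptab_1416) (Nat.ble 1416 c)
noncomputable def Ptab_s_1417_1419 (c : Nat) : Nat := @Bool.rec (fun _ => Nat) (Ptab_1417) (Ptab_1418) (Nat.ble 1418 c)
noncomputable def Ptab_s_1415_1419 (c : Nat) : Nat := @Bool.rec (fun _ => Nat) (Ptab_s_1415_1417 c) (Ptab_s_1417_1419 c) (Nat.ble 1417 c)
noncomputable def Ptab_s_1419_1421 (c : Nat) : Nat := @Bool.rec (fun _ => Nat) (Ptab_1419) (Ptab_1420) (Nat.ble 1420 c)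
noncomputable def Ptab_s_1421_1423 (c : Nat) : Nat := @Bool.rec (fun _ => Nat) (Ptab_1421) (Ptab_1422) (Nat.ble 1422 c)
noncomputable def Ptab_s_1419_1423 (c : Nat) : Nat := @Bool.rec (fun _ => Nat) (Ptab_s_1419_1421 c) (Ptab_s_1421_1423 c) (Nat.ble 1421 c)
noncomputable def Ptab_s_1415_1423 (c : Nat) : Nat := @Bool.rec (fun _ => Nat) (Ptab_s_1415_1419 c) (Ptab_s_1419_1423 c) (Nat.ble 1419 c)
noncomputable def Ptab_s_1408_1423 (c : Nat) : Nat := @Bool.rec (fun _ => Nat) (Ptab_s_1408_1415 c) (Ptab_s_1415_1423 c) (Nat.ble 1415 c)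
noncomputable def Ptab_s_1393_1423 (c : Nat) : Nat := @Bool.rec (fun _ => Nat) (Ptab_s_1393_1408 c) (Ptab_s_1408_1423 c) (Nat.ble 1408 c)
noncomputable def Ptab_s_1424_1426 (c : Nat) : Nat := @Bool.rec (fun _ => Nat) (Ptab_1424) (Ptab_1425) (Nat.ble 1425 c)
noncomputable def Ptab_s_1423_1426 (c : Nat) : Nat := @Bool.rec (fun _ => Nat) (Ptab_1423) (Ptab_s_1424_1426 c) (Nat.ble 1424 c)
noncomputable def Ptab_s_1426_1428 (c : Nat) : Nat := @Bool.rec (fun _ => Nat) (Ptab_1426) (Ptab_1427) (Nat.ble 1427 c)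
noncomputable def Ptab_s_1428_1430 (c : Nat) : Nat := @Bool.rec (fun _ => Nat) (Ptab_1428) (Ptab_1429) (Nat.ble 1429 c)
noncomputable def Ptab_s_1426_1430 (c : Nat) : Nat := @Bool.rec (fun _ => Nat) (Ptab_s_1426_1428 c) (Ptab_s_1428_1430 c) (Nat.ble 1428 c)
noncomputable def Ptab_s_1423_1430 (c : Nat) : Nat := @Bool.rec (fun _ => Nat) (Ptab_s_1423_1426 c) (Ptab_s_1426_1430 c) (Nat.ble 1426 c)
noncomputable def Ptab_s_1430_1432 (c : Nat) : Nat := @Bool.rec (fun _ => Nat) (Ptab_1430) (Ptab_1431) (Nat.ble 1431 c)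
noncomputable def Ptab_s_1432_1434 (c : Nat) : Nat := @Bool.rec (fun _ => Nat) (Ptab_1432) (Ptab_1433) (Nat.ble 1433 c)
noncomputable def Ptab_s_1430_1434 (c : Nat) : Nat := @Bool.rec (fun _ => Nat) (Ptab_s_1430_1432 c) (Ptab_s_1432_1434 c) (Nat.ble 1432 c)
noncomputable def Ptab_s_1434_1436 (c : Nat) : Nat := @Bool.rec (fun _ => Nat) (Ptab_1434) (Ptab_1435) (Nat.ble 1435 c)
noncomputable def Ptab_s_1436_1438 (c : Nat) : Nat := @Bool.rec (fun _ => Nat) (Ptab_1436) (Ptab_1437) (Nat.ble 1437 c)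
noncomputable def Ptab_s_1434_1438 (c : Nat) : Nat := @Bool.rec (fun _ => Nat) (Ptab_s_1434_1436 c) (Ptab_s_1436_1438 c) (Nat.ble 1436 c)
noncomputable def Ptab_s_1430_1438 (c : Nat) : Nat := @Bool.rec (fun _ => Nat) (Ptab_s_1430_1434 c) (Ptab_s_1434_1438 c) (Nat.ble 1434 c)
noncomputable def Ptab_s_1423_1438 (c : Nat) : Nat := @Bool.rec (fun _ => Nat) (Ptab_s_1423_1430 c) (Ptab_s_1430_1438 c) (Nat.ble 1430 c)
noncomputable def Ptab_s_1438_1440 (c : Nat) : Nat := @Bool.rec (fun _ => Nat) (Ptab_1438) (Ptab_1439) (Nat.ble 1439 c)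
noncomputable def Ptab_s_1440_1442 (c : Nat) : Nat := @Bool.rec (fun _ => Nat) (Ptab_1440) (Ptab_1441) (Nat.ble 1441 c)
noncomputable def Ptab_s_1438_1442 (c : Nat) : Nat := @Bool.rec (fun _ => Nat) (Ptab_s_1438_1440 c) (Ptab_s_1440_1442 c) (Nat.ble 1440 c)
noncomputable def Ptab_s_1442_1444 (c : Nat) : Nat := @Bool.rec (fun _ => Nat) (Ptab_1442) (Ptab_1443) (Nat.ble 1443 c)
noncomputable def Ptab_s_1444_1446 (c : Nat) : Nat := @Bool.rec (fun _ => Nat) (Ptab_1444) (Ptab_1445) (Nat.ble 1445 c)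
noncomputable def Ptab_s_1442_1446 (c : Nat) : Nat := @Bool.rec (fun _ => Nat) (Ptab_s_1442_1444 c) (Ptab_s_1444_1446 c) (Nat.ble 1444 c)
noncomputable def Ptab_s_1438_1446 (c : Nat) : Nat := @Bool.rec (fun _ => Nat) (Ptab_s_1438_1442 c) (Ptab_s_1442_1446 c) (Nat.ble 1442 c)
noncomputable def Ptab_s_1446_1448 (c : Nat) : Nat := @Bool.rec (fun _ => Nat) (Ptab_1446) (Ptab_1447) (Nat.ble 1447 c)
noncomputable def Ptab_s_1448_1450 (c : Nat) : Nat := @Bool.rec (fun _ => Nat) (Ptab_1448) (Ptab_1449) (Nat.ble 1449 c)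
noncomputable def Ptab_s_1446_1450 (c : Nat) : Nat := @Bool.rec (fun _ => Nat) (Ptab_s_1446_1448 c) (Ptab_s_1448_1450 c) (Nat.ble 1448 c)
noncomputable def Ptab_s_1450_1452 (c : Nat) : Nat := @Bool.rec (fun _ => Nat) (Ptab_1450) (Ptab_1451) (Nat.ble 1451 c)
noncomputable def Ptab_s_1452_1454 (c : Nat) : Nat := @Bool.rec (fun _ => Nat) (Ptab_1452) (Ptab_1453) (Nat.ble 1453 c)
noncomputable def Ptab_s_1450_1454 (c : Nat) : Nat := @Bool.rec (fun _ => Nat) (Ptab_s_1450_1452 c) (Ptab_s_1452_1454 c) (Nat.ble 1452 c)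
noncomputable def Ptab_s_1446_1454 (c : Nat) : Nat := @Bool.rec (fun _ => Nat) (Ptab_s_1446_1450 c) (Ptab_s_1450_1454 c) (Nat.ble 1450 c)
noncomputable def Ptab_s_1438_1454 (c : Nat) : Nat := @Bool.rec (fun _ => Nat) (Ptab_s_1438_1446 c) (Ptab_s_1446_1454 c) (Nat.ble 1446 c)
noncomputable def Ptab_s_1423_1454 (c : Nat) : Nat := @Bool.rec (fun _ => Nat) (Ptab_s_1423_1438 c) (Ptab_s_1438_1454 c) (Nat.ble 1438 c)
noncomputable def Ptab_s_1393_1454 (c : Nat) : Nat := @Bool.rec (fun _ => Nat) (Ptab_s_1393_1423 c) (Ptab_s_1423_1454 c) (Nat.ble 1423 c)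
noncomputable def Ptab_s_1332_1454 (c : Nat) : Nat := @Bool.rec (fun _ => Nat) (Ptab_s_1332_1393 c) (Ptab_s_1393_1454 c) (Nat.ble 1393 c)
noncomputable def Ptab_s_1211_1454 (c : Nat) : Nat := @Bool.rec (fun _ => Nat) (Ptab_s_1211_1332 c) (Ptab_s_1332_1454 c) (Nat.ble 1332 c)
noncomputable def Ptab_s_969_1454 (c : Nat) : Nat := @Bool.rec (fun _ => Nat) (Ptab_s_969_1211 c) (Ptab_s_1211_1454 c) (Nat.ble 1211 c)
noncomputable def Ptab_s_1455_1457 (c : Nat) : Nat := @Bool.rec (fun _ => Nat) (Ptab_1455) (Ptab_1456) (Nat.ble 1456 c)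
noncomputable def Ptab_s_1454_1457 (c : Nat) : Nat := @Bool.rec (fun _ => Nat) (Ptab_1454) (Ptab_s_1455_1457 c) (Nat.ble 1455 c)
noncomputable def Ptab_s_1457_1459 (c : Nat) : Nat := @Bool.rec (fun _ => Nat) (Ptab_1457) (Ptab_1458) (Nat.ble 1458 c)
noncomputable def Ptab_s_1459_1461 (c : Nat) : Nat := @Bool.rec (fun _ => Nat) (Ptab_1459) (Ptab_1460) (Nat.ble 1460 c)
noncomputable def Ptab_s_1457_1461 (c : Nat) : Nat := @Bool.rec (fun _ => Nat) (Ptab_s_1457_1459 c) (Ptab_s_1459_1461 c) (Nat.ble 1459 c)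
noncomputable def Ptab_s_1454_1461 (c : Nat) : Nat := @Bool.rec (fun _ => Nat) (Ptab_s_1454_1457 c) (Ptab_s_1457_1461 c) (Nat.ble 1457 c)
noncomputable def Ptab_s_1461_1463 (c : Nat) : Nat := @Bool.rec (fun _ => Nat) (Ptab_1461) (Ptab_1462) (Nat.ble 1462 c)
noncomputable def Ptab_s_1463_1465 (c : Nat) : Nat := @Bool.rec (fun _ => Nat) (Ptab_1463) (Ptab_1464) (Nat.ble 1464 c)
noncomputable def Ptab_s_1461_1465 (c : Nat) : Nat := @Bool.rec (fun _ => Nat) (Ptab_s_1461_1463 c) (Ptab_s_1463_1465 c) (Nat.ble 1463 c)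
noncomputable def Ptab_s_1465_1467 (c : Nat) : Nat := @Bool.rec (fun _ => Nat) (Ptab_1465) (Ptab_1466) (Nat.ble 1466 c)
noncomputable def Ptab_s_1467_1469 (c : Nat) : Nat := @Bool.rec (fun _ => Nat) (Ptab_1467) (Ptab_1468) (Nat.ble 1468 c)
noncomputable def Ptab_s_1465_1469 (c : Nat) : Nat := @Bool.rec (fun _ => Nat) (Ptab_s_1465_1467 c) (Ptab_s_1467_1469 c) (Nat.ble 1467 c)
noncomputable def Ptab_s_1461_1469 (c : Nat) : Nat := @Bool.rec (fun _ => Nat) (Ptab_s_1461_1465 c) (Ptab_s_1465_1469 c) (Nat.ble 1465 c)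
noncomputable def Ptab_s_1454_1469 (c : Nat) : Nat := @Bool.rec (fun _ => Nat) (Ptab_s_1454_1461 c) (Ptab_s_1461_1469 c) (Nat.ble 1461 c)
noncomputable def Ptab_s_1470_1472 (c : Nat) : Nat := @Bool.rec (fun _ => Nat) (Ptab_1470) (Ptab_1471) (Nat.ble 1471 c)
noncomputable def Ptab_s_1469_1472 (c : Nat) : Nat := @Bool.rec (fun _ => Nat) (Ptab_1469) (Ptab_s_1470_1472 c) (Nat.ble 1470 c)
noncomputable def Ptab_s_1472_1474 (c : Nat) : Nat := @Bool.rec (fun _ => Nat) (Ptab_1472) (Ptab_1473) (Nat.ble 1473 c)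
noncomputable def Ptab_s_1474_1476 (c : Nat) : Nat := @Bool.rec (fun _ => Nat) (Ptab_1474) (Ptab_1475) (Nat.ble 1475 c)
noncomputable def Ptab_s_1472_1476 (c : Nat) : Nat := @Bool.rec (fun _ => Nat) (Ptab_s_1472_1474 c) (Ptab_s_1474_1476 c) (Nat.ble 1474 c)
noncomputable def Ptab_s_1469_1476 (c : Nat) : Nat := @Bool.rec (fun _ => Nat) (Ptab_s_1469_1472 c) (Ptab_s_1472_1476 c) (Nat.ble 1472 c)
noncomputable def Ptab_s_1476_1478 (c : Nat) : Nat := @Bool.rec (fun _ => Nat) (Ptab_1476) (Ptab_1477) (Nat.ble 1477 c)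
noncomputable def Ptab_s_1478_1480 (c : Nat) : Nat := @Bool.rec (fun _ => Nat) (Ptab_1478) (Ptab_1479) (Nat.ble 1479 c)
noncomputable def Ptab_s_1476_1480 (c : Nat) : Nat := @Bool.rec (fun _ => Nat) (Ptab_s_1476_1478 c) (Ptab_s_1478_1480 c) (Nat.ble 1478 c)
noncomputable def Ptab_s_1480_1482 (c : Nat) : Nat := @Bool.rec (fun _ => Nat) (Ptab_1480) (Ptab_1481) (Nat.ble 1481 c)
noncomputable def Ptab_s_1482_1484 (c : Nat) : Nat := @Bool.rec (fun _ => Nat) (Ptab_1482) (Ptab_1483) (Nat.ble 1483 c)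
noncomputable def Ptab_s_1480_1484 (c : Nat) : Nat := @Bool.rec (fun _ => Nat) (Ptab_s_1480_1482 c) (Ptab_s_1482_1484 c) (Nat.ble 1482 c)
noncomputable def Ptab_s_1476_1484 (c : Nat) : Nat := @Bool.rec (fun _ => Nat) (Ptab_s_1476_1480 c) (Ptab_s_1480_1484 c) (Nat.ble 1480 c)
noncomputable def Ptab_s_1469_1484 (c : Nat) : Nat := @Bool.rec (fun _ => Nat) (Ptab_s_1469_1476 c) (Ptab_s_1476_1484 c) (Nat.ble 1476 c)
noncomputable def Ptab_s_1454_1484 (c : Nat) : Nat := @Bool.rec (fun _ => Nat) (Ptab_s_1454_1469 c) (Ptab_s_1469_1484 c) (Nat.ble 1469 c)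
noncomputable def Ptab_s_1485_1487 (c : Nat) : Nat := @Bool.rec (fun _ => Nat) (Ptab_1485) (Ptab_1486) (Nat.ble 1486 c)
noncomputable def Ptab_s_1484_1487 (c : Nat) : Nat := @Bool.rec (fun _ => Nat) (Ptab_1484) (Ptab_s_1485_1487 c) (Nat.ble 1485 c)
noncomputable def Ptab_s_1487_1489 (c : Nat) : Nat := @Bool.rec (fun _ => Nat) (Ptab_1487) (Ptab_1488) (Nat.ble 1488 c)
noncomputable def Ptab_s_1489_1491 (c : Nat) : Nat := @Bool.rec (fun _ => Nat) (Ptab_1489) (Ptab_1490) (Nat.ble 1490 c)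
noncomputable def Ptab_s_1487_1491 (c : Nat) : Nat := @Bool.rec (fun _ => Nat) (Ptab_s_1487_1489 c) (Ptab_s_1489_1491 c) (Nat.ble 1489 c)
noncomputable def Ptab_s_1484_1491 (c : Nat) : Nat := @Bool.rec (fun _ => Nat) (Ptab_s_1484_1487 c) (Ptab_s_1487_1491 c) (Nat.ble 1487 c)
noncomputable def Ptab_s_1491_1493 (c : Nat) : Nat := @Bool.rec (fun _ => Nat) (Ptab_1491) (Ptab_1492) (Nat.ble 1492 c)
noncomputable def Ptab_s_1493_1495 (c : Nat) : Nat := @Bool.rec (fun _ => Nat) (Ptab_1493) (Ptab_1494) (Nat.ble 1494 c)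
noncomputable def Ptab_s_1491_1495 (c : Nat) : Nat := @Bool.rec (fun _ => Nat) (Ptab_s_1491_1493 c) (Ptab_s_1493_1495 c) (Nat.ble 1493 c)
noncomputable def Ptab_s_1495_1497 (c : Nat) : Nat := @Bool.rec (fun _ => Nat) (Ptab_1495) (Ptab_1496) (Nat.ble 1496 c)
noncomputable def Ptab_s_1497_1499 (c : Nat) : Nat := @Bool.rec (fun _ => Nat) (Ptab_1497) (Ptab_1498) (Nat.ble 1498 c)
noncomputable def Ptab_s_1495_1499 (c : Nat) : Nat := @Bool.rec (fun _ => Nat) (Ptab_s_1495_1497 c) (Ptab_s_1497_1499 c) (Nat.ble 1497 c)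
noncomputable def Ptab_s_1491_1499 (c : Nat) : Nat := @Bool.rec (fun _ => Nat) (Ptab_s_1491_1495 c) (Ptab_s_1495_1499 c) (Nat.ble 1495 c)
noncomputable def Ptab_s_1484_1499 (c : Nat) : Nat := @Bool.rec (fun _ => Nat) (Ptab_s_1484_1491 c) (Ptab_s_1491_1499 c) (Nat.ble 1491 c)
noncomputable def Ptab_s_1500_1502 (c : Nat) : Nat := @Bool.rec (fun _ => Nat) (Ptab_1500) (Ptab_1501) (Nat.ble 1501 c)
noncomputable def Ptab_s_1499_1502 (c : Nat) : Nat := @Bool.rec (fun _ => Nat) (Ptab_1499) (Ptab_s_1500_1502 c) (Nat.ble 1500 c)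
noncomputable def Ptab_s_1502_1504 (c : Nat) : Nat := @Bool.rec (fun _ => Nat) (Ptab_1502) (Ptab_1503) (Nat.ble 1503 c)
noncomputable def Ptab_s_1504_1506 (c : Nat) : Nat := @Bool.rec (fun _ => Nat) (Ptab_1504) (Ptab_1505) (Nat.ble 1505 c)
noncomputable def Ptab_s_1502_1506 (c : Nat) : Nat := @Bool.rec (fun _ => Nat) (Ptab_s_1502_1504 c) (Ptab_s_1504_1506 c) (Nat.ble 1504 c)
noncomputable def Ptab_s_1499_1506 (c : Nat) : Nat := @Bool.rec (fun _ => Nat) (Ptab_s_1499_1502 c) (Ptab_s_1502_1506 c) (Nat.ble 1502 c)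
noncomputable def Ptab_s_1506_1508 (c : Nat) : Nat := @Bool.rec (fun _ => Nat) (Ptab_1506) (Ptab_1507) (Nat.ble 1507 c)
noncomputable def Ptab_s_1508_1510 (c : Nat) : Nat := @Bool.rec (fun _ => Nat) (Ptab_1508) (Ptab_1509) (Nat.ble 1509 c)
noncomputable def Ptab_s_1506_1510 (c : Nat) : Nat := @Bool.rec (fun _ => Nat) (Ptab_s_1506_1508 c) (Ptab_s_1508_1510 c) (Nat.ble 1508 c)
noncomputable def Ptab_s_1510_1512 (c : Nat) : Nat := @Bool.rec (fun _ => Nat) (Ptab_1510) (Ptab_1511) (Nat.ble 1511 c)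
noncomputable def Ptab_s_1512_1514 (c : Nat) : Nat := @Bool.rec (fun _ => Nat) (Ptab_1512) (Ptab_1513) (Nat.ble 1513 c)
noncomputable def Ptab_s_1510_1514 (c : Nat) : Nat := @Bool.rec (fun _ => Nat) (Ptab_s_1510_1512 c) (Ptab_s_1512_1514 c) (Nat.ble 1512 c)
noncomputable def Ptab_s_1506_1514 (c : Nat) : Nat := @Bool.rec (fun _ => Nat) (Ptab_s_1506_1510 c) (Ptab_s_1510_1514 c) (Nat.ble 1510 c)
noncomputable def Ptab_s_1499_1514 (c : Nat) : Nat := @Bool.rec (fun _ => Nat) (Ptab_s_1499_1506 c) (Ptab_s_1506_1514 c) (Nat.ble 1506 c)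
noncomputable def Ptab_s_1484_1514 (c : Nat) : Nat := @Bool.rec (fun _ => Nat) (Ptab_s_1484_1499 c) (Ptab_s_1499_1514 c) (Nat.ble 1499 c)
noncomputable def Ptab_s_1454_1514 (c : Nat) : Nat := @Bool.rec (fun _ => Nat) (Ptab_s_1454_1484 c) (Ptab_s_1484_1514 c) (Nat.ble 1484 c)
noncomputable def Ptab_s_1515_1517 (c : Nat) : Nat := @Bool.rec (fun _ => Nat) (Ptab_1515) (Ptab_1516) (Nat.ble 1516 c)
noncomputable def Ptab_s_1514_1517 (c : Nat) : Nat := @Bool.rec (fun _ => Nat) (Ptab_1514) (Ptab_s_1515_1517 c) (Nat.ble 1515 c)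
noncomputable def Ptab_s_1517_1519 (c : Nat) : Nat := @Bool.rec (fun _ => Nat) (Ptab_1517) (Ptab_1518) (Nat.ble 1518 c)
noncomputable def Ptab_s_1519_1521 (c : Nat) : Nat := @Bool.rec (fun _ => Nat) (Ptab_1519) (Ptab_1520) (Nat.ble 1520 c)
noncomputable def Ptab_s_1517_1521 (c : Nat) : Nat := @Bool.rec (fun _ => Nat) (Ptab_s_1517_1519 c) (Ptab_s_1519_1521 c) (Nat.ble 1519 c)
noncomputable def Ptab_s_1514_1521 (c : Nat) : Nat := @Bool.rec (fun _ => Nat) (Ptab_s_1514_1517 c) (Ptab_s_1517_1521 c) (Nat.ble 1517 c)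
noncomputable def Ptab_s_1521_1523 (c : Nat) : Nat := @Bool.rec (fun _ => Nat) (Ptab_1521) (Ptab_1522) (Nat.ble 1522 c)
noncomputable def Ptab_s_1523_1525 (c : Nat) : Nat := @Bool.rec (fun _ => Nat) (Ptab_1523) (Ptab_1524) (Nat.ble 1524 c)
noncomputable def Ptab_s_1521_1525 (c : Nat) : Nat := @Bool.rec (fun _ => Nat) (Ptab_s_1521_1523 c) (Ptab_s_1523_1525 c) (Nat.ble 1523 c)
noncomputable def Ptab_s_1525_1527 (c : Nat) : Nat := @Bool.rec (fun _ => Nat) (Ptab_1525) (Ptab_1526) (Nat.ble 1526 c)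
noncomputable def Ptab_s_1527_1529 (c : Nat) : Nat := @Bool.rec (fun _ => Nat) (Ptab_1527) (Ptab_1528) (Nat.ble 1528 c)
noncomputable def Ptab_s_1525_1529 (c : Nat) : Nat := @Bool.rec (fun _ => Nat) (Ptab_s_1525_1527 c) (Ptab_s_1527_1529 c) (Nat.ble 1527 c)
noncomputable def Ptab_s_1521_1529 (c : Nat) : Nat := @Bool.rec (fun _ => Nat) (Ptab_s_1521_1525 c) (Ptab_s_1525_1529 c) (Nat.ble 1525 c)
noncomputable def Ptab_s_1514_1529 (c : Nat) : Nat := @Bool.rec (fun _ => Nat) (Ptab_s_1514_1521 c) (Ptab_s_1521_1529 c) (Nat.ble 1521 c)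
noncomputable def Ptab_s_1530_1532 (c : Nat) : Nat := @Bool.rec (fun _ => Nat) (Ptab_1530) (Ptab_1531) (Nat.ble 1531 c)
noncomputable def Ptab_s_1529_1532 (c : Nat) : Nat := @Bool.rec (fun _ => Nat) (Ptab_1529) (Ptab_s_1530_1532 c) (Nat.ble 1530 c)
noncomputable def Ptab_s_1532_1534 (c : Nat) : Nat := @Bool.rec (fun _ => Nat) (Ptab_1532) (Ptab_1533) (Nat.ble 1533 c)
noncomputable def Ptab_s_1534_1536 (c : Nat) : Nat := @Bool.rec (fun _ => Nat) (Ptab_1534) (Ptab_1535) (Nat.ble 1535 c)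
noncomputable def Ptab_s_1532_1536 (c : Nat) : Nat := @Bool.rec (fun _ => Nat) (Ptab_s_1532_1534 c) (Ptab_s_1534_1536 c) (Nat.ble 1534 c)
noncomputable def Ptab_s_1529_1536 (c : Nat) : Nat := @Bool.rec (fun _ => Nat) (Ptab_s_1529_1532 c) (Ptab_s_1532_1536 c) (Nat.ble 1532 c)
noncomputable def Ptab_s_1536_1538 (c : Nat) : Nat := @Bool.rec (fun _ => Nat) (Ptab_1536) (Ptab_1537) (Nat.ble 1537 c)
noncomputable def Ptab_s_1538_1540 (c : Nat) : Nat := @Bool.rec (fun _ => Nat) (Ptab_1538) (Ptab_1539) (Nat.ble 1539 c)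
noncomputable def Ptab_s_1536_1540 (c : Nat) : Nat := @Bool.rec (fun _ => Nat) (Ptab_s_1536_1538 c) (Ptab_s_1538_1540 c) (Nat.ble 1538 c)
noncomputable def Ptab_s_1540_1542 (c : Nat) : Nat := @Bool.rec (fun _ => Nat) (Ptab_1540) (Ptab_1541) (Nat.ble 1541 c)
noncomputable def Ptab_s_1542_1544 (c : Nat) : Nat := @Bool.rec (fun _ => Nat) (Ptab_1542) (Ptab_1543) (Nat.ble 1543 c)
noncomputable def Ptab_s_1540_1544 (c : Nat) : Nat := @Bool.rec (fun _ => Nat) (Ptab_s_1540_1542 c) (Ptab_s_1542_1544 c) (Nat.ble 1542 c)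
noncomputable def Ptab_s_1536_1544 (c : Nat) : Nat := @Bool.rec (fun _ => Nat) (Ptab_s_1536_1540 c) (Ptab_s_1540_1544 c) (Nat.ble 1540 c)
noncomputable def Ptab_s_1529_1544 (c : Nat) : Nat := @Bool.rec (fun _ => Nat) (Ptab_s_1529_1536 c) (Ptab_s_1536_1544 c) (Nat.ble 1536 c)
noncomputable def Ptab_s_1514_1544 (c : Nat) : Nat := @Bool.rec (fun _ => Nat) (Ptab_s_1514_1529 c) (Ptab_s_1529_1544 c) (Nat.ble 1529 c)
noncomputable def Ptab_s_1545_1547 (c : Nat) : Nat := @Bool.rec (fun _ => Nat) (Ptab_1545) (Ptab_1546) (Nat.ble 1546 c)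
noncomputable def Ptab_s_1544_1547 (c : Nat) : Nat := @Bool.rec (fun _ => Nat) (Ptab_1544) (Ptab_s_1545_1547 c) (Nat.ble 1545 c)
noncomputable def Ptab_s_1547_1549 (c : Nat) : Nat := @Bool.rec (fun _ => Nat) (Ptab_1547) (Ptab_1548) (Nat.ble 1548 c)
noncomputable def Ptab_s_1549_1551 (c : Nat) : Nat := @Bool.rec (fun _ => Nat) (Ptab_1549) (Ptab_1550) (Nat.ble 1550 c)
noncomputable def Ptab_s_1547_1551 (c : Nat) : Nat := @Bool.rec (fun _ => Nat) (Ptab_s_1547_1549 c) (Ptab_s_1549_1551 c) (Nat.ble 1549 c)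
noncomputable def Ptab_s_1544_1551 (c : Nat) : Nat := @Bool.rec (fun _ => Nat) (Ptab_s_1544_1547 c) (Ptab_s_1547_1551 c) (Nat.ble 1547 c)
noncomputable def Ptab_s_1551_1553 (c : Nat) : Nat := @Bool.rec (fun _ => Nat) (Ptab_1551) (Ptab_1552) (Nat.ble 1552 c)
noncomputable def Ptab_s_1553_1555 (c : Nat) : Nat := @Bool.rec (fun _ => Nat) (Ptab_1553) (Ptab_1554) (Nat.ble 1554 c)
noncomputable def Ptab_s_1551_1555 (c : Nat) : Nat := @Bool.rec (fun _ => Nat) (Ptab_s_1551_1553 c) (Ptab_s_1553_1555 c) (Nat.ble 1553 c)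
noncomputable def Ptab_s_1555_1557 (c : Nat) : Nat := @Bool.rec (fun _ => Nat) (Ptab_1555) (Ptab_1556) (Nat.ble 1556 c)
noncomputable def Ptab_s_1557_1559 (c : Nat) : Nat := @Bool.rec (fun _ => Nat) (Ptab_1557) (Ptab_1558) (Nat.ble 1558 c)
noncomputable def Ptab_s_1555_1559 (c : Nat) : Nat := @Bool.rec (fun _ => Nat) (Ptab_s_1555_1557 c) (Ptab_s_1557_1559 c) (Nat.ble 1557 c)
noncomputable def Ptab_s_1551_1559 (c : Nat) : Nat := @Bool.rec (fun _ => Nat) (Ptab_s_1551_1555 c) (Ptab_s_1555_1559 c) (Nat.ble 1555 c)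
noncomputable def Ptab_s_1544_1559 (c : Nat) : Nat := @Bool.rec (fun _ => Nat) (Ptab_s_1544_1551 c) (Ptab_s_1551_1559 c) (Nat.ble 1551 c)
noncomputable def Ptab_s_1559_1561 (c : Nat) : Nat := @Bool.rec (fun _ => Nat) (Ptab_1559) (Ptab_1560) (Nat.ble 1560 c)
noncomputable def Ptab_s_1561_1563 (c : Nat) : Nat := @Bool.rec (fun _ => Nat) (Ptab_1561) (Ptab_1562) (Nat.ble 1562 c)
noncomputable def Ptab_s_1559_1563 (c : Nat) : Nat := @Bool.rec (fun _ => Nat) (Ptab_s_1559_1561 c) (Ptab_s_1561_1563 c) (Nat.ble 1561 c)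
noncomputable def Ptab_s_1563_1565 (c : Nat) : Nat := @Bool.rec (fun _ => Nat) (Ptab_1563) (Ptab_1564) (Nat.ble 1564 c)
noncomputable def Ptab_s_1565_1567 (c : Nat) : Nat := @Bool.rec (fun _ => Nat) (Ptab_1565) (Ptab_1566) (Nat.ble 1566 c)
noncomputable def Ptab_s_1563_1567 (c : Nat) : Nat := @Bool.rec (fun _ => Nat) (Ptab_s_1563_1565 c) (Ptab_s_1565_1567 c) (Nat.ble 1565 c)
noncomputable def Ptab_s_1559_1567 (c : Nat) : Nat := @Bool.rec (fun _ => Nat) (Ptab_s_1559_1563 c) (Ptab_s_1563_1567 c) (Nat.ble 1563 c)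
noncomputable def Ptab_s_1567_1569 (c : Nat) : Nat := @Bool.rec (fun _ => Nat) (Ptab_1567) (Ptab_1568) (Nat.ble 1568 c)
noncomputable def Ptab_s_1569_1571 (c : Nat) : Nat := @Bool.rec (fun _ => Nat) (Ptab_1569) (Ptab_1570) (Nat.ble 1570 c)
noncomputable def Ptab_s_1567_1571 (c : Nat) : Nat := @Bool.rec (fun _ => Nat) (Ptab_s_1567_1569 c) (Ptab_s_1569_1571 c) (Nat.ble 1569 c)
noncomputable def Ptab_s_1571_1573 (c : Nat) : Nat := @Bool.rec (fun _ => Nat) (Ptab_1571) (Ptab_1572) (Nat.ble 1572 c)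
noncomputable def Ptab_s_1573_1575 (c : Nat) : Nat := @Bool.rec (fun _ => Nat) (Ptab_1573) (Ptab_1574) (Nat.ble 1574 c)
noncomputable def Ptab_s_1571_1575 (c : Nat) : Nat := @Bool.rec (fun _ => Nat) (Ptab_s_1571_1573 c) (Ptab_s_1573_1575 c) (Nat.ble 1573 c)
noncomputable def Ptab_s_1567_1575 (c : Nat) : Nat := @Bool.rec (fun _ => Nat) (Ptab_s_1567_1571 c) (Ptab_s_1571_1575 c) (Nat.ble 1571 c)
noncomputable def Ptab_s_1559_1575 (c : Nat) : Nat := @Bool.rec (fun _ => Nat) (Ptab_s_1559_1567 c) (Ptab_s_1567_1575 c) (Nat.ble 1567 c)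
noncomputable def Ptab_s_1544_1575 (c : Nat) : Nat := @Bool.rec (fun _ => Nat) (Ptab_s_1544_1559 c) (Ptab_s_1559_1575 c) (Nat.ble 1559 c)
noncomputable def Ptab_s_1514_1575 (c : Nat) : Nat := @Bool.rec (fun _ => Nat) (Ptab_s_1514_1544 c) (Ptab_s_1544_1575 c) (Nat.ble 1544 c)
noncomputable def Ptab_s_1454_1575 (c : Nat) : Nat := @Bool.rec (fun _ => Nat) (Ptab_s_1454_1514 c) (Ptab_s_1514_1575 c) (Nat.ble 1514 c)
noncomputable def Ptab_s_1576_1578 (c : Nat) : Nat := @Bool.rec (fun _ => Nat) (Ptab_1576) (Ptab_1577) (Nat.ble 1577 c)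
noncomputable def Ptab_s_1575_1578 (c : Nat) : Nat := @Bool.rec (fun _ => Nat) (Ptab_1575) (Ptab_s_1576_1578 c) (Nat.ble 1576 c)
noncomputable def Ptab_s_1578_1580 (c : Nat) : Nat := @Bool.rec (fun _ => Nat) (Ptab_1578) (Ptab_1579) (Nat.ble 1579 c)
noncomputable def Ptab_s_1580_1582 (c : Nat) : Nat := @Bool.rec (fun _ => Nat) (Ptab_1580) (Ptab_1581) (Nat.ble 1581 c)
noncomputable def Ptab_s_1578_1582 (c : Nat) : Nat := @Bool.rec (fun _ => Nat) (Ptab_s_1578_1580 c) (Ptab_s_1580_1582 c) (Nat.ble 1580 c)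
noncomputable def Ptab_s_1575_1582 (c : Nat) : Nat := @Bool.rec (fun _ => Nat) (Ptab_s_1575_1578 c) (Ptab_s_1578_1582 c) (Nat.ble 1578 c)
noncomputable def Ptab_s_1582_1584 (c : Nat) : Nat := @Bool.rec (fun _ => Nat) (Ptab_1582) (Ptab_1583) (Nat.ble 1583 c)
noncomputable def Ptab_s_1584_1586 (c : Nat) : Nat := @Bool.rec (fun _ => Nat) (Ptab_1584) (Ptab_1585) (Nat.ble 1585 c)
noncomputable def Ptab_s_1582_1586 (c : Nat) : Nat := @Bool.rec (fun _ => Nat) (Ptab_s_1582_1584 c) (Ptab_s_1584_1586 c) (Nat.ble 1584 c)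
noncomputable def Ptab_s_1586_1588 (c : Nat) : Nat := @Bool.rec (fun _ => Nat) (Ptab_1586) (Ptab_1587) (Nat.ble 1587 c)
noncomputable def Ptab_s_1588_1590 (c : Nat) : Nat := @Bool.rec (fun _ => Nat) (Ptab_1588) (Ptab_1589) (Nat.ble 1589 c)
noncomputable def Ptab_s_1586_1590 (c : Nat) : Nat := @Bool.rec (fun _ => Nat) (Ptab_s_1586_1588 c) (Ptab_s_1588_1590 c) (Nat.ble 1588 c)
noncomputable def Ptab_s_1582_1590 (c : Nat) : Nat := @Bool.rec (fun _ => Nat) (Ptab_s_1582_1586 c) (Ptab_s_1586_1590 c) (Nat.ble 1586 c)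
noncomputable def Ptab_s_1575_1590 (c : Nat) : Nat := @Bool.rec (fun _ => Nat) (Ptab_s_1575_1582 c) (Ptab_s_1582_1590 c) (Nat.ble 1582 c)
noncomputable def Ptab_s_1591_1593 (c : Nat) : Nat := @Bool.rec (fun _ => Nat) (Ptab_1591) (Ptab_1592) (Nat.ble 1592 c)
noncomputable def Ptab_s_1590_1593 (c : Nat) : Nat := @Bool.rec (fun _ => Nat) (Ptab_1590) (Ptab_s_1591_1593 c) (Nat.ble 1591 c)
noncomputable def Ptab_s_1593_1595 (c : Nat) : Nat := @Bool.rec (fun _ => Nat) (Ptab_1593) (Ptab_1594) (Nat.ble 1594 c)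
noncomputable def Ptab_s_1595_1597 (c : Nat) : Nat := @Bool.rec (fun _ => Nat) (Ptab_1595) (Ptab_1596) (Nat.ble 1596 c)
noncomputable def Ptab_s_1593_1597 (c : Nat) : Nat := @Bool.rec (fun _ => Nat) (Ptab_s_1593_1595 c) (Ptab_s_1595_1597 c) (Nat.ble 1595 c)
noncomputable def Ptab_s_1590_1597 (c : Nat) : Nat := @Bool.rec (fun _ => Nat) (Ptab_s_1590_1593 c) (Ptab_s_1593_1597 c) (Nat.ble 1593 c)
noncomputable def Ptab_s_1597_1599 (c : Nat) : Nat := @Bool.rec (fun _ => Nat) (Ptab_1597) (Ptab_1598) (Nat.ble 1598 c)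
noncomputable def Ptab_s_1599_1601 (c : Nat) : Nat := @Bool.rec (fun _ => Nat) (Ptab_1599) (Ptab_1600) (Nat.ble 1600 c)
noncomputable def Ptab_s_1597_1601 (c : Nat) : Nat := @Bool.rec (fun _ => Nat) (Ptab_s_1597_1599 c) (Ptab_s_1599_1601 c) (Nat.ble 1599 c)
noncomputable def Ptab_s_1601_1603 (c : Nat) : Nat := @Bool.rec (fun _ => Nat) (Ptab_1601) (Ptab_1602) (Nat.ble 1602 c)
noncomputable def Ptab_s_1603_1605 (c : Nat) : Nat := @Bool.rec (fun _ => Nat) (Ptab_1603) (Ptab_1604) (Nat.ble 1604 c)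
noncomputable def Ptab_s_1601_1605 (c : Nat) : Nat := @Bool.rec (fun _ => Nat) (Ptab_s_1601_1603 c) (Ptab_s_1603_1605 c) (Nat.ble 1603 c)
noncomputable def Ptab_s_1597_1605 (c : Nat) : Nat := @Bool.rec (fun _ => Nat) (Ptab_s_1597_1601 c) (Ptab_s_1601_1605 c) (Nat.ble 1601 c)
noncomputable def Ptab_s_1590_1605 (c : Nat) : Nat := @Bool.rec (fun _ => Nat) (Ptab_s_1590_1597 c) (Ptab_s_1597_1605 c) (Nat.ble 1597 c)
noncomputable def Ptab_s_1575_1605 (c : Nat) : Nat := @Bool.rec (fun _ => Nat) (Ptab_s_1575_1590 c) (Ptab_s_1590_1605 c) (Nat.ble 1590 c)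
noncomputable def Ptab_s_1606_1608 (c : Nat) : Nat := @Bool.rec (fun _ => Nat) (Ptab_1606) (Ptab_1607) (Nat.ble 1607 c)
noncomputable def Ptab_s_1605_1608 (c : Nat) : Nat := @Bool.rec (fun _ => Nat) (Ptab_1605) (Ptab_s_1606_1608 c) (Nat.ble 1606 c)
noncomputable def Ptab_s_1608_1610 (c : Nat) : Nat := @Bool.rec (fun _ => Nat) (Ptab_1608) (Ptab_1609) (Nat.ble 1609 c)
noncomputable def Ptab_s_1610_1612 (c : Nat) : Nat := @Bool.rec (fun _ => Nat) (Ptab_1610) (Ptab_1611) (Nat.ble 1611 c)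
noncomputable def Ptab_s_1608_1612 (c : Nat) : Nat := @Bool.rec (fun _ => Nat) (Ptab_s_1608_1610 c) (Ptab_s_1610_1612 c) (Nat.ble 1610 c)
noncomputable def Ptab_s_1605_1612 (c : Nat) : Nat := @Bool.rec (fun _ => Nat) (Ptab_s_1605_1608 c) (Ptab_s_1608_1612 c) (Nat.ble 1608 c)
noncomputable def Ptab_s_1612_1614 (c : Nat) : Nat := @Bool.rec (fun _ => Nat) (Ptab_1612) (Ptab_1613) (Nat.ble 1613 c)
noncomputable def Ptab_s_1614_1616 (c : Nat) : Nat := @Bool.rec (fun _ => Nat) (Ptab_1614) (Ptab_1615) (Nat.ble 1615 c)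
noncomputable def Ptab_s_1612_1616 (c : Nat) : Nat := @Bool.rec (fun _ => Nat) (Ptab_s_1612_1614 c) (Ptab_s_1614_1616 c) (Nat.ble 1614 c)
noncomputable def Ptab_s_1616_1618 (c : Nat) : Nat := @Bool.rec (fun _ => Nat) (Ptab_1616) (Ptab_1617) (Nat.ble 1617 c)
noncomputable def Ptab_s_1618_1620 (c : Nat) : Nat := @Bool.rec (fun _ => Nat) (Ptab_1618) (Ptab_1619) (Nat.ble 1619 c)
noncomputable def Ptab_s_1616_1620 (c : Nat) : Nat := @Bool.rec (fun _ => Nat) (Ptab_s_1616_1618 c) (Ptab_s_1618_1620 c) (Nat.ble 1618 c)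
noncomputable def Ptab_s_1612_1620 (c : Nat) : Nat := @Bool.rec (fun _ => Nat) (Ptab_s_1612_1616 c) (Ptab_s_1616_1620 c) (Nat.ble 1616 c)
noncomputable def Ptab_s_1605_1620 (c : Nat) : Nat := @Bool.rec (fun _ => Nat) (Ptab_s_1605_1612 c) (Ptab_s_1612_1620 c) (Nat.ble 1612 c)
noncomputable def Ptab_s_1621_1623 (c : Nat) : Nat := @Bool.rec (fun _ => Nat) (Ptab_1621) (Ptab_1622) (Nat.ble 1622 c)
noncomputable def Ptab_s_1620_1623 (c : Nat) : Nat := @Bool.rec (fun _ => Nat) (Ptab_1620) (Ptab_s_1621_1623 c) (Nat.ble 1621 c)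
noncomputable def Ptab_s_1623_1625 (c : Nat) : Nat := @Bool.rec (fun _ => Nat) (Ptab_1623) (Ptab_1624) (Nat.ble 1624 c)
noncomputable def Ptab_s_1625_1627 (c : Nat) : Nat := @Bool.rec (fun _ => Nat) (Ptab_1625) (Ptab_1626) (Nat.ble 1626 c)
noncomputable def Ptab_s_1623_1627 (c : Nat) : Nat := @Bool.rec (fun _ => Nat) (Ptab_s_1623_1625 c) (Ptab_s_1625_1627 c) (Nat.ble 1625 c)
noncomputable def Ptab_s_1620_1627 (c : Nat) : Nat := @Bool.rec (fun _ => Nat) (Ptab_s_1620_1623 c) (Ptab_s_1623_1627 c) (Nat.ble 1623 c)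
noncomputable def Ptab_s_1627_1629 (c : Nat) : Nat := @Bool.rec (fun _ => Nat) (Ptab_1627) (Ptab_1628) (Nat.ble 1628 c)
noncomputable def Ptab_s_1629_1631 (c : Nat) : Nat := @Bool.rec (fun _ => Nat) (Ptab_1629) (Ptab_1630) (Nat.ble 1630 c)
noncomputable def Ptab_s_1627_1631 (c : Nat) : Nat := @Bool.rec (fun _ => Nat) (Ptab_s_1627_1629 c) (Ptab_s_1629_1631 c) (Nat.ble 1629 c)
noncomputable def Ptab_s_1631_1633 (c : Nat) : Nat := @Bool.rec (fun _ => Nat) (Ptab_1631) (Ptab_1632) (Nat.ble 1632 c)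
noncomputable def Ptab_s_1633_1635 (c : Nat) : Nat := @Bool.rec (fun _ => Nat) (Ptab_1633) (Ptab_1634) (Nat.ble 1634 c)
noncomputable def Ptab_s_1631_1635 (c : Nat) : Nat := @Bool.rec (fun _ => Nat) (Ptab_s_1631_1633 c) (Ptab_s_1633_1635 c) (Nat.ble 1633 c)
noncomputable def Ptab_s_1627_1635 (c : Nat) : Nat := @Bool.rec (fun _ => Nat) (Ptab_s_1627_1631 c) (Ptab_s_1631_1635 c) (Nat.ble 1631 c)
noncomputable def Ptab_s_1620_1635 (c : Nat) : Nat := @Bool.rec (fun _ => Nat) (Ptab_s_1620_1627 c) (Ptab_s_1627_1635 c) (Nat.ble 1627 c)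
noncomputable def Ptab_s_1605_1635 (c : Nat) : Nat := @Bool.rec (fun _ => Nat) (Ptab_s_1605_1620 c) (Ptab_s_1620_1635 c) (Nat.ble 1620 c)
noncomputable def Ptab_s_1575_1635 (c : Nat) : Nat := @Bool.rec (fun _ => Nat) (Ptab_s_1575_1605 c) (Ptab_s_1605_1635 c) (Nat.ble 1605 c)
noncomputable def Ptab_s_1636_1638 (c : Nat) : Nat := @Bool.rec (fun _ => Nat) (Ptab_1636) (Ptab_1637) (Nat.ble 1637 c)
noncomputable def Ptab_s_1635_1638 (c : Nat) : Nat := @Bool.rec (fun _ => Nat) (Ptab_1635) (Ptab_s_1636_1638 c) (Nat.ble 1636 c)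
noncomputable def Ptab_s_1638_1640 (c : Nat) : Nat := @Bool.rec (fun _ => Nat) (Ptab_1638) (Ptab_1639) (Nat.ble 1639 c)
noncomputable def Ptab_s_1640_1642 (c : Nat) : Nat := @Bool.rec (fun _ => Nat) (Ptab_1640) (Ptab_1641) (Nat.ble 1641 c)
noncomputable def Ptab_s_1638_1642 (c : Nat) : Nat := @Bool.rec (fun _ => Nat) (Ptab_s_1638_1640 c) (Ptab_s_1640_1642 c) (Nat.ble 1640 c)
noncomputable def Ptab_s_1635_1642 (c : Nat) : Nat := @Bool.rec (fun _ => Nat) (Ptab_s_1635_1638 c) (Ptab_s_1638_1642 c) (Nat.ble 1638 c)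
noncomputable def Ptab_s_1642_1644 (c : Nat) : Nat := @Bool.rec (fun _ => Nat) (Ptab_1642) (Ptab_1643) (Nat.ble 1643 c)
noncomputable def Ptab_s_1644_1646 (c : Nat) : Nat := @Bool.rec (fun _ => Nat) (Ptab_1644) (Ptab_1645) (Nat.ble 1645 c)
noncomputable def Ptab_s_1642_1646 (c : Nat) : Nat := @Bool.rec (fun _ => Nat) (Ptab_s_1642_1644 c) (Ptab_s_1644_1646 c) (Nat.ble 1644 c)
noncomputable def Ptab_s_1646_1648 (c : Nat) : Nat := @Bool.rec (fun _ => Nat) (Ptab_1646) (Ptab_1647) (Nat.ble 1647 c)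
noncomputable def Ptab_s_1648_1650 (c : Nat) : Nat := @Bool.rec (fun _ => Nat) (Ptab_1648) (Ptab_1649) (Nat.ble 1649 c)
noncomputable def Ptab_s_1646_1650 (c : Nat) : Nat := @Bool.rec (fun _ => Nat) (Ptab_s_1646_1648 c) (Ptab_s_1648_1650 c) (Nat.ble 1648 c)
noncomputable def Ptab_s_1642_1650 (c : Nat) : Nat := @Bool.rec (fun _ => Nat) (Ptab_s_1642_1646 c) (Ptab_s_1646_1650 c) (Nat.ble 1646 c)
noncomputable def Ptab_s_1635_1650 (c : Nat) : Nat := @Bool.rec (fun _ => Nat) (Ptab_s_1635_1642 c) (Ptab_s_1642_1650 c) (Nat.ble 1642 c)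
noncomputable def Ptab_s_1651_1653 (c : Nat) : Nat := @Bool.rec (fun _ => Nat) (Ptab_1651) (Ptab_1652) (Nat.ble 1652 c)
noncomputable def Ptab_s_1650_1653 (c : Nat) : Nat := @Bool.rec (fun _ => Nat) (Ptab_1650) (Ptab_s_1651_1653 c) (Nat.ble 1651 c)
noncomputable def Ptab_s_1653_1655 (c : Nat) : Nat := @Bool.rec (fun _ => Nat) (Ptab_1653) (Ptab_1654) (Nat.ble 1654 c)
noncomputable def Ptab_s_1655_1657 (c : Nat) : Nat := @Bool.rec (fun _ => Nat) (Ptab_1655) (Ptab_1656) (Nat.ble 1656 c)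
noncomputable def Ptab_s_1653_1657 (c : Nat) : Nat := @Bool.rec (fun _ => Nat) (Ptab_s_1653_1655 c) (Ptab_s_1655_1657 c) (Nat.ble 1655 c)
noncomputable def Ptab_s_1650_1657 (c : Nat) : Nat := @Bool.rec (fun _ => Nat) (Ptab_s_1650_1653 c) (Ptab_s_1653_1657 c) (Nat.ble 1653 c)
noncomputable def Ptab_s_1657_1659 (c : Nat) : Nat := @Bool.rec (fun _ => Nat) (Ptab_1657) (Ptab_1658) (Nat.ble 1658 c)
noncomputable def Ptab_s_1659_1661 (c : Nat) : Nat := @Bool.rec (fun _ => Nat) (Ptab_1659) (Ptab_1660) (Nat.ble 1660 c)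
noncomputable def Ptab_s_1657_1661 (c : Nat) : Nat := @Bool.rec (fun _ => Nat) (Ptab_s_1657_1659 c) (Ptab_s_1659_1661 c) (Nat.ble 1659 c)
noncomputable def Ptab_s_1661_1663 (c : Nat) : Nat := @Bool.rec (fun _ => Nat) (Ptab_1661) (Ptab_1662) (Nat.ble 1662 c)
noncomputable def Ptab_s_1663_1665 (c : Nat) : Nat := @Bool.rec (fun _ => Nat) (Ptab_1663) (Ptab_1664) (Nat.ble 1664 c)
noncomputable def Ptab_s_1661_1665 (c : Nat) : Nat := @Bool.rec (fun _ => Nat) (Ptab_s_1661_1663 c) (Ptab_s_1663_1665 c) (Nat.ble 1663 c)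
noncomputable def Ptab_s_1657_1665 (c : Nat) : Nat := @Bool.rec (fun _ => Nat) (Ptab_s_1657_1661 c) (Ptab_s_1661_1665 c) (Nat.ble 1661 c)
noncomputable def Ptab_s_1650_1665 (c : Nat) : Nat := @Bool.rec (fun _ => Nat) (Ptab_s_1650_1657 c) (Ptab_s_1657_1665 c) (Nat.ble 1657 c)
noncomputable def Ptab_s_1635_1665 (c : Nat) : Nat := @Bool.rec (fun _ => Nat) (Ptab_s_1635_1650 c) (Ptab_s_1650_1665 c) (Nat.ble 1650 c)
noncomputable def Ptab_s_1666_1668 (c : Nat) : Nat := @Bool.rec (fun _ => Nat) (Ptab_1666) (Ptab_1667) (Nat.ble 1667 c)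
noncomputable def Ptab_s_1665_1668 (c : Nat) : Nat := @Bool.rec (fun _ => Nat) (Ptab_1665) (Ptab_s_1666_1668 c) (Nat.ble 1666 c)
noncomputable def Ptab_s_1668_1670 (c : Nat) : Nat := @Bool.rec (fun _ => Nat) (Ptab_1668) (Ptab_1669) (Nat.ble 1669 c)
noncomputable def Ptab_s_1670_1672 (c : Nat) : Nat := @Bool.rec (fun _ => Nat) (Ptab_1670) (Ptab_1671) (Nat.ble 1671 c)
noncomputable def Ptab_s_1668_1672 (c : Nat) : Nat := @Bool.rec (fun _ => Nat) (Ptab_s_1668_1670 c) (Ptab_s_1670_1672 c) (Nat.ble 1670 c)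
noncomputable def Ptab_s_1665_1672 (c : Nat) : Nat := @Bool.rec (fun _ => Nat) (Ptab_s_1665_1668 c) (Ptab_s_1668_1672 c) (Nat.ble 1668 c)
noncomputable def Ptab_s_1672_1674 (c : Nat) : Nat := @Bool.rec (fun _ => Nat) (Ptab_1672) (Ptab_1673) (Nat.ble 1673 c)
noncomputable def Ptab_s_1674_1676 (c : Nat) : Nat := @Bool.rec (fun _ => Nat) (Ptab_1674) (Ptab_1675) (Nat.ble 1675 c)
noncomputable def Ptab_s_1672_1676 (c : Nat) : Nat := @Bool.rec (fun _ => Nat) (Ptab_s_1672_1674 c) (Ptab_s_1674_1676 c) (Nat.ble 1674 c)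
noncomputable def Ptab_s_1676_1678 (c : Nat) : Nat := @Bool.rec (fun _ => Nat) (Ptab_1676) (Ptab_1677) (Nat.ble 1677 c)
noncomputable def Ptab_s_1678_1680 (c : Nat) : Nat := @Bool.rec (fun _ => Nat) (Ptab_1678) (Ptab_1679) (Nat.ble 1679 c)
noncomputable def Ptab_s_1676_1680 (c : Nat) : Nat := @Bool.rec (fun _ => Nat) (Ptab_s_1676_1678 c) (Ptab_s_1678_1680 c) (Nat.ble 1678 c)
noncomputable def Ptab_s_1672_1680 (c : Nat) : Nat := @Bool.rec (fun _ => Nat) (Ptab_s_1672_1676 c) (Ptab_s_1676_1680 c) (Nat.ble 1676 c)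
noncomputable def Ptab_s_1665_1680 (c : Nat) : Nat := @Bool.rec (fun _ => Nat) (Ptab_s_1665_1672 c) (Ptab_s_1672_1680 c) (Nat.ble 1672 c)
noncomputable def Ptab_s_1680_1682 (c : Nat) : Nat := @Bool.rec (fun _ => Nat) (Ptab_1680) (Ptab_1681) (Nat.ble 1681 c)
noncomputable def Ptab_s_1682_1684 (c : Nat) : Nat := @Bool.rec (fun _ => Nat) (Ptab_1682) (Ptab_1683) (Nat.ble 1683 c)
noncomputable def Ptab_s_1680_1684 (c : Nat) : Nat := @Bool.rec (fun _ => Nat) (Ptab_s_1680_1682 c) (Ptab_s_1682_1684 c) (Nat.ble 1682 c)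
noncomputable def Ptab_s_1684_1686 (c : Nat) : Nat := @Bool.rec (fun _ => Nat) (Ptab_1684) (Ptab_1685) (Nat.ble 1685 c)
noncomputable def Ptab_s_1686_1688 (c : Nat) : Nat := @Bool.rec (fun _ => Nat) (Ptab_1686) (Ptab_1687) (Nat.ble 1687 c)
noncomputable def Ptab_s_1684_1688 (c : Nat) : Nat := @Bool.rec (fun _ => Nat) (Ptab_s_1684_1686 c) (Ptab_s_1686_1688 c) (Nat.ble 1686 c)
noncomputable def Ptab_s_1680_1688 (c : Nat) : Nat := @Bool.rec (fun _ => Nat) (Ptab_s_1680_1684 c) (Ptab_s_1684_1688 c) (Nat.ble 1684 c)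
noncomputable def Ptab_s_1688_1690 (c : Nat) : Nat := @Bool.rec (fun _ => Nat) (Ptab_1688) (Ptab_1689) (Nat.ble 1689 c)
noncomputable def Ptab_s_1690_1692 (c : Nat) : Nat := @Bool.rec (fun _ => Nat) (Ptab_1690) (Ptab_1691) (Nat.ble 1691 c)
noncomputable def Ptab_s_1688_1692 (c : Nat) : Nat := @Bool.rec (fun _ => Nat) (Ptab_s_1688_1690 c) (Ptab_s_1690_1692 c) (Nat.ble 1690 c)
noncomputable def Ptab_s_1692_1694 (c : Nat) : Nat := @Bool.rec (fun _ => Nat) (Ptab_1692) (Ptab_1693) (Nat.ble 1693 c)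
noncomputable def Ptab_s_1694_1696 (c : Nat) : Nat := @Bool.rec (fun _ => Nat) (Ptab_1694) (Ptab_1695) (Nat.ble 1695 c)
noncomputable def Ptab_s_1692_1696 (c : Nat) : Nat := @Bool.rec (fun _ => Nat) (Ptab_s_1692_1694 c) (Ptab_s_1694_1696 c) (Nat.ble 1694 c)
noncomputable def Ptab_s_1688_1696 (c : Nat) : Nat := @Bool.rec (fun _ => Nat) (Ptab_s_1688_1692 c) (Ptab_s_1692_1696 c) (Nat.ble 1692 c)
noncomputable def Ptab_s_1680_1696 (c : Nat) : Nat := @Bool.rec (fun _ => Nat) (Ptab_s_1680_1688 c) (Ptab_s_1688_1696 c) (Nat.ble 1688 c)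
noncomputable def Ptab_s_1665_1696 (c : Nat) : Nat := @Bool.rec (fun _ => Nat) (Ptab_s_1665_1680 c) (Ptab_s_1680_1696 c) (Nat.ble 1680 c)
noncomputable def Ptab_s_1635_1696 (c : Nat) : Nat := @Bool.rec (fun _ => Nat) (Ptab_s_1635_1665 c) (Ptab_s_1665_1696 c) (Nat.ble 1665 c)
noncomputable def Ptab_s_1575_1696 (c : Nat) : Nat := @Bool.rec (fun _ => Nat) (Ptab_s_1575_1635 c) (Ptab_s_1635_1696 c) (Nat.ble 1635 c)
noncomputable def Ptab_s_1454_1696 (c : Nat) : Nat := @Bool.rec (fun _ => Nat) (Ptab_s_1454_1575 c) (Ptab_s_1575_1696 c) (Nat.ble 1575 c)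
noncomputable def Ptab_s_1697_1699 (c : Nat) : Nat := @Bool.rec (fun _ => Nat) (Ptab_1697) (Ptab_1698) (Nat.ble 1698 c)
noncomputable def Ptab_s_1696_1699 (c : Nat) : Nat := @Bool.rec (fun _ => Nat) (Ptab_1696) (Ptab_s_1697_1699 c) (Nat.ble 1697 c)
noncomputable def Ptab_s_1699_1701 (c : Nat) : Nat := @Bool.rec (fun _ => Nat) (Ptab_1699) (Ptab_1700) (Nat.ble 1700 c)
noncomputable def Ptab_s_1701_1703 (c : Nat) : Nat := @Bool.rec (fun _ => Nat) (Ptab_1701) (Ptab_1702) (Nat.ble 1702 c)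
noncomputable def Ptab_s_1699_1703 (c : Nat) : Nat := @Bool.rec (fun _ => Nat) (Ptab_s_1699_1701 c) (Ptab_s_1701_1703 c) (Nat.ble 1701 c)
noncomputable def Ptab_s_1696_1703 (c : Nat) : Nat := @Bool.rec (fun _ => Nat) (Ptab_s_1696_1699 c) (Ptab_s_1699_1703 c) (Nat.ble 1699 c)
noncomputable def Ptab_s_1703_1705 (c : Nat) : Nat := @Bool.rec (fun _ => Nat) (Ptab_1703) (Ptab_1704) (Nat.ble 1704 c)
noncomputable def Ptab_s_1705_1707 (c : Nat) : Nat := @Bool.rec (fun _ => Nat) (Ptab_1705) (Ptab_1706) (Nat.ble 1706 c)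
noncomputable def Ptab_s_1703_1707 (c : Nat) : Nat := @Bool.rec (fun _ => Nat) (Ptab_s_1703_1705 c) (Ptab_s_1705_1707 c) (Nat.ble 1705 c)
noncomputable def Ptab_s_1707_1709 (c : Nat) : Nat := @Bool.rec (fun _ => Nat) (Ptab_1707) (Ptab_1708) (Nat.ble 1708 c)
noncomputable def Ptab_s_1709_1711 (c : Nat) : Nat := @Bool.rec (fun _ => Nat) (Ptab_1709) (Ptab_1710) (Nat.ble 1710 c)
noncomputable def Ptab_s_1707_1711 (c : Nat) : Nat := @Bool.rec (fun _ => Nat) (Ptab_s_1707_1709 c) (Ptab_s_1709_1711 c) (Nat.ble 1709 c)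
noncomputable def Ptab_s_1703_1711 (c : Nat) : Nat := @Bool.rec (fun _ => Nat) (Ptab_s_1703_1707 c) (Ptab_s_1707_1711 c) (Nat.ble 1707 c)
noncomputable def Ptab_s_1696_1711 (c : Nat) : Nat := @Bool.rec (fun _ => Nat) (Ptab_s_1696_1703 c) (Ptab_s_1703_1711 c) (Nat.ble 1703 c)
noncomputable def Ptab_s_1712_1714 (c : Nat) : Nat := @Bool.rec (fun _ => Nat) (Ptab_1712) (Ptab_1713) (Nat.ble 1713 c)
noncomputable def Ptab_s_1711_1714 (c : Nat) : Nat := @Bool.rec (fun _ => Nat) (Ptab_1711) (Ptab_s_1712_1714 c) (Nat.ble 1712 c)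
noncomputable def Ptab_s_1714_1716 (c : Nat) : Nat := @Bool.rec (fun _ => Nat) (Ptab_1714) (Ptab_1715) (Nat.ble 1715 c)
noncomputable def Ptab_s_1716_1718 (c : Nat) : Nat := @Bool.rec (fun _ => Nat) (Ptab_1716) (Ptab_1717) (Nat.ble 1717 c)
noncomputable def Ptab_s_1714_1718 (c : Nat) : Nat := @Bool.rec (fun _ => Nat) (Ptab_s_1714_1716 c) (Ptab_s_1716_1718 c) (Nat.ble 1716 c)
noncomputable def Ptab_s_1711_1718 (c : Nat) : Nat := @Bool.rec (fun _ => Nat) (Ptab_s_1711_1714 c) (Ptab_s_1714_1718 c) (Nat.ble 1714 c)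
noncomputable def Ptab_s_1718_1720 (c : Nat) : Nat := @Bool.rec (fun _ => Nat) (Ptab_1718) (Ptab_1719) (Nat.ble 1719 c)
noncomputable def Ptab_s_1720_1722 (c : Nat) : Nat := @Bool.rec (fun _ => Nat) (Ptab_1720) (Ptab_1721) (Nat.ble 1721 c)
noncomputable def Ptab_s_1718_1722 (c : Nat) : Nat := @Bool.rec (fun _ => Nat) (Ptab_s_1718_1720 c) (Ptab_s_1720_1722 c) (Nat.ble 1720 c)
noncomputable def Ptab_s_1722_1724 (c : Nat) : Nat := @Bool.rec (fun _ => Nat) (Ptab_1722) (Ptab_1723) (Nat.ble 1723 c)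
noncomputable def Ptab_s_1724_1726 (c : Nat) : Nat := @Bool.rec (fun _ => Nat) (Ptab_1724) (Ptab_1725) (Nat.ble 1725 c)
noncomputable def Ptab_s_1722_1726 (c : Nat) : Nat := @Bool.rec (fun _ => Nat) (Ptab_s_1722_1724 c) (Ptab_s_1724_1726 c) (Nat.ble 1724 c)
noncomputable def Ptab_s_1718_1726 (c : Nat) : Nat := @Bool.rec (fun _ => Nat) (Ptab_s_1718_1722 c) (Ptab_s_1722_1726 c) (Nat.ble 1722 c)
noncomputable def Ptab_s_1711_1726 (c : Nat) : Nat := @Bool.rec (fun _ => Nat) (Ptab_s_1711_1718 c) (Ptab_s_1718_1726 c) (Nat.ble 1718 c)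
noncomputable def Ptab_s_1696_1726 (c : Nat) : Nat := @Bool.rec (fun _ => Nat) (Ptab_s_1696_1711 c) (Ptab_s_1711_1726 c) (Nat.ble 1711 c)
noncomputable def Ptab_s_1727_1729 (c : Nat) : Nat := @Bool.rec (fun _ => Nat) (Ptab_1727) (Ptab_1728) (Nat.ble 1728 c)
noncomputable def Ptab_s_1726_1729 (c : Nat) : Nat := @Bool.rec (fun _ => Nat) (Ptab_1726) (Ptab_s_1727_1729 c) (Nat.ble 1727 c)
noncomputable def Ptab_s_1729_1731 (c : Nat) : Nat := @Bool.rec (fun _ => Nat) (Ptab_1729) (Ptab_1730) (Nat.ble 1730 c)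
noncomputable def Ptab_s_1731_1733 (c : Nat) : Nat := @Bool.rec (fun _ => Nat) (Ptab_1731) (Ptab_1732) (Nat.ble 1732 c)
noncomputable def Ptab_s_1729_1733 (c : Nat) : Nat := @Bool.rec (fun _ => Nat) (Ptab_s_1729_1731 c) (Ptab_s_1731_1733 c) (Nat.ble 1731 c)
noncomputable def Ptab_s_1726_1733 (c : Nat) : Nat := @Bool.rec (fun _ => Nat) (Ptab_s_1726_1729 c) (Ptab_s_1729_1733 c) (Nat.ble 1729 c)
noncomputable def Ptab_s_1733_1735 (c : Nat) : Nat := @Bool.rec (fun _ => Nat) (Ptab_1733) (Ptab_1734) (Nat.ble 1734 c)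
noncomputable def Ptab_s_1735_1737 (c : Nat) : Nat := @Bool.rec (fun _ => Nat) (Ptab_1735) (Ptab_1736) (Nat.ble 1736 c)
noncomputable def Ptab_s_1733_1737 (c : Nat) : Nat := @Bool.rec (fun _ => Nat) (Ptab_s_1733_1735 c) (Ptab_s_1735_1737 c) (Nat.ble 1735 c)
noncomputable def Ptab_s_1737_1739 (c : Nat) : Nat := @Bool.rec (fun _ => Nat) (Ptab_1737) (Ptab_1738) (Nat.ble 1738 c)
noncomputable def Ptab_s_1739_1741 (c : Nat) : Nat := @Bool.rec (fun _ => Nat) (Ptab_1739) (Ptab_1740) (Nat.ble 1740 c)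
noncomputable def Ptab_s_1737_1741 (c : Nat) : Nat := @Bool.rec (fun _ => Nat) (Ptab_s_1737_1739 c) (Ptab_s_1739_1741 c) (Nat.ble 1739 c)
noncomputable def Ptab_s_1733_1741 (c : Nat) : Nat := @Bool.rec (fun _ => Nat) (Ptab_s_1733_1737 c) (Ptab_s_1737_1741 c) (Nat.ble 1737 c)
noncomputable def Ptab_s_1726_1741 (c : Nat) : Nat := @Bool.rec (fun _ => Nat) (Ptab_s_1726_1733 c) (Ptab_s_1733_1741 c) (Nat.ble 1733 c)
noncomputable def Ptab_s_1742_1744 (c : Nat) : Nat := @Bool.rec (fun _ => Nat) (Ptab_1742) (Ptab_1743) (Nat.ble 1743 c)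
noncomputable def Ptab_s_1741_1744 (c : Nat) : Nat := @Bool.rec (fun _ => Nat) (Ptab_1741) (Ptab_s_1742_1744 c) (Nat.ble 1742 c)
noncomputable def Ptab_s_1744_1746 (c : Nat) : Nat := @Bool.rec (fun _ => Nat) (Ptab_1744) (Ptab_1745) (Nat.ble 1745 c)
noncomputable def Ptab_s_1746_1748 (c : Nat) : Nat := @Bool.rec (fun _ => Nat) (Ptab_1746) (Ptab_1747) (Nat.ble 1747 c)
noncomputable def Ptab_s_1744_1748 (c : Nat) : Nat := @Bool.rec (fun _ => Nat) (Ptab_s_1744_1746 c) (Ptab_s_1746_1748 c) (Nat.ble 1746 c)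
noncomputable def Ptab_s_1741_1748 (c : Nat) : Nat := @Bool.rec (fun _ => Nat) (Ptab_s_1741_1744 c) (Ptab_s_1744_1748 c) (Nat.ble 1744 c)
noncomputable def Ptab_s_1748_1750 (c : Nat) : Nat := @Bool.rec (fun _ => Nat) (Ptab_1748) (Ptab_1749) (Nat.ble 1749 c)
noncomputable def Ptab_s_1750_1752 (c : Nat) : Nat := @Bool.rec (fun _ => Nat) (Ptab_1750) (Ptab_1751) (Nat.ble 1751 c)
noncomputable def Ptab_s_1748_1752 (c : Nat) : Nat := @Bool.rec (fun _ => Nat) (Ptab_s_1748_1750 c) (Ptab_s_1750_1752 c) (Nat.ble 1750 c)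
noncomputable def Ptab_s_1752_1754 (c : Nat) : Nat := @Bool.rec (fun _ => Nat) (Ptab_1752) (Ptab_1753) (Nat.ble 1753 c)
noncomputable def Ptab_s_1754_1756 (c : Nat) : Nat := @Bool.rec (fun _ => Nat) (Ptab_1754) (Ptab_1755) (Nat.ble 1755 c)
noncomputable def Ptab_s_1752_1756 (c : Nat) : Nat := @Bool.rec (fun _ => Nat) (Ptab_s_1752_1754 c) (Ptab_s_1754_1756 c) (Nat.ble 1754 c)
noncomputable def Ptab_s_1748_1756 (c : Nat) : Nat := @Bool.rec (fun _ => Nat) (Ptab_s_1748_1752 c) (Ptab_s_1752_1756 c) (Nat.ble 1752 c)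
noncomputable def Ptab_s_1741_1756 (c : Nat) : Nat := @Bool.rec (fun _ => Nat) (Ptab_s_1741_1748 c) (Ptab_s_1748_1756 c) (Nat.ble 1748 c)
noncomputable def Ptab_s_1726_1756 (c : Nat) : Nat := @Bool.rec (fun _ => Nat) (Ptab_s_1726_1741 c) (Ptab_s_1741_1756 c) (Nat.ble 1741 c)
noncomputable def Ptab_s_1696_1756 (c : Nat) : Nat := @Bool.rec (fun _ => Nat) (Ptab_s_1696_1726 c) (Ptab_s_1726_1756 c) (Nat.ble 1726 c)
noncomputable def Ptab_s_1757_1759 (c : Nat) : Nat := @Bool.rec (fun _ => Nat) (Ptab_1757) (Ptab_1758) (Nat.ble 1758 c)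
noncomputable def Ptab_s_1756_1759 (c : Nat) : Nat := @Bool.rec (fun _ => Nat) (Ptab_1756) (Ptab_s_1757_1759 c) (Nat.ble 1757 c)
noncomputable def Ptab_s_1759_1761 (c : Nat) : Nat := @Bool.rec (fun _ => Nat) (Ptab_1759) (Ptab_1760) (Nat.ble 1760 c)
noncomputable def Ptab_s_1761_1763 (c : Nat) : Nat := @Bool.rec (fun _ => Nat) (Ptab_1761) (Ptab_1762) (Nat.ble 1762 c)
noncomputable def Ptab_s_1759_1763 (c : Nat) : Nat := @Bool.rec (fun _ => Nat) (Ptab_s_1759_1761 c) (Ptab_s_1761_1763 c) (Nat.ble 1761 c)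
noncomputable def Ptab_s_1756_1763 (c : Nat) : Nat := @Bool.rec (fun _ => Nat) (Ptab_s_1756_1759 c) (Ptab_s_1759_1763 c) (Nat.ble 1759 c)
noncomputable def Ptab_s_1763_1765 (c : Nat) : Nat := @Bool.rec (fun _ => Nat) (Ptab_1763) (Ptab_1764) (Nat.ble 1764 c)
noncomputable def Ptab_s_1765_1767 (c : Nat) : Nat := @Bool.rec (fun _ => Nat) (Ptab_1765) (Ptab_1766) (Nat.ble 1766 c)
noncomputable def Ptab_s_1763_1767 (c : Nat) : Nat := @Bool.rec (fun _ => Nat) (Ptab_s_1763_1765 c) (Ptab_s_1765_1767 c) (Nat.ble 1765 c)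
noncomputable def Ptab_s_1767_1769 (c : Nat) : Nat := @Bool.rec (fun _ => Nat) (Ptab_1767) (Ptab_1768) (Nat.ble 1768 c)
noncomputable def Ptab_s_1769_1771 (c : Nat) : Nat := @Bool.rec (fun _ => Nat) (Ptab_1769) (Ptab_1770) (Nat.ble 1770 c)
noncomputable def Ptab_s_1767_1771 (c : Nat) : Nat := @Bool.rec (fun _ => Nat) (Ptab_s_1767_1769 c) (Ptab_s_1769_1771 c) (Nat.ble 1769 c)
noncomputable def Ptab_s_1763_1771 (c : Nat) : Nat := @Bool.rec (fun _ => Nat) (Ptab_s_1763_1767 c) (Ptab_s_1767_1771 c) (Nat.ble 1767 c)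
noncomputable def Ptab_s_1756_1771 (c : Nat) : Nat := @Bool.rec (fun _ => Nat) (Ptab_s_1756_1763 c) (Ptab_s_1763_1771 c) (Nat.ble 1763 c)
noncomputable def Ptab_s_1772_1774 (c : Nat) : Nat := @Bool.rec (fun _ => Nat) (Ptab_1772) (Ptab_1773) (Nat.ble 1773 c)
noncomputable def Ptab_s_1771_1774 (c : Nat) : Nat := @Bool.rec (fun _ => Nat) (Ptab_1771) (Ptab_s_1772_1774 c) (Nat.ble 1772 c)
noncomputable def Ptab_s_1774_1776 (c : Nat) : Nat := @Bool.rec (fun _ => Nat) (Ptab_1774) (Ptab_1775) (Nat.ble 1775 c)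
noncomputable def Ptab_s_1776_1778 (c : Nat) : Nat := @Bool.rec (fun _ => Nat) (Ptab_1776) (Ptab_1777) (Nat.ble 1777 c)
noncomputable def Ptab_s_1774_1778 (c : Nat) : Nat := @Bool.rec (fun _ => Nat) (Ptab_s_1774_1776 c) (Ptab_s_1776_1778 c) (Nat.ble 1776 c)
noncomputable def Ptab_s_1771_1778 (c : Nat) : Nat := @Bool.rec (fun _ => Nat) (Ptab_s_1771_1774 c) (Ptab_s_1774_1778 c) (Nat.ble 1774 c)
noncomputable def Ptab_s_1778_1780 (c : Nat) : Nat := @Bool.rec (fun _ => Nat) (Ptab_1778) (Ptab_1779) (Nat.ble 1779 c)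
noncomputable def Ptab_s_1780_1782 (c : Nat) : Nat := @Bool.rec (fun _ => Nat) (Ptab_1780) (Ptab_1781) (Nat.ble 1781 c)
noncomputable def Ptab_s_1778_1782 (c : Nat) : Nat := @Bool.rec (fun _ => Nat) (Ptab_s_1778_1780 c) (Ptab_s_1780_1782 c) (Nat.ble 1780 c)
noncomputable def Ptab_s_1782_1784 (c : Nat) : Nat := @Bool.rec (fun _ => Nat) (Ptab_1782) (Ptab_1783) (Nat.ble 1783 c)
noncomputable def Ptab_s_1784_1786 (c : Nat) : Nat := @Bool.rec (fun _ => Nat) (Ptab_1784) (Ptab_1785) (Nat.ble 1785 c)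
noncomputable def Ptab_s_1782_1786 (c : Nat) : Nat := @Bool.rec (fun _ => Nat) (Ptab_s_1782_1784 c) (Ptab_s_1784_1786 c) (Nat.ble 1784 c)
noncomputable def Ptab_s_1778_1786 (c : Nat) : Nat := @Bool.rec (fun _ => Nat) (Ptab_s_1778_1782 c) (Ptab_s_1782_1786 c) (Nat.ble 1782 c)
noncomputable def Ptab_s_1771_1786 (c : Nat) : Nat := @Bool.rec (fun _ => Nat) (Ptab_s_1771_1778 c) (Ptab_s_1778_1786 c) (Nat.ble 1778 c)
noncomputable def Ptab_s_1756_1786 (c : Nat) : Nat := @Bool.rec (fun _ => Nat) (Ptab_s_1756_1771 c) (Ptab_s_1771_1786 c) (Nat.ble 1771 c)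
noncomputable def Ptab_s_1787_1789 (c : Nat) : Nat := @Bool.rec (fun _ => Nat) (Ptab_1787) (Ptab_1788) (Nat.ble 1788 c)
noncomputable def Ptab_s_1786_1789 (c : Nat) : Nat := @Bool.rec (fun _ => Nat) (Ptab_1786) (Ptab_s_1787_1789 c) (Nat.ble 1787 c)
noncomputable def Ptab_s_1789_1791 (c : Nat) : Nat := @Bool.rec (fun _ => Nat) (Ptab_1789) (Ptab_1790) (Nat.ble 1790 c)
noncomputable def Ptab_s_1791_1793 (c : Nat) : Nat := @Bool.rec (fun _ => Nat) (Ptab_1791) (Ptab_1792) (Nat.ble 1792 c)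
noncomputable def Ptab_s_1789_1793 (c : Nat) : Nat := @Bool.rec (fun _ => Nat) (Ptab_s_1789_1791 c) (Ptab_s_1791_1793 c) (Nat.ble 1791 c)
noncomputable def Ptab_s_1786_1793 (c : Nat) : Nat := @Bool.rec (fun _ => Nat) (Ptab_s_1786_1789 c) (Ptab_s_1789_1793 c) (Nat.ble 1789 c)
noncomputable def Ptab_s_1793_1795 (c : Nat) : Nat := @Bool.rec (fun _ => Nat) (Ptab_1793) (Ptab_1794) (Nat.ble 1794 c)
noncomputable def Ptab_s_1795_1797 (c : Nat) : Nat := @Bool.rec (fun _ => Nat) (Ptab_1795) (Ptab_1796) (Nat.ble 1796 c)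
noncomputable def Ptab_s_1793_1797 (c : Nat) : Nat := @Bool.rec (fun _ => Nat) (Ptab_s_1793_1795 c) (Ptab_s_1795_1797 c) (Nat.ble 1795 c)
noncomputable def Ptab_s_1797_1799 (c : Nat) : Nat := @Bool.rec (fun _ => Nat) (Ptab_1797) (Ptab_1798) (Nat.ble 1798 c)
noncomputable def Ptab_s_1799_1801 (c : Nat) : Nat := @Bool.rec (fun _ => Nat) (Ptab_1799) (Ptab_1800) (Nat.ble 1800 c)
noncomputable def Ptab_s_1797_1801 (c : Nat) : Nat := @Bool.rec (fun _ => Nat) (Ptab_s_1797_1799 c) (Ptab_s_1799_1801 c) (Nat.ble 1799 c)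
noncomputable def Ptab_s_1793_1801 (c : Nat) : Nat := @Bool.rec (fun _ => Nat) (Ptab_s_1793_1797 c) (Ptab_s_1797_1801 c) (Nat.ble 1797 c)
noncomputable def Ptab_s_1786_1801 (c : Nat) : Nat := @Bool.rec (fun _ => Nat) (Ptab_s_1786_1793 c) (Ptab_s_1793_1801 c) (Nat.ble 1793 c)
noncomputable def Ptab_s_1801_1803 (c : Nat) : Nat := @Bool.rec (fun _ => Nat) (Ptab_1801) (Ptab_1802) (Nat.ble 1802 c)
noncomputable def Ptab_s_1803_1805 (c : Nat) : Nat := @Bool.rec (fun _ => Nat) (Ptab_1803) (Ptab_1804) (Nat.ble 1804 c)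
noncomputable def Ptab_s_1801_1805 (c : Nat) : Nat := @Bool.rec (fun _ => Nat) (Ptab_s_1801_1803 c) (Ptab_s_1803_1805 c) (Nat.ble 1803 c)
noncomputable def Ptab_s_1805_1807 (c : Nat) : Nat := @Bool.rec (fun _ => Nat) (Ptab_1805) (Ptab_1806) (Nat.ble 1806 c)
noncomputable def Ptab_s_1807_1809 (c : Nat) : Nat := @Bool.rec (fun _ => Nat) (Ptab_1807) (Ptab_1808) (Nat.ble 1808 c)
noncomputable def Ptab_s_1805_1809 (c : Nat) : Nat := @Bool.rec (fun _ => Nat) (Ptab_s_1805_1807 c) (Ptab_s_1807_1809 c) (Nat.ble 1807 c)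
noncomputable def Ptab_s_1801_1809 (c : Nat) : Nat := @Bool.rec (fun _ => Nat) (Ptab_s_1801_1805 c) (Ptab_s_1805_1809 c) (Nat.ble 1805 c)
noncomputable def Ptab_s_1809_1811 (c : Nat) : Nat := @Bool.rec (fun _ => Nat) (Ptab_1809) (Ptab_1810) (Nat.ble 1810 c)
noncomputable def Ptab_s_1811_1813 (c : Nat) : Nat := @Bool.rec (fun _ => Nat) (Ptab_1811) (Ptab_1812) (Nat.ble 1812 c)
noncomputable def Ptab_s_1809_1813 (c : Nat) : Nat := @Bool.rec (fun _ => Nat) (Ptab_s_1809_1811 c) (Ptab_s_1811_1813 c) (Nat.ble 1811 c)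
noncomputable def Ptab_s_1813_1815 (c : Nat) : Nat := @Bool.rec (fun _ => Nat) (Ptab_1813) (Ptab_1814) (Nat.ble 1814 c)
noncomputable def Ptab_s_1815_1817 (c : Nat) : Nat := @Bool.rec (fun _ => Nat) (Ptab_1815) (Ptab_1816) (Nat.ble 1816 c)
noncomputable def Ptab_s_1813_1817 (c : Nat) : Nat := @Bool.rec (fun _ => Nat) (Ptab_s_1813_1815 c) (Ptab_s_1815_1817 c) (Nat.ble 1815 c)
noncomputable def Ptab_s_1809_1817 (c : Nat) : Nat := @Bool.rec (fun _ => Nat) (Ptab_s_1809_1813 c) (Ptab_s_1813_1817 c) (Nat.ble 1813 c)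
noncomputable def Ptab_s_1801_1817 (c : Nat) : Nat := @Bool.rec (fun _ => Nat) (Ptab_s_1801_1809 c) (Ptab_s_1809_1817 c) (Nat.ble 1809 c)
noncomputable def Ptab_s_1786_1817 (c : Nat) : Nat := @Bool.rec (fun _ => Nat) (Ptab_s_1786_1801 c) (Ptab_s_1801_1817 c) (Nat.ble 1801 c)
noncomputable def Ptab_s_1756_1817 (c : Nat) : Nat := @Bool.rec (fun _ => Nat) (Ptab_s_1756_1786 c) (Ptab_s_1786_1817 c) (Nat.ble 1786 c)
noncomputable def Ptab_s_1696_1817 (c : Nat) : Nat := @Bool.rec (fun _ => Nat) (Ptab_s_1696_1756 c) (Ptab_s_1756_1817 c) (Nat.ble 1756 c)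
noncomputable def Ptab_s_1818_1820 (c : Nat) : Nat := @Bool.rec (fun _ => Nat) (Ptab_1818) (Ptab_1819) (Nat.ble 1819 c)
noncomputable def Ptab_s_1817_1820 (c : Nat) : Nat := @Bool.rec (fun _ => Nat) (Ptab_1817) (Ptab_s_1818_1820 c) (Nat.ble 1818 c)
noncomputable def Ptab_s_1820_1822 (c : Nat) : Nat := @Bool.rec (fun _ => Nat) (Ptab_1820) (Ptab_1821) (Nat.ble 1821 c)
noncomputable def Ptab_s_1822_1824 (c : Nat) : Nat := @Bool.rec (fun _ => Nat) (Ptab_1822) (Ptab_1823) (Nat.ble 1823 c)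
noncomputable def Ptab_s_1820_1824 (c : Nat) : Nat := @Bool.rec (fun _ => Nat) (Ptab_s_1820_1822 c) (Ptab_s_1822_1824 c) (Nat.ble 1822 c)
noncomputable def Ptab_s_1817_1824 (c : Nat) : Nat := @Bool.rec (fun _ => Nat) (Ptab_s_1817_1820 c) (Ptab_s_1820_1824 c) (Nat.ble 1820 c)
noncomputable def Ptab_s_1824_1826 (c : Nat) : Nat := @Bool.rec (fun _ => Nat) (Ptab_1824) (Ptab_1825) (Nat.ble 1825 c)
noncomputable def Ptab_s_1826_1828 (c : Nat) : Nat := @Bool.rec (fun _ => Nat) (Ptab_1826) (Ptab_1827) (Nat.ble 1827 c)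
noncomputable def Ptab_s_1824_1828 (c : Nat) : Nat := @Bool.rec (fun _ => Nat) (Ptab_s_1824_1826 c) (Ptab_s_1826_1828 c) (Nat.ble 1826 c)
noncomputable def Ptab_s_1828_1830 (c : Nat) : Nat := @Bool.rec (fun _ => Nat) (Ptab_1828) (Ptab_1829) (Nat.ble 1829 c)
noncomputable def Ptab_s_1830_1832 (c : Nat) : Nat := @Bool.rec (fun _ => Nat) (Ptab_1830) (Ptab_1831) (Nat.ble 1831 c)
noncomputable def Ptab_s_1828_1832 (c : Nat) : Nat := @Bool.rec (fun _ => Nat) (Ptab_s_1828_1830 c) (Ptab_s_1830_1832 c) (Nat.ble 1830 c)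
noncomputable def Ptab_s_1824_1832 (c : Nat) : Nat := @Bool.rec (fun _ => Nat) (Ptab_s_1824_1828 c) (Ptab_s_1828_1832 c) (Nat.ble 1828 c)
noncomputable def Ptab_s_1817_1832 (c : Nat) : Nat := @Bool.rec (fun _ => Nat) (Ptab_s_1817_1824 c) (Ptab_s_1824_1832 c) (Nat.ble 1824 c)
noncomputable def Ptab_s_1833_1835 (c : Nat) : Nat := @Bool.rec (fun _ => Nat) (Ptab_1833) (Ptab_1834) (Nat.ble 1834 c)
noncomputable def Ptab_s_1832_1835 (c : Nat) : Nat := @Bool.rec (fun _ => Nat) (Ptab_1832) (Ptab_s_1833_1835 c) (Nat.ble 1833 c)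
noncomputable def Ptab_s_1835_1837 (c : Nat) : Nat := @Bool.rec (fun _ => Nat) (Ptab_1835) (Ptab_1836) (Nat.ble 1836 c)
noncomputable def Ptab_s_1837_1839 (c : Nat) : Nat := @Bool.rec (fun _ => Nat) (Ptab_1837) (Ptab_1838) (Nat.ble 1838 c)
noncomputable def Ptab_s_1835_1839 (c : Nat) : Nat := @Bool.rec (fun _ => Nat) (Ptab_s_1835_1837 c) (Ptab_s_1837_1839 c) (Nat.ble 1837 c)
noncomputable def Ptab_s_1832_1839 (c : Nat) : Nat := @Bool.rec (fun _ => Nat) (Ptab_s_1832_1835 c) (Ptab_s_1835_1839 c) (Nat.ble 1835 c)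
noncomputable def Ptab_s_1839_1841 (c : Nat) : Nat := @Bool.rec (fun _ => Nat) (Ptab_1839) (Ptab_1840) (Nat.ble 1840 c)
noncomputable def Ptab_s_1841_1843 (c : Nat) : Nat := @Bool.rec (fun _ => Nat) (Ptab_1841) (Ptab_1842) (Nat.ble 1842 c)
noncomputable def Ptab_s_1839_1843 (c : Nat) : Nat := @Bool.rec (fun _ => Nat) (Ptab_s_1839_1841 c) (Ptab_s_1841_1843 c) (Nat.ble 1841 c)
noncomputable def Ptab_s_1843_1845 (c : Nat) : Nat := @Bool.rec (fun _ => Nat) (Ptab_1843) (Ptab_1844) (Nat.ble 1844 c)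
noncomputable def Ptab_s_1845_1847 (c : Nat) : Nat := @Bool.rec (fun _ => Nat) (Ptab_1845) (Ptab_1846) (Nat.ble 1846 c)
noncomputable def Ptab_s_1843_1847 (c : Nat) : Nat := @Bool.rec (fun _ => Nat) (Ptab_s_1843_1845 c) (Ptab_s_1845_1847 c) (Nat.ble 1845 c)
noncomputable def Ptab_s_1839_1847 (c : Nat) : Nat := @Bool.rec (fun _ => Nat) (Ptab_s_1839_1843 c) (Ptab_s_1843_1847 c) (Nat.ble 1843 c)
noncomputable def Ptab_s_1832_1847 (c : Nat) : Nat := @Bool.rec (fun _ => Nat) (Ptab_s_1832_1839 c) (Ptab_s_1839_1847 c) (Nat.ble 1839 c)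
noncomputable def Ptab_s_1817_1847 (c : Nat) : Nat := @Bool.rec (fun _ => Nat) (Ptab_s_1817_1832 c) (Ptab_s_1832_1847 c) (Nat.ble 1832 c)
noncomputable def Ptab_s_1848_1850 (c : Nat) : Nat := @Bool.rec (fun _ => Nat) (Ptab_1848) (Ptab_1849) (Nat.ble 1849 c)
noncomputable def Ptab_s_1847_1850 (c : Nat) : Nat := @Bool.rec (fun _ => Nat) (Ptab_1847) (Ptab_s_1848_1850 c) (Nat.ble 1848 c)
noncomputable def Ptab_s_1850_1852 (c : Nat) : Nat := @Bool.rec (fun _ => Nat) (Ptab_1850) (Ptab_1851) (Nat.ble 1851 c)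
noncomputable def Ptab_s_1852_1854 (c : Nat) : Nat := @Bool.rec (fun _ => Nat) (Ptab_1852) (Ptab_1853) (Nat.ble 1853 c)
noncomputable def Ptab_s_1850_1854 (c : Nat) : Nat := @Bool.rec (fun _ => Nat) (Ptab_s_1850_1852 c) (Ptab_s_1852_1854 c) (Nat.ble 1852 c)
noncomputable def Ptab_s_1847_1854 (c : Nat) : Nat := @Bool.rec (fun _ => Nat) (Ptab_s_1847_1850 c) (Ptab_s_1850_1854 c) (Nat.ble 1850 c)
noncomputable def Ptab_s_1854_1856 (c : Nat) : Nat := @Bool.rec (fun _ => Nat) (Ptab_1854) (Ptab_1855) (Nat.ble 1855 c)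
noncomputable def Ptab_s_1856_1858 (c : Nat) : Nat := @Bool.rec (fun _ => Nat) (Ptab_1856) (Ptab_1857) (Nat.ble 1857 c)
noncomputable def Ptab_s_1854_1858 (c : Nat) : Nat := @Bool.rec (fun _ => Nat) (Ptab_s_1854_1856 c) (Ptab_s_1856_1858 c) (Nat.ble 1856 c)
noncomputable def Ptab_s_1858_1860 (c : Nat) : Nat := @Bool.rec (fun _ => Nat) (Ptab_1858) (Ptab_1859) (Nat.ble 1859 c)
noncomputable def Ptab_s_1860_1862 (c : Nat) : Nat := @Bool.rec (fun _ => Nat) (Ptab_1860) (Ptab_1861) (Nat.ble 1861 c)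
noncomputable def Ptab_s_1858_1862 (c : Nat) : Nat := @Bool.rec (fun _ => Nat) (Ptab_s_1858_1860 c) (Ptab_s_1860_1862 c) (Nat.ble 1860 c)
noncomputable def Ptab_s_1854_1862 (c : Nat) : Nat := @Bool.rec (fun _ => Nat) (Ptab_s_1854_1858 c) (Ptab_s_1858_1862 c) (Nat.ble 1858 c)
noncomputable def Ptab_s_1847_1862 (c : Nat) : Nat := @Bool.rec (fun _ => Nat) (Ptab_s_1847_1854 c) (Ptab_s_1854_1862 c) (Nat.ble 1854 c)
noncomputable def Ptab_s_1862_1864 (c : Nat) : Nat := @Bool.rec (fun _ => Nat) (Ptab_1862) (Ptab_1863) (Nat.ble 1863 c)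
noncomputable def Ptab_s_1864_1866 (c : Nat) : Nat := @Bool.rec (fun _ => Nat) (Ptab_1864) (Ptab_1865) (Nat.ble 1865 c)
noncomputable def Ptab_s_1862_1866 (c : Nat) : Nat := @Bool.rec (fun _ => Nat) (Ptab_s_1862_1864 c) (Ptab_s_1864_1866 c) (Nat.ble 1864 c)
noncomputable def Ptab_s_1866_1868 (c : Nat) : Nat := @Bool.rec (fun _ => Nat) (Ptab_1866) (Ptab_1867) (Nat.ble 1867 c)
noncomputable def Ptab_s_1868_1870 (c : Nat) : Nat := @Bool.rec (fun _ => Nat) (Ptab_1868) (Ptab_1869) (Nat.ble 1869 c)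
noncomputable def Ptab_s_1866_1870 (c : Nat) : Nat := @Bool.rec (fun _ => Nat) (Ptab_s_1866_1868 c) (Ptab_s_1868_1870 c) (Nat.ble 1868 c)
noncomputable def Ptab_s_1862_1870 (c : Nat) : Nat := @Bool.rec (fun _ => Nat) (Ptab_s_1862_1866 c) (Ptab_s_1866_1870 c) (Nat.ble 1866 c)
noncomputable def Ptab_s_1870_1872 (c : Nat) : Nat := @Bool.rec (fun _ => Nat) (Ptab_1870) (Ptab_1871) (Nat.ble 1871 c)
noncomputable def Ptab_s_1872_1874 (c : Nat) : Nat := @Bool.rec (fun _ => Nat) (Ptab_1872) (Ptab_1873) (Nat.ble 1873 c)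
noncomputable def Ptab_s_1870_1874 (c : Nat) : Nat := @Bool.rec (fun _ => Nat) (Ptab_s_1870_1872 c) (Ptab_s_1872_1874 c) (Nat.ble 1872 c)
noncomputable def Ptab_s_1874_1876 (c : Nat) : Nat := @Bool.rec (fun _ => Nat) (Ptab_1874) (Ptab_1875) (Nat.ble 1875 c)
noncomputable def Ptab_s_1876_1878 (c : Nat) : Nat := @Bool.rec (fun _ => Nat) (Ptab_1876) (Ptab_1877) (Nat.ble 1877 c)
noncomputable def Ptab_s_1874_1878 (c : Nat) : Nat := @Bool.rec (fun _ => Nat) (Ptab_s_1874_1876 c) (Ptab_s_1876_1878 c) (Nat.ble 1876 c)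
noncomputable def Ptab_s_1870_1878 (c : Nat) : Nat := @Bool.rec (fun _ => Nat) (Ptab_s_1870_1874 c) (Ptab_s_1874_1878 c) (Nat.ble 1874 c)
noncomputable def Ptab_s_1862_1878 (c : Nat) : Nat := @Bool.rec (fun _ => Nat) (Ptab_s_1862_1870 c) (Ptab_s_1870_1878 c) (Nat.ble 1870 c)
noncomputable def Ptab_s_1847_1878 (c : Nat) : Nat := @Bool.rec (fun _ => Nat) (Ptab_s_1847_1862 c) (Ptab_s_1862_1878 c) (Nat.ble 1862 c)
noncomputable def Ptab_s_1817_1878 (c : Nat) : Nat := @Bool.rec (fun _ => Nat) (Ptab_s_1817_1847 c) (Ptab_s_1847_1878 c) (Nat.ble 1847 c)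
noncomputable def Ptab_s_1879_1881 (c : Nat) : Nat := @Bool.rec (fun _ => Nat) (Ptab_1879) (Ptab_1880) (Nat.ble 1880 c)
noncomputable def Ptab_s_1878_1881 (c : Nat) : Nat := @Bool.rec (fun _ => Nat) (Ptab_1878) (Ptab_s_1879_1881 c) (Nat.ble 1879 c)
noncomputable def Ptab_s_1881_1883 (c : Nat) : Nat := @Bool.rec (fun _ => Nat) (Ptab_1881) (Ptab_1882) (Nat.ble 1882 c)
noncomputable def Ptab_s_1883_1885 (c : Nat) : Nat := @Bool.rec (fun _ => Nat) (Ptab_1883) (Ptab_1884) (Nat.ble 1884 c)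
noncomputable def Ptab_s_1881_1885 (c : Nat) : Nat := @Bool.rec (fun _ => Nat) (Ptab_s_1881_1883 c) (Ptab_s_1883_1885 c) (Nat.ble 1883 c)
noncomputable def Ptab_s_1878_1885 (c : Nat) : Nat := @Bool.rec (fun _ => Nat) (Ptab_s_1878_1881 c) (Ptab_s_1881_1885 c) (Nat.ble 1881 c)
noncomputable def Ptab_s_1885_1887 (c : Nat) : Nat := @Bool.rec (fun _ => Nat) (Ptab_1885) (Ptab_1886) (Nat.ble 1886 c)
noncomputable def Ptab_s_1887_1889 (c : Nat) : Nat := @Bool.rec (fun _ => Nat) (Ptab_1887) (Ptab_1888) (Nat.ble 1888 c)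
noncomputable def Ptab_s_1885_1889 (c : Nat) : Nat := @Bool.rec (fun _ => Nat) (Ptab_s_1885_1887 c) (Ptab_s_1887_1889 c) (Nat.ble 1887 c)
noncomputable def Ptab_s_1889_1891 (c : Nat) : Nat := @Bool.rec (fun _ => Nat) (Ptab_1889) (Ptab_1890) (Nat.ble 1890 c)
noncomputable def Ptab_s_1891_1893 (c : Nat) : Nat := @Bool.rec (fun _ => Nat) (Ptab_1891) (Ptab_1892) (Nat.ble 1892 c)
noncomputable def Ptab_s_1889_1893 (c : Nat) : Nat := @Bool.rec (fun _ => Nat) (Ptab_s_1889_1891 c) (Ptab_s_1891_1893 c) (Nat.ble 1891 c)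
noncomputable def Ptab_s_1885_1893 (c : Nat) : Nat := @Bool.rec (fun _ => Nat) (Ptab_s_1885_1889 c) (Ptab_s_1889_1893 c) (Nat.ble 1889 c)
noncomputable def Ptab_s_1878_1893 (c : Nat) : Nat := @Bool.rec (fun _ => Nat) (Ptab_s_1878_1885 c) (Ptab_s_1885_1893 c) (Nat.ble 1885 c)
noncomputable def Ptab_s_1894_1896 (c : Nat) : Nat := @Bool.rec (fun _ => Nat) (Ptab_1894) (Ptab_1895) (Nat.ble 1895 c)
noncomputable def Ptab_s_1893_1896 (c : Nat) : Nat := @Bool.rec (fun _ => Nat) (Ptab_1893) (Ptab_s_1894_1896 c) (Nat.ble 1894 c)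
noncomputable def Ptab_s_1896_1898 (c : Nat) : Nat := @Bool.rec (fun _ => Nat) (Ptab_1896) (Ptab_1897) (Nat.ble 1897 c)
noncomputable def Ptab_s_1898_1900 (c : Nat) : Nat := @Bool.rec (fun _ => Nat) (Ptab_1898) (Ptab_1899) (Nat.ble 1899 c)
noncomputable def Ptab_s_1896_1900 (c : Nat) : Nat := @Bool.rec (fun _ => Nat) (Ptab_s_1896_1898 c) (Ptab_s_1898_1900 c) (Nat.ble 1898 c)
noncomputable def Ptab_s_1893_1900 (c : Nat) : Nat := @Bool.rec (fun _ => Nat) (Ptab_s_1893_1896 c) (Ptab_s_1896_1900 c) (Nat.ble 1896 c)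
noncomputable def Ptab_s_1900_1902 (c : Nat) : Nat := @Bool.rec (fun _ => Nat) (Ptab_1900) (Ptab_1901) (Nat.ble 1901 c)
noncomputable def Ptab_s_1902_1904 (c : Nat) : Nat := @Bool.rec (fun _ => Nat) (Ptab_1902) (Ptab_1903) (Nat.ble 1903 c)
noncomputable def Ptab_s_1900_1904 (c : Nat) : Nat := @Bool.rec (fun _ => Nat) (Ptab_s_1900_1902 c) (Ptab_s_1902_1904 c) (Nat.ble 1902 c)
noncomputable def Ptab_s_1904_1906 (c : Nat) : Nat := @Bool.rec (fun _ => Nat) (Ptab_1904) (Ptab_1905) (Nat.ble 1905 c)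
noncomputable def Ptab_s_1906_1908 (c : Nat) : Nat := @Bool.rec (fun _ => Nat) (Ptab_1906) (Ptab_1907) (Nat.ble 1907 c)
noncomputable def Ptab_s_1904_1908 (c : Nat) : Nat := @Bool.rec (fun _ => Nat) (Ptab_s_1904_1906 c) (Ptab_s_1906_1908 c) (Nat.ble 1906 c)
noncomputable def Ptab_s_1900_1908 (c : Nat) : Nat := @Bool.rec (fun _ => Nat) (Ptab_s_1900_1904 c) (Ptab_s_1904_1908 c) (Nat.ble 1904 c)
noncomputable def Ptab_s_1893_1908 (c : Nat) : Nat := @Bool.rec (fun _ => Nat) (Ptab_s_1893_1900 c) (Ptab_s_1900_1908 c) (Nat.ble 1900 c)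
noncomputable def Ptab_s_1878_1908 (c : Nat) : Nat := @Bool.rec (fun _ => Nat) (Ptab_s_1878_1893 c) (Ptab_s_1893_1908 c) (Nat.ble 1893 c)
noncomputable def Ptab_s_1909_1911 (c : Nat) : Nat := @Bool.rec (fun _ => Nat) (Ptab_1909) (Ptab_1910) (Nat.ble 1910 c)
noncomputable def Ptab_s_1908_1911 (c : Nat) : Nat := @Bool.rec (fun _ => Nat) (Ptab_1908) (Ptab_s_1909_1911 c) (Nat.ble 1909 c)
noncomputable def Ptab_s_1911_1913 (c : Nat) : Nat := @Bool.rec (fun _ => Nat) (Ptab_1911) (Ptab_1912) (Nat.ble 1912 c)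
noncomputable def Ptab_s_1913_1915 (c : Nat) : Nat := @Bool.rec (fun _ => Nat) (Ptab_1913) (Ptab_1914) (Nat.ble 1914 c)
noncomputable def Ptab_s_1911_1915 (c : Nat) : Nat := @Bool.rec (fun _ => Nat) (Ptab_s_1911_1913 c) (Ptab_s_1913_1915 c) (Nat.ble 1913 c)
noncomputable def Ptab_s_1908_1915 (c : Nat) : Nat := @Bool.rec (fun _ => Nat) (Ptab_s_1908_1911 c) (Ptab_s_1911_1915 c) (Nat.ble 1911 c)
noncomputable def Ptab_s_1915_1917 (c : Nat) : Nat := @Bool.rec (fun _ => Nat) (Ptab_1915) (Ptab_1916) (Nat.ble 1916 c)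
noncomputable def Ptab_s_1917_1919 (c : Nat) : Nat := @Bool.rec (fun _ => Nat) (Ptab_1917) (Ptab_1918) (Nat.ble 1918 c)
noncomputable def Ptab_s_1915_1919 (c : Nat) : Nat := @Bool.rec (fun _ => Nat) (Ptab_s_1915_1917 c) (Ptab_s_1917_1919 c) (Nat.ble 1917 c)
noncomputable def Ptab_s_1919_1921 (c : Nat) : Nat := @Bool.rec (fun _ => Nat) (Ptab_1919) (Ptab_1920) (Nat.ble 1920 c)
noncomputable def Ptab_s_1921_1923 (c : Nat) : Nat := @Bool.rec (fun _ => Nat) (Ptab_1921) (Ptab_1922) (Nat.ble 1922 c)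
noncomputable def Ptab_s_1919_1923 (c : Nat) : Nat := @Bool.rec (fun _ => Nat) (Ptab_s_1919_1921 c) (Ptab_s_1921_1923 c) (Nat.ble 1921 c)
noncomputable def Ptab_s_1915_1923 (c : Nat) : Nat := @Bool.rec (fun _ => Nat) (Ptab_s_1915_1919 c) (Ptab_s_1919_1923 c) (Nat.ble 1919 c)
noncomputable def Ptab_s_1908_1923 (c : Nat) : Nat := @Bool.rec (fun _ => Nat) (Ptab_s_1908_1915 c) (Ptab_s_1915_1923 c) (Nat.ble 1915 c)
noncomputable def Ptab_s_1923_1925 (c : Nat) : Nat := @Bool.rec (fun _ => Nat) (Ptab_1923) (Ptab_1924) (Nat.ble 1924 c)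
noncomputable def Ptab_s_1925_1927 (c : Nat) : Nat := @Bool.rec (fun _ => Nat) (Ptab_1925) (Ptab_1926) (Nat.ble 1926 c)
noncomputable def Ptab_s_1923_1927 (c : Nat) : Nat := @Bool.rec (fun _ => Nat) (Ptab_s_1923_1925 c) (Ptab_s_1925_1927 c) (Nat.ble 1925 c)
noncomputable def Ptab_s_1927_1929 (c : Nat) : Nat := @Bool.rec (fun _ => Nat) (Ptab_1927) (Ptab_1928) (Nat.ble 1928 c)
noncomputable def Ptab_s_1929_1931 (c : Nat) : Nat := @Bool.rec (fun _ => Nat) (Ptab_1929) (Ptab_1930) (Nat.ble 1930 c)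
noncomputable def Ptab_s_1927_1931 (c : Nat) : Nat := @Bool.rec (fun _ => Nat) (Ptab_s_1927_1929 c) (Ptab_s_1929_1931 c) (Nat.ble 1929 c)
noncomputable def Ptab_s_1923_1931 (c : Nat) : Nat := @Bool.rec (fun _ => Nat) (Ptab_s_1923_1927 c) (Ptab_s_1927_1931 c) (Nat.ble 1927 c)
noncomputable def Ptab_s_1931_1933 (c : Nat) : Nat := @Bool.rec (fun _ => Nat) (Ptab_1931) (Ptab_1932) (Nat.ble 1932 c)
noncomputable def Ptab_s_1933_1935 (c : Nat) : Nat := @Bool.rec (fun _ => Nat) (Ptab_1933) (Ptab_1934) (Nat.ble 1934 c)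
noncomputable def Ptab_s_1931_1935 (c : Nat) : Nat := @Bool.rec (fun _ => Nat) (Ptab_s_1931_1933 c) (Ptab_s_1933_1935 c) (Nat.ble 1933 c)
noncomputable def Ptab_s_1935_1937 (c : Nat) : Nat := @Bool.rec (fun _ => Nat) (Ptab_1935) (Ptab_1936) (Nat.ble 1936 c)
noncomputable def Ptab_s_1937_1939 (c : Nat) : Nat := @Bool.rec (fun _ => Nat) (Ptab_1937) (Ptab_1938) (Nat.ble 1938 c)
noncomputable def Ptab_s_1935_1939 (c : Nat) : Nat := @Bool.rec (fun _ => Nat) (Ptab_s_1935_1937 c) (Ptab_s_1937_1939 c) (Nat.ble 1937 c)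
noncomputable def Ptab_s_1931_1939 (c : Nat) : Nat := @Bool.rec (fun _ => Nat) (Ptab_s_1931_1935 c) (Ptab_s_1935_1939 c) (Nat.ble 1935 c)
noncomputable def Ptab_s_1923_1939 (c : Nat) : Nat := @Bool.rec (fun _ => Nat) (Ptab_s_1923_1931 c) (Ptab_s_1931_1939 c) (Nat.ble 1931 c)
noncomputable def Ptab_s_1908_1939 (c : Nat) : Nat := @Bool.rec (fun _ => Nat) (Ptab_s_1908_1923 c) (Ptab_s_1923_1939 c) (Nat.ble 1923 c)
noncomputable def Ptab_s_1878_1939 (c : Nat) : Nat := @Bool.rec (fun _ => Nat) (Ptab_s_1878_1908 c) (Ptab_s_1908_1939 c) (Nat.ble 1908 c)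
noncomputable def Ptab_s_1817_1939 (c : Nat) : Nat := @Bool.rec (fun _ => Nat) (Ptab_s_1817_1878 c) (Ptab_s_1878_1939 c) (Nat.ble 1878 c)
noncomputable def Ptab_s_1696_1939 (c : Nat) : Nat := @Bool.rec (fun _ => Nat) (Ptab_s_1696_1817 c) (Ptab_s_1817_1939 c) (Nat.ble 1817 c)
noncomputable def Ptab_s_1454_1939 (c : Nat) : Nat := @Bool.rec (fun _ => Nat) (Ptab_s_1454_1696 c) (Ptab_s_1696_1939 c) (Nat.ble 1696 c)
noncomputable def Ptab_s_969_1939 (c : Nat) : Nat := @Bool.rec (fun _ => Nat) (Ptab_s_969_1454 c) (Ptab_s_1454_1939 c) (Nat.ble 1454 c)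
noncomputable def Ptab_s_0_1939 (c : Nat) : Nat := @Bool.rec (fun _ => Nat) (Ptab_s_0_969 c) (Ptab_s_969_1939 c) (Nat.ble 969 c)
noncomputable def Ptab (i : Nat) : Nat := rdw 23 8388607 (Ptab_s_0_1939 (Nat.shiftRight i 12)) (Nat.land i 4095)
noncomputable def RRtab (i : Nat) : Nat := rdw 6 63 RRtab_0 i
noncomputable def rBtab (i : Nat) : Nat := rdw 12 4095 rBtab_0 i
noncomputable def rLtab (i : Nat) : Nat := rdw 5 31 rLtab_0 i
noncomputable def nameTab_s_0_2 (c : Nat) : Nat := @Bool.rec (fun _ => Nat) (nameTab_0) (nameTab_1) (Nat.ble 1 c)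
noncomputable def nameTab_s_2_4 (c : Nat) : Nat := @Bool.rec (fun _ => Nat) (nameTab_2) (nameTab_3) (Nat.ble 3 c)
noncomputable def nameTab_s_0_4 (c : Nat) : Nat := @Bool.rec (fun _ => Nat) (nameTab_s_0_2 c) (nameTab_s_2_4 c) (Nat.ble 2 c)
noncomputable def nameTab_s_4_6 (c : Nat) : Nat := @Bool.rec (fun _ => Nat) (nameTab_4) (nameTab_5) (Nat.ble 5 c)
noncomputable def nameTab_s_7_9 (c : Nat) : Nat := @Bool.rec (fun _ => Nat) (nameTab_7) (nameTab_8) (Nat.ble 8 c)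
noncomputable def nameTab_s_6_9 (c : Nat) : Nat := @Bool.rec (fun _ => Nat) (nameTab_6) (nameTab_s_7_9 c) (Nat.ble 7 c)
noncomputable def nameTab_s_4_9 (c : Nat) : Nat := @Bool.rec (fun _ => Nat) (nameTab_s_4_6 c) (nameTab_s_6_9 c) (Nat.ble 6 c)
noncomputable def nameTab_s_0_9 (c : Nat) : Nat := @Bool.rec (fun _ => Nat) (nameTab_s_0_4 c) (nameTab_s_4_9 c) (Nat.ble 4 c)
noncomputable def nameTab (i : Nat) : Nat := rdw 19 524287 (nameTab_s_0_9 (Nat.shiftRight i 12)) (Nat.land i 4095)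
noncomputable def col0_s_0_2 (c : Nat) : Nat := @Bool.rec (fun _ => Nat) (col0_0) (col0_1) (Nat.ble 1 c)
noncomputable def col0_s_2_4 (c : Nat) : Nat := @Bool.rec (fun _ => Nat) (col0_2) (col0_3) (Nat.ble 3 c)
noncomputable def col0_s_0_4 (c : Nat) : Nat := @Bool.rec (fun _ => Nat) (col0_s_0_2 c) (col0_s_2_4 c) (Nat.ble 2 c)
noncomputable def col0_s_4_6 (c : Nat) : Nat := @Bool.rec (fun _ => Nat) (col0_4) (col0_5) (Nat.ble 5 c)
noncomputable def col0_s_7_9 (c : Nat) : Nat := @Bool.rec (fun _ => Nat) (col0_7) (col0_8) (Nat.ble 8 c)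
noncomputable def col0_s_6_9 (c : Nat) : Nat := @Bool.rec (fun _ => Nat) (col0_6) (col0_s_7_9 c) (Nat.ble 7 c)
noncomputable def col0_s_4_9 (c : Nat) : Nat := @Bool.rec (fun _ => Nat) (col0_s_4_6 c) (col0_s_6_9 c) (Nat.ble 6 c)
noncomputable def col0_s_0_9 (c : Nat) : Nat := @Bool.rec (fun _ => Nat) (col0_s_0_4 c) (col0_s_4_9 c) (Nat.ble 4 c)
noncomputable def col0 (i : Nat) : Nat := rdw 16 65535 (col0_s_0_9 (Nat.shiftRight i 12)) (Nat.land i 4095)
noncomputable def col1_s_0_2 (c : Nat) : Nat := @Bool.rec (fun _ => Nat) (col1_0) (col1_1) (Nat.ble 1 c)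
noncomputable def col1_s_2_4 (c : Nat) : Nat := @Bool.rec (fun _ => Nat) (col1_2) (col1_3) (Nat.ble 3 c)
noncomputable def col1_s_0_4 (c : Nat) : Nat := @Bool.rec (fun _ => Nat) (col1_s_0_2 c) (col1_s_2_4 c) (Nat.ble 2 c)
noncomputable def col1_s_4_6 (c : Nat) : Nat := @Bool.rec (fun _ => Nat) (col1_4) (col1_5) (Nat.ble 5 c)
noncomputable def col1_s_7_9 (c : Nat) : Nat := @Bool.rec (fun _ => Nat) (col1_7) (col1_8) (Nat.ble 8 c)
noncomputable def col1_s_6_9 (c : Nat) : Nat := @Bool.rec (fun _ => Nat) (col1_6) (col1_s_7_9 c) (Nat.ble 7 c)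
noncomputable def col1_s_4_9 (c : Nat) : Nat := @Bool.rec (fun _ => Nat) (col1_s_4_6 c) (col1_s_6_9 c) (Nat.ble 6 c)
noncomputable def col1_s_0_9 (c : Nat) : Nat := @Bool.rec (fun _ => Nat) (col1_s_0_4 c) (col1_s_4_9 c) (Nat.ble 4 c)
noncomputable def col1 (i : Nat) : Nat := rdw 16 65535 (col1_s_0_9 (Nat.shiftRight i 12)) (Nat.land i 4095)
noncomputable def col2_s_0_2 (c : Nat) : Nat := @Bool.rec (fun _ => Nat) (col2_0) (col2_1) (Nat.ble 1 c)
noncomputable def col2_s_2_4 (c : Nat) : Nat := @Bool.rec (fun _ => Nat) (col2_2) (col2_3) (Nat.ble 3 c)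
noncomputable def col2_s_0_4 (c : Nat) : Nat := @Bool.rec (fun _ => Nat) (col2_s_0_2 c) (col2_s_2_4 c) (Nat.ble 2 c)
noncomputable def col2_s_4_6 (c : Nat) : Nat := @Bool.rec (fun _ => Nat) (col2_4) (col2_5) (Nat.ble 5 c)
noncomputable def col2_s_7_9 (c : Nat) : Nat := @Bool.rec (fun _ => Nat) (col2_7) (col2_8) (Nat.ble 8 c)
noncomputable def col2_s_6_9 (c : Nat) : Nat := @Bool.rec (fun _ => Nat) (col2_6) (col2_s_7_9 c) (Nat.ble 7 c)
noncomputable def col2_s_4_9 (c : Nat) : Nat := @Bool.rec (fun _ => Nat) (col2_s_4_6 c) (col2_s_6_9 c) (Nat.ble 6 c)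
noncomputable def col2_s_0_9 (c : Nat) : Nat := @Bool.rec (fun _ => Nat) (col2_s_0_4 c) (col2_s_4_9 c) (Nat.ble 4 c)
noncomputable def col2 (i : Nat) : Nat := rdw 16 65535 (col2_s_0_9 (Nat.shiftRight i 12)) (Nat.land i 4095)
noncomputable def col3_s_0_2 (c : Nat) : Nat := @Bool.rec (fun _ => Nat) (col3_0) (col3_1) (Nat.ble 1 c)
noncomputable def col3_s_2_4 (c : Nat) : Nat := @Bool.rec (fun _ => Nat) (col3_2) (col3_3) (Nat.ble 3 c)
noncomputable def col3_s_0_4 (c : Nat) : Nat := @Bool.rec (fun _ => Nat) (col3_s_0_2 c) (col3_s_2_4 c) (Nat.ble 2 c)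
noncomputable def col3_s_4_6 (c : Nat) : Nat := @Bool.rec (fun _ => Nat) (col3_4) (col3_5) (Nat.ble 5 c)
noncomputable def col3_s_7_9 (c : Nat) : Nat := @Bool.rec (fun _ => Nat) (col3_7) (col3_8) (Nat.ble 8 c)
noncomputable def col3_s_6_9 (c : Nat) : Nat := @Bool.rec (fun _ => Nat) (col3_6) (col3_s_7_9 c) (Nat.ble 7 c)
noncomputable def col3_s_4_9 (c : Nat) : Nat := @Bool.rec (fun _ => Nat) (col3_s_4_6 c) (col3_s_6_9 c) (Nat.ble 6 c)
noncomputable def col3_s_0_9 (c : Nat) : Nat := @Bool.rec (fun _ => Nat) (col3_s_0_4 c) (col3_s_4_9 c) (Nat.ble 4 c)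
noncomputable def col3 (i : Nat) : Nat := rdw 16 65535 (col3_s_0_9 (Nat.shiftRight i 12)) (Nat.land i 4095)
noncomputable def col4_s_0_2 (c : Nat) : Nat := @Bool.rec (fun _ => Nat) (col4_0) (col4_1) (Nat.ble 1 c)
noncomputable def col4_s_2_4 (c : Nat) : Nat := @Bool.rec (fun _ => Nat) (col4_2) (col4_3) (Nat.ble 3 c)
noncomputable def col4_s_0_4 (c : Nat) : Nat := @Bool.rec (fun _ => Nat) (col4_s_0_2 c) (col4_s_2_4 c) (Nat.ble 2 c)
noncomputable def col4_s_4_6 (c : Nat) : Nat := @Bool.rec (fun _ => Nat) (col4_4) (col4_5) (Nat.ble 5 c)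
noncomputable def col4_s_7_9 (c : Nat) : Nat := @Bool.rec (fun _ => Nat) (col4_7) (col4_8) (Nat.ble 8 c)
noncomputable def col4_s_6_9 (c : Nat) : Nat := @Bool.rec (fun _ => Nat) (col4_6) (col4_s_7_9 c) (Nat.ble 7 c)
noncomputable def col4_s_4_9 (c : Nat) : Nat := @Bool.rec (fun _ => Nat) (col4_s_4_6 c) (col4_s_6_9 c) (Nat.ble 6 c)
noncomputable def col4_s_0_9 (c : Nat) : Nat := @Bool.rec (fun _ => Nat) (col4_s_0_4 c) (col4_s_4_9 c) (Nat.ble 4 c)
noncomputable def col4 (i : Nat) : Nat := rdw 16 65535 (col4_s_0_9 (Nat.shiftRight i 12)) (Nat.land i 4095)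
noncomputable def col5_s_0_2 (c : Nat) : Nat := @Bool.rec (fun _ => Nat) (col5_0) (col5_1) (Nat.ble 1 c)
noncomputable def col5_s_2_4 (c : Nat) : Nat := @Bool.rec (fun _ => Nat) (col5_2) (col5_3) (Nat.ble 3 c)
noncomputable def col5_s_0_4 (c : Nat) : Nat := @Bool.rec (fun _ => Nat) (col5_s_0_2 c) (col5_s_2_4 c) (Nat.ble 2 c)
noncomputable def col5_s_4_6 (c : Nat) : Nat := @Bool.rec (fun _ => Nat) (col5_4) (col5_5) (Nat.ble 5 c)
noncomputable def col5_s_7_9 (c : Nat) : Nat := @Bool.rec (fun _ => Nat) (col5_7) (col5_8) (Nat.ble 8 c)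
noncomputable def col5_s_6_9 (c : Nat) : Nat := @Bool.rec (fun _ => Nat) (col5_6) (col5_s_7_9 c) (Nat.ble 7 c)
noncomputable def col5_s_4_9 (c : Nat) : Nat := @Bool.rec (fun _ => Nat) (col5_s_4_6 c) (col5_s_6_9 c) (Nat.ble 6 c)
noncomputable def col5_s_0_9 (c : Nat) : Nat := @Bool.rec (fun _ => Nat) (col5_s_0_4 c) (col5_s_4_9 c) (Nat.ble 4 c)
noncomputable def col5 (i : Nat) : Nat := rdw 16 65535 (col5_s_0_9 (Nat.shiftRight i 12)) (Nat.land i 4095)
noncomputable def col6_s_0_2 (c : Nat) : Nat := @Bool.rec (fun _ => Nat) (col6_0) (col6_1) (Nat.ble 1 c)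
noncomputable def col6_s_2_4 (c : Nat) : Nat := @Bool.rec (fun _ => Nat) (col6_2) (col6_3) (Nat.ble 3 c)
noncomputable def col6_s_0_4 (c : Nat) : Nat := @Bool.rec (fun _ => Nat) (col6_s_0_2 c) (col6_s_2_4 c) (Nat.ble 2 c)
noncomputable def col6_s_4_6 (c : Nat) : Nat := @Bool.rec (fun _ => Nat) (col6_4) (col6_5) (Nat.ble 5 c)
noncomputable def col6_s_7_9 (c : Nat) : Nat := @Bool.rec (fun _ => Nat) (col6_7) (col6_8) (Nat.ble 8 c)
noncomputable def col6_s_6_9 (c : Nat) : Nat := @Bool.rec (fun _ => Nat) (col6_6) (col6_s_7_9 c) (Nat.ble 7 c)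
noncomputable def col6_s_4_9 (c : Nat) : Nat := @Bool.rec (fun _ => Nat) (col6_s_4_6 c) (col6_s_6_9 c) (Nat.ble 6 c)
noncomputable def col6_s_0_9 (c : Nat) : Nat := @Bool.rec (fun _ => Nat) (col6_s_0_4 c) (col6_s_4_9 c) (Nat.ble 4 c)
noncomputable def col6 (i : Nat) : Nat := rdw 16 65535 (col6_s_0_9 (Nat.shiftRight i 12)) (Nat.land i 4095)
noncomputable def col7_s_0_2 (c : Nat) : Nat := @Bool.rec (fun _ => Nat) (col7_0) (col7_1) (Nat.ble 1 c)
noncomputable def col7_s_2_4 (c : Nat) : Nat := @Bool.rec (fun _ => Nat) (col7_2) (col7_3) (Nat.ble 3 c)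
noncomputable def col7_s_0_4 (c : Nat) : Nat := @Bool.rec (fun _ => Nat) (col7_s_0_2 c) (col7_s_2_4 c) (Nat.ble 2 c)
noncomputable def col7_s_4_6 (c : Nat) : Nat := @Bool.rec (fun _ => Nat) (col7_4) (col7_5) (Nat.ble 5 c)
noncomputable def col7_s_7_9 (c : Nat) : Nat := @Bool.rec (fun _ => Nat) (col7_7) (col7_8) (Nat.ble 8 c)
noncomputable def col7_s_6_9 (c : Nat) : Nat := @Bool.rec (fun _ => Nat) (col7_6) (col7_s_7_9 c) (Nat.ble 7 c)
noncomputable def col7_s_4_9 (c : Nat) : Nat := @Bool.rec (fun _ => Nat) (col7_s_4_6 c) (col7_s_6_9 c) (Nat.ble 6 c)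
noncomputable def col7_s_0_9 (c : Nat) : Nat := @Bool.rec (fun _ => Nat) (col7_s_0_4 c) (col7_s_4_9 c) (Nat.ble 4 c)
noncomputable def col7 (i : Nat) : Nat := rdw 16 65535 (col7_s_0_9 (Nat.shiftRight i 12)) (Nat.land i 4095)
noncomputable def col8_s_0_2 (c : Nat) : Nat := @Bool.rec (fun _ => Nat) (col8_0) (col8_1) (Nat.ble 1 c)
noncomputable def col8_s_2_4 (c : Nat) : Nat := @Bool.rec (fun _ => Nat) (col8_2) (col8_3) (Nat.ble 3 c)
noncomputable def col8_s_0_4 (c : Nat) : Nat := @Bool.rec (fun _ => Nat) (col8_s_0_2 c) (col8_s_2_4 c) (Nat.ble 2 c)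
noncomputable def col8_s_4_6 (c : Nat) : Nat := @Bool.rec (fun _ => Nat) (col8_4) (col8_5) (Nat.ble 5 c)
noncomputable def col8_s_7_9 (c : Nat) : Nat := @Bool.rec (fun _ => Nat) (col8_7) (col8_8) (Nat.ble 8 c)
noncomputable def col8_s_6_9 (c : Nat) : Nat := @Bool.rec (fun _ => Nat) (col8_6) (col8_s_7_9 c) (Nat.ble 7 c)
noncomputable def col8_s_4_9 (c : Nat) : Nat := @Bool.rec (fun _ => Nat) (col8_s_4_6 c) (col8_s_6_9 c) (Nat.ble 6 c)
noncomputable def col8_s_0_9 (c : Nat) : Nat := @Bool.rec (fun _ => Nat) (col8_s_0_4 c) (col8_s_4_9 c) (Nat.ble 4 c)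
noncomputable def col8 (i : Nat) : Nat := rdw 16 65535 (col8_s_0_9 (Nat.shiftRight i 12)) (Nat.land i 4095)
noncomputable def col9_s_0_2 (c : Nat) : Nat := @Bool.rec (fun _ => Nat) (col9_0) (col9_1) (Nat.ble 1 c)
noncomputable def col9_s_2_4 (c : Nat) : Nat := @Bool.rec (fun _ => Nat) (col9_2) (col9_3) (Nat.ble 3 c)
noncomputable def col9_s_0_4 (c : Nat) : Nat := @Bool.rec (fun _ => Nat) (col9_s_0_2 c) (col9_s_2_4 c) (Nat.ble 2 c)
noncomputable def col9_s_4_6 (c : Nat) : Nat := @Bool.rec (fun _ => Nat) (col9_4) (col9_5) (Nat.ble 5 c)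
noncomputable def col9_s_7_9 (c : Nat) : Nat := @Bool.rec (fun _ => Nat) (col9_7) (col9_8) (Nat.ble 8 c)
noncomputable def col9_s_6_9 (c : Nat) : Nat := @Bool.rec (fun _ => Nat) (col9_6) (col9_s_7_9 c) (Nat.ble 7 c)
noncomputable def col9_s_4_9 (c : Nat) : Nat := @Bool.rec (fun _ => Nat) (col9_s_4_6 c) (col9_s_6_9 c) (Nat.ble 6 c)
noncomputable def col9_s_0_9 (c : Nat) : Nat := @Bool.rec (fun _ => Nat) (col9_s_0_4 c) (col9_s_4_9 c) (Nat.ble 4 c)
noncomputable def col9 (i : Nat) : Nat := rdw 16 65535 (col9_s_0_9 (Nat.shiftRight i 12)) (Nat.land i 4095)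
noncomputable def col10_s_0_2 (c : Nat) : Nat := @Bool.rec (fun _ => Nat) (col10_0) (col10_1) (Nat.ble 1 c)
noncomputable def col10_s_2_4 (c : Nat) : Nat := @Bool.rec (fun _ => Nat) (col10_2) (col10_3) (Nat.ble 3 c)
noncomputable def col10_s_0_4 (c : Nat) : Nat := @Bool.rec (fun _ => Nat) (col10_s_0_2 c) (col10_s_2_4 c) (Nat.ble 2 c)
noncomputable def col10_s_4_6 (c : Nat) : Nat := @Bool.rec (fun _ => Nat) (col10_4) (col10_5) (Nat.ble 5 c)
noncomputable def col10_s_7_9 (c : Nat) : Nat := @Bool.rec (fun _ => Nat) (col10_7) (col10_8) (Nat.ble 8 c)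
noncomputable def col10_s_6_9 (c : Nat) : Nat := @Bool.rec (fun _ => Nat) (col10_6) (col10_s_7_9 c) (Nat.ble 7 c)
noncomputable def col10_s_4_9 (c : Nat) : Nat := @Bool.rec (fun _ => Nat) (col10_s_4_6 c) (col10_s_6_9 c) (Nat.ble 6 c)
noncomputable def col10_s_0_9 (c : Nat) : Nat := @Bool.rec (fun _ => Nat) (col10_s_0_4 c) (col10_s_4_9 c) (Nat.ble 4 c)
noncomputable def col10 (i : Nat) : Nat := rdw 16 65535 (col10_s_0_9 (Nat.shiftRight i 12)) (Nat.land i 4095)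
noncomputable def col11_s_0_2 (c : Nat) : Nat := @Bool.rec (fun _ => Nat) (col11_0) (col11_1) (Nat.ble 1 c)
noncomputable def col11_s_2_4 (c : Nat) : Nat := @Bool.rec (fun _ => Nat) (col11_2) (col11_3) (Nat.ble 3 c)
noncomputable def col11_s_0_4 (c : Nat) : Nat := @Bool.rec (fun _ => Nat) (col11_s_0_2 c) (col11_s_2_4 c) (Nat.ble 2 c)
noncomputable def col11_s_4_6 (c : Nat) : Nat := @Bool.rec (fun _ => Nat) (col11_4) (col11_5) (Nat.ble 5 c)
noncomputable def col11_s_7_9 (c : Nat) : Nat := @Bool.rec (fun _ => Nat) (col11_7) (col11_8) (Nat.ble 8 c)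
noncomputable def col11_s_6_9 (c : Nat) : Nat := @Bool.rec (fun _ => Nat) (col11_6) (col11_s_7_9 c) (Nat.ble 7 c)
noncomputable def col11_s_4_9 (c : Nat) : Nat := @Bool.rec (fun _ => Nat) (col11_s_4_6 c) (col11_s_6_9 c) (Nat.ble 6 c)
noncomputable def col11_s_0_9 (c : Nat) : Nat := @Bool.rec (fun _ => Nat) (col11_s_0_4 c) (col11_s_4_9 c) (Nat.ble 4 c)
noncomputable def col11 (i : Nat) : Nat := rdw 16 65535 (col11_s_0_9 (Nat.shiftRight i 12)) (Nat.land i 4095)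
noncomputable def col12_s_0_2 (c : Nat) : Nat := @Bool.rec (fun _ => Nat) (col12_0) (col12_1) (Nat.ble 1 c)
noncomputable def col12_s_2_4 (c : Nat) : Nat := @Bool.rec (fun _ => Nat) (col12_2) (col12_3) (Nat.ble 3 c)
noncomputable def col12_s_0_4 (c : Nat) : Nat := @Bool.rec (fun _ => Nat) (col12_s_0_2 c) (col12_s_2_4 c) (Nat.ble 2 c)
noncomputable def col12_s_4_6 (c : Nat) : Nat := @Bool.rec (fun _ => Nat) (col12_4) (col12_5) (Nat.ble 5 c)
noncomputable def col12_s_7_9 (c : Nat) : Nat := @Bool.rec (fun _ => Nat) (col12_7) (col12_8) (Nat.ble 8 c)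
noncomputable def col12_s_6_9 (c : Nat) : Nat := @Bool.rec (fun _ => Nat) (col12_6) (col12_s_7_9 c) (Nat.ble 7 c)
noncomputable def col12_s_4_9 (c : Nat) : Nat := @Bool.rec (fun _ => Nat) (col12_s_4_6 c) (col12_s_6_9 c) (Nat.ble 6 c)
noncomputable def col12_s_0_9 (c : Nat) : Nat := @Bool.rec (fun _ => Nat) (col12_s_0_4 c) (col12_s_4_9 c) (Nat.ble 4 c)
noncomputable def col12 (i : Nat) : Nat := rdw 16 65535 (col12_s_0_9 (Nat.shiftRight i 12)) (Nat.land i 4095)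
noncomputable def col13_s_0_2 (c : Nat) : Nat := @Bool.rec (fun _ => Nat) (col13_0) (col13_1) (Nat.ble 1 c)
noncomputable def col13_s_2_4 (c : Nat) : Nat := @Bool.rec (fun _ => Nat) (col13_2) (col13_3) (Nat.ble 3 c)
noncomputable def col13_s_0_4 (c : Nat) : Nat := @Bool.rec (fun _ => Nat) (col13_s_0_2 c) (col13_s_2_4 c) (Nat.ble 2 c)
noncomputable def col13_s_4_6 (c : Nat) : Nat := @Bool.rec (fun _ => Nat) (col13_4) (col13_5) (Nat.ble 5 c)
noncomputable def col13_s_7_9 (c : Nat) : Nat := @Bool.rec (fun _ => Nat) (col13_7) (col13_8) (Nat.ble 8 c)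
noncomputable def col13_s_6_9 (c : Nat) : Nat := @Bool.rec (fun _ => Nat) (col13_6) (col13_s_7_9 c) (Nat.ble 7 c)
noncomputable def col13_s_4_9 (c : Nat) : Nat := @Bool.rec (fun _ => Nat) (col13_s_4_6 c) (col13_s_6_9 c) (Nat.ble 6 c)
noncomputable def col13_s_0_9 (c : Nat) : Nat := @Bool.rec (fun _ => Nat) (col13_s_0_4 c) (col13_s_4_9 c) (Nat.ble 4 c)
noncomputable def col13 (i : Nat) : Nat := rdw 16 65535 (col13_s_0_9 (Nat.shiftRight i 12)) (Nat.land i 4095)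
noncomputable def col14_s_0_2 (c : Nat) : Nat := @Bool.rec (fun _ => Nat) (col14_0) (col14_1) (Nat.ble 1 c)
noncomputable def col14_s_2_4 (c : Nat) : Nat := @Bool.rec (fun _ => Nat) (col14_2) (col14_3) (Nat.ble 3 c)
noncomputable def col14_s_0_4 (c : Nat) : Nat := @Bool.rec (fun _ => Nat) (col14_s_0_2 c) (col14_s_2_4 c) (Nat.ble 2 c)
noncomputable def col14_s_4_6 (c : Nat) : Nat := @Bool.rec (fun _ => Nat) (col14_4) (col14_5) (Nat.ble 5 c)
noncomputable def col14_s_7_9 (c : Nat) : Nat := @Bool.rec (fun _ => Nat) (col14_7) (col14_8) (Nat.ble 8 c)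
noncomputable def col14_s_6_9 (c : Nat) : Nat := @Bool.rec (fun _ => Nat) (col14_6) (col14_s_7_9 c) (Nat.ble 7 c)
noncomputable def col14_s_4_9 (c : Nat) : Nat := @Bool.rec (fun _ => Nat) (col14_s_4_6 c) (col14_s_6_9 c) (Nat.ble 6 c)
noncomputable def col14_s_0_9 (c : Nat) : Nat := @Bool.rec (fun _ => Nat) (col14_s_0_4 c) (col14_s_4_9 c) (Nat.ble 4 c)
noncomputable def col14 (i : Nat) : Nat := rdw 16 65535 (col14_s_0_9 (Nat.shiftRight i 12)) (Nat.land i 4095)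
noncomputable def col15_s_0_2 (c : Nat) : Nat := @Bool.rec (fun _ => Nat) (col15_0) (col15_1) (Nat.ble 1 c)
noncomputable def col15_s_2_4 (c : Nat) : Nat := @Bool.rec (fun _ => Nat) (col15_2) (col15_3) (Nat.ble 3 c)
noncomputable def col15_s_0_4 (c : Nat) : Nat := @Bool.rec (fun _ => Nat) (col15_s_0_2 c) (col15_s_2_4 c) (Nat.ble 2 c)
noncomputable def col15_s_4_6 (c : Nat) : Nat := @Bool.rec (fun _ => Nat) (col15_4) (col15_5) (Nat.ble 5 c)
noncomputable def col15_s_7_9 (c : Nat) : Nat := @Bool.rec (fun _ => Nat) (col15_7) (col15_8) (Nat.ble 8 c)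
noncomputable def col15_s_6_9 (c : Nat) : Nat := @Bool.rec (fun _ => Nat) (col15_6) (col15_s_7_9 c) (Nat.ble 7 c)
noncomputable def col15_s_4_9 (c : Nat) : Nat := @Bool.rec (fun _ => Nat) (col15_s_4_6 c) (col15_s_6_9 c) (Nat.ble 6 c)
noncomputable def col15_s_0_9 (c : Nat) : Nat := @Bool.rec (fun _ => Nat) (col15_s_0_4 c) (col15_s_4_9 c) (Nat.ble 4 c)
noncomputable def col15 (i : Nat) : Nat := rdw 16 65535 (col15_s_0_9 (Nat.shiftRight i 12)) (Nat.land i 4095)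
noncomputable def col16_s_0_2 (c : Nat) : Nat := @Bool.rec (fun _ => Nat) (col16_0) (col16_1) (Nat.ble 1 c)
noncomputable def col16_s_2_4 (c : Nat) : Nat := @Bool.rec (fun _ => Nat) (col16_2) (col16_3) (Nat.ble 3 c)
noncomputable def col16_s_0_4 (c : Nat) : Nat := @Bool.rec (fun _ => Nat) (col16_s_0_2 c) (col16_s_2_4 c) (Nat.ble 2 c)
noncomputable def col16_s_4_6 (c : Nat) : Nat := @Bool.rec (fun _ => Nat) (col16_4) (col16_5) (Nat.ble 5 c)
noncomputable def col16_s_7_9 (c : Nat) : Nat := @Bool.rec (fun _ => Nat) (col16_7) (col16_8) (Nat.ble 8 c)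
noncomputable def col16_s_6_9 (c : Nat) : Nat := @Bool.rec (fun _ => Nat) (col16_6) (col16_s_7_9 c) (Nat.ble 7 c)
noncomputable def col16_s_4_9 (c : Nat) : Nat := @Bool.rec (fun _ => Nat) (col16_s_4_6 c) (col16_s_6_9 c) (Nat.ble 6 c)
noncomputable def col16_s_0_9 (c : Nat) : Nat := @Bool.rec (fun _ => Nat) (col16_s_0_4 c) (col16_s_4_9 c) (Nat.ble 4 c)
noncomputable def col16 (i : Nat) : Nat := rdw 16 65535 (col16_s_0_9 (Nat.shiftRight i 12)) (Nat.land i 4095)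
noncomputable def col17_s_0_2 (c : Nat) : Nat := @Bool.rec (fun _ => Nat) (col17_0) (col17_1) (Nat.ble 1 c)
noncomputable def col17_s_2_4 (c : Nat) : Nat := @Bool.rec (fun _ => Nat) (col17_2) (col17_3) (Nat.ble 3 c)
noncomputable def col17_s_0_4 (c : Nat) : Nat := @Bool.rec (fun _ => Nat) (col17_s_0_2 c) (col17_s_2_4 c) (Nat.ble 2 c)
noncomputable def col17_s_4_6 (c : Nat) : Nat := @Bool.rec (fun _ => Nat) (col17_4) (col17_5) (Nat.ble 5 c)
noncomputable def col17_s_7_9 (c : Nat) : Nat := @Bool.rec (fun _ => Nat) (col17_7) (col17_8) (Nat.ble 8 c)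
noncomputable def col17_s_6_9 (c : Nat) : Nat := @Bool.rec (fun _ => Nat) (col17_6) (col17_s_7_9 c) (Nat.ble 7 c)
noncomputable def col17_s_4_9 (c : Nat) : Nat := @Bool.rec (fun _ => Nat) (col17_s_4_6 c) (col17_s_6_9 c) (Nat.ble 6 c)
noncomputable def col17_s_0_9 (c : Nat) : Nat := @Bool.rec (fun _ => Nat) (col17_s_0_4 c) (col17_s_4_9 c) (Nat.ble 4 c)
noncomputable def col17 (i : Nat) : Nat := rdw 16 65535 (col17_s_0_9 (Nat.shiftRight i 12)) (Nat.land i 4095)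
noncomputable def col18_s_0_2 (c : Nat) : Nat := @Bool.rec (fun _ => Nat) (col18_0) (col18_1) (Nat.ble 1 c)
noncomputable def col18_s_2_4 (c : Nat) : Nat := @Bool.rec (fun _ => Nat) (col18_2) (col18_3) (Nat.ble 3 c)
noncomputable def col18_s_0_4 (c : Nat) : Nat := @Bool.rec (fun _ => Nat) (col18_s_0_2 c) (col18_s_2_4 c) (Nat.ble 2 c)
noncomputable def col18_s_4_6 (c : Nat) : Nat := @Bool.rec (fun _ => Nat) (col18_4) (col18_5) (Nat.ble 5 c)
noncomputable def col18_s_7_9 (c : Nat) : Nat := @Bool.rec (fun _ => Nat) (col18_7) (col18_8) (Nat.ble 8 c)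
noncomputable def col18_s_6_9 (c : Nat) : Nat := @Bool.rec (fun _ => Nat) (col18_6) (col18_s_7_9 c) (Nat.ble 7 c)
noncomputable def col18_s_4_9 (c : Nat) : Nat := @Bool.rec (fun _ => Nat) (col18_s_4_6 c) (col18_s_6_9 c) (Nat.ble 6 c)
noncomputable def col18_s_0_9 (c : Nat) : Nat := @Bool.rec (fun _ => Nat) (col18_s_0_4 c) (col18_s_4_9 c) (Nat.ble 4 c)
noncomputable def col18 (i : Nat) : Nat := rdw 16 65535 (col18_s_0_9 (Nat.shiftRight i 12)) (Nat.land i 4095)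
noncomputable def col19_s_0_2 (c : Nat) : Nat := @Bool.rec (fun _ => Nat) (col19_0) (col19_1) (Nat.ble 1 c)
noncomputable def col19_s_2_4 (c : Nat) : Nat := @Bool.rec (fun _ => Nat) (col19_2) (col19_3) (Nat.ble 3 c)
noncomputable def col19_s_0_4 (c : Nat) : Nat := @Bool.rec (fun _ => Nat) (col19_s_0_2 c) (col19_s_2_4 c) (Nat.ble 2 c)
noncomputable def col19_s_4_6 (c : Nat) : Nat := @Bool.rec (fun _ => Nat) (col19_4) (col19_5) (Nat.ble 5 c)
noncomputable def col19_s_7_9 (c : Nat) : Nat := @Bool.rec (fun _ => Nat) (col19_7) (col19_8) (Nat.ble 8 c)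
noncomputable def col19_s_6_9 (c : Nat) : Nat := @Bool.rec (fun _ => Nat) (col19_6) (col19_s_7_9 c) (Nat.ble 7 c)
noncomputable def col19_s_4_9 (c : Nat) : Nat := @Bool.rec (fun _ => Nat) (col19_s_4_6 c) (col19_s_6_9 c) (Nat.ble 6 c)
noncomputable def col19_s_0_9 (c : Nat) : Nat := @Bool.rec (fun _ => Nat) (col19_s_0_4 c) (col19_s_4_9 c) (Nat.ble 4 c)
noncomputable def col19 (i : Nat) : Nat := rdw 16 65535 (col19_s_0_9 (Nat.shiftRight i 12)) (Nat.land i 4095)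
noncomputable def col20_s_0_2 (c : Nat) : Nat := @Bool.rec (fun _ => Nat) (col20_0) (col20_1) (Nat.ble 1 c)
noncomputable def col20_s_2_4 (c : Nat) : Nat := @Bool.rec (fun _ => Nat) (col20_2) (col20_3) (Nat.ble 3 c)
noncomputable def col20_s_0_4 (c : Nat) : Nat := @Bool.rec (fun _ => Nat) (col20_s_0_2 c) (col20_s_2_4 c) (Nat.ble 2 c)
noncomputable def col20_s_4_6 (c : Nat) : Nat := @Bool.rec (fun _ => Nat) (col20_4) (col20_5) (Nat.ble 5 c)
noncomputable def col20_s_7_9 (c : Nat) : Nat := @Bool.rec (fun _ => Nat) (col20_7) (col20_8) (Nat.ble 8 c)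
noncomputable def col20_s_6_9 (c : Nat) : Nat := @Bool.rec (fun _ => Nat) (col20_6) (col20_s_7_9 c) (Nat.ble 7 c)
noncomputable def col20_s_4_9 (c : Nat) : Nat := @Bool.rec (fun _ => Nat) (col20_s_4_6 c) (col20_s_6_9 c) (Nat.ble 6 c)
noncomputable def col20_s_0_9 (c : Nat) : Nat := @Bool.rec (fun _ => Nat) (col20_s_0_4 c) (col20_s_4_9 c) (Nat.ble 4 c)
noncomputable def col20 (i : Nat) : Nat := rdw 16 65535 (col20_s_0_9 (Nat.shiftRight i 12)) (Nat.land i 4095)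
noncomputable def col21_s_0_2 (c : Nat) : Nat := @Bool.rec (fun _ => Nat) (col21_0) (col21_1) (Nat.ble 1 c)
noncomputable def col21_s_2_4 (c : Nat) : Nat := @Bool.rec (fun _ => Nat) (col21_2) (col21_3) (Nat.ble 3 c)
noncomputable def col21_s_0_4 (c : Nat) : Nat := @Bool.rec (fun _ => Nat) (col21_s_0_2 c) (col21_s_2_4 c) (Nat.ble 2 c)
noncomputable def col21_s_4_6 (c : Nat) : Nat := @Bool.rec (fun _ => Nat) (col21_4) (col21_5) (Nat.ble 5 c)
noncomputable def col21_s_7_9 (c : Nat) : Nat := @Bool.rec (fun _ => Nat) (col21_7) (col21_8) (Nat.ble 8 c)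
noncomputable def col21_s_6_9 (c : Nat) : Nat := @Bool.rec (fun _ => Nat) (col21_6) (col21_s_7_9 c) (Nat.ble 7 c)
noncomputable def col21_s_4_9 (c : Nat) : Nat := @Bool.rec (fun _ => Nat) (col21_s_4_6 c) (col21_s_6_9 c) (Nat.ble 6 c)
noncomputable def col21_s_0_9 (c : Nat) : Nat := @Bool.rec (fun _ => Nat) (col21_s_0_4 c) (col21_s_4_9 c) (Nat.ble 4 c)
noncomputable def col21 (i : Nat) : Nat := rdw 16 65535 (col21_s_0_9 (Nat.shiftRight i 12)) (Nat.land i 4095)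
noncomputable def col22_s_0_2 (c : Nat) : Nat := @Bool.rec (fun _ => Nat) (col22_0) (col22_1) (Nat.ble 1 c)
noncomputable def col22_s_2_4 (c : Nat) : Nat := @Bool.rec (fun _ => Nat) (col22_2) (col22_3) (Nat.ble 3 c)
noncomputable def col22_s_0_4 (c : Nat) : Nat := @Bool.rec (fun _ => Nat) (col22_s_0_2 c) (col22_s_2_4 c) (Nat.ble 2 c)
noncomputable def col22_s_4_6 (c : Nat) : Nat := @Bool.rec (fun _ => Nat) (col22_4) (col22_5) (Nat.ble 5 c)
noncomputable def col22_s_7_9 (c : Nat) : Nat := @Bool.rec (fun _ => Nat) (col22_7) (col22_8) (Nat.ble 8 c)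
noncomputable def col22_s_6_9 (c : Nat) : Nat := @Bool.rec (fun _ => Nat) (col22_6) (col22_s_7_9 c) (Nat.ble 7 c)
noncomputable def col22_s_4_9 (c : Nat) : Nat := @Bool.rec (fun _ => Nat) (col22_s_4_6 c) (col22_s_6_9 c) (Nat.ble 6 c)
noncomputable def col22_s_0_9 (c : Nat) : Nat := @Bool.rec (fun _ => Nat) (col22_s_0_4 c) (col22_s_4_9 c) (Nat.ble 4 c)
noncomputable def col22 (i : Nat) : Nat := rdw 16 65535 (col22_s_0_9 (Nat.shiftRight i 12)) (Nat.land i 4095)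
noncomputable def col23_s_0_2 (c : Nat) : Nat := @Bool.rec (fun _ => Nat) (col23_0) (col23_1) (Nat.ble 1 c)
noncomputable def col23_s_2_4 (c : Nat) : Nat := @Bool.rec (fun _ => Nat) (col23_2) (col23_3) (Nat.ble 3 c)
noncomputable def col23_s_0_4 (c : Nat) : Nat := @Bool.rec (fun _ => Nat) (col23_s_0_2 c) (col23_s_2_4 c) (Nat.ble 2 c)
noncomputable def col23_s_4_6 (c : Nat) : Nat := @Bool.rec (fun _ => Nat) (col23_4) (col23_5) (Nat.ble 5 c)
noncomputable def col23_s_7_9 (c : Nat) : Nat := @Bool.rec (fun _ => Nat) (col23_7) (col23_8) (Nat.ble 8 c)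
noncomputable def col23_s_6_9 (c : Nat) : Nat := @Bool.rec (fun _ => Nat) (col23_6) (col23_s_7_9 c) (Nat.ble 7 c)
noncomputable def col23_s_4_9 (c : Nat) : Nat := @Bool.rec (fun _ => Nat) (col23_s_4_6 c) (col23_s_6_9 c) (Nat.ble 6 c)
noncomputable def col23_s_0_9 (c : Nat) : Nat := @Bool.rec (fun _ => Nat) (col23_s_0_4 c) (col23_s_4_9 c) (Nat.ble 4 c)
noncomputable def col23 (i : Nat) : Nat := rdw 16 65535 (col23_s_0_9 (Nat.shiftRight i 12)) (Nat.land i 4095)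
noncomputable def col24_s_0_2 (c : Nat) : Nat := @Bool.rec (fun _ => Nat) (col24_0) (col24_1) (Nat.ble 1 c)
noncomputable def col24_s_2_4 (c : Nat) : Nat := @Bool.rec (fun _ => Nat) (col24_2) (col24_3) (Nat.ble 3 c)
noncomputable def col24_s_0_4 (c : Nat) : Nat := @Bool.rec (fun _ => Nat) (col24_s_0_2 c) (col24_s_2_4 c) (Nat.ble 2 c)
noncomputable def col24_s_4_6 (c : Nat) : Nat := @Bool.rec (fun _ => Nat) (col24_4) (col24_5) (Nat.ble 5 c)
noncomputable def col24_s_7_9 (c : Nat) : Nat := @Bool.rec (fun _ => Nat) (col24_7) (col24_8) (Nat.ble 8 c)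
noncomputable def col24_s_6_9 (c : Nat) : Nat := @Bool.rec (fun _ => Nat) (col24_6) (col24_s_7_9 c) (Nat.ble 7 c)
noncomputable def col24_s_4_9 (c : Nat) : Nat := @Bool.rec (fun _ => Nat) (col24_s_4_6 c) (col24_s_6_9 c) (Nat.ble 6 c)
noncomputable def col24_s_0_9 (c : Nat) : Nat := @Bool.rec (fun _ => Nat) (col24_s_0_4 c) (col24_s_4_9 c) (Nat.ble 4 c)
noncomputable def col24 (i : Nat) : Nat := rdw 16 65535 (col24_s_0_9 (Nat.shiftRight i 12)) (Nat.land i 4095)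
noncomputable def col25_s_0_2 (c : Nat) : Nat := @Bool.rec (fun _ => Nat) (col25_0) (col25_1) (Nat.ble 1 c)
noncomputable def col25_s_2_4 (c : Nat) : Nat := @Bool.rec (fun _ => Nat) (col25_2) (col25_3) (Nat.ble 3 c)
noncomputable def col25_s_0_4 (c : Nat) : Nat := @Bool.rec (fun _ => Nat) (col25_s_0_2 c) (col25_s_2_4 c) (Nat.ble 2 c)
noncomputable def col25_s_4_6 (c : Nat) : Nat := @Bool.rec (fun _ => Nat) (col25_4) (col25_5) (Nat.ble 5 c)
noncomputable def col25_s_7_9 (c : Nat) : Nat := @Bool.rec (fun _ => Nat) (col25_7) (col25_8) (Nat.ble 8 c)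
noncomputable def col25_s_6_9 (c : Nat) : Nat := @Bool.rec (fun _ => Nat) (col25_6) (col25_s_7_9 c) (Nat.ble 7 c)
noncomputable def col25_s_4_9 (c : Nat) : Nat := @Bool.rec (fun _ => Nat) (col25_s_4_6 c) (col25_s_6_9 c) (Nat.ble 6 c)
noncomputable def col25_s_0_9 (c : Nat) : Nat := @Bool.rec (fun _ => Nat) (col25_s_0_4 c) (col25_s_4_9 c) (Nat.ble 4 c)
noncomputable def col25 (i : Nat) : Nat := rdw 16 65535 (col25_s_0_9 (Nat.shiftRight i 12)) (Nat.land i 4095)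
noncomputable def col26_s_0_2 (c : Nat) : Nat := @Bool.rec (fun _ => Nat) (col26_0) (col26_1) (Nat.ble 1 c)
noncomputable def col26_s_2_4 (c : Nat) : Nat := @Bool.rec (fun _ => Nat) (col26_2) (col26_3) (Nat.ble 3 c)
noncomputable def col26_s_0_4 (c : Nat) : Nat := @Bool.rec (fun _ => Nat) (col26_s_0_2 c) (col26_s_2_4 c) (Nat.ble 2 c)
noncomputable def col26_s_4_6 (c : Nat) : Nat := @Bool.rec (fun _ => Nat) (col26_4) (col26_5) (Nat.ble 5 c)
noncomputable def col26_s_7_9 (c : Nat) : Nat := @Bool.rec (fun _ => Nat) (col26_7) (col26_8) (Nat.ble 8 c)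
noncomputable def col26_s_6_9 (c : Nat) : Nat := @Bool.rec (fun _ => Nat) (col26_6) (col26_s_7_9 c) (Nat.ble 7 c)
noncomputable def col26_s_4_9 (c : Nat) : Nat := @Bool.rec (fun _ => Nat) (col26_s_4_6 c) (col26_s_6_9 c) (Nat.ble 6 c)
noncomputable def col26_s_0_9 (c : Nat) : Nat := @Bool.rec (fun _ => Nat) (col26_s_0_4 c) (col26_s_4_9 c) (Nat.ble 4 c)
noncomputable def col26 (i : Nat) : Nat := rdw 16 65535 (col26_s_0_9 (Nat.shiftRight i 12)) (Nat.land i 4095)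
noncomputable def col27_s_0_2 (c : Nat) : Nat := @Bool.rec (fun _ => Nat) (col27_0) (col27_1) (Nat.ble 1 c)
noncomputable def col27_s_2_4 (c : Nat) : Nat := @Bool.rec (fun _ => Nat) (col27_2) (col27_3) (Nat.ble 3 c)
noncomputable def col27_s_0_4 (c : Nat) : Nat := @Bool.rec (fun _ => Nat) (col27_s_0_2 c) (col27_s_2_4 c) (Nat.ble 2 c)
noncomputable def col27_s_4_6 (c : Nat) : Nat := @Bool.rec (fun _ => Nat) (col27_4) (col27_5) (Nat.ble 5 c)
noncomputable def col27_s_7_9 (c : Nat) : Nat := @Bool.rec (fun _ => Nat) (col27_7) (col27_8) (Nat.ble 8 c)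
noncomputable def col27_s_6_9 (c : Nat) : Nat := @Bool.rec (fun _ => Nat) (col27_6) (col27_s_7_9 c) (Nat.ble 7 c)
noncomputable def col27_s_4_9 (c : Nat) : Nat := @Bool.rec (fun _ => Nat) (col27_s_4_6 c) (col27_s_6_9 c) (Nat.ble 6 c)
noncomputable def col27_s_0_9 (c : Nat) : Nat := @Bool.rec (fun _ => Nat) (col27_s_0_4 c) (col27_s_4_9 c) (Nat.ble 4 c)
noncomputable def col27 (i : Nat) : Nat := rdw 16 65535 (col27_s_0_9 (Nat.shiftRight i 12)) (Nat.land i 4095)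
noncomputable def col28_s_0_2 (c : Nat) : Nat := @Bool.rec (fun _ => Nat) (col28_0) (col28_1) (Nat.ble 1 c)
noncomputable def col28_s_2_4 (c : Nat) : Nat := @Bool.rec (fun _ => Nat) (col28_2) (col28_3) (Nat.ble 3 c)
noncomputable def col28_s_0_4 (c : Nat) : Nat := @Bool.rec (fun _ => Nat) (col28_s_0_2 c) (col28_s_2_4 c) (Nat.ble 2 c)
noncomputable def col28_s_4_6 (c : Nat) : Nat := @Bool.rec (fun _ => Nat) (col28_4) (col28_5) (Nat.ble 5 c)
noncomputable def col28_s_7_9 (c : Nat) : Nat := @Bool.rec (fun _ => Nat) (col28_7) (col28_8) (Nat.ble 8 c)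
noncomputable def col28_s_6_9 (c : Nat) : Nat := @Bool.rec (fun _ => Nat) (col28_6) (col28_s_7_9 c) (Nat.ble 7 c)
noncomputable def col28_s_4_9 (c : Nat) : Nat := @Bool.rec (fun _ => Nat) (col28_s_4_6 c) (col28_s_6_9 c) (Nat.ble 6 c)
noncomputable def col28_s_0_9 (c : Nat) : Nat := @Bool.rec (fun _ => Nat) (col28_s_0_4 c) (col28_s_4_9 c) (Nat.ble 4 c)
noncomputable def col28 (i : Nat) : Nat := rdw 16 65535 (col28_s_0_9 (Nat.shiftRight i 12)) (Nat.land i 4095)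
noncomputable def col29_s_0_2 (c : Nat) : Nat := @Bool.rec (fun _ => Nat) (col29_0) (col29_1) (Nat.ble 1 c)
noncomputable def col29_s_2_4 (c : Nat) : Nat := @Bool.rec (fun _ => Nat) (col29_2) (col29_3) (Nat.ble 3 c)
noncomputable def col29_s_0_4 (c : Nat) : Nat := @Bool.rec (fun _ => Nat) (col29_s_0_2 c) (col29_s_2_4 c) (Nat.ble 2 c)
noncomputable def col29_s_4_6 (c : Nat) : Nat := @Bool.rec (fun _ => Nat) (col29_4) (col29_5) (Nat.ble 5 c)
noncomputable def col29_s_7_9 (c : Nat) : Nat := @Bool.rec (fun _ => Nat) (col29_7) (col29_8) (Nat.ble 8 c)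
noncomputable def col29_s_6_9 (c : Nat) : Nat := @Bool.rec (fun _ => Nat) (col29_6) (col29_s_7_9 c) (Nat.ble 7 c)
noncomputable def col29_s_4_9 (c : Nat) : Nat := @Bool.rec (fun _ => Nat) (col29_s_4_6 c) (col29_s_6_9 c) (Nat.ble 6 c)
noncomputable def col29_s_0_9 (c : Nat) : Nat := @Bool.rec (fun _ => Nat) (col29_s_0_4 c) (col29_s_4_9 c) (Nat.ble 4 c)
noncomputable def col29 (i : Nat) : Nat := rdw 16 65535 (col29_s_0_9 (Nat.shiftRight i 12)) (Nat.land i 4095)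
noncomputable def col30_s_0_2 (c : Nat) : Nat := @Bool.rec (fun _ => Nat) (col30_0) (col30_1) (Nat.ble 1 c)
noncomputable def col30_s_2_4 (c : Nat) : Nat := @Bool.rec (fun _ => Nat) (col30_2) (col30_3) (Nat.ble 3 c)
noncomputable def col30_s_0_4 (c : Nat) : Nat := @Bool.rec (fun _ => Nat) (col30_s_0_2 c) (col30_s_2_4 c) (Nat.ble 2 c)
noncomputable def col30_s_4_6 (c : Nat) : Nat := @Bool.rec (fun _ => Nat) (col30_4) (col30_5) (Nat.ble 5 c)
noncomputable def col30_s_7_9 (c : Nat) : Nat := @Bool.rec (fun _ => Nat) (col30_7) (col30_8) (Nat.ble 8 c)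
noncomputable def col30_s_6_9 (c : Nat) : Nat := @Bool.rec (fun _ => Nat) (col30_6) (col30_s_7_9 c) (Nat.ble 7 c)
noncomputable def col30_s_4_9 (c : Nat) : Nat := @Bool.rec (fun _ => Nat) (col30_s_4_6 c) (col30_s_6_9 c) (Nat.ble 6 c)
noncomputable def col30_s_0_9 (c : Nat) : Nat := @Bool.rec (fun _ => Nat) (col30_s_0_4 c) (col30_s_4_9 c) (Nat.ble 4 c)
noncomputable def col30 (i : Nat) : Nat := rdw 16 65535 (col30_s_0_9 (Nat.shiftRight i 12)) (Nat.land i 4095)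
noncomputable def col31_s_0_2 (c : Nat) : Nat := @Bool.rec (fun _ => Nat) (col31_0) (col31_1) (Nat.ble 1 c)
noncomputable def col31_s_2_4 (c : Nat) : Nat := @Bool.rec (fun _ => Nat) (col31_2) (col31_3) (Nat.ble 3 c)
noncomputable def col31_s_0_4 (c : Nat) : Nat := @Bool.rec (fun _ => Nat) (col31_s_0_2 c) (col31_s_2_4 c) (Nat.ble 2 c)
noncomputable def col31_s_4_6 (c : Nat) : Nat := @Bool.rec (fun _ => Nat) (col31_4) (col31_5) (Nat.ble 5 c)
noncomputable def col31_s_7_9 (c : Nat) : Nat := @Bool.rec (fun _ => Nat) (col31_7) (col31_8) (Nat.ble 8 c)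
noncomputable def col31_s_6_9 (c : Nat) : Nat := @Bool.rec (fun _ => Nat) (col31_6) (col31_s_7_9 c) (Nat.ble 7 c)
noncomputable def col31_s_4_9 (c : Nat) : Nat := @Bool.rec (fun _ => Nat) (col31_s_4_6 c) (col31_s_6_9 c) (Nat.ble 6 c)
noncomputable def col31_s_0_9 (c : Nat) : Nat := @Bool.rec (fun _ => Nat) (col31_s_0_4 c) (col31_s_4_9 c) (Nat.ble 4 c)
noncomputable def col31 (i : Nat) : Nat := rdw 16 65535 (col31_s_0_9 (Nat.shiftRight i 12)) (Nat.land i 4095)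
noncomputable def col32_s_0_2 (c : Nat) : Nat := @Bool.rec (fun _ => Nat) (col32_0) (col32_1) (Nat.ble 1 c)
noncomputable def col32_s_2_4 (c : Nat) : Nat := @Bool.rec (fun _ => Nat) (col32_2) (col32_3) (Nat.ble 3 c)
noncomputable def col32_s_0_4 (c : Nat) : Nat := @Bool.rec (fun _ => Nat) (col32_s_0_2 c) (col32_s_2_4 c) (Nat.ble 2 c)
noncomputable def col32_s_4_6 (c : Nat) : Nat := @Bool.rec (fun _ => Nat) (col32_4) (col32_5) (Nat.ble 5 c)
noncomputable def col32_s_7_9 (c : Nat) : Nat := @Bool.rec (fun _ => Nat) (col32_7) (col32_8) (Nat.ble 8 c)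
noncomputable def col32_s_6_9 (c : Nat) : Nat := @Bool.rec (fun _ => Nat) (col32_6) (col32_s_7_9 c) (Nat.ble 7 c)
noncomputable def col32_s_4_9 (c : Nat) : Nat := @Bool.rec (fun _ => Nat) (col32_s_4_6 c) (col32_s_6_9 c) (Nat.ble 6 c)
noncomputable def col32_s_0_9 (c : Nat) : Nat := @Bool.rec (fun _ => Nat) (col32_s_0_4 c) (col32_s_4_9 c) (Nat.ble 4 c)
noncomputable def col32 (i : Nat) : Nat := rdw 16 65535 (col32_s_0_9 (Nat.shiftRight i 12)) (Nat.land i 4095)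
noncomputable def col33_s_0_2 (c : Nat) : Nat := @Bool.rec (fun _ => Nat) (col33_0) (col33_1) (Nat.ble 1 c)
noncomputable def col33_s_2_4 (c : Nat) : Nat := @Bool.rec (fun _ => Nat) (col33_2) (col33_3) (Nat.ble 3 c)
noncomputable def col33_s_0_4 (c : Nat) : Nat := @Bool.rec (fun _ => Nat) (col33_s_0_2 c) (col33_s_2_4 c) (Nat.ble 2 c)
noncomputable def col33_s_4_6 (c : Nat) : Nat := @Bool.rec (fun _ => Nat) (col33_4) (col33_5) (Nat.ble 5 c)
noncomputable def col33_s_7_9 (c : Nat) : Nat := @Bool.rec (fun _ => Nat) (col33_7) (col33_8) (Nat.ble 8 c)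
noncomputable def col33_s_6_9 (c : Nat) : Nat := @Bool.rec (fun _ => Nat) (col33_6) (col33_s_7_9 c) (Nat.ble 7 c)
noncomputable def col33_s_4_9 (c : Nat) : Nat := @Bool.rec (fun _ => Nat) (col33_s_4_6 c) (col33_s_6_9 c) (Nat.ble 6 c)
noncomputable def col33_s_0_9 (c : Nat) : Nat := @Bool.rec (fun _ => Nat) (col33_s_0_4 c) (col33_s_4_9 c) (Nat.ble 4 c)
noncomputable def col33 (i : Nat) : Nat := rdw 16 65535 (col33_s_0_9 (Nat.shiftRight i 12)) (Nat.land i 4095)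
noncomputable def finTab_s_0_2 (c : Nat) : Nat := @Bool.rec (fun _ => Nat) (finTab_0) (finTab_1) (Nat.ble 1 c)
noncomputable def finTab_s_2_4 (c : Nat) : Nat := @Bool.rec (fun _ => Nat) (finTab_2) (finTab_3) (Nat.ble 3 c)
noncomputable def finTab_s_0_4 (c : Nat) : Nat := @Bool.rec (fun _ => Nat) (finTab_s_0_2 c) (finTab_s_2_4 c) (Nat.ble 2 c)
noncomputable def finTab_s_4_6 (c : Nat) : Nat := @Bool.rec (fun _ => Nat) (finTab_4) (finTab_5) (Nat.ble 5 c)
noncomputable def finTab_s_6_8 (c : Nat) : Nat := @Bool.rec (fun _ => Nat) (finTab_6) (finTab_7) (Nat.ble 7 c)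
noncomputable def finTab_s_4_8 (c : Nat) : Nat := @Bool.rec (fun _ => Nat) (finTab_s_4_6 c) (finTab_s_6_8 c) (Nat.ble 6 c)
noncomputable def finTab_s_0_8 (c : Nat) : Nat := @Bool.rec (fun _ => Nat) (finTab_s_0_4 c) (finTab_s_4_8 c) (Nat.ble 4 c)
noncomputable def finTab_s_8_10 (c : Nat) : Nat := @Bool.rec (fun _ => Nat) (finTab_8) (finTab_9) (Nat.ble 9 c)
noncomputable def finTab_s_10_12 (c : Nat) : Nat := @Bool.rec (fun _ => Nat) (finTab_10) (finTab_11) (Nat.ble 11 c)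
noncomputable def finTab_s_8_12 (c : Nat) : Nat := @Bool.rec (fun _ => Nat) (finTab_s_8_10 c) (finTab_s_10_12 c) (Nat.ble 10 c)
noncomputable def finTab_s_12_14 (c : Nat) : Nat := @Bool.rec (fun _ => Nat) (finTab_12) (finTab_13) (Nat.ble 13 c)
noncomputable def finTab_s_15_17 (c : Nat) : Nat := @Bool.rec (fun _ => Nat) (finTab_15) (finTab_16) (Nat.ble 16 c)
noncomputable def finTab_s_14_17 (c : Nat) : Nat := @Bool.rec (fun _ => Nat) (finTab_14) (finTab_s_15_17 c) (Nat.ble 15 c)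
noncomputable def finTab_s_12_17 (c : Nat) : Nat := @Bool.rec (fun _ => Nat) (finTab_s_12_14 c) (finTab_s_14_17 c) (Nat.ble 14 c)
noncomputable def finTab_s_8_17 (c : Nat) : Nat := @Bool.rec (fun _ => Nat) (finTab_s_8_12 c) (finTab_s_12_17 c) (Nat.ble 12 c)
noncomputable def finTab_s_0_17 (c : Nat) : Nat := @Bool.rec (fun _ => Nat) (finTab_s_0_8 c) (finTab_s_8_17 c) (Nat.ble 8 c)
noncomputable def finTab_s_17_19 (c : Nat) : Nat := @Bool.rec (fun _ => Nat) (finTab_17) (finTab_18) (Nat.ble 18 c)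
noncomputable def finTab_s_19_21 (c : Nat) : Nat := @Bool.rec (fun _ => Nat) (finTab_19) (finTab_20) (Nat.ble 20 c)
noncomputable def finTab_s_17_21 (c : Nat) : Nat := @Bool.rec (fun _ => Nat) (finTab_s_17_19 c) (finTab_s_19_21 c) (Nat.ble 19 c)
noncomputable def finTab_s_21_23 (c : Nat) : Nat := @Bool.rec (fun _ => Nat) (finTab_21) (finTab_22) (Nat.ble 22 c)
noncomputable def finTab_s_24_26 (c : Nat) : Nat := @Bool.rec (fun _ => Nat) (finTab_24) (finTab_25) (Nat.ble 25 c)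
noncomputable def finTab_s_23_26 (c : Nat) : Nat := @Bool.rec (fun _ => Nat) (finTab_23) (finTab_s_24_26 c) (Nat.ble 24 c)
noncomputable def finTab_s_21_26 (c : Nat) : Nat := @Bool.rec (fun _ => Nat) (finTab_s_21_23 c) (finTab_s_23_26 c) (Nat.ble 23 c)
noncomputable def finTab_s_17_26 (c : Nat) : Nat := @Bool.rec (fun _ => Nat) (finTab_s_17_21 c) (finTab_s_21_26 c) (Nat.ble 21 c)
noncomputable def finTab_s_26_28 (c : Nat) : Nat := @Bool.rec (fun _ => Nat) (finTab_26) (finTab_27) (Nat.ble 27 c)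
noncomputable def finTab_s_28_30 (c : Nat) : Nat := @Bool.rec (fun _ => Nat) (finTab_28) (finTab_29) (Nat.ble 29 c)
noncomputable def finTab_s_26_30 (c : Nat) : Nat := @Bool.rec (fun _ => Nat) (finTab_s_26_28 c) (finTab_s_28_30 c) (Nat.ble 28 c)
noncomputable def finTab_s_30_32 (c : Nat) : Nat := @Bool.rec (fun _ => Nat) (finTab_30) (finTab_31) (Nat.ble 31 c)
noncomputable def finTab_s_33_35 (c : Nat) : Nat := @Bool.rec (fun _ => Nat) (finTab_33) (finTab_34) (Nat.ble 34 c)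
noncomputable def finTab_s_32_35 (c : Nat) : Nat := @Bool.rec (fun _ => Nat) (finTab_32) (finTab_s_33_35 c) (Nat.ble 33 c)
noncomputable def finTab_s_30_35 (c : Nat) : Nat := @Bool.rec (fun _ => Nat) (finTab_s_30_32 c) (finTab_s_32_35 c) (Nat.ble 32 c)
noncomputable def finTab_s_26_35 (c : Nat) : Nat := @Bool.rec (fun _ => Nat) (finTab_s_26_30 c) (finTab_s_30_35 c) (Nat.ble 30 c)
noncomputable def finTab_s_17_35 (c : Nat) : Nat := @Bool.rec (fun _ => Nat) (finTab_s_17_26 c) (finTab_s_26_35 c) (Nat.ble 26 c)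
noncomputable def finTab_s_0_35 (c : Nat) : Nat := @Bool.rec (fun _ => Nat) (finTab_s_0_17 c) (finTab_s_17_35 c) (Nat.ble 17 c)
noncomputable def finTab_s_35_37 (c : Nat) : Nat := @Bool.rec (fun _ => Nat) (finTab_35) (finTab_36) (Nat.ble 36 c)
noncomputable def finTab_s_37_39 (c : Nat) : Nat := @Bool.rec (fun _ => Nat) (finTab_37) (finTab_38) (Nat.ble 38 c)
noncomputable def finTab_s_35_39 (c : Nat) : Nat := @Bool.rec (fun _ => Nat) (finTab_s_35_37 c) (finTab_s_37_39 c) (Nat.ble 37 c)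
noncomputable def finTab_s_39_41 (c : Nat) : Nat := @Bool.rec (fun _ => Nat) (finTab_39) (finTab_40) (Nat.ble 40 c)
noncomputable def finTab_s_41_43 (c : Nat) : Nat := @Bool.rec (fun _ => Nat) (finTab_41) (finTab_42) (Nat.ble 42 c)
noncomputable def finTab_s_39_43 (c : Nat) : Nat := @Bool.rec (fun _ => Nat) (finTab_s_39_41 c) (finTab_s_41_43 c) (Nat.ble 41 c)
noncomputable def finTab_s_35_43 (c : Nat) : Nat := @Bool.rec (fun _ => Nat) (finTab_s_35_39 c) (finTab_s_39_43 c) (Nat.ble 39 c)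
noncomputable def finTab_s_43_45 (c : Nat) : Nat := @Bool.rec (fun _ => Nat) (finTab_43) (finTab_44) (Nat.ble 44 c)
noncomputable def finTab_s_45_47 (c : Nat) : Nat := @Bool.rec (fun _ => Nat) (finTab_45) (finTab_46) (Nat.ble 46 c)
noncomputable def finTab_s_43_47 (c : Nat) : Nat := @Bool.rec (fun _ => Nat) (finTab_s_43_45 c) (finTab_s_45_47 c) (Nat.ble 45 c)
noncomputable def finTab_s_47_49 (c : Nat) : Nat := @Bool.rec (fun _ => Nat) (finTab_47) (finTab_48) (Nat.ble 48 c)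
noncomputable def finTab_s_50_52 (c : Nat) : Nat := @Bool.rec (fun _ => Nat) (finTab_50) (finTab_51) (Nat.ble 51 c)
noncomputable def finTab_s_49_52 (c : Nat) : Nat := @Bool.rec (fun _ => Nat) (finTab_49) (finTab_s_50_52 c) (Nat.ble 50 c)
noncomputable def finTab_s_47_52 (c : Nat) : Nat := @Bool.rec (fun _ => Nat) (finTab_s_47_49 c) (finTab_s_49_52 c) (Nat.ble 49 c)
noncomputable def finTab_s_43_52 (c : Nat) : Nat := @Bool.rec (fun _ => Nat) (finTab_s_43_47 c) (finTab_s_47_52 c) (Nat.ble 47 c)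
noncomputable def finTab_s_35_52 (c : Nat) : Nat := @Bool.rec (fun _ => Nat) (finTab_s_35_43 c) (finTab_s_43_52 c) (Nat.ble 43 c)
noncomputable def finTab_s_52_54 (c : Nat) : Nat := @Bool.rec (fun _ => Nat) (finTab_52) (finTab_53) (Nat.ble 53 c)
noncomputable def finTab_s_54_56 (c : Nat) : Nat := @Bool.rec (fun _ => Nat) (finTab_54) (finTab_55) (Nat.ble 55 c)
noncomputable def finTab_s_52_56 (c : Nat) : Nat := @Bool.rec (fun _ => Nat) (finTab_s_52_54 c) (finTab_s_54_56 c) (Nat.ble 54 c)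
noncomputable def finTab_s_56_58 (c : Nat) : Nat := @Bool.rec (fun _ => Nat) (finTab_56) (finTab_57) (Nat.ble 57 c)
noncomputable def finTab_s_59_61 (c : Nat) : Nat := @Bool.rec (fun _ => Nat) (finTab_59) (finTab_60) (Nat.ble 60 c)
noncomputable def finTab_s_58_61 (c : Nat) : Nat := @Bool.rec (fun _ => Nat) (finTab_58) (finTab_s_59_61 c) (Nat.ble 59 c)
noncomputable def finTab_s_56_61 (c : Nat) : Nat := @Bool.rec (fun _ => Nat) (finTab_s_56_58 c) (finTab_s_58_61 c) (Nat.ble 58 c)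
noncomputable def finTab_s_52_61 (c : Nat) : Nat := @Bool.rec (fun _ => Nat) (finTab_s_52_56 c) (finTab_s_56_61 c) (Nat.ble 56 c)
noncomputable def finTab_s_61_63 (c : Nat) : Nat := @Bool.rec (fun _ => Nat) (finTab_61) (finTab_62) (Nat.ble 62 c)
noncomputable def finTab_s_63_65 (c : Nat) : Nat := @Bool.rec (fun _ => Nat) (finTab_63) (finTab_64) (Nat.ble 64 c)
noncomputable def finTab_s_61_65 (c : Nat) : Nat := @Bool.rec (fun _ => Nat) (finTab_s_61_63 c) (finTab_s_63_65 c) (Nat.ble 63 c)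
noncomputable def finTab_s_65_67 (c : Nat) : Nat := @Bool.rec (fun _ => Nat) (finTab_65) (finTab_66) (Nat.ble 66 c)
noncomputable def finTab_s_68_70 (c : Nat) : Nat := @Bool.rec (fun _ => Nat) (finTab_68) (finTab_69) (Nat.ble 69 c)
noncomputable def finTab_s_67_70 (c : Nat) : Nat := @Bool.rec (fun _ => Nat) (finTab_67) (finTab_s_68_70 c) (Nat.ble 68 c)
noncomputable def finTab_s_65_70 (c : Nat) : Nat := @Bool.rec (fun _ => Nat) (finTab_s_65_67 c) (finTab_s_67_70 c) (Nat.ble 67 c)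
noncomputable def finTab_s_61_70 (c : Nat) : Nat := @Bool.rec (fun _ => Nat) (finTab_s_61_65 c) (finTab_s_65_70 c) (Nat.ble 65 c)
noncomputable def finTab_s_52_70 (c : Nat) : Nat := @Bool.rec (fun _ => Nat) (finTab_s_52_61 c) (finTab_s_61_70 c) (Nat.ble 61 c)
noncomputable def finTab_s_35_70 (c : Nat) : Nat := @Bool.rec (fun _ => Nat) (finTab_s_35_52 c) (finTab_s_52_70 c) (Nat.ble 52 c)
noncomputable def finTab_s_0_70 (c : Nat) : Nat := @Bool.rec (fun _ => Nat) (finTab_s_0_35 c) (finTab_s_35_70 c) (Nat.ble 35 c)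
noncomputable def finTab_s_70_72 (c : Nat) : Nat := @Bool.rec (fun _ => Nat) (finTab_70) (finTab_71) (Nat.ble 71 c)
noncomputable def finTab_s_72_74 (c : Nat) : Nat := @Bool.rec (fun _ => Nat) (finTab_72) (finTab_73) (Nat.ble 73 c)
noncomputable def finTab_s_70_74 (c : Nat) : Nat := @Bool.rec (fun _ => Nat) (finTab_s_70_72 c) (finTab_s_72_74 c) (Nat.ble 72 c)
noncomputable def finTab_s_74_76 (c : Nat) : Nat := @Bool.rec (fun _ => Nat) (finTab_74) (finTab_75) (Nat.ble 75 c)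
noncomputable def finTab_s_76_78 (c : Nat) : Nat := @Bool.rec (fun _ => Nat) (finTab_76) (finTab_77) (Nat.ble 77 c)
noncomputable def finTab_s_74_78 (c : Nat) : Nat := @Bool.rec (fun _ => Nat) (finTab_s_74_76 c) (finTab_s_76_78 c) (Nat.ble 76 c)
noncomputable def finTab_s_70_78 (c : Nat) : Nat := @Bool.rec (fun _ => Nat) (finTab_s_70_74 c) (finTab_s_74_78 c) (Nat.ble 74 c)
noncomputable def finTab_s_78_80 (c : Nat) : Nat := @Bool.rec (fun _ => Nat) (finTab_78) (finTab_79) (Nat.ble 79 c)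
noncomputable def finTab_s_80_82 (c : Nat) : Nat := @Bool.rec (fun _ => Nat) (finTab_80) (finTab_81) (Nat.ble 81 c)
noncomputable def finTab_s_78_82 (c : Nat) : Nat := @Bool.rec (fun _ => Nat) (finTab_s_78_80 c) (finTab_s_80_82 c) (Nat.ble 80 c)
noncomputable def finTab_s_82_84 (c : Nat) : Nat := @Bool.rec (fun _ => Nat) (finTab_82) (finTab_83) (Nat.ble 83 c)
noncomputable def finTab_s_85_87 (c : Nat) : Nat := @Bool.rec (fun _ => Nat) (finTab_85) (finTab_86) (Nat.ble 86 c)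
noncomputable def finTab_s_84_87 (c : Nat) : Nat := @Bool.rec (fun _ => Nat) (finTab_84) (finTab_s_85_87 c) (Nat.ble 85 c)
noncomputable def finTab_s_82_87 (c : Nat) : Nat := @Bool.rec (fun _ => Nat) (finTab_s_82_84 c) (finTab_s_84_87 c) (Nat.ble 84 c)
noncomputable def finTab_s_78_87 (c : Nat) : Nat := @Bool.rec (fun _ => Nat) (finTab_s_78_82 c) (finTab_s_82_87 c) (Nat.ble 82 c)
noncomputable def finTab_s_70_87 (c : Nat) : Nat := @Bool.rec (fun _ => Nat) (finTab_s_70_78 c) (finTab_s_78_87 c) (Nat.ble 78 c)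
noncomputable def finTab_s_87_89 (c : Nat) : Nat := @Bool.rec (fun _ => Nat) (finTab_87) (finTab_88) (Nat.ble 88 c)
noncomputable def finTab_s_89_91 (c : Nat) : Nat := @Bool.rec (fun _ => Nat) (finTab_89) (finTab_90) (Nat.ble 90 c)
noncomputable def finTab_s_87_91 (c : Nat) : Nat := @Bool.rec (fun _ => Nat) (finTab_s_87_89 c) (finTab_s_89_91 c) (Nat.ble 89 c)
noncomputable def finTab_s_91_93 (c : Nat) : Nat := @Bool.rec (fun _ => Nat) (finTab_91) (finTab_92) (Nat.ble 92 c)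
noncomputable def finTab_s_94_96 (c : Nat) : Nat := @Bool.rec (fun _ => Nat) (finTab_94) (finTab_95) (Nat.ble 95 c)
noncomputable def finTab_s_93_96 (c : Nat) : Nat := @Bool.rec (fun _ => Nat) (finTab_93) (finTab_s_94_96 c) (Nat.ble 94 c)
noncomputable def finTab_s_91_96 (c : Nat) : Nat := @Bool.rec (fun _ => Nat) (finTab_s_91_93 c) (finTab_s_93_96 c) (Nat.ble 93 c)
noncomputable def finTab_s_87_96 (c : Nat) : Nat := @Bool.rec (fun _ => Nat) (finTab_s_87_91 c) (finTab_s_91_96 c) (Nat.ble 91 c)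
noncomputable def finTab_s_96_98 (c : Nat) : Nat := @Bool.rec (fun _ => Nat) (finTab_96) (finTab_97) (Nat.ble 97 c)
noncomputable def finTab_s_98_100 (c : Nat) : Nat := @Bool.rec (fun _ => Nat) (finTab_98) (finTab_99) (Nat.ble 99 c)
noncomputable def finTab_s_96_100 (c : Nat) : Nat := @Bool.rec (fun _ => Nat) (finTab_s_96_98 c) (finTab_s_98_100 c) (Nat.ble 98 c)
noncomputable def finTab_s_100_102 (c : Nat) : Nat := @Bool.rec (fun _ => Nat) (finTab_100) (finTab_101) (Nat.ble 101 c)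
noncomputable def finTab_s_103_105 (c : Nat) : Nat := @Bool.rec (fun _ => Nat) (finTab_103) (finTab_104) (Nat.ble 104 c)
noncomputable def finTab_s_102_105 (c : Nat) : Nat := @Bool.rec (fun _ => Nat) (finTab_102) (finTab_s_103_105 c) (Nat.ble 103 c)
noncomputable def finTab_s_100_105 (c : Nat) : Nat := @Bool.rec (fun _ => Nat) (finTab_s_100_102 c) (finTab_s_102_105 c) (Nat.ble 102 c)
noncomputable def finTab_s_96_105 (c : Nat) : Nat := @Bool.rec (fun _ => Nat) (finTab_s_96_100 c) (finTab_s_100_105 c) (Nat.ble 100 c)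
noncomputable def finTab_s_87_105 (c : Nat) : Nat := @Bool.rec (fun _ => Nat) (finTab_s_87_96 c) (finTab_s_96_105 c) (Nat.ble 96 c)
noncomputable def finTab_s_70_105 (c : Nat) : Nat := @Bool.rec (fun _ => Nat) (finTab_s_70_87 c) (finTab_s_87_105 c) (Nat.ble 87 c)
noncomputable def finTab_s_105_107 (c : Nat) : Nat := @Bool.rec (fun _ => Nat) (finTab_105) (finTab_106) (Nat.ble 106 c)
noncomputable def finTab_s_107_109 (c : Nat) : Nat := @Bool.rec (fun _ => Nat) (finTab_107) (finTab_108) (Nat.ble 108 c)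
noncomputable def finTab_s_105_109 (c : Nat) : Nat := @Bool.rec (fun _ => Nat) (finTab_s_105_107 c) (finTab_s_107_109 c) (Nat.ble 107 c)
noncomputable def finTab_s_109_111 (c : Nat) : Nat := @Bool.rec (fun _ => Nat) (finTab_109) (finTab_110) (Nat.ble 110 c)
noncomputable def finTab_s_111_113 (c : Nat) : Nat := @Bool.rec (fun _ => Nat) (finTab_111) (finTab_112) (Nat.ble 112 c)
noncomputable def finTab_s_109_113 (c : Nat) : Nat := @Bool.rec (fun _ => Nat) (finTab_s_109_111 c) (finTab_s_111_113 c) (Nat.ble 111 c)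
noncomputable def finTab_s_105_113 (c : Nat) : Nat := @Bool.rec (fun _ => Nat) (finTab_s_105_109 c) (finTab_s_109_113 c) (Nat.ble 109 c)
noncomputable def finTab_s_113_115 (c : Nat) : Nat := @Bool.rec (fun _ => Nat) (finTab_113) (finTab_114) (Nat.ble 114 c)
noncomputable def finTab_s_115_117 (c : Nat) : Nat := @Bool.rec (fun _ => Nat) (finTab_115) (finTab_116) (Nat.ble 116 c)
noncomputable def finTab_s_113_117 (c : Nat) : Nat := @Bool.rec (fun _ => Nat) (finTab_s_113_115 c) (finTab_s_115_117 c) (Nat.ble 115 c)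
noncomputable def finTab_s_117_119 (c : Nat) : Nat := @Bool.rec (fun _ => Nat) (finTab_117) (finTab_118) (Nat.ble 118 c)
noncomputable def finTab_s_120_122 (c : Nat) : Nat := @Bool.rec (fun _ => Nat) (finTab_120) (finTab_121) (Nat.ble 121 c)
noncomputable def finTab_s_119_122 (c : Nat) : Nat := @Bool.rec (fun _ => Nat) (finTab_119) (finTab_s_120_122 c) (Nat.ble 120 c)
noncomputable def finTab_s_117_122 (c : Nat) : Nat := @Bool.rec (fun _ => Nat) (finTab_s_117_119 c) (finTab_s_119_122 c) (Nat.ble 119 c)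
noncomputable def finTab_s_113_122 (c : Nat) : Nat := @Bool.rec (fun _ => Nat) (finTab_s_113_117 c) (finTab_s_117_122 c) (Nat.ble 117 c)
noncomputable def finTab_s_105_122 (c : Nat) : Nat := @Bool.rec (fun _ => Nat) (finTab_s_105_113 c) (finTab_s_113_122 c) (Nat.ble 113 c)
noncomputable def finTab_s_122_124 (c : Nat) : Nat := @Bool.rec (fun _ => Nat) (finTab_122) (finTab_123) (Nat.ble 123 c)
noncomputable def finTab_s_124_126 (c : Nat) : Nat := @Bool.rec (fun _ => Nat) (finTab_124) (finTab_125) (Nat.ble 125 c)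
noncomputable def finTab_s_122_126 (c : Nat) : Nat := @Bool.rec (fun _ => Nat) (finTab_s_122_124 c) (finTab_s_124_126 c) (Nat.ble 124 c)
noncomputable def finTab_s_126_128 (c : Nat) : Nat := @Bool.rec (fun _ => Nat) (finTab_126) (finTab_127) (Nat.ble 127 c)
noncomputable def finTab_s_129_131 (c : Nat) : Nat := @Bool.rec (fun _ => Nat) (finTab_129) (finTab_130) (Nat.ble 130 c)
noncomputable def finTab_s_128_131 (c : Nat) : Nat := @Bool.rec (fun _ => Nat) (finTab_128) (finTab_s_129_131 c) (Nat.ble 129 c)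
noncomputable def finTab_s_126_131 (c : Nat) : Nat := @Bool.rec (fun _ => Nat) (finTab_s_126_128 c) (finTab_s_128_131 c) (Nat.ble 128 c)
noncomputable def finTab_s_122_131 (c : Nat) : Nat := @Bool.rec (fun _ => Nat) (finTab_s_122_126 c) (finTab_s_126_131 c) (Nat.ble 126 c)
noncomputable def finTab_s_131_133 (c : Nat) : Nat := @Bool.rec (fun _ => Nat) (finTab_131) (finTab_132) (Nat.ble 132 c)
noncomputable def finTab_s_133_135 (c : Nat) : Nat := @Bool.rec (fun _ => Nat) (finTab_133) (finTab_134) (Nat.ble 134 c)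
noncomputable def finTab_s_131_135 (c : Nat) : Nat := @Bool.rec (fun _ => Nat) (finTab_s_131_133 c) (finTab_s_133_135 c) (Nat.ble 133 c)
noncomputable def finTab_s_135_137 (c : Nat) : Nat := @Bool.rec (fun _ => Nat) (finTab_135) (finTab_136) (Nat.ble 136 c)
noncomputable def finTab_s_138_140 (c : Nat) : Nat := @Bool.rec (fun _ => Nat) (finTab_138) (finTab_139) (Nat.ble 139 c)
noncomputable def finTab_s_137_140 (c : Nat) : Nat := @Bool.rec (fun _ => Nat) (finTab_137) (finTab_s_138_140 c) (Nat.ble 138 c)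
noncomputable def finTab_s_135_140 (c : Nat) : Nat := @Bool.rec (fun _ => Nat) (finTab_s_135_137 c) (finTab_s_137_140 c) (Nat.ble 137 c)
noncomputable def finTab_s_131_140 (c : Nat) : Nat := @Bool.rec (fun _ => Nat) (finTab_s_131_135 c) (finTab_s_135_140 c) (Nat.ble 135 c)
noncomputable def finTab_s_122_140 (c : Nat) : Nat := @Bool.rec (fun _ => Nat) (finTab_s_122_131 c) (finTab_s_131_140 c) (Nat.ble 131 c)
noncomputable def finTab_s_105_140 (c : Nat) : Nat := @Bool.rec (fun _ => Nat) (finTab_s_105_122 c) (finTab_s_122_140 c) (Nat.ble 122 c)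
noncomputable def finTab_s_70_140 (c : Nat) : Nat := @Bool.rec (fun _ => Nat) (finTab_s_70_105 c) (finTab_s_105_140 c) (Nat.ble 105 c)
noncomputable def finTab_s_0_140 (c : Nat) : Nat := @Bool.rec (fun _ => Nat) (finTab_s_0_70 c) (finTab_s_70_140 c) (Nat.ble 70 c)
noncomputable def finTab_s_140_142 (c : Nat) : Nat := @Bool.rec (fun _ => Nat) (finTab_140) (finTab_141) (Nat.ble 141 c)
noncomputable def finTab_s_142_144 (c : Nat) : Nat := @Bool.rec (fun _ => Nat) (finTab_142) (finTab_143) (Nat.ble 143 c)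
noncomputable def finTab_s_140_144 (c : Nat) : Nat := @Bool.rec (fun _ => Nat) (finTab_s_140_142 c) (finTab_s_142_144 c) (Nat.ble 142 c)
noncomputable def finTab_s_144_146 (c : Nat) : Nat := @Bool.rec (fun _ => Nat) (finTab_144) (finTab_145) (Nat.ble 145 c)
noncomputable def finTab_s_146_148 (c : Nat) : Nat := @Bool.rec (fun _ => Nat) (finTab_146) (finTab_147) (Nat.ble 147 c)
noncomputable def finTab_s_144_148 (c : Nat) : Nat := @Bool.rec (fun _ => Nat) (finTab_s_144_146 c) (finTab_s_146_148 c) (Nat.ble 146 c)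
noncomputable def finTab_s_140_148 (c : Nat) : Nat := @Bool.rec (fun _ => Nat) (finTab_s_140_144 c) (finTab_s_144_148 c) (Nat.ble 144 c)
noncomputable def finTab_s_148_150 (c : Nat) : Nat := @Bool.rec (fun _ => Nat) (finTab_148) (finTab_149) (Nat.ble 149 c)
noncomputable def finTab_s_150_152 (c : Nat) : Nat := @Bool.rec (fun _ => Nat) (finTab_150) (finTab_151) (Nat.ble 151 c)
noncomputable def finTab_s_148_152 (c : Nat) : Nat := @Bool.rec (fun _ => Nat) (finTab_s_148_150 c) (finTab_s_150_152 c) (Nat.ble 150 c)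
noncomputable def finTab_s_152_154 (c : Nat) : Nat := @Bool.rec (fun _ => Nat) (finTab_152) (finTab_153) (Nat.ble 153 c)
noncomputable def finTab_s_155_157 (c : Nat) : Nat := @Bool.rec (fun _ => Nat) (finTab_155) (finTab_156) (Nat.ble 156 c)
noncomputable def finTab_s_154_157 (c : Nat) : Nat := @Bool.rec (fun _ => Nat) (finTab_154) (finTab_s_155_157 c) (Nat.ble 155 c)
noncomputable def finTab_s_152_157 (c : Nat) : Nat := @Bool.rec (fun _ => Nat) (finTab_s_152_154 c) (finTab_s_154_157 c) (Nat.ble 154 c)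
noncomputable def finTab_s_148_157 (c : Nat) : Nat := @Bool.rec (fun _ => Nat) (finTab_s_148_152 c) (finTab_s_152_157 c) (Nat.ble 152 c)
noncomputable def finTab_s_140_157 (c : Nat) : Nat := @Bool.rec (fun _ => Nat) (finTab_s_140_148 c) (finTab_s_148_157 c) (Nat.ble 148 c)
noncomputable def finTab_s_157_159 (c : Nat) : Nat := @Bool.rec (fun _ => Nat) (finTab_157) (finTab_158) (Nat.ble 158 c)
noncomputable def finTab_s_159_161 (c : Nat) : Nat := @Bool.rec (fun _ => Nat) (finTab_159) (finTab_160) (Nat.ble 160 c)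
noncomputable def finTab_s_157_161 (c : Nat) : Nat := @Bool.rec (fun _ => Nat) (finTab_s_157_159 c) (finTab_s_159_161 c) (Nat.ble 159 c)
noncomputable def finTab_s_161_163 (c : Nat) : Nat := @Bool.rec (fun _ => Nat) (finTab_161) (finTab_162) (Nat.ble 162 c)
noncomputable def finTab_s_164_166 (c : Nat) : Nat := @Bool.rec (fun _ => Nat) (finTab_164) (finTab_165) (Nat.ble 165 c)
noncomputable def finTab_s_163_166 (c : Nat) : Nat := @Bool.rec (fun _ => Nat) (finTab_163) (finTab_s_164_166 c) (Nat.ble 164 c)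
noncomputable def finTab_s_161_166 (c : Nat) : Nat := @Bool.rec (fun _ => Nat) (finTab_s_161_163 c) (finTab_s_163_166 c) (Nat.ble 163 c)
noncomputable def finTab_s_157_166 (c : Nat) : Nat := @Bool.rec (fun _ => Nat) (finTab_s_157_161 c) (finTab_s_161_166 c) (Nat.ble 161 c)
noncomputable def finTab_s_166_168 (c : Nat) : Nat := @Bool.rec (fun _ => Nat) (finTab_166) (finTab_167) (Nat.ble 167 c)
noncomputable def finTab_s_168_170 (c : Nat) : Nat := @Bool.rec (fun _ => Nat) (finTab_168) (finTab_169) (Nat.ble 169 c)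
noncomputable def finTab_s_166_170 (c : Nat) : Nat := @Bool.rec (fun _ => Nat) (finTab_s_166_168 c) (finTab_s_168_170 c) (Nat.ble 168 c)
noncomputable def finTab_s_170_172 (c : Nat) : Nat := @Bool.rec (fun _ => Nat) (finTab_170) (finTab_171) (Nat.ble 171 c)
noncomputable def finTab_s_173_175 (c : Nat) : Nat := @Bool.rec (fun _ => Nat) (finTab_173) (finTab_174) (Nat.ble 174 c)
noncomputable def finTab_s_172_175 (c : Nat) : Nat := @Bool.rec (fun _ => Nat) (finTab_172) (finTab_s_173_175 c) (Nat.ble 173 c)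
noncomputable def finTab_s_170_175 (c : Nat) : Nat := @Bool.rec (fun _ => Nat) (finTab_s_170_172 c) (finTab_s_172_175 c) (Nat.ble 172 c)
noncomputable def finTab_s_166_175 (c : Nat) : Nat := @Bool.rec (fun _ => Nat) (finTab_s_166_170 c) (finTab_s_170_175 c) (Nat.ble 170 c)
noncomputable def finTab_s_157_175 (c : Nat) : Nat := @Bool.rec (fun _ => Nat) (finTab_s_157_166 c) (finTab_s_166_175 c) (Nat.ble 166 c)
noncomputable def finTab_s_140_175 (c : Nat) : Nat := @Bool.rec (fun _ => Nat) (finTab_s_140_157 c) (finTab_s_157_175 c) (Nat.ble 157 c)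
noncomputable def finTab_s_175_177 (c : Nat) : Nat := @Bool.rec (fun _ => Nat) (finTab_175) (finTab_176) (Nat.ble 176 c)
noncomputable def finTab_s_177_179 (c : Nat) : Nat := @Bool.rec (fun _ => Nat) (finTab_177) (finTab_178) (Nat.ble 178 c)
noncomputable def finTab_s_175_179 (c : Nat) : Nat := @Bool.rec (fun _ => Nat) (finTab_s_175_177 c) (finTab_s_177_179 c) (Nat.ble 177 c)
noncomputable def finTab_s_179_181 (c : Nat) : Nat := @Bool.rec (fun _ => Nat) (finTab_179) (finTab_180) (Nat.ble 180 c)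
noncomputable def finTab_s_181_183 (c : Nat) : Nat := @Bool.rec (fun _ => Nat) (finTab_181) (finTab_182) (Nat.ble 182 c)
noncomputable def finTab_s_179_183 (c : Nat) : Nat := @Bool.rec (fun _ => Nat) (finTab_s_179_181 c) (finTab_s_181_183 c) (Nat.ble 181 c)
noncomputable def finTab_s_175_183 (c : Nat) : Nat := @Bool.rec (fun _ => Nat) (finTab_s_175_179 c) (finTab_s_179_183 c) (Nat.ble 179 c)
noncomputable def finTab_s_183_185 (c : Nat) : Nat := @Bool.rec (fun _ => Nat) (finTab_183) (finTab_184) (Nat.ble 184 c)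
noncomputable def finTab_s_185_187 (c : Nat) : Nat := @Bool.rec (fun _ => Nat) (finTab_185) (finTab_186) (Nat.ble 186 c)
noncomputable def finTab_s_183_187 (c : Nat) : Nat := @Bool.rec (fun _ => Nat) (finTab_s_183_185 c) (finTab_s_185_187 c) (Nat.ble 185 c)
noncomputable def finTab_s_187_189 (c : Nat) : Nat := @Bool.rec (fun _ => Nat) (finTab_187) (finTab_188) (Nat.ble 188 c)
noncomputable def finTab_s_190_192 (c : Nat) : Nat := @Bool.rec (fun _ => Nat) (finTab_190) (finTab_191) (Nat.ble 191 c)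
noncomputable def finTab_s_189_192 (c : Nat) : Nat := @Bool.rec (fun _ => Nat) (finTab_189) (finTab_s_190_192 c) (Nat.ble 190 c)
noncomputable def finTab_s_187_192 (c : Nat) : Nat := @Bool.rec (fun _ => Nat) (finTab_s_187_189 c) (finTab_s_189_192 c) (Nat.ble 189 c)
noncomputable def finTab_s_183_192 (c : Nat) : Nat := @Bool.rec (fun _ => Nat) (finTab_s_183_187 c) (finTab_s_187_192 c) (Nat.ble 187 c)
noncomputable def finTab_s_175_192 (c : Nat) : Nat := @Bool.rec (fun _ => Nat) (finTab_s_175_183 c) (finTab_s_183_192 c) (Nat.ble 183 c)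
noncomputable def finTab_s_192_194 (c : Nat) : Nat := @Bool.rec (fun _ => Nat) (finTab_192) (finTab_193) (Nat.ble 193 c)
noncomputable def finTab_s_194_196 (c : Nat) : Nat := @Bool.rec (fun _ => Nat) (finTab_194) (finTab_195) (Nat.ble 195 c)
noncomputable def finTab_s_192_196 (c : Nat) : Nat := @Bool.rec (fun _ => Nat) (finTab_s_192_194 c) (finTab_s_194_196 c) (Nat.ble 194 c)
noncomputable def finTab_s_196_198 (c : Nat) : Nat := @Bool.rec (fun _ => Nat) (finTab_196) (finTab_197) (Nat.ble 197 c)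
noncomputable def finTab_s_199_201 (c : Nat) : Nat := @Bool.rec (fun _ => Nat) (finTab_199) (finTab_200) (Nat.ble 200 c)
noncomputable def finTab_s_198_201 (c : Nat) : Nat := @Bool.rec (fun _ => Nat) (finTab_198) (finTab_s_199_201 c) (Nat.ble 199 c)
noncomputable def finTab_s_196_201 (c : Nat) : Nat := @Bool.rec (fun _ => Nat) (finTab_s_196_198 c) (finTab_s_198_201 c) (Nat.ble 198 c)
noncomputable def finTab_s_192_201 (c : Nat) : Nat := @Bool.rec (fun _ => Nat) (finTab_s_192_196 c) (finTab_s_196_201 c) (Nat.ble 196 c)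
noncomputable def finTab_s_201_203 (c : Nat) : Nat := @Bool.rec (fun _ => Nat) (finTab_201) (finTab_202) (Nat.ble 202 c)
noncomputable def finTab_s_203_205 (c : Nat) : Nat := @Bool.rec (fun _ => Nat) (finTab_203) (finTab_204) (Nat.ble 204 c)
noncomputable def finTab_s_201_205 (c : Nat) : Nat := @Bool.rec (fun _ => Nat) (finTab_s_201_203 c) (finTab_s_203_205 c) (Nat.ble 203 c)
noncomputable def finTab_s_205_207 (c : Nat) : Nat := @Bool.rec (fun _ => Nat) (finTab_205) (finTab_206) (Nat.ble 206 c)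
noncomputable def finTab_s_208_210 (c : Nat) : Nat := @Bool.rec (fun _ => Nat) (finTab_208) (finTab_209) (Nat.ble 209 c)
noncomputable def finTab_s_207_210 (c : Nat) : Nat := @Bool.rec (fun _ => Nat) (finTab_207) (finTab_s_208_210 c) (Nat.ble 208 c)
noncomputable def finTab_s_205_210 (c : Nat) : Nat := @Bool.rec (fun _ => Nat) (finTab_s_205_207 c) (finTab_s_207_210 c) (Nat.ble 207 c)
noncomputable def finTab_s_201_210 (c : Nat) : Nat := @Bool.rec (fun _ => Nat) (finTab_s_201_205 c) (finTab_s_205_210 c) (Nat.ble 205 c)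
noncomputable def finTab_s_192_210 (c : Nat) : Nat := @Bool.rec (fun _ => Nat) (finTab_s_192_201 c) (finTab_s_201_210 c) (Nat.ble 201 c)
noncomputable def finTab_s_175_210 (c : Nat) : Nat := @Bool.rec (fun _ => Nat) (finTab_s_175_192 c) (finTab_s_192_210 c) (Nat.ble 192 c)
noncomputable def finTab_s_140_210 (c : Nat) : Nat := @Bool.rec (fun _ => Nat) (finTab_s_140_175 c) (finTab_s_175_210 c) (Nat.ble 175 c)
noncomputable def finTab_s_210_212 (c : Nat) : Nat := @Bool.rec (fun _ => Nat) (finTab_210) (finTab_211) (Nat.ble 211 c)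
noncomputable def finTab_s_212_214 (c : Nat) : Nat := @Bool.rec (fun _ => Nat) (finTab_212) (finTab_213) (Nat.ble 213 c)
noncomputable def finTab_s_210_214 (c : Nat) : Nat := @Bool.rec (fun _ => Nat) (finTab_s_210_212 c) (finTab_s_212_214 c) (Nat.ble 212 c)
noncomputable def finTab_s_214_216 (c : Nat) : Nat := @Bool.rec (fun _ => Nat) (finTab_214) (finTab_215) (Nat.ble 215 c)
noncomputable def finTab_s_216_218 (c : Nat) : Nat := @Bool.rec (fun _ => Nat) (finTab_216) (finTab_217) (Nat.ble 217 c)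
noncomputable def finTab_s_214_218 (c : Nat) : Nat := @Bool.rec (fun _ => Nat) (finTab_s_214_216 c) (finTab_s_216_218 c) (Nat.ble 216 c)
noncomputable def finTab_s_210_218 (c : Nat) : Nat := @Bool.rec (fun _ => Nat) (finTab_s_210_214 c) (finTab_s_214_218 c) (Nat.ble 214 c)
noncomputable def finTab_s_218_220 (c : Nat) : Nat := @Bool.rec (fun _ => Nat) (finTab_218) (finTab_219) (Nat.ble 219 c)
noncomputable def finTab_s_220_222 (c : Nat) : Nat := @Bool.rec (fun _ => Nat) (finTab_220) (finTab_221) (Nat.ble 221 c)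
noncomputable def finTab_s_218_222 (c : Nat) : Nat := @Bool.rec (fun _ => Nat) (finTab_s_218_220 c) (finTab_s_220_222 c) (Nat.ble 220 c)
noncomputable def finTab_s_222_224 (c : Nat) : Nat := @Bool.rec (fun _ => Nat) (finTab_222) (finTab_223) (Nat.ble 223 c)
noncomputable def finTab_s_225_227 (c : Nat) : Nat := @Bool.rec (fun _ => Nat) (finTab_225) (finTab_226) (Nat.ble 226 c)
noncomputable def finTab_s_224_227 (c : Nat) : Nat := @Bool.rec (fun _ => Nat) (finTab_224) (finTab_s_225_227 c) (Nat.ble 225 c)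
noncomputable def finTab_s_222_227 (c : Nat) : Nat := @Bool.rec (fun _ => Nat) (finTab_s_222_224 c) (finTab_s_224_227 c) (Nat.ble 224 c)
noncomputable def finTab_s_218_227 (c : Nat) : Nat := @Bool.rec (fun _ => Nat) (finTab_s_218_222 c) (finTab_s_222_227 c) (Nat.ble 222 c)
noncomputable def finTab_s_210_227 (c : Nat) : Nat := @Bool.rec (fun _ => Nat) (finTab_s_210_218 c) (finTab_s_218_227 c) (Nat.ble 218 c)
noncomputable def finTab_s_227_229 (c : Nat) : Nat := @Bool.rec (fun _ => Nat) (finTab_227) (finTab_228) (Nat.ble 228 c)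
noncomputable def finTab_s_229_231 (c : Nat) : Nat := @Bool.rec (fun _ => Nat) (finTab_229) (finTab_230) (Nat.ble 230 c)
noncomputable def finTab_s_227_231 (c : Nat) : Nat := @Bool.rec (fun _ => Nat) (finTab_s_227_229 c) (finTab_s_229_231 c) (Nat.ble 229 c)
noncomputable def finTab_s_231_233 (c : Nat) : Nat := @Bool.rec (fun _ => Nat) (finTab_231) (finTab_232) (Nat.ble 232 c)
noncomputable def finTab_s_234_236 (c : Nat) : Nat := @Bool.rec (fun _ => Nat) (finTab_234) (finTab_235) (Nat.ble 235 c)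
noncomputable def finTab_s_233_236 (c : Nat) : Nat := @Bool.rec (fun _ => Nat) (finTab_233) (finTab_s_234_236 c) (Nat.ble 234 c)
noncomputable def finTab_s_231_236 (c : Nat) : Nat := @Bool.rec (fun _ => Nat) (finTab_s_231_233 c) (finTab_s_233_236 c) (Nat.ble 233 c)
noncomputable def finTab_s_227_236 (c : Nat) : Nat := @Bool.rec (fun _ => Nat) (finTab_s_227_231 c) (finTab_s_231_236 c) (Nat.ble 231 c)
noncomputable def finTab_s_236_238 (c : Nat) : Nat := @Bool.rec (fun _ => Nat) (finTab_236) (finTab_237) (Nat.ble 237 c)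
noncomputable def finTab_s_238_240 (c : Nat) : Nat := @Bool.rec (fun _ => Nat) (finTab_238) (finTab_239) (Nat.ble 239 c)
noncomputable def finTab_s_236_240 (c : Nat) : Nat := @Bool.rec (fun _ => Nat) (finTab_s_236_238 c) (finTab_s_238_240 c) (Nat.ble 238 c)
noncomputable def finTab_s_240_242 (c : Nat) : Nat := @Bool.rec (fun _ => Nat) (finTab_240) (finTab_241) (Nat.ble 241 c)
noncomputable def finTab_s_243_245 (c : Nat) : Nat := @Bool.rec (fun _ => Nat) (finTab_243) (finTab_244) (Nat.ble 244 c)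
noncomputable def finTab_s_242_245 (c : Nat) : Nat := @Bool.rec (fun _ => Nat) (finTab_242) (finTab_s_243_245 c) (Nat.ble 243 c)
noncomputable def finTab_s_240_245 (c : Nat) : Nat := @Bool.rec (fun _ => Nat) (finTab_s_240_242 c) (finTab_s_242_245 c) (Nat.ble 242 c)
noncomputable def finTab_s_236_245 (c : Nat) : Nat := @Bool.rec (fun _ => Nat) (finTab_s_236_240 c) (finTab_s_240_245 c) (Nat.ble 240 c)
noncomputable def finTab_s_227_245 (c : Nat) : Nat := @Bool.rec (fun _ => Nat) (finTab_s_227_236 c) (finTab_s_236_245 c) (Nat.ble 236 c)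
noncomputable def finTab_s_210_245 (c : Nat) : Nat := @Bool.rec (fun _ => Nat) (finTab_s_210_227 c) (finTab_s_227_245 c) (Nat.ble 227 c)
noncomputable def finTab_s_245_247 (c : Nat) : Nat := @Bool.rec (fun _ => Nat) (finTab_245) (finTab_246) (Nat.ble 246 c)
noncomputable def finTab_s_247_249 (c : Nat) : Nat := @Bool.rec (fun _ => Nat) (finTab_247) (finTab_248) (Nat.ble 248 c)
noncomputable def finTab_s_245_249 (c : Nat) : Nat := @Bool.rec (fun _ => Nat) (finTab_s_245_247 c) (finTab_s_247_249 c) (Nat.ble 247 c)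
noncomputable def finTab_s_249_251 (c : Nat) : Nat := @Bool.rec (fun _ => Nat) (finTab_249) (finTab_250) (Nat.ble 250 c)
noncomputable def finTab_s_252_254 (c : Nat) : Nat := @Bool.rec (fun _ => Nat) (finTab_252) (finTab_253) (Nat.ble 253 c)
noncomputable def finTab_s_251_254 (c : Nat) : Nat := @Bool.rec (fun _ => Nat) (finTab_251) (finTab_s_252_254 c) (Nat.ble 252 c)
noncomputable def finTab_s_249_254 (c : Nat) : Nat := @Bool.rec (fun _ => Nat) (finTab_s_249_251 c) (finTab_s_251_254 c) (Nat.ble 251 c)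
noncomputable def finTab_s_245_254 (c : Nat) : Nat := @Bool.rec (fun _ => Nat) (finTab_s_245_249 c) (finTab_s_249_254 c) (Nat.ble 249 c)
noncomputable def finTab_s_254_256 (c : Nat) : Nat := @Bool.rec (fun _ => Nat) (finTab_254) (finTab_255) (Nat.ble 255 c)
noncomputable def finTab_s_256_258 (c : Nat) : Nat := @Bool.rec (fun _ => Nat) (finTab_256) (finTab_257) (Nat.ble 257 c)
noncomputable def finTab_s_254_258 (c : Nat) : Nat := @Bool.rec (fun _ => Nat) (finTab_s_254_256 c) (finTab_s_256_258 c) (Nat.ble 256 c)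
noncomputable def finTab_s_258_260 (c : Nat) : Nat := @Bool.rec (fun _ => Nat) (finTab_258) (finTab_259) (Nat.ble 259 c)
noncomputable def finTab_s_261_263 (c : Nat) : Nat := @Bool.rec (fun _ => Nat) (finTab_261) (finTab_262) (Nat.ble 262 c)
noncomputable def finTab_s_260_263 (c : Nat) : Nat := @Bool.rec (fun _ => Nat) (finTab_260) (finTab_s_261_263 c) (Nat.ble 261 c)
noncomputable def finTab_s_258_263 (c : Nat) : Nat := @Bool.rec (fun _ => Nat) (finTab_s_258_260 c) (finTab_s_260_263 c) (Nat.ble 260 c)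
noncomputable def finTab_s_254_263 (c : Nat) : Nat := @Bool.rec (fun _ => Nat) (finTab_s_254_258 c) (finTab_s_258_263 c) (Nat.ble 258 c)
noncomputable def finTab_s_245_263 (c : Nat) : Nat := @Bool.rec (fun _ => Nat) (finTab_s_245_254 c) (finTab_s_254_263 c) (Nat.ble 254 c)
noncomputable def finTab_s_263_265 (c : Nat) : Nat := @Bool.rec (fun _ => Nat) (finTab_263) (finTab_264) (Nat.ble 264 c)
noncomputable def finTab_s_265_267 (c : Nat) : Nat := @Bool.rec (fun _ => Nat) (finTab_265) (finTab_266) (Nat.ble 266 c)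
noncomputable def finTab_s_263_267 (c : Nat) : Nat := @Bool.rec (fun _ => Nat) (finTab_s_263_265 c) (finTab_s_265_267 c) (Nat.ble 265 c)
noncomputable def finTab_s_267_269 (c : Nat) : Nat := @Bool.rec (fun _ => Nat) (finTab_267) (finTab_268) (Nat.ble 268 c)
noncomputable def finTab_s_270_272 (c : Nat) : Nat := @Bool.rec (fun _ => Nat) (finTab_270) (finTab_271) (Nat.ble 271 c)
noncomputable def finTab_s_269_272 (c : Nat) : Nat := @Bool.rec (fun _ => Nat) (finTab_269) (finTab_s_270_272 c) (Nat.ble 270 c)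
noncomputable def finTab_s_267_272 (c : Nat) : Nat := @Bool.rec (fun _ => Nat) (finTab_s_267_269 c) (finTab_s_269_272 c) (Nat.ble 269 c)
noncomputable def finTab_s_263_272 (c : Nat) : Nat := @Bool.rec (fun _ => Nat) (finTab_s_263_267 c) (finTab_s_267_272 c) (Nat.ble 267 c)
noncomputable def finTab_s_272_274 (c : Nat) : Nat := @Bool.rec (fun _ => Nat) (finTab_272) (finTab_273) (Nat.ble 273 c)
noncomputable def finTab_s_274_276 (c : Nat) : Nat := @Bool.rec (fun _ => Nat) (finTab_274) (finTab_275) (Nat.ble 275 c)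
noncomputable def finTab_s_272_276 (c : Nat) : Nat := @Bool.rec (fun _ => Nat) (finTab_s_272_274 c) (finTab_s_274_276 c) (Nat.ble 274 c)
noncomputable def finTab_s_276_278 (c : Nat) : Nat := @Bool.rec (fun _ => Nat) (finTab_276) (finTab_277) (Nat.ble 277 c)
noncomputable def finTab_s_279_281 (c : Nat) : Nat := @Bool.rec (fun _ => Nat) (finTab_279) (finTab_280) (Nat.ble 280 c)
noncomputable def finTab_s_278_281 (c : Nat) : Nat := @Bool.rec (fun _ => Nat) (finTab_278) (finTab_s_279_281 c) (Nat.ble 279 c)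
noncomputable def finTab_s_276_281 (c : Nat) : Nat := @Bool.rec (fun _ => Nat) (finTab_s_276_278 c) (finTab_s_278_281 c) (Nat.ble 278 c)
noncomputable def finTab_s_272_281 (c : Nat) : Nat := @Bool.rec (fun _ => Nat) (finTab_s_272_276 c) (finTab_s_276_281 c) (Nat.ble 276 c)
noncomputable def finTab_s_263_281 (c : Nat) : Nat := @Bool.rec (fun _ => Nat) (finTab_s_263_272 c) (finTab_s_272_281 c) (Nat.ble 272 c)
noncomputable def finTab_s_245_281 (c : Nat) : Nat := @Bool.rec (fun _ => Nat) (finTab_s_245_263 c) (finTab_s_263_281 c) (Nat.ble 263 c)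
noncomputable def finTab_s_210_281 (c : Nat) : Nat := @Bool.rec (fun _ => Nat) (finTab_s_210_245 c) (finTab_s_245_281 c) (Nat.ble 245 c)
noncomputable def finTab_s_140_281 (c : Nat) : Nat := @Bool.rec (fun _ => Nat) (finTab_s_140_210 c) (finTab_s_210_281 c) (Nat.ble 210 c)
noncomputable def finTab_s_0_281 (c : Nat) : Nat := @Bool.rec (fun _ => Nat) (finTab_s_0_140 c) (finTab_s_140_281 c) (Nat.ble 140 c)
noncomputable def finTab (i : Nat) : Nat := rdw 23 8388607 (finTab_s_0_281 (Nat.shiftRight i 12)) (Nat.land i 4095)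
noncomputable def clsTab_s_0_2 (c : Nat) : Nat := @Bool.rec (fun _ => Nat) (clsTab_0) (clsTab_1) (Nat.ble 1 c)
noncomputable def clsTab_s_2_4 (c : Nat) : Nat := @Bool.rec (fun _ => Nat) (clsTab_2) (clsTab_3) (Nat.ble 3 c)
noncomputable def clsTab_s_0_4 (c : Nat) : Nat := @Bool.rec (fun _ => Nat) (clsTab_s_0_2 c) (clsTab_s_2_4 c) (Nat.ble 2 c)
noncomputable def clsTab_s_4_6 (c : Nat) : Nat := @Bool.rec (fun _ => Nat) (clsTab_4) (clsTab_5) (Nat.ble 5 c)
noncomputable def clsTab_s_6_8 (c : Nat) : Nat := @Bool.rec (fun _ => Nat) (clsTab_6) (clsTab_7) (Nat.ble 7 c)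
noncomputable def clsTab_s_4_8 (c : Nat) : Nat := @Bool.rec (fun _ => Nat) (clsTab_s_4_6 c) (clsTab_s_6_8 c) (Nat.ble 6 c)
noncomputable def clsTab_s_0_8 (c : Nat) : Nat := @Bool.rec (fun _ => Nat) (clsTab_s_0_4 c) (clsTab_s_4_8 c) (Nat.ble 4 c)
noncomputable def clsTab_s_8_10 (c : Nat) : Nat := @Bool.rec (fun _ => Nat) (clsTab_8) (clsTab_9) (Nat.ble 9 c)
noncomputable def clsTab_s_10_12 (c : Nat) : Nat := @Bool.rec (fun _ => Nat) (clsTab_10) (clsTab_11) (Nat.ble 11 c)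
noncomputable def clsTab_s_8_12 (c : Nat) : Nat := @Bool.rec (fun _ => Nat) (clsTab_s_8_10 c) (clsTab_s_10_12 c) (Nat.ble 10 c)
noncomputable def clsTab_s_12_14 (c : Nat) : Nat := @Bool.rec (fun _ => Nat) (clsTab_12) (clsTab_13) (Nat.ble 13 c)
noncomputable def clsTab_s_15_17 (c : Nat) : Nat := @Bool.rec (fun _ => Nat) (clsTab_15) (clsTab_16) (Nat.ble 16 c)
noncomputable def clsTab_s_14_17 (c : Nat) : Nat := @Bool.rec (fun _ => Nat) (clsTab_14) (clsTab_s_15_17 c) (Nat.ble 15 c)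
noncomputable def clsTab_s_12_17 (c : Nat) : Nat := @Bool.rec (fun _ => Nat) (clsTab_s_12_14 c) (clsTab_s_14_17 c) (Nat.ble 14 c)
noncomputable def clsTab_s_8_17 (c : Nat) : Nat := @Bool.rec (fun _ => Nat) (clsTab_s_8_12 c) (clsTab_s_12_17 c) (Nat.ble 12 c)
noncomputable def clsTab_s_0_17 (c : Nat) : Nat := @Bool.rec (fun _ => Nat) (clsTab_s_0_8 c) (clsTab_s_8_17 c) (Nat.ble 8 c)
noncomputable def clsTab_s_17_19 (c : Nat) : Nat := @Bool.rec (fun _ => Nat) (clsTab_17) (clsTab_18) (Nat.ble 18 c)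
noncomputable def clsTab_s_19_21 (c : Nat) : Nat := @Bool.rec (fun _ => Nat) (clsTab_19) (clsTab_20) (Nat.ble 20 c)
noncomputable def clsTab_s_17_21 (c : Nat) : Nat := @Bool.rec (fun _ => Nat) (clsTab_s_17_19 c) (clsTab_s_19_21 c) (Nat.ble 19 c)
noncomputable def clsTab_s_21_23 (c : Nat) : Nat := @Bool.rec (fun _ => Nat) (clsTab_21) (clsTab_22) (Nat.ble 22 c)
noncomputable def clsTab_s_24_26 (c : Nat) : Nat := @Bool.rec (fun _ => Nat) (clsTab_24) (clsTab_25) (Nat.ble 25 c)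
noncomputable def clsTab_s_23_26 (c : Nat) : Nat := @Bool.rec (fun _ => Nat) (clsTab_23) (clsTab_s_24_26 c) (Nat.ble 24 c)
noncomputable def clsTab_s_21_26 (c : Nat) : Nat := @Bool.rec (fun _ => Nat) (clsTab_s_21_23 c) (clsTab_s_23_26 c) (Nat.ble 23 c)
noncomputable def clsTab_s_17_26 (c : Nat) : Nat := @Bool.rec (fun _ => Nat) (clsTab_s_17_21 c) (clsTab_s_21_26 c) (Nat.ble 21 c)
noncomputable def clsTab_s_26_28 (c : Nat) : Nat := @Bool.rec (fun _ => Nat) (clsTab_26) (clsTab_27) (Nat.ble 27 c)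
noncomputable def clsTab_s_28_30 (c : Nat) : Nat := @Bool.rec (fun _ => Nat) (clsTab_28) (clsTab_29) (Nat.ble 29 c)
noncomputable def clsTab_s_26_30 (c : Nat) : Nat := @Bool.rec (fun _ => Nat) (clsTab_s_26_28 c) (clsTab_s_28_30 c) (Nat.ble 28 c)
noncomputable def clsTab_s_30_32 (c : Nat) : Nat := @Bool.rec (fun _ => Nat) (clsTab_30) (clsTab_31) (Nat.ble 31 c)
noncomputable def clsTab_s_33_35 (c : Nat) : Nat := @Bool.rec (fun _ => Nat) (clsTab_33) (clsTab_34) (Nat.ble 34 c)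
noncomputable def clsTab_s_32_35 (c : Nat) : Nat := @Bool.rec (fun _ => Nat) (clsTab_32) (clsTab_s_33_35 c) (Nat.ble 33 c)
noncomputable def clsTab_s_30_35 (c : Nat) : Nat := @Bool.rec (fun _ => Nat) (clsTab_s_30_32 c) (clsTab_s_32_35 c) (Nat.ble 32 c)
noncomputable def clsTab_s_26_35 (c : Nat) : Nat := @Bool.rec (fun _ => Nat) (clsTab_s_26_30 c) (clsTab_s_30_35 c) (Nat.ble 30 c)
noncomputable def clsTab_s_17_35 (c : Nat) : Nat := @Bool.rec (fun _ => Nat) (clsTab_s_17_26 c) (clsTab_s_26_35 c) (Nat.ble 26 c)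
noncomputable def clsTab_s_0_35 (c : Nat) : Nat := @Bool.rec (fun _ => Nat) (clsTab_s_0_17 c) (clsTab_s_17_35 c) (Nat.ble 17 c)
noncomputable def clsTab_s_35_37 (c : Nat) : Nat := @Bool.rec (fun _ => Nat) (clsTab_35) (clsTab_36) (Nat.ble 36 c)
noncomputable def clsTab_s_37_39 (c : Nat) : Nat := @Bool.rec (fun _ => Nat) (clsTab_37) (clsTab_38) (Nat.ble 38 c)
noncomputable def clsTab_s_35_39 (c : Nat) : Nat := @Bool.rec (fun _ => Nat) (clsTab_s_35_37 c) (clsTab_s_37_39 c) (Nat.ble 37 c)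
noncomputable def clsTab_s_39_41 (c : Nat) : Nat := @Bool.rec (fun _ => Nat) (clsTab_39) (clsTab_40) (Nat.ble 40 c)
noncomputable def clsTab_s_42_44 (c : Nat) : Nat := @Bool.rec (fun _ => Nat) (clsTab_42) (clsTab_43) (Nat.ble 43 c)
noncomputable def clsTab_s_41_44 (c : Nat) : Nat := @Bool.rec (fun _ => Nat) (clsTab_41) (clsTab_s_42_44 c) (Nat.ble 42 c)
noncomputable def clsTab_s_39_44 (c : Nat) : Nat := @Bool.rec (fun _ => Nat) (clsTab_s_39_41 c) (clsTab_s_41_44 c) (Nat.ble 41 c)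
noncomputable def clsTab_s_35_44 (c : Nat) : Nat := @Bool.rec (fun _ => Nat) (clsTab_s_35_39 c) (clsTab_s_39_44 c) (Nat.ble 39 c)
noncomputable def clsTab_s_44_46 (c : Nat) : Nat := @Bool.rec (fun _ => Nat) (clsTab_44) (clsTab_45) (Nat.ble 45 c)
noncomputable def clsTab_s_46_48 (c : Nat) : Nat := @Bool.rec (fun _ => Nat) (clsTab_46) (clsTab_47) (Nat.ble 47 c)
noncomputable def clsTab_s_44_48 (c : Nat) : Nat := @Bool.rec (fun _ => Nat) (clsTab_s_44_46 c) (clsTab_s_46_48 c) (Nat.ble 46 c)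
noncomputable def clsTab_s_48_50 (c : Nat) : Nat := @Bool.rec (fun _ => Nat) (clsTab_48) (clsTab_49) (Nat.ble 49 c)
noncomputable def clsTab_s_51_53 (c : Nat) : Nat := @Bool.rec (fun _ => Nat) (clsTab_51) (clsTab_52) (Nat.ble 52 c)
noncomputable def clsTab_s_50_53 (c : Nat) : Nat := @Bool.rec (fun _ => Nat) (clsTab_50) (clsTab_s_51_53 c) (Nat.ble 51 c)
noncomputable def clsTab_s_48_53 (c : Nat) : Nat := @Bool.rec (fun _ => Nat) (clsTab_s_48_50 c) (clsTab_s_50_53 c) (Nat.ble 50 c)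
noncomputable def clsTab_s_44_53 (c : Nat) : Nat := @Bool.rec (fun _ => Nat) (clsTab_s_44_48 c) (clsTab_s_48_53 c) (Nat.ble 48 c)
noncomputable def clsTab_s_35_53 (c : Nat) : Nat := @Bool.rec (fun _ => Nat) (clsTab_s_35_44 c) (clsTab_s_44_53 c) (Nat.ble 44 c)
noncomputable def clsTab_s_53_55 (c : Nat) : Nat := @Bool.rec (fun _ => Nat) (clsTab_53) (clsTab_54) (Nat.ble 54 c)
noncomputable def clsTab_s_55_57 (c : Nat) : Nat := @Bool.rec (fun _ => Nat) (clsTab_55) (clsTab_56) (Nat.ble 56 c)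
noncomputable def clsTab_s_53_57 (c : Nat) : Nat := @Bool.rec (fun _ => Nat) (clsTab_s_53_55 c) (clsTab_s_55_57 c) (Nat.ble 55 c)
noncomputable def clsTab_s_57_59 (c : Nat) : Nat := @Bool.rec (fun _ => Nat) (clsTab_57) (clsTab_58) (Nat.ble 58 c)
noncomputable def clsTab_s_60_62 (c : Nat) : Nat := @Bool.rec (fun _ => Nat) (clsTab_60) (clsTab_61) (Nat.ble 61 c)
noncomputable def clsTab_s_59_62 (c : Nat) : Nat := @Bool.rec (fun _ => Nat) (clsTab_59) (clsTab_s_60_62 c) (Nat.ble 60 c)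
noncomputable def clsTab_s_57_62 (c : Nat) : Nat := @Bool.rec (fun _ => Nat) (clsTab_s_57_59 c) (clsTab_s_59_62 c) (Nat.ble 59 c)
noncomputable def clsTab_s_53_62 (c : Nat) : Nat := @Bool.rec (fun _ => Nat) (clsTab_s_53_57 c) (clsTab_s_57_62 c) (Nat.ble 57 c)
noncomputable def clsTab_s_62_64 (c : Nat) : Nat := @Bool.rec (fun _ => Nat) (clsTab_62) (clsTab_63) (Nat.ble 63 c)
noncomputable def clsTab_s_64_66 (c : Nat) : Nat := @Bool.rec (fun _ => Nat) (clsTab_64) (clsTab_65) (Nat.ble 65 c)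
noncomputable def clsTab_s_62_66 (c : Nat) : Nat := @Bool.rec (fun _ => Nat) (clsTab_s_62_64 c) (clsTab_s_64_66 c) (Nat.ble 64 c)
noncomputable def clsTab_s_66_68 (c : Nat) : Nat := @Bool.rec (fun _ => Nat) (clsTab_66) (clsTab_67) (Nat.ble 67 c)
noncomputable def clsTab_s_69_71 (c : Nat) : Nat := @Bool.rec (fun _ => Nat) (clsTab_69) (clsTab_70) (Nat.ble 70 c)
noncomputable def clsTab_s_68_71 (c : Nat) : Nat := @Bool.rec (fun _ => Nat) (clsTab_68) (clsTab_s_69_71 c) (Nat.ble 69 c)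
noncomputable def clsTab_s_66_71 (c : Nat) : Nat := @Bool.rec (fun _ => Nat) (clsTab_s_66_68 c) (clsTab_s_68_71 c) (Nat.ble 68 c)
noncomputable def clsTab_s_62_71 (c : Nat) : Nat := @Bool.rec (fun _ => Nat) (clsTab_s_62_66 c) (clsTab_s_66_71 c) (Nat.ble 66 c)
noncomputable def clsTab_s_53_71 (c : Nat) : Nat := @Bool.rec (fun _ => Nat) (clsTab_s_53_62 c) (clsTab_s_62_71 c) (Nat.ble 62 c)
noncomputable def clsTab_s_35_71 (c : Nat) : Nat := @Bool.rec (fun _ => Nat) (clsTab_s_35_53 c) (clsTab_s_53_71 c) (Nat.ble 53 c)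
noncomputable def clsTab_s_0_71 (c : Nat) : Nat := @Bool.rec (fun _ => Nat) (clsTab_s_0_35 c) (clsTab_s_35_71 c) (Nat.ble 35 c)
noncomputable def clsTab (i : Nat) : Nat := rdw 16 65535 (clsTab_s_0_71 (Nat.shiftRight i 12)) (Nat.land i 4095)
noncomputable def oparTab_s_0_2 (c : Nat) : Nat := @Bool.rec (fun _ => Nat) (oparTab_0) (oparTab_1) (Nat.ble 1 c)
noncomputable def oparTab_s_2_4 (c : Nat) : Nat := @Bool.rec (fun _ => Nat) (oparTab_2) (oparTab_3) (Nat.ble 3 c)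
noncomputable def oparTab_s_0_4 (c : Nat) : Nat := @Bool.rec (fun _ => Nat) (oparTab_s_0_2 c) (oparTab_s_2_4 c) (Nat.ble 2 c)
noncomputable def oparTab_s_4_6 (c : Nat) : Nat := @Bool.rec (fun _ => Nat) (oparTab_4) (oparTab_5) (Nat.ble 5 c)
noncomputable def oparTab_s_7_9 (c : Nat) : Nat := @Bool.rec (fun _ => Nat) (oparTab_7) (oparTab_8) (Nat.ble 8 c)
noncomputable def oparTab_s_6_9 (c : Nat) : Nat := @Bool.rec (fun _ => Nat) (oparTab_6) (oparTab_s_7_9 c) (Nat.ble 7 c)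
noncomputable def oparTab_s_4_9 (c : Nat) : Nat := @Bool.rec (fun _ => Nat) (oparTab_s_4_6 c) (oparTab_s_6_9 c) (Nat.ble 6 c)
noncomputable def oparTab_s_0_9 (c : Nat) : Nat := @Bool.rec (fun _ => Nat) (oparTab_s_0_4 c) (oparTab_s_4_9 c) (Nat.ble 4 c)
noncomputable def oparTab (i : Nat) : Nat := rdw 16 65535 (oparTab_s_0_9 (Nat.shiftRight i 12)) (Nat.land i 4095)
noncomputable def olabTab_s_0_2 (c : Nat) : Nat := @Bool.rec (fun _ => Nat) (olabTab_0) (olabTab_1) (Nat.ble 1 c)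
noncomputable def olabTab (i : Nat) : Nat := rdw 2 3 (olabTab_s_0_2 (Nat.shiftRight i 15)) (Nat.land i 32767)
noncomputable def srcF (t : Nat) : Nat := Nat.land (Atab t) 524287
noncomputable def tgtF (t : Nat) : Nat := Nat.land (Nat.shiftRight (Atab t) 19) 524287
noncomputable def ltF (t : Nat) : Nat := Nat.shiftRight (Atab t) 38
noncomputable def rhoF (t : Nat) : Nat := Nat.land (Btab (Nat.sub t 290719)) 511
noncomputable def rotF (t : Nat) : Nat := Nat.land (Nat.shiftRight (Btab (Nat.sub t 290719)) 9) 31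
noncomputable def lenF (t : Nat) : Nat := Nat.land (Nat.shiftRight (Btab (Nat.sub t 290719)) 14) 127
noncomputable def offF (t : Nat) : Nat := Nat.shiftRight (Btab (Nat.sub t 290719)) 21
noncomputable def pfF (j : Nat) : Nat := Nat.shiftRight (Ptab j) 1
noncomputable def pdF (j : Nat) : Nat := Nat.land (Ptab j) 1
noncomputable def tblF (i x : Nat) : Nat := @Bool.rec (fun _ => Nat) (@Bool.rec (fun _ => Nat) (@Bool.rec (fun _ => Nat) (@Bool.rec (fun _ => Nat) (@Bool.rec (fun _ => Nat) (col0 i) (col1 i) (Nat.ble 1 x)) (@Bool.rec (fun _ => Nat) (col2 i) (col3 i) (Nat.ble 3 x)) (Nat.ble 2 x)) (@Bool.rec (fun _ => Nat) (@Bool.rec (fun _ => Nat) (col4 i) (col5 i) (Nat.ble 5 x)) (@Bool.rec (fun _ => Nat) (col6 i) (col7 i) (Nat.ble 7 x)) (Nat.ble 6 x)) (Nat.ble 4 x)) (@Bool.rec (fun _ => Nat) (@Bool.rec (fun _ => Nat) (@Bool.rec (fun _ => Nat) (col8 i) (col9 i) (Nat.ble 9 x)) (@Bool.rec (fun _ => Nat) (col10 i) (col11 i)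 (Nat.ble 11 x)) (Nat.ble 10 x)) (@Bool.rec (fun _ => Nat) (@Bool.rec (fun _ => Nat) (col12 i) (col13 i) (Nat.ble 13 x)) (@Bool.rec (fun _ => Nat) (col14 i) (@Bool.rec (fun _ => Nat) (col15 i) (col16 i) (Nat.ble 16 x)) (Nat.ble 15 x)) (Nat.ble 14 x)) (Nat.ble 12 x)) (Nat.ble 8 x)) (@Bool.rec (fun _ => Nat) (@Bool.rec (fun _ => Nat) (@Bool.rec (fun _ => Nat) (@Bool.rec (fun _ => Nat) (col17 i) (col18 i) (Nat.ble 18 x)) (@Bool.rec (fun _ => Nat) (col19 i) (col20 i) (Nat.ble 20 x)) (Nat.ble 19 x)) (@Bool.rec (fun _ => Nat) (@Bool.rec (fun _ => Nat) (col21 i) (col22 i) (Nat.ble 22 x)) (@Bool.rec (fun _ => Nat) (col23 i) (col24 i) (Nat.ble 24 x)) (Nat.ble 23 x)) (Nat.ble 21 x)) (@Bool.rec (fun _ => Nat) (@Bool.rec (fun _ => Nat) (@Bool.rec (fun _ => Nat) (col25 i) (col26 i) (Nat.ble 26 x)) (@Bool.rec (fun _ => Nat) (col27 i) (col28 i) (Nat.ble 28 x)) (Nat.ble 27 x)) (@Bool.rec (fun _ => Nat) (@Bool.rec (fun _ => Nat)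 (col29 i) (col30 i) (Nat.ble 30 x)) (@Bool.rec (fun _ => Nat) (col31 i) (@Bool.rec (fun _ => Nat) (col32 i) (col33 i) (Nat.ble 33 x)) (Nat.ble 32 x)) (Nat.ble 31 x)) (Nat.ble 29 x)) (Nat.ble 25 x)) (Nat.ble 17 x)
noncomputable def finE (i x : Nat) : Nat := finTab (Nat.add (Nat.mul i 34) x)
noncomputable def finFF (i x : Nat) : Nat := Nat.shiftRight (finE i x) 1
noncomputable def finDF (i x : Nat) : Nat := Nat.land (finE i x) 1

noncomputable def D : Log :=
  { k := 34, inv := invE 34 PSU52pp2.invR, nR := 278, rBase := rBtab, rLen := rLtab, RR := RRtab,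
    M := 290715, nB := 4, F := 2348952, src := srcF, lt := ltF, tgt := tgtF, rho := rhoF, rot := rotF,
    off := offF, len := lenF, pf := pfF, pd := pdF }

noncomputable def T : Tab :=
  { N := 33792, nameOf := nameTab, tbl := tblF, finF := finFF, finD := finDF, cls := clsTab }

def subs : List (List Nat) := [
  [0],
  [2] ]

def rw0 : List Nat := [0, 0, 0]
def rw1 : List Nat := [2, 2, 2, 2, 2]
def rw2 : List Nat := [4, 4, 4, 4, 4]
def rw3 : List Nat := [6, 6, 6]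
def rw4 : List Nat := [8, 8, 8, 8, 8, 8, 8, 8, 8]
def rw5 : List Nat := [10, 10, 10]
def rw6 : List Nat := [13, 8, 5]
def rw7 : List Nat := [15, 13, 10]
def rw8 : List Nat := [17, 12, 12]
def rw9 : List Nat := [19, 14, 14]
def rw10 : List Nat := [21, 13, 5, 12, 4, 13, 5, 12, 4, 13, 5, 12, 4]
def rw11 : List Nat := [23, 13, 5, 13, 5, 12, 4, 12, 4, 13, 5, 13, 5, 12, 4, 12, 4]
def rw12 : List Nat := [25, 7, 13, 6, 12]
def rw13 : List Nat := [27, 7, 5, 6, 4]
def rw14 : List Nat := [29, 12, 4, 12, 4, 6, 14, 12, 4, 14]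
def rw15 : List Nat := [31, 1, 4, 12, 4, 4, 12, 4, 12, 4, 4, 12, 6]
def rw16 : List Nat := [33, 3, 12, 4, 4, 12, 5, 12, 5, 14, 12, 5, 14, 5, 14, 6]
def rw17 : List Nat := [16, 16]
def rw18 : List Nat := [18, 18]
def rw19 : List Nat := [20, 20]
def rw20 : List Nat := [22, 22]
def rw21 : List Nat := [24, 24]
def rw22 : List Nat := [26, 26]
def rw23 : List Nat := [28, 28]
def rw24 : List Nat := [30, 30]
def rw25 : List Nat := [32, 32]
def rw26 : List Nat := [16, 0, 17, 1]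
def rw27 : List Nat := [16, 2, 17, 3]
def rw28 : List Nat := [16, 4, 17, 5]
def rw29 : List Nat := [16, 6, 17, 7]
def rw30 : List Nat := [16, 8, 17, 9]
def rw31 : List Nat := [16, 10, 17, 11]
def rw32 : List Nat := [16, 12, 17, 13]
def rw33 : List Nat := [16, 14, 17, 15]
def rw34 : List Nat := [18, 0, 19, 1]
def rw35 : List Nat := [18, 2, 19, 3]
def rw36 : List Nat := [18, 4, 19, 5]
def rw37 : List Nat := [18, 6, 19, 7]
def rw38 : List Nat := [18, 8, 19, 9]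
def rw39 : List Nat := [18, 10, 19, 11]
def rw40 : List Nat := [18, 12, 19, 13]
def rw41 : List Nat := [18, 14, 19, 15]
def rw42 : List Nat := [20, 0, 21, 1]
def rw43 : List Nat := [20, 2, 21, 3]
def rw44 : List Nat := [20, 4, 21, 5]
def rw45 : List Nat := [20, 6, 21, 7]
def rw46 : List Nat := [20, 8, 21, 9]
def rw47 : List Nat := [20, 10, 21, 11]
def rw48 : List Nat := [20, 12, 21, 13]
def rw49 : List Nat := [20, 14, 21, 15]
def rw50 : List Nat := [22, 0, 23, 1]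
def rw51 : List Nat := [22, 2, 23, 3]
def rw52 : List Nat := [22, 4, 23, 5]
def rw53 : List Nat := [22, 6, 23, 7]
def rw54 : List Nat := [22, 8, 23, 9]
def rw55 : List Nat := [22, 10, 23, 11]
def rw56 : List Nat := [22, 12, 23, 13]
def rw57 : List Nat := [22, 14, 23, 15]
def rw58 : List Nat := [24, 0, 25, 1]
def rw59 : List Nat := [24, 2, 25, 3]
def rw60 : List Nat := [24, 4, 25, 5]
def rw61 : List Nat := [24, 6, 25, 7]
def rw62 : List Nat := [24, 8, 25, 9]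
def rw63 : List Nat := [24, 10, 25, 11]
def rw64 : List Nat := [24, 12, 25, 13]
def rw65 : List Nat := [24, 14, 25, 15]
def rw66 : List Nat := [26, 0, 27, 1]
def rw67 : List Nat := [26, 2, 27, 3]
def rw68 : List Nat := [26, 4, 27, 5]
def rw69 : List Nat := [26, 6, 27, 7]
def rw70 : List Nat := [26, 8, 27, 9]
def rw71 : List Nat := [26, 10, 27, 11]
def rw72 : List Nat := [26, 12, 27, 13]
def rw73 : List Nat := [26, 14, 27, 15]
def rw74 : List Nat := [28, 0, 29, 1]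
def rw75 : List Nat := [28, 2, 29, 3]
def rw76 : List Nat := [28, 4, 29, 5]
def rw77 : List Nat := [28, 6, 29, 7]
def rw78 : List Nat := [28, 8, 29, 9]
def rw79 : List Nat := [28, 10, 29, 11]
def rw80 : List Nat := [28, 12, 29, 13]
def rw81 : List Nat := [28, 14, 29, 15]
def rw82 : List Nat := [30, 0, 31, 1]
def rw83 : List Nat := [30, 2, 31, 3]
def rw84 : List Nat := [30, 4, 31, 5]
def rw85 : List Nat := [30, 6, 31, 7]
def rw86 : List Nat := [30, 8, 31, 9]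
def rw87 : List Nat := [30, 10, 31, 11]
def rw88 : List Nat := [30, 12, 31, 13]
def rw89 : List Nat := [30, 14, 31, 15]
def rw90 : List Nat := [32, 0, 33, 1]
def rw91 : List Nat := [32, 2, 33, 3]
def rw92 : List Nat := [32, 4, 33, 5]
def rw93 : List Nat := [32, 6, 33, 7]
def rw94 : List Nat := [32, 8, 33, 9]
def rw95 : List Nat := [32, 10, 33, 11]
def rw96 : List Nat := [32, 12, 33, 13]
def rw97 : List Nat := [32, 14, 33, 15]
def rw98 : List Nat := [0, 0, 0]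
def rw99 : List Nat := [2, 2, 2, 2, 2]
def rw100 : List Nat := [0, 2, 0, 3, 1, 2, 1, 3]
def rw101 : List Nat := [0, 2, 0, 2, 0, 2, 0, 2, 0, 2]
def rw102 : List Nat := [0, 3, 0, 3, 0, 3, 0, 3, 0, 3]
def realLit : List (List Nat) := [rw0, rw1, rw2, rw3, rw4, rw5, rw6, rw7, rw8, rw9, rw10, rw11, rw12, rw13, rw14, rw15, rw16, rw17, rw18, rw19, rw20, rw21, rw22, rw23, rw24, rw25, rw26, rw27, rw28, rw29, rw30, rw31, rw32, rw33, rw34, rw35, rw36, rw37, rw38, rw39, rw40, rw41, rw42, rw43, rw44, rw45, rw46, rw47, rw48, rw49, rw50, rw51, rw52, rw53, rw54, rw55, rw56, rw57, rw58, rw59, rw60, rw61, rw62, rw63, rw64, rw65, rw66, rw67, rw68, rw69, rw70, rw71, rw72, rw73, rw74, rw75, rw76, rw77, rw78, rw79, rw80, rw81, rw82, rw83, rw84, rw85, rw86, rw87, rw88, rw89, rw90, rw91, rw92, rw93, rw94, rw95, rw96, rw97, rw98, rw99, rw100, rw101, rw102]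
noncomputable def actR0 (i : Nat) : Nat := col1 (col1 (col1 (i)))
theorem actR0_eq (i : Nat) : actR0 i = Tab.act T D rw0 i := rfl
noncomputable def actR1 (i : Nat) : Nat := col3 (col3 (col3 (col3 (col3 (i)))))
theorem actR1_eq (i : Nat) : actR1 i = Tab.act T D rw1 i := rfl
noncomputable def actR2 (i : Nat) : Nat := col5 (col5 (col5 (col5 (col5 (i)))))
theorem actR2_eq (i : Nat) : actR2 i = Tab.act T D rw2 i := rfl
noncomputable def actR3 (i : Nat) : Nat := col7 (col7 (col7 (i)))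
theorem actR3_eq (i : Nat) : actR3 i = Tab.act T D rw3 i := rfl
noncomputable def actR4 (i : Nat) : Nat := col9 (col9 (col9 (col9 (col9 (col9 (col9 (col9 (col9 (i)))))))))
theorem actR4_eq (i : Nat) : actR4 i = Tab.act T D rw4 i := rfl
noncomputable def actR5 (i : Nat) : Nat := col11 (col11 (col11 (i)))
theorem actR5_eq (i : Nat) : actR5 i = Tab.act T D rw5 i := rfl
noncomputable def actR6 (i : Nat) : Nat := col12 (col9 (col4 (i)))
theorem actR6_eq (i : Nat) : actR6 i = Tab.act T D rw6 i := rfl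
noncomputable def actR7 (i : Nat) : Nat := col14 (col12 (col11 (i)))
theorem actR7_eq (i : Nat) : actR7 i = Tab.act T D rw7 i := rfl
noncomputable def actR8 (i : Nat) : Nat := col16 (col13 (col13 (i)))
theorem actR8_eq (i : Nat) : actR8 i = Tab.act T D rw8 i := rfl
noncomputable def actR9 (i : Nat) : Nat := col18 (col15 (col15 (i)))
theorem actR9_eq (i : Nat) : actR9 i = Tab.act T D rw9 i := rfl
noncomputable def actR10 (i : Nat) : Nat := col20 (col12 (col4 (col13 (col5 (col12 (col4 (col13 (col5 (col12 (col4 (col13 (col5 (i)))))))))))))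
theorem actR10_eq (i : Nat) : actR10 i = Tab.act T D rw10 i := rfl
noncomputable def actR11 (i : Nat) : Nat := col22 (col12 (col4 (col12 (col4 (col13 (col5 (col13 (col5 (col12 (col4 (col12 (col4 (col13 (col5 (col13 (col5 (i)))))))))))))))))
theorem actR11_eq (i : Nat) : actR11 i = Tab.act T D rw11 i := rfl
noncomputable def actR12 (i : Nat) : Nat := col24 (col6 (col12 (col7 (col13 (i)))))
theorem actR12_eq (i : Nat) : actR12 i = Tab.act T D rw12 i := rfl
noncomputable def actR13 (i : Nat) : Nat := col26 (col6 (col4 (col7 (col5 (i)))))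
theorem actR13_eq (i : Nat) : actR13 i = Tab.act T D rw13 i := rfl
noncomputable def actR14 (i : Nat) : Nat := col28 (col13 (col5 (col13 (col5 (col7 (col15 (col13 (col5 (col15 (i))))))))))
theorem actR14_eq (i : Nat) : actR14 i = Tab.act T D rw14 i := rfl
noncomputable def actR15 (i : Nat) : Nat := col30 (col0 (col5 (col13 (col5 (col5 (col13 (col5 (col13 (col5 (col5 (col13 (col7 (i)))))))))))))
theorem actR15_eq (i : Nat) : actR15 i = Tab.act T D rw15 i := rfl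
noncomputable def actR16 (i : Nat) : Nat := col32 (col2 (col13 (col5 (col5 (col13 (col4 (col13 (col4 (col15 (col13 (col4 (col15 (col4 (col15 (col7 (i))))))))))))))))
theorem actR16_eq (i : Nat) : actR16 i = Tab.act T D rw16 i := rfl
noncomputable def actR17 (i : Nat) : Nat := col17 (col17 (i))
theorem actR17_eq (i : Nat) : actR17 i = Tab.act T D rw17 i := rfl
noncomputable def actR18 (i : Nat) : Nat := col19 (col19 (i))
theorem actR18_eq (i : Nat) : actR18 i = Tab.act T D rw18 i := rfl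
noncomputable def actR19 (i : Nat) : Nat := col21 (col21 (i))
theorem actR19_eq (i : Nat) : actR19 i = Tab.act T D rw19 i := rfl
noncomputable def actR20 (i : Nat) : Nat := col23 (col23 (i))
theorem actR20_eq (i : Nat) : actR20 i = Tab.act T D rw20 i := rfl
noncomputable def actR21 (i : Nat) : Nat := col25 (col25 (i))
theorem actR21_eq (i : Nat) : actR21 i = Tab.act T D rw21 i := rfl
noncomputable def actR22 (i : Nat) : Nat := col27 (col27 (i))
theorem actR22_eq (i : Nat) : actR22 i = Tab.act T D rw22 i := rfl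
noncomputable def actR23 (i : Nat) : Nat := col29 (col29 (i))
theorem actR23_eq (i : Nat) : actR23 i = Tab.act T D rw23 i := rfl
noncomputable def actR24 (i : Nat) : Nat := col31 (col31 (i))
theorem actR24_eq (i : Nat) : actR24 i = Tab.act T D rw24 i := rfl
noncomputable def actR25 (i : Nat) : Nat := col33 (col33 (i))
theorem actR25_eq (i : Nat) : actR25 i = Tab.act T D rw25 i := rfl
noncomputable def actR26 (i : Nat) : Nat := col17 (col1 (col16 (col0 (i))))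
theorem actR26_eq (i : Nat) : actR26 i = Tab.act T D rw26 i := rfl
noncomputable def actR27 (i : Nat) : Nat := col17 (col3 (col16 (col2 (i))))
theorem actR27_eq (i : Nat) : actR27 i = Tab.act T D rw27 i := rfl
noncomputable def actR28 (i : Nat) : Nat := col17 (col5 (col16 (col4 (i))))
theorem actR28_eq (i : Nat) : actR28 i = Tab.act T D rw28 i := rfl
noncomputable def actR29 (i : Nat) : Nat := col17 (col7 (col16 (col6 (i))))
theorem actR29_eq (i : Nat) : actR29 i = Tab.act T D rw29 i := rfl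
noncomputable def actR30 (i : Nat) : Nat := col17 (col9 (col16 (col8 (i))))
theorem actR30_eq (i : Nat) : actR30 i = Tab.act T D rw30 i := rfl
noncomputable def actR31 (i : Nat) : Nat := col17 (col11 (col16 (col10 (i))))
theorem actR31_eq (i : Nat) : actR31 i = Tab.act T D rw31 i := rfl
noncomputable def actR32 (i : Nat) : Nat := col17 (col13 (col16 (col12 (i))))
theorem actR32_eq (i : Nat) : actR32 i = Tab.act T D rw32 i := rfl
noncomputable def actR33 (i : Nat) : Nat := col17 (col15 (col16 (col14 (i))))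
theorem actR33_eq (i : Nat) : actR33 i = Tab.act T D rw33 i := rfl
noncomputable def actR34 (i : Nat) : Nat := col19 (col1 (col18 (col0 (i))))
theorem actR34_eq (i : Nat) : actR34 i = Tab.act T D rw34 i := rfl
noncomputable def actR35 (i : Nat) : Nat := col19 (col3 (col18 (col2 (i))))
theorem actR35_eq (i : Nat) : actR35 i = Tab.act T D rw35 i := rfl
noncomputable def actR36 (i : Nat) : Nat := col19 (col5 (col18 (col4 (i))))
theorem actR36_eq (i : Nat) : actR36 i = Tab.act T D rw36 i := rfl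
noncomputable def actR37 (i : Nat) : Nat := col19 (col7 (col18 (col6 (i))))
theorem actR37_eq (i : Nat) : actR37 i = Tab.act T D rw37 i := rfl
noncomputable def actR38 (i : Nat) : Nat := col19 (col9 (col18 (col8 (i))))
theorem actR38_eq (i : Nat) : actR38 i = Tab.act T D rw38 i := rfl
noncomputable def actR39 (i : Nat) : Nat := col19 (col11 (col18 (col10 (i))))
theorem actR39_eq (i : Nat) : actR39 i = Tab.act T D rw39 i := rfl
noncomputable def actR40 (i : Nat) : Nat := col19 (col13 (col18 (col12 (i))))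
theorem actR40_eq (i : Nat) : actR40 i = Tab.act T D rw40 i := rfl
noncomputable def actR41 (i : Nat) : Nat := col19 (col15 (col18 (col14 (i))))
theorem actR41_eq (i : Nat) : actR41 i = Tab.act T D rw41 i := rfl
noncomputable def actR42 (i : Nat) : Nat := col21 (col1 (col20 (col0 (i))))
theorem actR42_eq (i : Nat) : actR42 i = Tab.act T D rw42 i := rfl
noncomputable def actR43 (i : Nat) : Nat := col21 (col3 (col20 (col2 (i))))
theorem actR43_eq (i : Nat) : actR43 i = Tab.act T D rw43 i := rfl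
noncomputable def actR44 (i : Nat) : Nat := col21 (col5 (col20 (col4 (i))))
theorem actR44_eq (i : Nat) : actR44 i = Tab.act T D rw44 i := rfl
noncomputable def actR45 (i : Nat) : Nat := col21 (col7 (col20 (col6 (i))))
theorem actR45_eq (i : Nat) : actR45 i = Tab.act T D rw45 i := rfl
noncomputable def actR46 (i : Nat) : Nat := col21 (col9 (col20 (col8 (i))))
theorem actR46_eq (i : Nat) : actR46 i = Tab.act T D rw46 i := rfl
noncomputable def actR47 (i : Nat) : Nat := col21 (col11 (col20 (col10 (i))))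
theorem actR47_eq (i : Nat) : actR47 i = Tab.act T D rw47 i := rfl
noncomputable def actR48 (i : Nat) : Nat := col21 (col13 (col20 (col12 (i))))
theorem actR48_eq (i : Nat) : actR48 i = Tab.act T D rw48 i := rfl
noncomputable def actR49 (i : Nat) : Nat := col21 (col15 (col20 (col14 (i))))
theorem actR49_eq (i : Nat) : actR49 i = Tab.act T D rw49 i := rfl
noncomputable def actR50 (i : Nat) : Nat := col23 (col1 (col22 (col0 (i))))
theorem actR50_eq (i : Nat) : actR50 i = Tab.act T D rw50 i := rfl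
noncomputable def actR51 (i : Nat) : Nat := col23 (col3 (col22 (col2 (i))))
theorem actR51_eq (i : Nat) : actR51 i = Tab.act T D rw51 i := rfl
noncomputable def actR52 (i : Nat) : Nat := col23 (col5 (col22 (col4 (i))))
theorem actR52_eq (i : Nat) : actR52 i = Tab.act T D rw52 i := rfl
noncomputable def actR53 (i : Nat) : Nat := col23 (col7 (col22 (col6 (i))))
theorem actR53_eq (i : Nat) : actR53 i = Tab.act T D rw53 i := rfl
noncomputable def actR54 (i : Nat) : Nat := col23 (col9 (col22 (col8 (i))))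
theorem actR54_eq (i : Nat) : actR54 i = Tab.act T D rw54 i := rfl
noncomputable def actR55 (i : Nat) : Nat := col23 (col11 (col22 (col10 (i))))
theorem actR55_eq (i : Nat) : actR55 i = Tab.act T D rw55 i := rfl
noncomputable def actR56 (i : Nat) : Nat := col23 (col13 (col22 (col12 (i))))
theorem actR56_eq (i : Nat) : actR56 i = Tab.act T D rw56 i := rfl
noncomputable def actR57 (i : Nat) : Nat := col23 (col15 (col22 (col14 (i))))
theorem actR57_eq (i : Nat) : actR57 i = Tab.act T D rw57 i := rfl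
noncomputable def actR58 (i : Nat) : Nat := col25 (col1 (col24 (col0 (i))))
theorem actR58_eq (i : Nat) : actR58 i = Tab.act T D rw58 i := rfl
noncomputable def actR59 (i : Nat) : Nat := col25 (col3 (col24 (col2 (i))))
theorem actR59_eq (i : Nat) : actR59 i = Tab.act T D rw59 i := rfl
noncomputable def actR60 (i : Nat) : Nat := col25 (col5 (col24 (col4 (i))))
theorem actR60_eq (i : Nat) : actR60 i = Tab.act T D rw60 i := rfl
noncomputable def actR61 (i : Nat) : Nat := col25 (col7 (col24 (col6 (i))))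
theorem actR61_eq (i : Nat) : actR61 i = Tab.act T D rw61 i := rfl
noncomputable def actR62 (i : Nat) : Nat := col25 (col9 (col24 (col8 (i))))
theorem actR62_eq (i : Nat) : actR62 i = Tab.act T D rw62 i := rfl
noncomputable def actR63 (i : Nat) : Nat := col25 (col11 (col24 (col10 (i))))
theorem actR63_eq (i : Nat) : actR63 i = Tab.act T D rw63 i := rfl
noncomputable def actR64 (i : Nat) : Nat := col25 (col13 (col24 (col12 (i))))
theorem actR64_eq (i : Nat) : actR64 i = Tab.act T D rw64 i := rfl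
noncomputable def actR65 (i : Nat) : Nat := col25 (col15 (col24 (col14 (i))))
theorem actR65_eq (i : Nat) : actR65 i = Tab.act T D rw65 i := rfl
noncomputable def actR66 (i : Nat) : Nat := col27 (col1 (col26 (col0 (i))))
theorem actR66_eq (i : Nat) : actR66 i = Tab.act T D rw66 i := rfl
noncomputable def actR67 (i : Nat) : Nat := col27 (col3 (col26 (col2 (i))))
theorem actR67_eq (i : Nat) : actR67 i = Tab.act T D rw67 i := rfl
noncomputable def actR68 (i : Nat) : Nat := col27 (col5 (col26 (col4 (i))))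
theorem actR68_eq (i : Nat) : actR68 i = Tab.act T D rw68 i := rfl
noncomputable def actR69 (i : Nat) : Nat := col27 (col7 (col26 (col6 (i))))
theorem actR69_eq (i : Nat) : actR69 i = Tab.act T D rw69 i := rfl
noncomputable def actR70 (i : Nat) : Nat := col27 (col9 (col26 (col8 (i))))
theorem actR70_eq (i : Nat) : actR70 i = Tab.act T D rw70 i := rfl
noncomputable def actR71 (i : Nat) : Nat := col27 (col11 (col26 (col10 (i))))
theorem actR71_eq (i : Nat) : actR71 i = Tab.act T D rw71 i := rfl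
noncomputable def actR72 (i : Nat) : Nat := col27 (col13 (col26 (col12 (i))))
theorem actR72_eq (i : Nat) : actR72 i = Tab.act T D rw72 i := rfl
noncomputable def actR73 (i : Nat) : Nat := col27 (col15 (col26 (col14 (i))))
theorem actR73_eq (i : Nat) : actR73 i = Tab.act T D rw73 i := rfl
noncomputable def actR74 (i : Nat) : Nat := col29 (col1 (col28 (col0 (i))))
theorem actR74_eq (i : Nat) : actR74 i = Tab.act T D rw74 i := rfl
noncomputable def actR75 (i : Nat) : Nat := col29 (col3 (col28 (col2 (i))))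
theorem actR75_eq (i : Nat) : actR75 i = Tab.act T D rw75 i := rfl
noncomputable def actR76 (i : Nat) : Nat := col29 (col5 (col28 (col4 (i))))
theorem actR76_eq (i : Nat) : actR76 i = Tab.act T D rw76 i := rfl
noncomputable def actR77 (i : Nat) : Nat := col29 (col7 (col28 (col6 (i))))
theorem actR77_eq (i : Nat) : actR77 i = Tab.act T D rw77 i := rfl
noncomputable def actR78 (i : Nat) : Nat := col29 (col9 (col28 (col8 (i))))
theorem actR78_eq (i : Nat) : actR78 i = Tab.act T D rw78 i := rfl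
noncomputable def actR79 (i : Nat) : Nat := col29 (col11 (col28 (col10 (i))))
theorem actR79_eq (i : Nat) : actR79 i = Tab.act T D rw79 i := rfl
noncomputable def actR80 (i : Nat) : Nat := col29 (col13 (col28 (col12 (i))))
theorem actR80_eq (i : Nat) : actR80 i = Tab.act T D rw80 i := rfl
noncomputable def actR81 (i : Nat) : Nat := col29 (col15 (col28 (col14 (i))))
theorem actR81_eq (i : Nat) : actR81 i = Tab.act T D rw81 i := rfl
noncomputable def actR82 (i : Nat) : Nat := col31 (col1 (col30 (col0 (i))))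
theorem actR82_eq (i : Nat) : actR82 i = Tab.act T D rw82 i := rfl
noncomputable def actR83 (i : Nat) : Nat := col31 (col3 (col30 (col2 (i))))
theorem actR83_eq (i : Nat) : actR83 i = Tab.act T D rw83 i := rfl
noncomputable def actR84 (i : Nat) : Nat := col31 (col5 (col30 (col4 (i))))
theorem actR84_eq (i : Nat) : actR84 i = Tab.act T D rw84 i := rfl
noncomputable def actR85 (i : Nat) : Nat := col31 (col7 (col30 (col6 (i))))
theorem actR85_eq (i : Nat) : actR85 i = Tab.act T D rw85 i := rfl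
noncomputable def actR86 (i : Nat) : Nat := col31 (col9 (col30 (col8 (i))))
theorem actR86_eq (i : Nat) : actR86 i = Tab.act T D rw86 i := rfl
noncomputable def actR87 (i : Nat) : Nat := col31 (col11 (col30 (col10 (i))))
theorem actR87_eq (i : Nat) : actR87 i = Tab.act T D rw87 i := rfl
noncomputable def actR88 (i : Nat) : Nat := col31 (col13 (col30 (col12 (i))))
theorem actR88_eq (i : Nat) : actR88 i = Tab.act T D rw88 i := rfl
noncomputable def actR89 (i : Nat) : Nat := col31 (col15 (col30 (col14 (i))))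
theorem actR89_eq (i : Nat) : actR89 i = Tab.act T D rw89 i := rfl
noncomputable def actR90 (i : Nat) : Nat := col33 (col1 (col32 (col0 (i))))
theorem actR90_eq (i : Nat) : actR90 i = Tab.act T D rw90 i := rfl
noncomputable def actR91 (i : Nat) : Nat := col33 (col3 (col32 (col2 (i))))
theorem actR91_eq (i : Nat) : actR91 i = Tab.act T D rw91 i := rfl
noncomputable def actR92 (i : Nat) : Nat := col33 (col5 (col32 (col4 (i))))
theorem actR92_eq (i : Nat) : actR92 i = Tab.act T D rw92 i := rfl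
noncomputable def actR93 (i : Nat) : Nat := col33 (col7 (col32 (col6 (i))))
theorem actR93_eq (i : Nat) : actR93 i = Tab.act T D rw93 i := rfl
noncomputable def actR94 (i : Nat) : Nat := col33 (col9 (col32 (col8 (i))))
theorem actR94_eq (i : Nat) : actR94 i = Tab.act T D rw94 i := rfl
noncomputable def actR95 (i : Nat) : Nat := col33 (col11 (col32 (col10 (i))))
theorem actR95_eq (i : Nat) : actR95 i = Tab.act T D rw95 i := rfl
noncomputable def actR96 (i : Nat) : Nat := col33 (col13 (col32 (col12 (i))))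
theorem actR96_eq (i : Nat) : actR96 i = Tab.act T D rw96 i := rfl
noncomputable def actR97 (i : Nat) : Nat := col33 (col15 (col32 (col14 (i))))
theorem actR97_eq (i : Nat) : actR97 i = Tab.act T D rw97 i := rfl
noncomputable def actR98 (i : Nat) : Nat := col1 (col1 (col1 (i)))
theorem actR98_eq (i : Nat) : actR98 i = Tab.act T D rw98 i := rfl
noncomputable def actR99 (i : Nat) : Nat := col3 (col3 (col3 (col3 (col3 (i)))))
theorem actR99_eq (i : Nat) : actR99 i = Tab.act T D rw99 i := rfl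
noncomputable def actR100 (i : Nat) : Nat := col1 (col3 (col1 (col2 (col0 (col3 (col0 (col2 (i))))))))
theorem actR100_eq (i : Nat) : actR100 i = Tab.act T D rw100 i := rfl
noncomputable def actR101 (i : Nat) : Nat := col1 (col3 (col1 (col3 (col1 (col3 (col1 (col3 (col1 (col3 (i))))))))))
theorem actR101_eq (i : Nat) : actR101 i = Tab.act T D rw101 i := rfl
noncomputable def actR102 (i : Nat) : Nat := col1 (col2 (col1 (col2 (col1 (col2 (col1 (col2 (col1 (col2 (i))))))))))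
theorem actR102_eq (i : Nat) : actR102 i = Tab.act T D rw102 i := rfl

end Cfsg.Agent.Lib.Helper4.TCD.SU52pp2A
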