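import Cfsg.Agent.Lib.Helper4.TCD_SU52pp2A_Acc

namespace Cfsg.Agent.Lib.Helper4.TCD.SU52pp2A

open Cfsg.Agent.Lib.Helper4.TC

set_option maxRecDepth 100000
set_option Elab.async false

theorem c_zero : D.zeroOK = true := by decide +kernel
theorem c_base : allBelow D.baseOK 4 = true := by decide +kernel
theorem c_let : allBelow D.letOK 34 = true := by decide +kernel
theorem c_cls0 : T.cls 0 = 0 := by decide +kernel
theorem c_name0 : T.nameOf 0 = 0 := by decide +kernel
theorem c_tab : D.relTabOK 0 (baseRels 34 PSU52pp2.invR PSU52pp2.P.real subs ++ (baseRels 34 PSU52pp2.invR PSU52pp2.P.real subs).map (invWord D.inv)) = true := by decide +kernel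
theorem c_real : PSU52pp2.P.real = realLit := by decide +kernel
theorem c_subfix : subs.all (fun u => Nat.beq (Tab.act T D u 0) 0) = true := by decide +kernel
theorem c_subs : subs.all (fun u => u.all (fun x => Nat.ble (Nat.succ x) 34)) = true := by decide +kernel
theorem c_names_0 : allRange D.nameOK 1 60000 = true := by decide +kernel
theorem c_names_1 : allRange D.nameOK 60001 60000 = true := by decide +kernel
theorem c_names_2 : allRange D.nameOK 120001 60000 = true := by decide +kernel
theorem c_names_3 : allRange D.nameOK 180001 60000 = true := by decide +kernel
theorem c_names_4 : allRange D.nameOK 240001 50714 = true := by decide +kernel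
theorem c_cls_0 : allRange (T.clsOK D) 1 15000 = true := by decide +kernel
theorem c_cls_1 : allRange (T.clsOK D) 15001 15000 = true := by decide +kernel
theorem c_cls_2 : allRange (T.clsOK D) 30001 15000 = true := by decide +kernel
theorem c_cls_3 : allRange (T.clsOK D) 45001 15000 = true := by decide +kernel
theorem c_cls_4 : allRange (T.clsOK D) 60001 15000 = true := by decide +kernel
theorem c_cls_5 : allRange (T.clsOK D) 75001 15000 = true := by decide +kernel
theorem c_cls_6 : allRange (T.clsOK D) 90001 15000 = true := by decide +kernel
theorem c_cls_7 : allRange (T.clsOK D) 105001 15000 = true := by decide +kernel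
theorem c_cls_8 : allRange (T.clsOK D) 120001 15000 = true := by decide +kernel
theorem c_cls_9 : allRange (T.clsOK D) 135001 15000 = true := by decide +kernel
theorem c_cls_10 : allRange (T.clsOK D) 150001 15000 = true := by decide +kernel
theorem c_cls_11 : allRange (T.clsOK D) 165001 15000 = true := by decide +kernel
theorem c_cls_12 : allRange (T.clsOK D) 180001 15000 = true := by decide +kernel
theorem c_cls_13 : allRange (T.clsOK D) 195001 15000 = true := by decide +kernel
theorem c_cls_14 : allRange (T.clsOK D) 210001 15000 = true := by decide +kernel
theorem c_cls_15 : allRange (T.clsOK D) 225001 15000 = true := by decide +kernel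
theorem c_cls_16 : allRange (T.clsOK D) 240001 15000 = true := by decide +kernel
theorem c_cls_17 : allRange (T.clsOK D) 255001 15000 = true := by decide +kernel
theorem c_cls_18 : allRange (T.clsOK D) 270001 15000 = true := by decide +kernel
theorem c_cls_19 : allRange (T.clsOK D) 285001 5714 = true := by decide +kernel
theorem c_rep_0 : allRange (T.repOK D) 0 30000 = true := by decide +kernel
theorem c_rep_1 : allRange (T.repOK D) 30000 3792 = true := by decide +kernel
theorem c_rel_0 : allRange D.relOK 290719 3634 = true := by decide +kernel
theorem c_rel_1 : allRange D.relOK 294353 3698 = true := by decide +kernel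
theorem c_rel_2 : allRange D.relOK 298051 3639 = true := by decide +kernel
theorem c_rel_3 : allRange D.relOK 301690 3617 = true := by decide +kernel
theorem c_rel_4 : allRange D.relOK 305307 3596 = true := by decide +kernel
theorem c_rel_5 : allRange D.relOK 308903 3621 = true := by decide +kernel
theorem c_rel_6 : allRange D.relOK 312524 3640 = true := by decide +kernel
theorem c_rel_7 : allRange D.relOK 316164 3640 = true := by decide +kernel
theorem c_rel_8 : allRange D.relOK 319804 3583 = true := by decide +kernel
theorem c_rel_9 : allRange D.relOK 323387 3574 = true := by decide +kernel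
theorem c_rel_10 : allRange D.relOK 326961 3608 = true := by decide +kernel
theorem c_rel_11 : allRange D.relOK 330569 3656 = true := by decide +kernel
theorem c_rel_12 : allRange D.relOK 334225 3514 = true := by decide +kernel
theorem c_rel_13 : allRange D.relOK 337739 3494 = true := by decide +kernel
theorem c_rel_14 : allRange D.relOK 341233 3518 = true := by decide +kernel
theorem c_rel_15 : allRange D.relOK 344751 3587 = true := by decide +kernel
theorem c_rel_16 : allRange D.relOK 348338 3583 = true := by decide +kernel
theorem c_rel_17 : allRange D.relOK 351921 3514 = true := by decide +kernel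
theorem c_rel_18 : allRange D.relOK 355435 3587 = true := by decide +kernel
theorem c_rel_19 : allRange D.relOK 359022 3596 = true := by decide +kernel
theorem c_rel_20 : allRange D.relOK 362618 3504 = true := by decide +kernel
theorem c_rel_21 : allRange D.relOK 366122 3540 = true := by decide +kernel
theorem c_rel_22 : allRange D.relOK 369662 3506 = true := by decide +kernel
theorem c_rel_23 : allRange D.relOK 373168 3594 = true := by decide +kernel
theorem c_rel_24 : allRange D.relOK 376762 3647 = true := by decide +kernel
theorem c_rel_25 : allRange D.relOK 380409 3494 = true := by decide +kernel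
theorem c_rel_26 : allRange D.relOK 383903 3559 = true := by decide +kernel
theorem c_rel_27 : allRange D.relOK 387462 3595 = true := by decide +kernel
theorem c_rel_28 : allRange D.relOK 391057 3517 = true := by decide +kernel
theorem c_rel_29 : allRange D.relOK 394574 3534 = true := by decide +kernel
theorem c_rel_30 : allRange D.relOK 398108 3520 = true := by decide +kernel
theorem c_rel_31 : allRange D.relOK 401628 3573 = true := by decide +kernel
theorem c_rel_32 : allRange D.relOK 405201 3615 = true := by decide +kernel
theorem c_rel_33 : allRange D.relOK 408816 3487 = true := by decide +kernel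
theorem c_rel_34 : allRange D.relOK 412303 3547 = true := by decide +kernel
theorem c_rel_35 : allRange D.relOK 415850 3566 = true := by decide +kernel
theorem c_rel_36 : allRange D.relOK 419416 3496 = true := by decide +kernel
theorem c_rel_37 : allRange D.relOK 422912 3474 = true := by decide +kernel
theorem c_rel_38 : allRange D.relOK 426386 3553 = true := by decide +kernel
theorem c_rel_39 : allRange D.relOK 429939 3607 = true := by decide +kernel
theorem c_rel_40 : allRange D.relOK 433546 3535 = true := by decide +kernel
theorem c_rel_41 : allRange D.relOK 437081 3488 = true := by decide +kernel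
theorem c_rel_42 : allRange D.relOK 440569 3536 = true := by decide +kernel
theorem c_rel_43 : allRange D.relOK 444105 3307 = true := by decide +kernel
theorem c_rel_44 : allRange D.relOK 447412 3469 = true := by decide +kernel
theorem c_rel_45 : allRange D.relOK 450881 3479 = true := by decide +kernel
theorem c_rel_46 : allRange D.relOK 454360 3675 = true := by decide +kernel
theorem c_rel_47 : allRange D.relOK 458035 3708 = true := by decide +kernel
theorem c_rel_48 : allRange D.relOK 461743 3708 = true := by decide +kernel

end Cfsg.Agent.Lib.Helper4.TCD.SU52pp2A
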