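namespace Cfsg.Agent.Lib.Helper4.TCD.Sp62pA

noncomputable def Atab_0 : Nat := nat_lit 0x3decb7b3d68b5a4df535c2f783bc2df4b5c1d6cb393c60af73b58a9519d0a72294cdce38c45d028409ef06ac92d263090b352888733184a63294c42208c8612002000700180050007dc2eecb9a1de43581cdc3161bd42d52ad069209c464f08b460c17ac1ca26a458925a0148149c10723904c4028c48201844400081000
noncomputable def Btab_0 : Nat := nat_lit 0x10c100985080442040260c20110318267bb0a23b16315b71444da08216c8410b4cc0b190b18abd5865592c4229d61114c10429b58a54d0410a262108fcb24a7358443698161896314aeb108468a222284108e963147210422e58651684108896194386058115844032cb8814208402405600080a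
noncomputable def Ptab_0 : Nat := nat_lit 0x863a3b878438398580857a3d823c7d347735393d823c7d3c817f7b3477357a3b803d38347730732c2a6f6c29702f743378377e3a3836322e2d3135322e716f2667276e2b2f33302c2a2824612529702d312e716f6c2461256a6e2b2f2c2a286d2667276b29702d2a286d26221a1211171f256a6a2667221a195a216265691c5714581f60251c14585f2366225e16151d221a12550d530c0f135c2320181211151d20181b5e1f601e5f5d19211e59100e084c095411171f16100e0d53514f0a480246054d0954135c1a1812550d514f500c0f13191614100e08044705095411150e510a48070b4e0a064a0b500c080403070b0a48074b02460349064a0b04034a0602470307480205480245030741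
noncomputable def RRtab_0 : Nat := nat_lit 0x130081300836362323323201011010311200311200311200311200312031203120312031203120311311311311311311311311311311311311311311311311311311311311311311311311313131313131313131313131313131313131333311111111111111711207112052522323323201011010113002113002113002113002130213021302130213021302002002002002002002002002002002002002002002002002002002002002002002002002020202020202020202020202020202020202222200000000000000
noncomputable def rBtab_0 : Nat := nat_lit 0xc762b0d82bf5eac54a81379b4cc612f974b6592b92c7e1b0481c00
noncomputable def rLtab_0 : Nat := nat_lit 0x14208208230c91208714208208230c912087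
noncomputable def nameTab_0 : Nat := nat_lit 0x865db52efa1223821e7634aaca3da928c20
noncomputable def col0_0 : Nat := nat_lit 0x4577ac953805db49c8f07998455a2e58c41
noncomputable def col1_0 : Nat := nat_lit 0xce2f491b507b8ac5922919ebb6aac810413
noncomputable def col2_0 : Nat := nat_lit 0xdeb38bcab49da3073d4c5b4e84988518440
noncomputable def col3_0 : Nat := nat_lit 0xdeb38bcab49da3073d4c5b4e84988518440
noncomputable def finTab_0 : Nat := nat_lit 0x636264217978363368691d658e8c7a375657151c17581e5e7574322f8a88357b4c4d0805591611146667232676773134550e0c090f5412106d6a276f72732d305253500d6b6c28252b702e2c5b5a2019712a6e296160241f1b5c5f225d1a18134e4f0b51494a070a4b48030647460402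
noncomputable def clsTab_0 : Nat := nat_lit 0x4314c5350ab1276aa3b364a8b5c9272c6f14c20
noncomputable def oparTab_0 : Nat := nat_lit 0xce2f494a307b9ac5a94941ce62908310400
noncomputable def olabTab_0 : Nat := nat_lit 0x55455551515140

end Cfsg.Agent.Lib.Helper4.TCD.Sp62pA
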