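namespace Cfsg.Agent.Lib.Helper4.TCD.Sp62pL

noncomputable def st4_0 : Nat := nat_lit 0xdeb38bcab49da3073d4c5b4e84988518440
noncomputable def st5_0 : Nat := nat_lit 0xce2f496e307b9ac5ab4941ea6292c310660
noncomputable def st6_0 : Nat := nat_lit 0xb377ac95380deb49ca307b98b520e620c40
noncomputable def st7_0 : Nat := nat_lit 0xdeb382dab494dd07c5aa5b12831ee410c20
noncomputable def st8_0 : Nat := nat_lit 0xc49ea1a1badb0f7112b474e168af2649420
noncomputable def st9_0 : Nat := nat_lit 0x9d0bb821ac568e9caeb2360768904ebbc20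
noncomputable def st10_0 : Nat := nat_lit 0x9b37ac90d8196b4959d08bd4b6a127b8820
noncomputable def st11_0 : Nat := nat_lit 0xce2f41ba30dbd6c534fa424a62565698820
noncomputable def st12_0 : Nat := nat_lit 0x86f57a1eb3c2579959a3328b1221ee60820
noncomputable def st13_0 : Nat := nat_lit 0xd6613c3ab7a3d1b291a38aa46b2d2760820
noncomputable def st14_0 : Nat := nat_lit 0xcc29b6111ab94d849ed3ac9eb7454d18820
noncomputable def st15_0 : Nat := nat_lit 0xc53709b579628da49c97415f57465618820
noncomputable def st16_0 : Nat := nat_lit 0xa633abb51b62a307bad35c935398a418820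
noncomputable def st17_0 : Nat := nat_lit 0xd6e14bdab89c8d949dac5a9e8744a418820
noncomputable def levTab_0 : Nat := nat_lit 0x3591b6d2449240
noncomputable def betaTab_0 : Nat := nat_lit 0x190418820
noncomputable def nodeTab_0 : Nat := nat_lit 0x3104400063005400082f058b80d000112c7b4b0e928b94d2e0a8174c2d0ac134a0c0b00c0000da13b6b2e920596d5e124376c5d12c334b149a0702903d302c4e1292029280149c0300009225b698e9a0994c9613a576525a15154d95094134794a20d16cd41242f62739892d4f93195cb49929a04988aa19887861992025661111823220080001489eda65a697e532784e9dd8a568e5d536742004d1e728a5c5b370409bd89ee625353e6c607ad266a6e7a587686051d85466d79598644a98d0422210040000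
noncomputable def offTab_0 : Nat := nat_lit 0x15aa518edce00
noncomputable def nTab_0 : Nat := nat_lit 0x8435437c
noncomputable def rootTab_0 : Nat := nat_lit 0x0

end Cfsg.Agent.Lib.Helper4.TCD.Sp62pL
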