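import Cfsg.Agent.Lib.Helper4.TC11
import Cfsg.Agent.Lib.Helper4.TCD_Sp62pA_Acc
import Cfsg.Agent.Lib.Helper4.TCD_Sp62pL_D0

namespace Cfsg.Agent.Lib.Helper4.TCD.Sp62pL

open Cfsg.Agent.Lib.Helper4.TC Cfsg.Agent.Lib.Helper4.TCD.Sp62pA

set_option maxRecDepth 100000

noncomputable def st4 (i : Nat) : Nat := rdw 5 31 st4_0 i
noncomputable def st5 (i : Nat) : Nat := rdw 5 31 st5_0 i
noncomputable def st6 (i : Nat) : Nat := rdw 5 31 st6_0 i
noncomputable def st7 (i : Nat) : Nat := rdw 5 31 st7_0 i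
noncomputable def st8 (i : Nat) : Nat := rdw 5 31 st8_0 i
noncomputable def st9 (i : Nat) : Nat := rdw 5 31 st9_0 i
noncomputable def st10 (i : Nat) : Nat := rdw 5 31 st10_0 i
noncomputable def st11 (i : Nat) : Nat := rdw 5 31 st11_0 i
noncomputable def st12 (i : Nat) : Nat := rdw 5 31 st12_0 i
noncomputable def st13 (i : Nat) : Nat := rdw 5 31 st13_0 i
noncomputable def st14 (i : Nat) : Nat := rdw 5 31 st14_0 i
noncomputable def st15 (i : Nat) : Nat := rdw 5 31 st15_0 i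
noncomputable def st16 (i : Nat) : Nat := rdw 5 31 st16_0 i
noncomputable def st17 (i : Nat) : Nat := rdw 5 31 st17_0 i
noncomputable def levTab (i : Nat) : Nat := rdw 3 7 levTab_0 i
noncomputable def betaTab (i : Nat) : Nat := rdw 5 31 betaTab_0 i
noncomputable def nodeTab (i : Nat) : Nat := rdw 18 262143 nodeTab_0 i
noncomputable def offTab (i : Nat) : Nat := rdw 7 127 offTab_0 i
noncomputable def nTab (i : Nat) : Nat := rdw 5 31 nTab_0 i
noncomputable def rootTab (i : Nat) : Nat := rdw 5 31 rootTab_0 i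
noncomputable def tabF (i p : Nat) : Nat := @Bool.rec (fun _ => Nat) (@Bool.rec (fun _ => Nat) (@Bool.rec (fun _ => Nat) (@Bool.rec (fun _ => Nat) (col1 p) (col0 p) (Nat.ble 1 i)) (@Bool.rec (fun _ => Nat) (col3 p) (col2 p) (Nat.ble 3 i)) (Nat.ble 2 i)) (@Bool.rec (fun _ => Nat) (@Bool.rec (fun _ => Nat) (st4 p) (st5 p) (Nat.ble 5 i)) (@Bool.rec (fun _ => Nat) (st6 p) (@Bool.rec (fun _ => Nat) (st7 p) (st8 p) (Nat.ble 8 i)) (Nat.ble 7 i)) (Nat.ble 6 i)) (Nat.ble 4 i)) (@Bool.rec (fun _ => Nat) (@Bool.rec (fun _ => Nat) (@Bool.rec (fun _ => Nat) (st9 p) (st10 p) (Nat.ble 10 i)) (@Bool.rec (fun _ => Nat) (st11 p) (st12 p) (Nat.ble 12 i)) (Nat.ble 11 i)) (@Bool.rec (fun _ => Nat) (@Bool.rec (fun _ => Nat) (st13 p) (st14 p) (Nat.ble 14 i)) (@Bool.rec (fun _ => Nat) (st15 p) (@Bool.rec (fun _ => Nat) (st16 p) (st17 p) (Nat.ble 17 i)) (Nat.ble 16 i)) (Nat.ble 15 i)) (Nat.ble 13 i)) (Nat.ble 9 i)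
def wAF : Nat → List Nat
  | 4 => []
  | 5 => [1, 1]
  | 6 => [5]
  | 7 => [5]
  | 8 => [6, 2, 6, 6, 2]
  | 9 => [8]
  | 10 => [1, 2, 7]
  | 11 => [10]
  | 12 => [9, 2]
  | 13 => [12]
  | 14 => [9, 7, 10, 12]
  | 15 => [14]
  | 16 => [12, 14]
  | 17 => [10, 10, 14, 16]
  | _ => []
def wBF : Nat → List Nat
  | 4 => [3]
  | 5 => [2, 1]
  | 6 => []
  | 7 => [4, 5]
  | 8 => [5, 5, 2, 5, 5]
  | 9 => []
  | 10 => [2, 1, 1]
  | 11 => []
  | 12 => [10, 9, 5]
  | 13 => []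
  | 14 => [7, 8]
  | 15 => []
  | 16 => [15, 11]
  | 17 => [16, 10, 10]
  | _ => []
noncomputable def ptF (j idx : Nat) : Nat := Nat.land (nodeTab (Nat.add (offTab j) idx)) 31
noncomputable def parF (j idx : Nat) : Nat := Nat.land (Nat.shiftRight (nodeTab (Nat.add (offTab j) idx)) 5) 31
noncomputable def giF (j idx : Nat) : Nat := Nat.land (Nat.shiftRight (nodeTab (Nat.add (offTab j) idx)) 10) 31
noncomputable def depF (j idx : Nat) : Nat := Nat.shiftRight (nodeTab (Nat.add (offTab j) idx)) 15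

noncomputable def S : Sgs :=
  { N := 28, k := 4, m := 18, tab := tabF, wA := wAF, wB := wBF, lev := levTab, r := 7, beta := betaTab,
    n := nTab, root := rootTab, pt := ptF, par := parF, gi := giF, dep := depF }

noncomputable def chk4 (p : Nat) : Bool := band (Nat.ble (Nat.succ (st4 p)) 28) (Nat.beq (st4 p) (col2 p))
theorem chk4_eq (p : Nat) : chk4 p = Sgs.permOK S 4 p := rfl
noncomputable def chk5 (p : Nat) : Bool := band (Nat.ble (Nat.succ (st5 p)) 28) (Nat.beq (col0 (col0 (st5 p))) (col3 (col0 p)))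
theorem chk5_eq (p : Nat) : chk5 p = Sgs.permOK S 5 p := rfl
noncomputable def chk6 (p : Nat) : Bool := band (Nat.ble (Nat.succ (st6 p)) 28) (Nat.beq (st5 (st6 p)) p)
theorem chk6_eq (p : Nat) : chk6 p = Sgs.permOK S 6 p := rfl
noncomputable def chk7 (p : Nat) : Bool := band (Nat.ble (Nat.succ (st7 p)) 28) (Nat.beq (st5 (st7 p)) (st4 (st5 p)))
theorem chk7_eq (p : Nat) : chk7 p = Sgs.permOK S 7 p := rfl
noncomputable def chk8 (p : Nat) : Bool := band (Nat.ble (Nat.succ (st8 p)) 28) (Nat.beq (st6 (col3 (st6 (st6 (col3 (st8 p)))))) (st5 (st5 (col3 (st5 (st5 p))))))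
theorem chk8_eq (p : Nat) : chk8 p = Sgs.permOK S 8 p := rfl
noncomputable def chk9 (p : Nat) : Bool := band (Nat.ble (Nat.succ (st9 p)) 28) (Nat.beq (st8 (st9 p)) p)
theorem chk9_eq (p : Nat) : chk9 p = Sgs.permOK S 9 p := rfl
noncomputable def chk10 (p : Nat) : Bool := band (Nat.ble (Nat.succ (st10 p)) 28) (Nat.beq (col0 (col3 (st7 (st10 p)))) (col3 (col0 (col0 p))))
theorem chk10_eq (p : Nat) : chk10 p = Sgs.permOK S 10 p := rfl
noncomputable def chk11 (p : Nat) : Bool := band (Nat.ble (Nat.succ (st11 p)) 28) (Nat.beq (st10 (st11 p)) p)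
theorem chk11_eq (p : Nat) : chk11 p = Sgs.permOK S 11 p := rfl
noncomputable def chk12 (p : Nat) : Bool := band (Nat.ble (Nat.succ (st12 p)) 28) (Nat.beq (st9 (col3 (st12 p))) (st10 (st9 (st5 p))))
theorem chk12_eq (p : Nat) : chk12 p = Sgs.permOK S 12 p := rfl
noncomputable def chk13 (p : Nat) : Bool := band (Nat.ble (Nat.succ (st13 p)) 28) (Nat.beq (st12 (st13 p)) p)
theorem chk13_eq (p : Nat) : chk13 p = Sgs.permOK S 13 p := rfl
noncomputable def chk14 (p : Nat) : Bool := band (Nat.ble (Nat.succ (st14 p)) 28) (Nat.beq (st9 (st7 (st10 (st12 (st14 p))))) (st7 (st8 p)))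
theorem chk14_eq (p : Nat) : chk14 p = Sgs.permOK S 14 p := rfl
noncomputable def chk15 (p : Nat) : Bool := band (Nat.ble (Nat.succ (st15 p)) 28) (Nat.beq (st14 (st15 p)) p)
theorem chk15_eq (p : Nat) : chk15 p = Sgs.permOK S 15 p := rfl
noncomputable def chk16 (p : Nat) : Bool := band (Nat.ble (Nat.succ (st16 p)) 28) (Nat.beq (st12 (st14 (st16 p))) (st15 (st11 p)))
theorem chk16_eq (p : Nat) : chk16 p = Sgs.permOK S 16 p := rfl
noncomputable def chk17 (p : Nat) : Bool := band (Nat.ble (Nat.succ (st17 p)) 28) (Nat.beq (st10 (st10 (st14 (st16 (st17 p))))) (st16 (st10 (st10 p))))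
theorem chk17_eq (p : Nat) : chk17 p = Sgs.permOK S 17 p := rfl

end Cfsg.Agent.Lib.Helper4.TCD.Sp62pL
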