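import Cfsg.Agent.Lib.Helper4.TC7
import Cfsg.Agent.Lib.Helper4.TC8
import Cfsg.Agent.Lib.Helper4.TCP_Sp62p
import Cfsg.Agent.Lib.Helper4.TCD_Sp62pU1_D0
import Cfsg.Agent.Lib.Helper4.TCD_Sp62pU1_D1
import Cfsg.Agent.Lib.Helper4.TCD_Sp62pU1_D2
import Cfsg.Agent.Lib.Helper4.TCD_Sp62pU1_D3
import Cfsg.Agent.Lib.Helper4.TCD_Sp62pU1_D4
import Cfsg.Agent.Lib.Helper4.TCD_Sp62pU1_D5
import Cfsg.Agent.Lib.Helper4.TCD_Sp62pU1_D6
import Cfsg.Agent.Lib.Helper4.TCD_Sp62pU1_D7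
import Cfsg.Agent.Lib.Helper4.TCD_Sp62pU1_D8
import Cfsg.Agent.Lib.Helper4.TCD_Sp62pU1_D9
import Cfsg.Agent.Lib.Helper4.TCD_Sp62pU1_D10
import Cfsg.Agent.Lib.Helper4.TCD_Sp62pU1_D11
import Cfsg.Agent.Lib.Helper4.TCD_Sp62pU1_D12
import Cfsg.Agent.Lib.Helper4.TCD_Sp62pU1_D13
import Cfsg.Agent.Lib.Helper4.TCD_Sp62pU1_D14
import Cfsg.Agent.Lib.Helper4.TCD_Sp62pU1_D15
import Cfsg.Agent.Lib.Helper4.TCD_Sp62pU1_D16
import Cfsg.Agent.Lib.Helper4.TCD_Sp62pU1_D17
import Cfsg.Agent.Lib.Helper4.TCD_Sp62pU1_D18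
import Cfsg.Agent.Lib.Helper4.TCD_Sp62pU1_D19
import Cfsg.Agent.Lib.Helper4.TCD_Sp62pU1_D20
import Cfsg.Agent.Lib.Helper4.TCD_Sp62pU1_D21
import Cfsg.Agent.Lib.Helper4.TCD_Sp62pU1_D22
import Cfsg.Agent.Lib.Helper4.TCD_Sp62pU1_D23
import Cfsg.Agent.Lib.Helper4.TCD_Sp62pU1_D24
import Cfsg.Agent.Lib.Helper4.TCD_Sp62pU1_D25
import Cfsg.Agent.Lib.Helper4.TCD_Sp62pU1_D26
import Cfsg.Agent.Lib.Helper4.TCD_Sp62pU1_D27
import Cfsg.Agent.Lib.Helper4.TCD_Sp62pU1_D28
import Cfsg.Agent.Lib.Helper4.TCD_Sp62pU1_D29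
import Cfsg.Agent.Lib.Helper4.TCD_Sp62pU1_D30
import Cfsg.Agent.Lib.Helper4.TCD_Sp62pU1_D31
import Cfsg.Agent.Lib.Helper4.TCD_Sp62pU1_D32
import Cfsg.Agent.Lib.Helper4.TCD_Sp62pU1_D33
import Cfsg.Agent.Lib.Helper4.TCD_Sp62pU1_D34
import Cfsg.Agent.Lib.Helper4.TCD_Sp62pU1_D35

namespace Cfsg.Agent.Lib.Helper4.TCD.Sp62pU1

open Cfsg.Agent.Lib.Helper4.TC

set_option maxRecDepth 100000

noncomputable def Atab_s_0_2 (c : Nat) : Nat := @Bool.rec (fun _ => Nat) (Atab_0) (Atab_1) (Nat.ble 1 c)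
noncomputable def Atab_s_3_5 (c : Nat) : Nat := @Bool.rec (fun _ => Nat) (Atab_3) (Atab_4) (Nat.ble 4 c)
noncomputable def Atab_s_2_5 (c : Nat) : Nat := @Bool.rec (fun _ => Nat) (Atab_2) (Atab_s_3_5 c) (Nat.ble 3 c)
noncomputable def Atab_s_0_5 (c : Nat) : Nat := @Bool.rec (fun _ => Nat) (Atab_s_0_2 c) (Atab_s_2_5 c) (Nat.ble 2 c)
noncomputable def Atab_s_5_7 (c : Nat) : Nat := @Bool.rec (fun _ => Nat) (Atab_5) (Atab_6) (Nat.ble 6 c)
noncomputable def Atab_s_8_10 (c : Nat) : Nat := @Bool.rec (fun _ => Nat) (Atab_8) (Atab_9) (Nat.ble 9 c)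
noncomputable def Atab_s_7_10 (c : Nat) : Nat := @Bool.rec (fun _ => Nat) (Atab_7) (Atab_s_8_10 c) (Nat.ble 8 c)
noncomputable def Atab_s_5_10 (c : Nat) : Nat := @Bool.rec (fun _ => Nat) (Atab_s_5_7 c) (Atab_s_7_10 c) (Nat.ble 7 c)
noncomputable def Atab_s_0_10 (c : Nat) : Nat := @Bool.rec (fun _ => Nat) (Atab_s_0_5 c) (Atab_s_5_10 c) (Nat.ble 5 c)
noncomputable def Atab_s_10_12 (c : Nat) : Nat := @Bool.rec (fun _ => Nat) (Atab_10) (Atab_11) (Nat.ble 11 c)
noncomputable def Atab_s_13_15 (c : Nat) : Nat := @Bool.rec (fun _ => Nat) (Atab_13) (Atab_14) (Nat.ble 14 c)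
noncomputable def Atab_s_12_15 (c : Nat) : Nat := @Bool.rec (fun _ => Nat) (Atab_12) (Atab_s_13_15 c) (Nat.ble 13 c)
noncomputable def Atab_s_10_15 (c : Nat) : Nat := @Bool.rec (fun _ => Nat) (Atab_s_10_12 c) (Atab_s_12_15 c) (Nat.ble 12 c)
noncomputable def Atab_s_16_18 (c : Nat) : Nat := @Bool.rec (fun _ => Nat) (Atab_16) (Atab_17) (Nat.ble 17 c)
noncomputable def Atab_s_15_18 (c : Nat) : Nat := @Bool.rec (fun _ => Nat) (Atab_15) (Atab_s_16_18 c) (Nat.ble 16 c)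
noncomputable def Atab_s_19_21 (c : Nat) : Nat := @Bool.rec (fun _ => Nat) (Atab_19) (Atab_20) (Nat.ble 20 c)
noncomputable def Atab_s_18_21 (c : Nat) : Nat := @Bool.rec (fun _ => Nat) (Atab_18) (Atab_s_19_21 c) (Nat.ble 19 c)
noncomputable def Atab_s_15_21 (c : Nat) : Nat := @Bool.rec (fun _ => Nat) (Atab_s_15_18 c) (Atab_s_18_21 c) (Nat.ble 18 c)
noncomputable def Atab_s_10_21 (c : Nat) : Nat := @Bool.rec (fun _ => Nat) (Atab_s_10_15 c) (Atab_s_15_21 c) (Nat.ble 15 c)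
noncomputable def Atab_s_0_21 (c : Nat) : Nat := @Bool.rec (fun _ => Nat) (Atab_s_0_10 c) (Atab_s_10_21 c) (Nat.ble 10 c)
noncomputable def Atab_s_21_23 (c : Nat) : Nat := @Bool.rec (fun _ => Nat) (Atab_21) (Atab_22) (Nat.ble 22 c)
noncomputable def Atab_s_24_26 (c : Nat) : Nat := @Bool.rec (fun _ => Nat) (Atab_24) (Atab_25) (Nat.ble 25 c)
noncomputable def Atab_s_23_26 (c : Nat) : Nat := @Bool.rec (fun _ => Nat) (Atab_23) (Atab_s_24_26 c) (Nat.ble 24 c)
noncomputable def Atab_s_21_26 (c : Nat) : Nat := @Bool.rec (fun _ => Nat) (Atab_s_21_23 c) (Atab_s_23_26 c) (Nat.ble 23 c)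
noncomputable def Atab_s_26_28 (c : Nat) : Nat := @Bool.rec (fun _ => Nat) (Atab_26) (Atab_27) (Nat.ble 27 c)
noncomputable def Atab_s_29_31 (c : Nat) : Nat := @Bool.rec (fun _ => Nat) (Atab_29) (Atab_30) (Nat.ble 30 c)
noncomputable def Atab_s_28_31 (c : Nat) : Nat := @Bool.rec (fun _ => Nat) (Atab_28) (Atab_s_29_31 c) (Nat.ble 29 c)
noncomputable def Atab_s_26_31 (c : Nat) : Nat := @Bool.rec (fun _ => Nat) (Atab_s_26_28 c) (Atab_s_28_31 c) (Nat.ble 28 c)
noncomputable def Atab_s_21_31 (c : Nat) : Nat := @Bool.rec (fun _ => Nat) (Atab_s_21_26 c) (Atab_s_26_31 c) (Nat.ble 26 c)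
noncomputable def Atab_s_31_33 (c : Nat) : Nat := @Bool.rec (fun _ => Nat) (Atab_31) (Atab_32) (Nat.ble 32 c)
noncomputable def Atab_s_34_36 (c : Nat) : Nat := @Bool.rec (fun _ => Nat) (Atab_34) (Atab_35) (Nat.ble 35 c)
noncomputable def Atab_s_33_36 (c : Nat) : Nat := @Bool.rec (fun _ => Nat) (Atab_33) (Atab_s_34_36 c) (Nat.ble 34 c)
noncomputable def Atab_s_31_36 (c : Nat) : Nat := @Bool.rec (fun _ => Nat) (Atab_s_31_33 c) (Atab_s_33_36 c) (Nat.ble 33 c)
noncomputable def Atab_s_37_39 (c : Nat) : Nat := @Bool.rec (fun _ => Nat) (Atab_37) (Atab_38) (Nat.ble 38 c)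
noncomputable def Atab_s_36_39 (c : Nat) : Nat := @Bool.rec (fun _ => Nat) (Atab_36) (Atab_s_37_39 c) (Nat.ble 37 c)
noncomputable def Atab_s_40_42 (c : Nat) : Nat := @Bool.rec (fun _ => Nat) (Atab_40) (Atab_41) (Nat.ble 41 c)
noncomputable def Atab_s_39_42 (c : Nat) : Nat := @Bool.rec (fun _ => Nat) (Atab_39) (Atab_s_40_42 c) (Nat.ble 40 c)
noncomputable def Atab_s_36_42 (c : Nat) : Nat := @Bool.rec (fun _ => Nat) (Atab_s_36_39 c) (Atab_s_39_42 c) (Nat.ble 39 c)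
noncomputable def Atab_s_31_42 (c : Nat) : Nat := @Bool.rec (fun _ => Nat) (Atab_s_31_36 c) (Atab_s_36_42 c) (Nat.ble 36 c)
noncomputable def Atab_s_21_42 (c : Nat) : Nat := @Bool.rec (fun _ => Nat) (Atab_s_21_31 c) (Atab_s_31_42 c) (Nat.ble 31 c)
noncomputable def Atab_s_0_42 (c : Nat) : Nat := @Bool.rec (fun _ => Nat) (Atab_s_0_21 c) (Atab_s_21_42 c) (Nat.ble 21 c)
noncomputable def Atab_s_42_44 (c : Nat) : Nat := @Bool.rec (fun _ => Nat) (Atab_42) (Atab_43) (Nat.ble 43 c)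
noncomputable def Atab_s_45_47 (c : Nat) : Nat := @Bool.rec (fun _ => Nat) (Atab_45) (Atab_46) (Nat.ble 46 c)
noncomputable def Atab_s_44_47 (c : Nat) : Nat := @Bool.rec (fun _ => Nat) (Atab_44) (Atab_s_45_47 c) (Nat.ble 45 c)
noncomputable def Atab_s_42_47 (c : Nat) : Nat := @Bool.rec (fun _ => Nat) (Atab_s_42_44 c) (Atab_s_44_47 c) (Nat.ble 44 c)
noncomputable def Atab_s_47_49 (c : Nat) : Nat := @Bool.rec (fun _ => Nat) (Atab_47) (Atab_48) (Nat.ble 48 c)
noncomputable def Atab_s_50_52 (c : Nat) : Nat := @Bool.rec (fun _ => Nat) (Atab_50) (Atab_51) (Nat.ble 51 c)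
noncomputable def Atab_s_49_52 (c : Nat) : Nat := @Bool.rec (fun _ => Nat) (Atab_49) (Atab_s_50_52 c) (Nat.ble 50 c)
noncomputable def Atab_s_47_52 (c : Nat) : Nat := @Bool.rec (fun _ => Nat) (Atab_s_47_49 c) (Atab_s_49_52 c) (Nat.ble 49 c)
noncomputable def Atab_s_42_52 (c : Nat) : Nat := @Bool.rec (fun _ => Nat) (Atab_s_42_47 c) (Atab_s_47_52 c) (Nat.ble 47 c)
noncomputable def Atab_s_52_54 (c : Nat) : Nat := @Bool.rec (fun _ => Nat) (Atab_52) (Atab_53) (Nat.ble 53 c)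
noncomputable def Atab_s_55_57 (c : Nat) : Nat := @Bool.rec (fun _ => Nat) (Atab_55) (Atab_56) (Nat.ble 56 c)
noncomputable def Atab_s_54_57 (c : Nat) : Nat := @Bool.rec (fun _ => Nat) (Atab_54) (Atab_s_55_57 c) (Nat.ble 55 c)
noncomputable def Atab_s_52_57 (c : Nat) : Nat := @Bool.rec (fun _ => Nat) (Atab_s_52_54 c) (Atab_s_54_57 c) (Nat.ble 54 c)
noncomputable def Atab_s_58_60 (c : Nat) : Nat := @Bool.rec (fun _ => Nat) (Atab_58) (Atab_59) (Nat.ble 59 c)
noncomputable def Atab_s_57_60 (c : Nat) : Nat := @Bool.rec (fun _ => Nat) (Atab_57) (Atab_s_58_60 c) (Nat.ble 58 c)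
noncomputable def Atab_s_61_63 (c : Nat) : Nat := @Bool.rec (fun _ => Nat) (Atab_61) (Atab_62) (Nat.ble 62 c)
noncomputable def Atab_s_60_63 (c : Nat) : Nat := @Bool.rec (fun _ => Nat) (Atab_60) (Atab_s_61_63 c) (Nat.ble 61 c)
noncomputable def Atab_s_57_63 (c : Nat) : Nat := @Bool.rec (fun _ => Nat) (Atab_s_57_60 c) (Atab_s_60_63 c) (Nat.ble 60 c)
noncomputable def Atab_s_52_63 (c : Nat) : Nat := @Bool.rec (fun _ => Nat) (Atab_s_52_57 c) (Atab_s_57_63 c) (Nat.ble 57 c)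
noncomputable def Atab_s_42_63 (c : Nat) : Nat := @Bool.rec (fun _ => Nat) (Atab_s_42_52 c) (Atab_s_52_63 c) (Nat.ble 52 c)
noncomputable def Atab_s_63_65 (c : Nat) : Nat := @Bool.rec (fun _ => Nat) (Atab_63) (Atab_64) (Nat.ble 64 c)
noncomputable def Atab_s_66_68 (c : Nat) : Nat := @Bool.rec (fun _ => Nat) (Atab_66) (Atab_67) (Nat.ble 67 c)
noncomputable def Atab_s_65_68 (c : Nat) : Nat := @Bool.rec (fun _ => Nat) (Atab_65) (Atab_s_66_68 c) (Nat.ble 66 c)
noncomputable def Atab_s_63_68 (c : Nat) : Nat := @Bool.rec (fun _ => Nat) (Atab_s_63_65 c) (Atab_s_65_68 c) (Nat.ble 65 c)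
noncomputable def Atab_s_68_70 (c : Nat) : Nat := @Bool.rec (fun _ => Nat) (Atab_68) (Atab_69) (Nat.ble 69 c)
noncomputable def Atab_s_71_73 (c : Nat) : Nat := @Bool.rec (fun _ => Nat) (Atab_71) (Atab_72) (Nat.ble 72 c)
noncomputable def Atab_s_70_73 (c : Nat) : Nat := @Bool.rec (fun _ => Nat) (Atab_70) (Atab_s_71_73 c) (Nat.ble 71 c)
noncomputable def Atab_s_68_73 (c : Nat) : Nat := @Bool.rec (fun _ => Nat) (Atab_s_68_70 c) (Atab_s_70_73 c) (Nat.ble 70 c)
noncomputable def Atab_s_63_73 (c : Nat) : Nat := @Bool.rec (fun _ => Nat) (Atab_s_63_68 c) (Atab_s_68_73 c) (Nat.ble 68 c)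
noncomputable def Atab_s_73_75 (c : Nat) : Nat := @Bool.rec (fun _ => Nat) (Atab_73) (Atab_74) (Nat.ble 74 c)
noncomputable def Atab_s_76_78 (c : Nat) : Nat := @Bool.rec (fun _ => Nat) (Atab_76) (Atab_77) (Nat.ble 77 c)
noncomputable def Atab_s_75_78 (c : Nat) : Nat := @Bool.rec (fun _ => Nat) (Atab_75) (Atab_s_76_78 c) (Nat.ble 76 c)
noncomputable def Atab_s_73_78 (c : Nat) : Nat := @Bool.rec (fun _ => Nat) (Atab_s_73_75 c) (Atab_s_75_78 c) (Nat.ble 75 c)
noncomputable def Atab_s_79_81 (c : Nat) : Nat := @Bool.rec (fun _ => Nat) (Atab_79) (Atab_80) (Nat.ble 80 c)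
noncomputable def Atab_s_78_81 (c : Nat) : Nat := @Bool.rec (fun _ => Nat) (Atab_78) (Atab_s_79_81 c) (Nat.ble 79 c)
noncomputable def Atab_s_82_84 (c : Nat) : Nat := @Bool.rec (fun _ => Nat) (Atab_82) (Atab_83) (Nat.ble 83 c)
noncomputable def Atab_s_81_84 (c : Nat) : Nat := @Bool.rec (fun _ => Nat) (Atab_81) (Atab_s_82_84 c) (Nat.ble 82 c)
noncomputable def Atab_s_78_84 (c : Nat) : Nat := @Bool.rec (fun _ => Nat) (Atab_s_78_81 c) (Atab_s_81_84 c) (Nat.ble 81 c)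
noncomputable def Atab_s_73_84 (c : Nat) : Nat := @Bool.rec (fun _ => Nat) (Atab_s_73_78 c) (Atab_s_78_84 c) (Nat.ble 78 c)
noncomputable def Atab_s_63_84 (c : Nat) : Nat := @Bool.rec (fun _ => Nat) (Atab_s_63_73 c) (Atab_s_73_84 c) (Nat.ble 73 c)
noncomputable def Atab_s_42_84 (c : Nat) : Nat := @Bool.rec (fun _ => Nat) (Atab_s_42_63 c) (Atab_s_63_84 c) (Nat.ble 63 c)
noncomputable def Atab_s_0_84 (c : Nat) : Nat := @Bool.rec (fun _ => Nat) (Atab_s_0_42 c) (Atab_s_42_84 c) (Nat.ble 42 c)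
noncomputable def Atab_s_84_86 (c : Nat) : Nat := @Bool.rec (fun _ => Nat) (Atab_84) (Atab_85) (Nat.ble 85 c)
noncomputable def Atab_s_87_89 (c : Nat) : Nat := @Bool.rec (fun _ => Nat) (Atab_87) (Atab_88) (Nat.ble 88 c)
noncomputable def Atab_s_86_89 (c : Nat) : Nat := @Bool.rec (fun _ => Nat) (Atab_86) (Atab_s_87_89 c) (Nat.ble 87 c)
noncomputable def Atab_s_84_89 (c : Nat) : Nat := @Bool.rec (fun _ => Nat) (Atab_s_84_86 c) (Atab_s_86_89 c) (Nat.ble 86 c)
noncomputable def Atab_s_89_91 (c : Nat) : Nat := @Bool.rec (fun _ => Nat) (Atab_89) (Atab_90) (Nat.ble 90 c)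
noncomputable def Atab_s_92_94 (c : Nat) : Nat := @Bool.rec (fun _ => Nat) (Atab_92) (Atab_93) (Nat.ble 93 c)
noncomputable def Atab_s_91_94 (c : Nat) : Nat := @Bool.rec (fun _ => Nat) (Atab_91) (Atab_s_92_94 c) (Nat.ble 92 c)
noncomputable def Atab_s_89_94 (c : Nat) : Nat := @Bool.rec (fun _ => Nat) (Atab_s_89_91 c) (Atab_s_91_94 c) (Nat.ble 91 c)
noncomputable def Atab_s_84_94 (c : Nat) : Nat := @Bool.rec (fun _ => Nat) (Atab_s_84_89 c) (Atab_s_89_94 c) (Nat.ble 89 c)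
noncomputable def Atab_s_94_96 (c : Nat) : Nat := @Bool.rec (fun _ => Nat) (Atab_94) (Atab_95) (Nat.ble 95 c)
noncomputable def Atab_s_97_99 (c : Nat) : Nat := @Bool.rec (fun _ => Nat) (Atab_97) (Atab_98) (Nat.ble 98 c)
noncomputable def Atab_s_96_99 (c : Nat) : Nat := @Bool.rec (fun _ => Nat) (Atab_96) (Atab_s_97_99 c) (Nat.ble 97 c)
noncomputable def Atab_s_94_99 (c : Nat) : Nat := @Bool.rec (fun _ => Nat) (Atab_s_94_96 c) (Atab_s_96_99 c) (Nat.ble 96 c)
noncomputable def Atab_s_100_102 (c : Nat) : Nat := @Bool.rec (fun _ => Nat) (Atab_100) (Atab_101) (Nat.ble 101 c)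
noncomputable def Atab_s_99_102 (c : Nat) : Nat := @Bool.rec (fun _ => Nat) (Atab_99) (Atab_s_100_102 c) (Nat.ble 100 c)
noncomputable def Atab_s_103_105 (c : Nat) : Nat := @Bool.rec (fun _ => Nat) (Atab_103) (Atab_104) (Nat.ble 104 c)
noncomputable def Atab_s_102_105 (c : Nat) : Nat := @Bool.rec (fun _ => Nat) (Atab_102) (Atab_s_103_105 c) (Nat.ble 103 c)
noncomputable def Atab_s_99_105 (c : Nat) : Nat := @Bool.rec (fun _ => Nat) (Atab_s_99_102 c) (Atab_s_102_105 c) (Nat.ble 102 c)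
noncomputable def Atab_s_94_105 (c : Nat) : Nat := @Bool.rec (fun _ => Nat) (Atab_s_94_99 c) (Atab_s_99_105 c) (Nat.ble 99 c)
noncomputable def Atab_s_84_105 (c : Nat) : Nat := @Bool.rec (fun _ => Nat) (Atab_s_84_94 c) (Atab_s_94_105 c) (Nat.ble 94 c)
noncomputable def Atab_s_105_107 (c : Nat) : Nat := @Bool.rec (fun _ => Nat) (Atab_105) (Atab_106) (Nat.ble 106 c)
noncomputable def Atab_s_108_110 (c : Nat) : Nat := @Bool.rec (fun _ => Nat) (Atab_108) (Atab_109) (Nat.ble 109 c)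
noncomputable def Atab_s_107_110 (c : Nat) : Nat := @Bool.rec (fun _ => Nat) (Atab_107) (Atab_s_108_110 c) (Nat.ble 108 c)
noncomputable def Atab_s_105_110 (c : Nat) : Nat := @Bool.rec (fun _ => Nat) (Atab_s_105_107 c) (Atab_s_107_110 c) (Nat.ble 107 c)
noncomputable def Atab_s_110_112 (c : Nat) : Nat := @Bool.rec (fun _ => Nat) (Atab_110) (Atab_111) (Nat.ble 111 c)
noncomputable def Atab_s_113_115 (c : Nat) : Nat := @Bool.rec (fun _ => Nat) (Atab_113) (Atab_114) (Nat.ble 114 c)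
noncomputable def Atab_s_112_115 (c : Nat) : Nat := @Bool.rec (fun _ => Nat) (Atab_112) (Atab_s_113_115 c) (Nat.ble 113 c)
noncomputable def Atab_s_110_115 (c : Nat) : Nat := @Bool.rec (fun _ => Nat) (Atab_s_110_112 c) (Atab_s_112_115 c) (Nat.ble 112 c)
noncomputable def Atab_s_105_115 (c : Nat) : Nat := @Bool.rec (fun _ => Nat) (Atab_s_105_110 c) (Atab_s_110_115 c) (Nat.ble 110 c)
noncomputable def Atab_s_115_117 (c : Nat) : Nat := @Bool.rec (fun _ => Nat) (Atab_115) (Atab_116) (Nat.ble 116 c)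
noncomputable def Atab_s_118_120 (c : Nat) : Nat := @Bool.rec (fun _ => Nat) (Atab_118) (Atab_119) (Nat.ble 119 c)
noncomputable def Atab_s_117_120 (c : Nat) : Nat := @Bool.rec (fun _ => Nat) (Atab_117) (Atab_s_118_120 c) (Nat.ble 118 c)
noncomputable def Atab_s_115_120 (c : Nat) : Nat := @Bool.rec (fun _ => Nat) (Atab_s_115_117 c) (Atab_s_117_120 c) (Nat.ble 117 c)
noncomputable def Atab_s_121_123 (c : Nat) : Nat := @Bool.rec (fun _ => Nat) (Atab_121) (Atab_122) (Nat.ble 122 c)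
noncomputable def Atab_s_120_123 (c : Nat) : Nat := @Bool.rec (fun _ => Nat) (Atab_120) (Atab_s_121_123 c) (Nat.ble 121 c)
noncomputable def Atab_s_124_126 (c : Nat) : Nat := @Bool.rec (fun _ => Nat) (Atab_124) (Atab_125) (Nat.ble 125 c)
noncomputable def Atab_s_123_126 (c : Nat) : Nat := @Bool.rec (fun _ => Nat) (Atab_123) (Atab_s_124_126 c) (Nat.ble 124 c)
noncomputable def Atab_s_120_126 (c : Nat) : Nat := @Bool.rec (fun _ => Nat) (Atab_s_120_123 c) (Atab_s_123_126 c) (Nat.ble 123 c)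
noncomputable def Atab_s_115_126 (c : Nat) : Nat := @Bool.rec (fun _ => Nat) (Atab_s_115_120 c) (Atab_s_120_126 c) (Nat.ble 120 c)
noncomputable def Atab_s_105_126 (c : Nat) : Nat := @Bool.rec (fun _ => Nat) (Atab_s_105_115 c) (Atab_s_115_126 c) (Nat.ble 115 c)
noncomputable def Atab_s_84_126 (c : Nat) : Nat := @Bool.rec (fun _ => Nat) (Atab_s_84_105 c) (Atab_s_105_126 c) (Nat.ble 105 c)
noncomputable def Atab_s_126_128 (c : Nat) : Nat := @Bool.rec (fun _ => Nat) (Atab_126) (Atab_127) (Nat.ble 127 c)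
noncomputable def Atab_s_129_131 (c : Nat) : Nat := @Bool.rec (fun _ => Nat) (Atab_129) (Atab_130) (Nat.ble 130 c)
noncomputable def Atab_s_128_131 (c : Nat) : Nat := @Bool.rec (fun _ => Nat) (Atab_128) (Atab_s_129_131 c) (Nat.ble 129 c)
noncomputable def Atab_s_126_131 (c : Nat) : Nat := @Bool.rec (fun _ => Nat) (Atab_s_126_128 c) (Atab_s_128_131 c) (Nat.ble 128 c)
noncomputable def Atab_s_131_133 (c : Nat) : Nat := @Bool.rec (fun _ => Nat) (Atab_131) (Atab_132) (Nat.ble 132 c)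
noncomputable def Atab_s_134_136 (c : Nat) : Nat := @Bool.rec (fun _ => Nat) (Atab_134) (Atab_135) (Nat.ble 135 c)
noncomputable def Atab_s_133_136 (c : Nat) : Nat := @Bool.rec (fun _ => Nat) (Atab_133) (Atab_s_134_136 c) (Nat.ble 134 c)
noncomputable def Atab_s_131_136 (c : Nat) : Nat := @Bool.rec (fun _ => Nat) (Atab_s_131_133 c) (Atab_s_133_136 c) (Nat.ble 133 c)
noncomputable def Atab_s_126_136 (c : Nat) : Nat := @Bool.rec (fun _ => Nat) (Atab_s_126_131 c) (Atab_s_131_136 c) (Nat.ble 131 c)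
noncomputable def Atab_s_136_138 (c : Nat) : Nat := @Bool.rec (fun _ => Nat) (Atab_136) (Atab_137) (Nat.ble 137 c)
noncomputable def Atab_s_139_141 (c : Nat) : Nat := @Bool.rec (fun _ => Nat) (Atab_139) (Atab_140) (Nat.ble 140 c)
noncomputable def Atab_s_138_141 (c : Nat) : Nat := @Bool.rec (fun _ => Nat) (Atab_138) (Atab_s_139_141 c) (Nat.ble 139 c)
noncomputable def Atab_s_136_141 (c : Nat) : Nat := @Bool.rec (fun _ => Nat) (Atab_s_136_138 c) (Atab_s_138_141 c) (Nat.ble 138 c)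
noncomputable def Atab_s_142_144 (c : Nat) : Nat := @Bool.rec (fun _ => Nat) (Atab_142) (Atab_143) (Nat.ble 143 c)
noncomputable def Atab_s_141_144 (c : Nat) : Nat := @Bool.rec (fun _ => Nat) (Atab_141) (Atab_s_142_144 c) (Nat.ble 142 c)
noncomputable def Atab_s_145_147 (c : Nat) : Nat := @Bool.rec (fun _ => Nat) (Atab_145) (Atab_146) (Nat.ble 146 c)
noncomputable def Atab_s_144_147 (c : Nat) : Nat := @Bool.rec (fun _ => Nat) (Atab_144) (Atab_s_145_147 c) (Nat.ble 145 c)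
noncomputable def Atab_s_141_147 (c : Nat) : Nat := @Bool.rec (fun _ => Nat) (Atab_s_141_144 c) (Atab_s_144_147 c) (Nat.ble 144 c)
noncomputable def Atab_s_136_147 (c : Nat) : Nat := @Bool.rec (fun _ => Nat) (Atab_s_136_141 c) (Atab_s_141_147 c) (Nat.ble 141 c)
noncomputable def Atab_s_126_147 (c : Nat) : Nat := @Bool.rec (fun _ => Nat) (Atab_s_126_136 c) (Atab_s_136_147 c) (Nat.ble 136 c)
noncomputable def Atab_s_147_149 (c : Nat) : Nat := @Bool.rec (fun _ => Nat) (Atab_147) (Atab_148) (Nat.ble 148 c)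
noncomputable def Atab_s_150_152 (c : Nat) : Nat := @Bool.rec (fun _ => Nat) (Atab_150) (Atab_151) (Nat.ble 151 c)
noncomputable def Atab_s_149_152 (c : Nat) : Nat := @Bool.rec (fun _ => Nat) (Atab_149) (Atab_s_150_152 c) (Nat.ble 150 c)
noncomputable def Atab_s_147_152 (c : Nat) : Nat := @Bool.rec (fun _ => Nat) (Atab_s_147_149 c) (Atab_s_149_152 c) (Nat.ble 149 c)
noncomputable def Atab_s_153_155 (c : Nat) : Nat := @Bool.rec (fun _ => Nat) (Atab_153) (Atab_154) (Nat.ble 154 c)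
noncomputable def Atab_s_152_155 (c : Nat) : Nat := @Bool.rec (fun _ => Nat) (Atab_152) (Atab_s_153_155 c) (Nat.ble 153 c)
noncomputable def Atab_s_156_158 (c : Nat) : Nat := @Bool.rec (fun _ => Nat) (Atab_156) (Atab_157) (Nat.ble 157 c)
noncomputable def Atab_s_155_158 (c : Nat) : Nat := @Bool.rec (fun _ => Nat) (Atab_155) (Atab_s_156_158 c) (Nat.ble 156 c)
noncomputable def Atab_s_152_158 (c : Nat) : Nat := @Bool.rec (fun _ => Nat) (Atab_s_152_155 c) (Atab_s_155_158 c) (Nat.ble 155 c)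
noncomputable def Atab_s_147_158 (c : Nat) : Nat := @Bool.rec (fun _ => Nat) (Atab_s_147_152 c) (Atab_s_152_158 c) (Nat.ble 152 c)
noncomputable def Atab_s_158_160 (c : Nat) : Nat := @Bool.rec (fun _ => Nat) (Atab_158) (Atab_159) (Nat.ble 159 c)
noncomputable def Atab_s_161_163 (c : Nat) : Nat := @Bool.rec (fun _ => Nat) (Atab_161) (Atab_162) (Nat.ble 162 c)
noncomputable def Atab_s_160_163 (c : Nat) : Nat := @Bool.rec (fun _ => Nat) (Atab_160) (Atab_s_161_163 c) (Nat.ble 161 c)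
noncomputable def Atab_s_158_163 (c : Nat) : Nat := @Bool.rec (fun _ => Nat) (Atab_s_158_160 c) (Atab_s_160_163 c) (Nat.ble 160 c)
noncomputable def Atab_s_164_166 (c : Nat) : Nat := @Bool.rec (fun _ => Nat) (Atab_164) (Atab_165) (Nat.ble 165 c)
noncomputable def Atab_s_163_166 (c : Nat) : Nat := @Bool.rec (fun _ => Nat) (Atab_163) (Atab_s_164_166 c) (Nat.ble 164 c)
noncomputable def Atab_s_167_169 (c : Nat) : Nat := @Bool.rec (fun _ => Nat) (Atab_167) (Atab_168) (Nat.ble 168 c)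
noncomputable def Atab_s_166_169 (c : Nat) : Nat := @Bool.rec (fun _ => Nat) (Atab_166) (Atab_s_167_169 c) (Nat.ble 167 c)
noncomputable def Atab_s_163_169 (c : Nat) : Nat := @Bool.rec (fun _ => Nat) (Atab_s_163_166 c) (Atab_s_166_169 c) (Nat.ble 166 c)
noncomputable def Atab_s_158_169 (c : Nat) : Nat := @Bool.rec (fun _ => Nat) (Atab_s_158_163 c) (Atab_s_163_169 c) (Nat.ble 163 c)
noncomputable def Atab_s_147_169 (c : Nat) : Nat := @Bool.rec (fun _ => Nat) (Atab_s_147_158 c) (Atab_s_158_169 c) (Nat.ble 158 c)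
noncomputable def Atab_s_126_169 (c : Nat) : Nat := @Bool.rec (fun _ => Nat) (Atab_s_126_147 c) (Atab_s_147_169 c) (Nat.ble 147 c)
noncomputable def Atab_s_84_169 (c : Nat) : Nat := @Bool.rec (fun _ => Nat) (Atab_s_84_126 c) (Atab_s_126_169 c) (Nat.ble 126 c)
noncomputable def Atab_s_0_169 (c : Nat) : Nat := @Bool.rec (fun _ => Nat) (Atab_s_0_84 c) (Atab_s_84_169 c) (Nat.ble 84 c)
noncomputable def Atab_s_169_171 (c : Nat) : Nat := @Bool.rec (fun _ => Nat) (Atab_169) (Atab_170) (Nat.ble 170 c)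
noncomputable def Atab_s_172_174 (c : Nat) : Nat := @Bool.rec (fun _ => Nat) (Atab_172) (Atab_173) (Nat.ble 173 c)
noncomputable def Atab_s_171_174 (c : Nat) : Nat := @Bool.rec (fun _ => Nat) (Atab_171) (Atab_s_172_174 c) (Nat.ble 172 c)
noncomputable def Atab_s_169_174 (c : Nat) : Nat := @Bool.rec (fun _ => Nat) (Atab_s_169_171 c) (Atab_s_171_174 c) (Nat.ble 171 c)
noncomputable def Atab_s_174_176 (c : Nat) : Nat := @Bool.rec (fun _ => Nat) (Atab_174) (Atab_175) (Nat.ble 175 c)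
noncomputable def Atab_s_177_179 (c : Nat) : Nat := @Bool.rec (fun _ => Nat) (Atab_177) (Atab_178) (Nat.ble 178 c)
noncomputable def Atab_s_176_179 (c : Nat) : Nat := @Bool.rec (fun _ => Nat) (Atab_176) (Atab_s_177_179 c) (Nat.ble 177 c)
noncomputable def Atab_s_174_179 (c : Nat) : Nat := @Bool.rec (fun _ => Nat) (Atab_s_174_176 c) (Atab_s_176_179 c) (Nat.ble 176 c)
noncomputable def Atab_s_169_179 (c : Nat) : Nat := @Bool.rec (fun _ => Nat) (Atab_s_169_174 c) (Atab_s_174_179 c) (Nat.ble 174 c)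
noncomputable def Atab_s_179_181 (c : Nat) : Nat := @Bool.rec (fun _ => Nat) (Atab_179) (Atab_180) (Nat.ble 180 c)
noncomputable def Atab_s_182_184 (c : Nat) : Nat := @Bool.rec (fun _ => Nat) (Atab_182) (Atab_183) (Nat.ble 183 c)
noncomputable def Atab_s_181_184 (c : Nat) : Nat := @Bool.rec (fun _ => Nat) (Atab_181) (Atab_s_182_184 c) (Nat.ble 182 c)
noncomputable def Atab_s_179_184 (c : Nat) : Nat := @Bool.rec (fun _ => Nat) (Atab_s_179_181 c) (Atab_s_181_184 c) (Nat.ble 181 c)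
noncomputable def Atab_s_185_187 (c : Nat) : Nat := @Bool.rec (fun _ => Nat) (Atab_185) (Atab_186) (Nat.ble 186 c)
noncomputable def Atab_s_184_187 (c : Nat) : Nat := @Bool.rec (fun _ => Nat) (Atab_184) (Atab_s_185_187 c) (Nat.ble 185 c)
noncomputable def Atab_s_188_190 (c : Nat) : Nat := @Bool.rec (fun _ => Nat) (Atab_188) (Atab_189) (Nat.ble 189 c)
noncomputable def Atab_s_187_190 (c : Nat) : Nat := @Bool.rec (fun _ => Nat) (Atab_187) (Atab_s_188_190 c) (Nat.ble 188 c)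
noncomputable def Atab_s_184_190 (c : Nat) : Nat := @Bool.rec (fun _ => Nat) (Atab_s_184_187 c) (Atab_s_187_190 c) (Nat.ble 187 c)
noncomputable def Atab_s_179_190 (c : Nat) : Nat := @Bool.rec (fun _ => Nat) (Atab_s_179_184 c) (Atab_s_184_190 c) (Nat.ble 184 c)
noncomputable def Atab_s_169_190 (c : Nat) : Nat := @Bool.rec (fun _ => Nat) (Atab_s_169_179 c) (Atab_s_179_190 c) (Nat.ble 179 c)
noncomputable def Atab_s_190_192 (c : Nat) : Nat := @Bool.rec (fun _ => Nat) (Atab_190) (Atab_191) (Nat.ble 191 c)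
noncomputable def Atab_s_193_195 (c : Nat) : Nat := @Bool.rec (fun _ => Nat) (Atab_193) (Atab_194) (Nat.ble 194 c)
noncomputable def Atab_s_192_195 (c : Nat) : Nat := @Bool.rec (fun _ => Nat) (Atab_192) (Atab_s_193_195 c) (Nat.ble 193 c)
noncomputable def Atab_s_190_195 (c : Nat) : Nat := @Bool.rec (fun _ => Nat) (Atab_s_190_192 c) (Atab_s_192_195 c) (Nat.ble 192 c)
noncomputable def Atab_s_195_197 (c : Nat) : Nat := @Bool.rec (fun _ => Nat) (Atab_195) (Atab_196) (Nat.ble 196 c)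
noncomputable def Atab_s_198_200 (c : Nat) : Nat := @Bool.rec (fun _ => Nat) (Atab_198) (Atab_199) (Nat.ble 199 c)
noncomputable def Atab_s_197_200 (c : Nat) : Nat := @Bool.rec (fun _ => Nat) (Atab_197) (Atab_s_198_200 c) (Nat.ble 198 c)
noncomputable def Atab_s_195_200 (c : Nat) : Nat := @Bool.rec (fun _ => Nat) (Atab_s_195_197 c) (Atab_s_197_200 c) (Nat.ble 197 c)
noncomputable def Atab_s_190_200 (c : Nat) : Nat := @Bool.rec (fun _ => Nat) (Atab_s_190_195 c) (Atab_s_195_200 c) (Nat.ble 195 c)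
noncomputable def Atab_s_200_202 (c : Nat) : Nat := @Bool.rec (fun _ => Nat) (Atab_200) (Atab_201) (Nat.ble 201 c)
noncomputable def Atab_s_203_205 (c : Nat) : Nat := @Bool.rec (fun _ => Nat) (Atab_203) (Atab_204) (Nat.ble 204 c)
noncomputable def Atab_s_202_205 (c : Nat) : Nat := @Bool.rec (fun _ => Nat) (Atab_202) (Atab_s_203_205 c) (Nat.ble 203 c)
noncomputable def Atab_s_200_205 (c : Nat) : Nat := @Bool.rec (fun _ => Nat) (Atab_s_200_202 c) (Atab_s_202_205 c) (Nat.ble 202 c)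
noncomputable def Atab_s_206_208 (c : Nat) : Nat := @Bool.rec (fun _ => Nat) (Atab_206) (Atab_207) (Nat.ble 207 c)
noncomputable def Atab_s_205_208 (c : Nat) : Nat := @Bool.rec (fun _ => Nat) (Atab_205) (Atab_s_206_208 c) (Nat.ble 206 c)
noncomputable def Atab_s_209_211 (c : Nat) : Nat := @Bool.rec (fun _ => Nat) (Atab_209) (Atab_210) (Nat.ble 210 c)
noncomputable def Atab_s_208_211 (c : Nat) : Nat := @Bool.rec (fun _ => Nat) (Atab_208) (Atab_s_209_211 c) (Nat.ble 209 c)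
noncomputable def Atab_s_205_211 (c : Nat) : Nat := @Bool.rec (fun _ => Nat) (Atab_s_205_208 c) (Atab_s_208_211 c) (Nat.ble 208 c)
noncomputable def Atab_s_200_211 (c : Nat) : Nat := @Bool.rec (fun _ => Nat) (Atab_s_200_205 c) (Atab_s_205_211 c) (Nat.ble 205 c)
noncomputable def Atab_s_190_211 (c : Nat) : Nat := @Bool.rec (fun _ => Nat) (Atab_s_190_200 c) (Atab_s_200_211 c) (Nat.ble 200 c)
noncomputable def Atab_s_169_211 (c : Nat) : Nat := @Bool.rec (fun _ => Nat) (Atab_s_169_190 c) (Atab_s_190_211 c) (Nat.ble 190 c)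
noncomputable def Atab_s_211_213 (c : Nat) : Nat := @Bool.rec (fun _ => Nat) (Atab_211) (Atab_212) (Nat.ble 212 c)
noncomputable def Atab_s_214_216 (c : Nat) : Nat := @Bool.rec (fun _ => Nat) (Atab_214) (Atab_215) (Nat.ble 215 c)
noncomputable def Atab_s_213_216 (c : Nat) : Nat := @Bool.rec (fun _ => Nat) (Atab_213) (Atab_s_214_216 c) (Nat.ble 214 c)
noncomputable def Atab_s_211_216 (c : Nat) : Nat := @Bool.rec (fun _ => Nat) (Atab_s_211_213 c) (Atab_s_213_216 c) (Nat.ble 213 c)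
noncomputable def Atab_s_216_218 (c : Nat) : Nat := @Bool.rec (fun _ => Nat) (Atab_216) (Atab_217) (Nat.ble 217 c)
noncomputable def Atab_s_219_221 (c : Nat) : Nat := @Bool.rec (fun _ => Nat) (Atab_219) (Atab_220) (Nat.ble 220 c)
noncomputable def Atab_s_218_221 (c : Nat) : Nat := @Bool.rec (fun _ => Nat) (Atab_218) (Atab_s_219_221 c) (Nat.ble 219 c)
noncomputable def Atab_s_216_221 (c : Nat) : Nat := @Bool.rec (fun _ => Nat) (Atab_s_216_218 c) (Atab_s_218_221 c) (Nat.ble 218 c)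
noncomputable def Atab_s_211_221 (c : Nat) : Nat := @Bool.rec (fun _ => Nat) (Atab_s_211_216 c) (Atab_s_216_221 c) (Nat.ble 216 c)
noncomputable def Atab_s_221_223 (c : Nat) : Nat := @Bool.rec (fun _ => Nat) (Atab_221) (Atab_222) (Nat.ble 222 c)
noncomputable def Atab_s_224_226 (c : Nat) : Nat := @Bool.rec (fun _ => Nat) (Atab_224) (Atab_225) (Nat.ble 225 c)
noncomputable def Atab_s_223_226 (c : Nat) : Nat := @Bool.rec (fun _ => Nat) (Atab_223) (Atab_s_224_226 c) (Nat.ble 224 c)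
noncomputable def Atab_s_221_226 (c : Nat) : Nat := @Bool.rec (fun _ => Nat) (Atab_s_221_223 c) (Atab_s_223_226 c) (Nat.ble 223 c)
noncomputable def Atab_s_227_229 (c : Nat) : Nat := @Bool.rec (fun _ => Nat) (Atab_227) (Atab_228) (Nat.ble 228 c)
noncomputable def Atab_s_226_229 (c : Nat) : Nat := @Bool.rec (fun _ => Nat) (Atab_226) (Atab_s_227_229 c) (Nat.ble 227 c)
noncomputable def Atab_s_230_232 (c : Nat) : Nat := @Bool.rec (fun _ => Nat) (Atab_230) (Atab_231) (Nat.ble 231 c)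
noncomputable def Atab_s_229_232 (c : Nat) : Nat := @Bool.rec (fun _ => Nat) (Atab_229) (Atab_s_230_232 c) (Nat.ble 230 c)
noncomputable def Atab_s_226_232 (c : Nat) : Nat := @Bool.rec (fun _ => Nat) (Atab_s_226_229 c) (Atab_s_229_232 c) (Nat.ble 229 c)
noncomputable def Atab_s_221_232 (c : Nat) : Nat := @Bool.rec (fun _ => Nat) (Atab_s_221_226 c) (Atab_s_226_232 c) (Nat.ble 226 c)
noncomputable def Atab_s_211_232 (c : Nat) : Nat := @Bool.rec (fun _ => Nat) (Atab_s_211_221 c) (Atab_s_221_232 c) (Nat.ble 221 c)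
noncomputable def Atab_s_232_234 (c : Nat) : Nat := @Bool.rec (fun _ => Nat) (Atab_232) (Atab_233) (Nat.ble 233 c)
noncomputable def Atab_s_235_237 (c : Nat) : Nat := @Bool.rec (fun _ => Nat) (Atab_235) (Atab_236) (Nat.ble 236 c)
noncomputable def Atab_s_234_237 (c : Nat) : Nat := @Bool.rec (fun _ => Nat) (Atab_234) (Atab_s_235_237 c) (Nat.ble 235 c)
noncomputable def Atab_s_232_237 (c : Nat) : Nat := @Bool.rec (fun _ => Nat) (Atab_s_232_234 c) (Atab_s_234_237 c) (Nat.ble 234 c)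
noncomputable def Atab_s_237_239 (c : Nat) : Nat := @Bool.rec (fun _ => Nat) (Atab_237) (Atab_238) (Nat.ble 238 c)
noncomputable def Atab_s_240_242 (c : Nat) : Nat := @Bool.rec (fun _ => Nat) (Atab_240) (Atab_241) (Nat.ble 241 c)
noncomputable def Atab_s_239_242 (c : Nat) : Nat := @Bool.rec (fun _ => Nat) (Atab_239) (Atab_s_240_242 c) (Nat.ble 240 c)
noncomputable def Atab_s_237_242 (c : Nat) : Nat := @Bool.rec (fun _ => Nat) (Atab_s_237_239 c) (Atab_s_239_242 c) (Nat.ble 239 c)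
noncomputable def Atab_s_232_242 (c : Nat) : Nat := @Bool.rec (fun _ => Nat) (Atab_s_232_237 c) (Atab_s_237_242 c) (Nat.ble 237 c)
noncomputable def Atab_s_242_244 (c : Nat) : Nat := @Bool.rec (fun _ => Nat) (Atab_242) (Atab_243) (Nat.ble 243 c)
noncomputable def Atab_s_245_247 (c : Nat) : Nat := @Bool.rec (fun _ => Nat) (Atab_245) (Atab_246) (Nat.ble 246 c)
noncomputable def Atab_s_244_247 (c : Nat) : Nat := @Bool.rec (fun _ => Nat) (Atab_244) (Atab_s_245_247 c) (Nat.ble 245 c)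
noncomputable def Atab_s_242_247 (c : Nat) : Nat := @Bool.rec (fun _ => Nat) (Atab_s_242_244 c) (Atab_s_244_247 c) (Nat.ble 244 c)
noncomputable def Atab_s_248_250 (c : Nat) : Nat := @Bool.rec (fun _ => Nat) (Atab_248) (Atab_249) (Nat.ble 249 c)
noncomputable def Atab_s_247_250 (c : Nat) : Nat := @Bool.rec (fun _ => Nat) (Atab_247) (Atab_s_248_250 c) (Nat.ble 248 c)
noncomputable def Atab_s_251_253 (c : Nat) : Nat := @Bool.rec (fun _ => Nat) (Atab_251) (Atab_252) (Nat.ble 252 c)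
noncomputable def Atab_s_250_253 (c : Nat) : Nat := @Bool.rec (fun _ => Nat) (Atab_250) (Atab_s_251_253 c) (Nat.ble 251 c)
noncomputable def Atab_s_247_253 (c : Nat) : Nat := @Bool.rec (fun _ => Nat) (Atab_s_247_250 c) (Atab_s_250_253 c) (Nat.ble 250 c)
noncomputable def Atab_s_242_253 (c : Nat) : Nat := @Bool.rec (fun _ => Nat) (Atab_s_242_247 c) (Atab_s_247_253 c) (Nat.ble 247 c)
noncomputable def Atab_s_232_253 (c : Nat) : Nat := @Bool.rec (fun _ => Nat) (Atab_s_232_242 c) (Atab_s_242_253 c) (Nat.ble 242 c)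
noncomputable def Atab_s_211_253 (c : Nat) : Nat := @Bool.rec (fun _ => Nat) (Atab_s_211_232 c) (Atab_s_232_253 c) (Nat.ble 232 c)
noncomputable def Atab_s_169_253 (c : Nat) : Nat := @Bool.rec (fun _ => Nat) (Atab_s_169_211 c) (Atab_s_211_253 c) (Nat.ble 211 c)
noncomputable def Atab_s_253_255 (c : Nat) : Nat := @Bool.rec (fun _ => Nat) (Atab_253) (Atab_254) (Nat.ble 254 c)
noncomputable def Atab_s_256_258 (c : Nat) : Nat := @Bool.rec (fun _ => Nat) (Atab_256) (Atab_257) (Nat.ble 257 c)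
noncomputable def Atab_s_255_258 (c : Nat) : Nat := @Bool.rec (fun _ => Nat) (Atab_255) (Atab_s_256_258 c) (Nat.ble 256 c)
noncomputable def Atab_s_253_258 (c : Nat) : Nat := @Bool.rec (fun _ => Nat) (Atab_s_253_255 c) (Atab_s_255_258 c) (Nat.ble 255 c)
noncomputable def Atab_s_258_260 (c : Nat) : Nat := @Bool.rec (fun _ => Nat) (Atab_258) (Atab_259) (Nat.ble 259 c)
noncomputable def Atab_s_261_263 (c : Nat) : Nat := @Bool.rec (fun _ => Nat) (Atab_261) (Atab_262) (Nat.ble 262 c)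
noncomputable def Atab_s_260_263 (c : Nat) : Nat := @Bool.rec (fun _ => Nat) (Atab_260) (Atab_s_261_263 c) (Nat.ble 261 c)
noncomputable def Atab_s_258_263 (c : Nat) : Nat := @Bool.rec (fun _ => Nat) (Atab_s_258_260 c) (Atab_s_260_263 c) (Nat.ble 260 c)
noncomputable def Atab_s_253_263 (c : Nat) : Nat := @Bool.rec (fun _ => Nat) (Atab_s_253_258 c) (Atab_s_258_263 c) (Nat.ble 258 c)
noncomputable def Atab_s_263_265 (c : Nat) : Nat := @Bool.rec (fun _ => Nat) (Atab_263) (Atab_264) (Nat.ble 264 c)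
noncomputable def Atab_s_266_268 (c : Nat) : Nat := @Bool.rec (fun _ => Nat) (Atab_266) (Atab_267) (Nat.ble 267 c)
noncomputable def Atab_s_265_268 (c : Nat) : Nat := @Bool.rec (fun _ => Nat) (Atab_265) (Atab_s_266_268 c) (Nat.ble 266 c)
noncomputable def Atab_s_263_268 (c : Nat) : Nat := @Bool.rec (fun _ => Nat) (Atab_s_263_265 c) (Atab_s_265_268 c) (Nat.ble 265 c)
noncomputable def Atab_s_269_271 (c : Nat) : Nat := @Bool.rec (fun _ => Nat) (Atab_269) (Atab_270) (Nat.ble 270 c)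
noncomputable def Atab_s_268_271 (c : Nat) : Nat := @Bool.rec (fun _ => Nat) (Atab_268) (Atab_s_269_271 c) (Nat.ble 269 c)
noncomputable def Atab_s_272_274 (c : Nat) : Nat := @Bool.rec (fun _ => Nat) (Atab_272) (Atab_273) (Nat.ble 273 c)
noncomputable def Atab_s_271_274 (c : Nat) : Nat := @Bool.rec (fun _ => Nat) (Atab_271) (Atab_s_272_274 c) (Nat.ble 272 c)
noncomputable def Atab_s_268_274 (c : Nat) : Nat := @Bool.rec (fun _ => Nat) (Atab_s_268_271 c) (Atab_s_271_274 c) (Nat.ble 271 c)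
noncomputable def Atab_s_263_274 (c : Nat) : Nat := @Bool.rec (fun _ => Nat) (Atab_s_263_268 c) (Atab_s_268_274 c) (Nat.ble 268 c)
noncomputable def Atab_s_253_274 (c : Nat) : Nat := @Bool.rec (fun _ => Nat) (Atab_s_253_263 c) (Atab_s_263_274 c) (Nat.ble 263 c)
noncomputable def Atab_s_274_276 (c : Nat) : Nat := @Bool.rec (fun _ => Nat) (Atab_274) (Atab_275) (Nat.ble 275 c)
noncomputable def Atab_s_277_279 (c : Nat) : Nat := @Bool.rec (fun _ => Nat) (Atab_277) (Atab_278) (Nat.ble 278 c)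
noncomputable def Atab_s_276_279 (c : Nat) : Nat := @Bool.rec (fun _ => Nat) (Atab_276) (Atab_s_277_279 c) (Nat.ble 277 c)
noncomputable def Atab_s_274_279 (c : Nat) : Nat := @Bool.rec (fun _ => Nat) (Atab_s_274_276 c) (Atab_s_276_279 c) (Nat.ble 276 c)
noncomputable def Atab_s_279_281 (c : Nat) : Nat := @Bool.rec (fun _ => Nat) (Atab_279) (Atab_280) (Nat.ble 280 c)
noncomputable def Atab_s_282_284 (c : Nat) : Nat := @Bool.rec (fun _ => Nat) (Atab_282) (Atab_283) (Nat.ble 283 c)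
noncomputable def Atab_s_281_284 (c : Nat) : Nat := @Bool.rec (fun _ => Nat) (Atab_281) (Atab_s_282_284 c) (Nat.ble 282 c)
noncomputable def Atab_s_279_284 (c : Nat) : Nat := @Bool.rec (fun _ => Nat) (Atab_s_279_281 c) (Atab_s_281_284 c) (Nat.ble 281 c)
noncomputable def Atab_s_274_284 (c : Nat) : Nat := @Bool.rec (fun _ => Nat) (Atab_s_274_279 c) (Atab_s_279_284 c) (Nat.ble 279 c)
noncomputable def Atab_s_284_286 (c : Nat) : Nat := @Bool.rec (fun _ => Nat) (Atab_284) (Atab_285) (Nat.ble 285 c)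
noncomputable def Atab_s_287_289 (c : Nat) : Nat := @Bool.rec (fun _ => Nat) (Atab_287) (Atab_288) (Nat.ble 288 c)
noncomputable def Atab_s_286_289 (c : Nat) : Nat := @Bool.rec (fun _ => Nat) (Atab_286) (Atab_s_287_289 c) (Nat.ble 287 c)
noncomputable def Atab_s_284_289 (c : Nat) : Nat := @Bool.rec (fun _ => Nat) (Atab_s_284_286 c) (Atab_s_286_289 c) (Nat.ble 286 c)
noncomputable def Atab_s_290_292 (c : Nat) : Nat := @Bool.rec (fun _ => Nat) (Atab_290) (Atab_291) (Nat.ble 291 c)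
noncomputable def Atab_s_289_292 (c : Nat) : Nat := @Bool.rec (fun _ => Nat) (Atab_289) (Atab_s_290_292 c) (Nat.ble 290 c)
noncomputable def Atab_s_293_295 (c : Nat) : Nat := @Bool.rec (fun _ => Nat) (Atab_293) (Atab_294) (Nat.ble 294 c)
noncomputable def Atab_s_292_295 (c : Nat) : Nat := @Bool.rec (fun _ => Nat) (Atab_292) (Atab_s_293_295 c) (Nat.ble 293 c)
noncomputable def Atab_s_289_295 (c : Nat) : Nat := @Bool.rec (fun _ => Nat) (Atab_s_289_292 c) (Atab_s_292_295 c) (Nat.ble 292 c)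
noncomputable def Atab_s_284_295 (c : Nat) : Nat := @Bool.rec (fun _ => Nat) (Atab_s_284_289 c) (Atab_s_289_295 c) (Nat.ble 289 c)
noncomputable def Atab_s_274_295 (c : Nat) : Nat := @Bool.rec (fun _ => Nat) (Atab_s_274_284 c) (Atab_s_284_295 c) (Nat.ble 284 c)
noncomputable def Atab_s_253_295 (c : Nat) : Nat := @Bool.rec (fun _ => Nat) (Atab_s_253_274 c) (Atab_s_274_295 c) (Nat.ble 274 c)
noncomputable def Atab_s_295_297 (c : Nat) : Nat := @Bool.rec (fun _ => Nat) (Atab_295) (Atab_296) (Nat.ble 296 c)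
noncomputable def Atab_s_298_300 (c : Nat) : Nat := @Bool.rec (fun _ => Nat) (Atab_298) (Atab_299) (Nat.ble 299 c)
noncomputable def Atab_s_297_300 (c : Nat) : Nat := @Bool.rec (fun _ => Nat) (Atab_297) (Atab_s_298_300 c) (Nat.ble 298 c)
noncomputable def Atab_s_295_300 (c : Nat) : Nat := @Bool.rec (fun _ => Nat) (Atab_s_295_297 c) (Atab_s_297_300 c) (Nat.ble 297 c)
noncomputable def Atab_s_300_302 (c : Nat) : Nat := @Bool.rec (fun _ => Nat) (Atab_300) (Atab_301) (Nat.ble 301 c)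
noncomputable def Atab_s_303_305 (c : Nat) : Nat := @Bool.rec (fun _ => Nat) (Atab_303) (Atab_304) (Nat.ble 304 c)
noncomputable def Atab_s_302_305 (c : Nat) : Nat := @Bool.rec (fun _ => Nat) (Atab_302) (Atab_s_303_305 c) (Nat.ble 303 c)
noncomputable def Atab_s_300_305 (c : Nat) : Nat := @Bool.rec (fun _ => Nat) (Atab_s_300_302 c) (Atab_s_302_305 c) (Nat.ble 302 c)
noncomputable def Atab_s_295_305 (c : Nat) : Nat := @Bool.rec (fun _ => Nat) (Atab_s_295_300 c) (Atab_s_300_305 c) (Nat.ble 300 c)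
noncomputable def Atab_s_305_307 (c : Nat) : Nat := @Bool.rec (fun _ => Nat) (Atab_305) (Atab_306) (Nat.ble 306 c)
noncomputable def Atab_s_308_310 (c : Nat) : Nat := @Bool.rec (fun _ => Nat) (Atab_308) (Atab_309) (Nat.ble 309 c)
noncomputable def Atab_s_307_310 (c : Nat) : Nat := @Bool.rec (fun _ => Nat) (Atab_307) (Atab_s_308_310 c) (Nat.ble 308 c)
noncomputable def Atab_s_305_310 (c : Nat) : Nat := @Bool.rec (fun _ => Nat) (Atab_s_305_307 c) (Atab_s_307_310 c) (Nat.ble 307 c)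
noncomputable def Atab_s_311_313 (c : Nat) : Nat := @Bool.rec (fun _ => Nat) (Atab_311) (Atab_312) (Nat.ble 312 c)
noncomputable def Atab_s_310_313 (c : Nat) : Nat := @Bool.rec (fun _ => Nat) (Atab_310) (Atab_s_311_313 c) (Nat.ble 311 c)
noncomputable def Atab_s_314_316 (c : Nat) : Nat := @Bool.rec (fun _ => Nat) (Atab_314) (Atab_315) (Nat.ble 315 c)
noncomputable def Atab_s_313_316 (c : Nat) : Nat := @Bool.rec (fun _ => Nat) (Atab_313) (Atab_s_314_316 c) (Nat.ble 314 c)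
noncomputable def Atab_s_310_316 (c : Nat) : Nat := @Bool.rec (fun _ => Nat) (Atab_s_310_313 c) (Atab_s_313_316 c) (Nat.ble 313 c)
noncomputable def Atab_s_305_316 (c : Nat) : Nat := @Bool.rec (fun _ => Nat) (Atab_s_305_310 c) (Atab_s_310_316 c) (Nat.ble 310 c)
noncomputable def Atab_s_295_316 (c : Nat) : Nat := @Bool.rec (fun _ => Nat) (Atab_s_295_305 c) (Atab_s_305_316 c) (Nat.ble 305 c)
noncomputable def Atab_s_316_318 (c : Nat) : Nat := @Bool.rec (fun _ => Nat) (Atab_316) (Atab_317) (Nat.ble 317 c)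
noncomputable def Atab_s_319_321 (c : Nat) : Nat := @Bool.rec (fun _ => Nat) (Atab_319) (Atab_320) (Nat.ble 320 c)
noncomputable def Atab_s_318_321 (c : Nat) : Nat := @Bool.rec (fun _ => Nat) (Atab_318) (Atab_s_319_321 c) (Nat.ble 319 c)
noncomputable def Atab_s_316_321 (c : Nat) : Nat := @Bool.rec (fun _ => Nat) (Atab_s_316_318 c) (Atab_s_318_321 c) (Nat.ble 318 c)
noncomputable def Atab_s_322_324 (c : Nat) : Nat := @Bool.rec (fun _ => Nat) (Atab_322) (Atab_323) (Nat.ble 323 c)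
noncomputable def Atab_s_321_324 (c : Nat) : Nat := @Bool.rec (fun _ => Nat) (Atab_321) (Atab_s_322_324 c) (Nat.ble 322 c)
noncomputable def Atab_s_325_327 (c : Nat) : Nat := @Bool.rec (fun _ => Nat) (Atab_325) (Atab_326) (Nat.ble 326 c)
noncomputable def Atab_s_324_327 (c : Nat) : Nat := @Bool.rec (fun _ => Nat) (Atab_324) (Atab_s_325_327 c) (Nat.ble 325 c)
noncomputable def Atab_s_321_327 (c : Nat) : Nat := @Bool.rec (fun _ => Nat) (Atab_s_321_324 c) (Atab_s_324_327 c) (Nat.ble 324 c)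
noncomputable def Atab_s_316_327 (c : Nat) : Nat := @Bool.rec (fun _ => Nat) (Atab_s_316_321 c) (Atab_s_321_327 c) (Nat.ble 321 c)
noncomputable def Atab_s_327_329 (c : Nat) : Nat := @Bool.rec (fun _ => Nat) (Atab_327) (Atab_328) (Nat.ble 328 c)
noncomputable def Atab_s_330_332 (c : Nat) : Nat := @Bool.rec (fun _ => Nat) (Atab_330) (Atab_331) (Nat.ble 331 c)
noncomputable def Atab_s_329_332 (c : Nat) : Nat := @Bool.rec (fun _ => Nat) (Atab_329) (Atab_s_330_332 c) (Nat.ble 330 c)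
noncomputable def Atab_s_327_332 (c : Nat) : Nat := @Bool.rec (fun _ => Nat) (Atab_s_327_329 c) (Atab_s_329_332 c) (Nat.ble 329 c)
noncomputable def Atab_s_333_335 (c : Nat) : Nat := @Bool.rec (fun _ => Nat) (Atab_333) (Atab_334) (Nat.ble 334 c)
noncomputable def Atab_s_332_335 (c : Nat) : Nat := @Bool.rec (fun _ => Nat) (Atab_332) (Atab_s_333_335 c) (Nat.ble 333 c)
noncomputable def Atab_s_336_338 (c : Nat) : Nat := @Bool.rec (fun _ => Nat) (Atab_336) (Atab_337) (Nat.ble 337 c)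
noncomputable def Atab_s_335_338 (c : Nat) : Nat := @Bool.rec (fun _ => Nat) (Atab_335) (Atab_s_336_338 c) (Nat.ble 336 c)
noncomputable def Atab_s_332_338 (c : Nat) : Nat := @Bool.rec (fun _ => Nat) (Atab_s_332_335 c) (Atab_s_335_338 c) (Nat.ble 335 c)
noncomputable def Atab_s_327_338 (c : Nat) : Nat := @Bool.rec (fun _ => Nat) (Atab_s_327_332 c) (Atab_s_332_338 c) (Nat.ble 332 c)
noncomputable def Atab_s_316_338 (c : Nat) : Nat := @Bool.rec (fun _ => Nat) (Atab_s_316_327 c) (Atab_s_327_338 c) (Nat.ble 327 c)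
noncomputable def Atab_s_295_338 (c : Nat) : Nat := @Bool.rec (fun _ => Nat) (Atab_s_295_316 c) (Atab_s_316_338 c) (Nat.ble 316 c)
noncomputable def Atab_s_253_338 (c : Nat) : Nat := @Bool.rec (fun _ => Nat) (Atab_s_253_295 c) (Atab_s_295_338 c) (Nat.ble 295 c)
noncomputable def Atab_s_169_338 (c : Nat) : Nat := @Bool.rec (fun _ => Nat) (Atab_s_169_253 c) (Atab_s_253_338 c) (Nat.ble 253 c)
noncomputable def Atab_s_0_338 (c : Nat) : Nat := @Bool.rec (fun _ => Nat) (Atab_s_0_169 c) (Atab_s_169_338 c) (Nat.ble 169 c)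
noncomputable def Atab_s_338_340 (c : Nat) : Nat := @Bool.rec (fun _ => Nat) (Atab_338) (Atab_339) (Nat.ble 339 c)
noncomputable def Atab_s_341_343 (c : Nat) : Nat := @Bool.rec (fun _ => Nat) (Atab_341) (Atab_342) (Nat.ble 342 c)
noncomputable def Atab_s_340_343 (c : Nat) : Nat := @Bool.rec (fun _ => Nat) (Atab_340) (Atab_s_341_343 c) (Nat.ble 341 c)
noncomputable def Atab_s_338_343 (c : Nat) : Nat := @Bool.rec (fun _ => Nat) (Atab_s_338_340 c) (Atab_s_340_343 c) (Nat.ble 340 c)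
noncomputable def Atab_s_343_345 (c : Nat) : Nat := @Bool.rec (fun _ => Nat) (Atab_343) (Atab_344) (Nat.ble 344 c)
noncomputable def Atab_s_346_348 (c : Nat) : Nat := @Bool.rec (fun _ => Nat) (Atab_346) (Atab_347) (Nat.ble 347 c)
noncomputable def Atab_s_345_348 (c : Nat) : Nat := @Bool.rec (fun _ => Nat) (Atab_345) (Atab_s_346_348 c) (Nat.ble 346 c)
noncomputable def Atab_s_343_348 (c : Nat) : Nat := @Bool.rec (fun _ => Nat) (Atab_s_343_345 c) (Atab_s_345_348 c) (Nat.ble 345 c)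
noncomputable def Atab_s_338_348 (c : Nat) : Nat := @Bool.rec (fun _ => Nat) (Atab_s_338_343 c) (Atab_s_343_348 c) (Nat.ble 343 c)
noncomputable def Atab_s_348_350 (c : Nat) : Nat := @Bool.rec (fun _ => Nat) (Atab_348) (Atab_349) (Nat.ble 349 c)
noncomputable def Atab_s_351_353 (c : Nat) : Nat := @Bool.rec (fun _ => Nat) (Atab_351) (Atab_352) (Nat.ble 352 c)
noncomputable def Atab_s_350_353 (c : Nat) : Nat := @Bool.rec (fun _ => Nat) (Atab_350) (Atab_s_351_353 c) (Nat.ble 351 c)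
noncomputable def Atab_s_348_353 (c : Nat) : Nat := @Bool.rec (fun _ => Nat) (Atab_s_348_350 c) (Atab_s_350_353 c) (Nat.ble 350 c)
noncomputable def Atab_s_354_356 (c : Nat) : Nat := @Bool.rec (fun _ => Nat) (Atab_354) (Atab_355) (Nat.ble 355 c)
noncomputable def Atab_s_353_356 (c : Nat) : Nat := @Bool.rec (fun _ => Nat) (Atab_353) (Atab_s_354_356 c) (Nat.ble 354 c)
noncomputable def Atab_s_357_359 (c : Nat) : Nat := @Bool.rec (fun _ => Nat) (Atab_357) (Atab_358) (Nat.ble 358 c)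
noncomputable def Atab_s_356_359 (c : Nat) : Nat := @Bool.rec (fun _ => Nat) (Atab_356) (Atab_s_357_359 c) (Nat.ble 357 c)
noncomputable def Atab_s_353_359 (c : Nat) : Nat := @Bool.rec (fun _ => Nat) (Atab_s_353_356 c) (Atab_s_356_359 c) (Nat.ble 356 c)
noncomputable def Atab_s_348_359 (c : Nat) : Nat := @Bool.rec (fun _ => Nat) (Atab_s_348_353 c) (Atab_s_353_359 c) (Nat.ble 353 c)
noncomputable def Atab_s_338_359 (c : Nat) : Nat := @Bool.rec (fun _ => Nat) (Atab_s_338_348 c) (Atab_s_348_359 c) (Nat.ble 348 c)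
noncomputable def Atab_s_359_361 (c : Nat) : Nat := @Bool.rec (fun _ => Nat) (Atab_359) (Atab_360) (Nat.ble 360 c)
noncomputable def Atab_s_362_364 (c : Nat) : Nat := @Bool.rec (fun _ => Nat) (Atab_362) (Atab_363) (Nat.ble 363 c)
noncomputable def Atab_s_361_364 (c : Nat) : Nat := @Bool.rec (fun _ => Nat) (Atab_361) (Atab_s_362_364 c) (Nat.ble 362 c)
noncomputable def Atab_s_359_364 (c : Nat) : Nat := @Bool.rec (fun _ => Nat) (Atab_s_359_361 c) (Atab_s_361_364 c) (Nat.ble 361 c)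
noncomputable def Atab_s_364_366 (c : Nat) : Nat := @Bool.rec (fun _ => Nat) (Atab_364) (Atab_365) (Nat.ble 365 c)
noncomputable def Atab_s_367_369 (c : Nat) : Nat := @Bool.rec (fun _ => Nat) (Atab_367) (Atab_368) (Nat.ble 368 c)
noncomputable def Atab_s_366_369 (c : Nat) : Nat := @Bool.rec (fun _ => Nat) (Atab_366) (Atab_s_367_369 c) (Nat.ble 367 c)
noncomputable def Atab_s_364_369 (c : Nat) : Nat := @Bool.rec (fun _ => Nat) (Atab_s_364_366 c) (Atab_s_366_369 c) (Nat.ble 366 c)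
noncomputable def Atab_s_359_369 (c : Nat) : Nat := @Bool.rec (fun _ => Nat) (Atab_s_359_364 c) (Atab_s_364_369 c) (Nat.ble 364 c)
noncomputable def Atab_s_369_371 (c : Nat) : Nat := @Bool.rec (fun _ => Nat) (Atab_369) (Atab_370) (Nat.ble 370 c)
noncomputable def Atab_s_372_374 (c : Nat) : Nat := @Bool.rec (fun _ => Nat) (Atab_372) (Atab_373) (Nat.ble 373 c)
noncomputable def Atab_s_371_374 (c : Nat) : Nat := @Bool.rec (fun _ => Nat) (Atab_371) (Atab_s_372_374 c) (Nat.ble 372 c)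
noncomputable def Atab_s_369_374 (c : Nat) : Nat := @Bool.rec (fun _ => Nat) (Atab_s_369_371 c) (Atab_s_371_374 c) (Nat.ble 371 c)
noncomputable def Atab_s_375_377 (c : Nat) : Nat := @Bool.rec (fun _ => Nat) (Atab_375) (Atab_376) (Nat.ble 376 c)
noncomputable def Atab_s_374_377 (c : Nat) : Nat := @Bool.rec (fun _ => Nat) (Atab_374) (Atab_s_375_377 c) (Nat.ble 375 c)
noncomputable def Atab_s_378_380 (c : Nat) : Nat := @Bool.rec (fun _ => Nat) (Atab_378) (Atab_379) (Nat.ble 379 c)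
noncomputable def Atab_s_377_380 (c : Nat) : Nat := @Bool.rec (fun _ => Nat) (Atab_377) (Atab_s_378_380 c) (Nat.ble 378 c)
noncomputable def Atab_s_374_380 (c : Nat) : Nat := @Bool.rec (fun _ => Nat) (Atab_s_374_377 c) (Atab_s_377_380 c) (Nat.ble 377 c)
noncomputable def Atab_s_369_380 (c : Nat) : Nat := @Bool.rec (fun _ => Nat) (Atab_s_369_374 c) (Atab_s_374_380 c) (Nat.ble 374 c)
noncomputable def Atab_s_359_380 (c : Nat) : Nat := @Bool.rec (fun _ => Nat) (Atab_s_359_369 c) (Atab_s_369_380 c) (Nat.ble 369 c)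
noncomputable def Atab_s_338_380 (c : Nat) : Nat := @Bool.rec (fun _ => Nat) (Atab_s_338_359 c) (Atab_s_359_380 c) (Nat.ble 359 c)
noncomputable def Atab_s_380_382 (c : Nat) : Nat := @Bool.rec (fun _ => Nat) (Atab_380) (Atab_381) (Nat.ble 381 c)
noncomputable def Atab_s_383_385 (c : Nat) : Nat := @Bool.rec (fun _ => Nat) (Atab_383) (Atab_384) (Nat.ble 384 c)
noncomputable def Atab_s_382_385 (c : Nat) : Nat := @Bool.rec (fun _ => Nat) (Atab_382) (Atab_s_383_385 c) (Nat.ble 383 c)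
noncomputable def Atab_s_380_385 (c : Nat) : Nat := @Bool.rec (fun _ => Nat) (Atab_s_380_382 c) (Atab_s_382_385 c) (Nat.ble 382 c)
noncomputable def Atab_s_385_387 (c : Nat) : Nat := @Bool.rec (fun _ => Nat) (Atab_385) (Atab_386) (Nat.ble 386 c)
noncomputable def Atab_s_388_390 (c : Nat) : Nat := @Bool.rec (fun _ => Nat) (Atab_388) (Atab_389) (Nat.ble 389 c)
noncomputable def Atab_s_387_390 (c : Nat) : Nat := @Bool.rec (fun _ => Nat) (Atab_387) (Atab_s_388_390 c) (Nat.ble 388 c)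
noncomputable def Atab_s_385_390 (c : Nat) : Nat := @Bool.rec (fun _ => Nat) (Atab_s_385_387 c) (Atab_s_387_390 c) (Nat.ble 387 c)
noncomputable def Atab_s_380_390 (c : Nat) : Nat := @Bool.rec (fun _ => Nat) (Atab_s_380_385 c) (Atab_s_385_390 c) (Nat.ble 385 c)
noncomputable def Atab_s_390_392 (c : Nat) : Nat := @Bool.rec (fun _ => Nat) (Atab_390) (Atab_391) (Nat.ble 391 c)
noncomputable def Atab_s_393_395 (c : Nat) : Nat := @Bool.rec (fun _ => Nat) (Atab_393) (Atab_394) (Nat.ble 394 c)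
noncomputable def Atab_s_392_395 (c : Nat) : Nat := @Bool.rec (fun _ => Nat) (Atab_392) (Atab_s_393_395 c) (Nat.ble 393 c)
noncomputable def Atab_s_390_395 (c : Nat) : Nat := @Bool.rec (fun _ => Nat) (Atab_s_390_392 c) (Atab_s_392_395 c) (Nat.ble 392 c)
noncomputable def Atab_s_396_398 (c : Nat) : Nat := @Bool.rec (fun _ => Nat) (Atab_396) (Atab_397) (Nat.ble 397 c)
noncomputable def Atab_s_395_398 (c : Nat) : Nat := @Bool.rec (fun _ => Nat) (Atab_395) (Atab_s_396_398 c) (Nat.ble 396 c)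
noncomputable def Atab_s_399_401 (c : Nat) : Nat := @Bool.rec (fun _ => Nat) (Atab_399) (Atab_400) (Nat.ble 400 c)
noncomputable def Atab_s_398_401 (c : Nat) : Nat := @Bool.rec (fun _ => Nat) (Atab_398) (Atab_s_399_401 c) (Nat.ble 399 c)
noncomputable def Atab_s_395_401 (c : Nat) : Nat := @Bool.rec (fun _ => Nat) (Atab_s_395_398 c) (Atab_s_398_401 c) (Nat.ble 398 c)
noncomputable def Atab_s_390_401 (c : Nat) : Nat := @Bool.rec (fun _ => Nat) (Atab_s_390_395 c) (Atab_s_395_401 c) (Nat.ble 395 c)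
noncomputable def Atab_s_380_401 (c : Nat) : Nat := @Bool.rec (fun _ => Nat) (Atab_s_380_390 c) (Atab_s_390_401 c) (Nat.ble 390 c)
noncomputable def Atab_s_401_403 (c : Nat) : Nat := @Bool.rec (fun _ => Nat) (Atab_401) (Atab_402) (Nat.ble 402 c)
noncomputable def Atab_s_404_406 (c : Nat) : Nat := @Bool.rec (fun _ => Nat) (Atab_404) (Atab_405) (Nat.ble 405 c)
noncomputable def Atab_s_403_406 (c : Nat) : Nat := @Bool.rec (fun _ => Nat) (Atab_403) (Atab_s_404_406 c) (Nat.ble 404 c)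
noncomputable def Atab_s_401_406 (c : Nat) : Nat := @Bool.rec (fun _ => Nat) (Atab_s_401_403 c) (Atab_s_403_406 c) (Nat.ble 403 c)
noncomputable def Atab_s_406_408 (c : Nat) : Nat := @Bool.rec (fun _ => Nat) (Atab_406) (Atab_407) (Nat.ble 407 c)
noncomputable def Atab_s_409_411 (c : Nat) : Nat := @Bool.rec (fun _ => Nat) (Atab_409) (Atab_410) (Nat.ble 410 c)
noncomputable def Atab_s_408_411 (c : Nat) : Nat := @Bool.rec (fun _ => Nat) (Atab_408) (Atab_s_409_411 c) (Nat.ble 409 c)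
noncomputable def Atab_s_406_411 (c : Nat) : Nat := @Bool.rec (fun _ => Nat) (Atab_s_406_408 c) (Atab_s_408_411 c) (Nat.ble 408 c)
noncomputable def Atab_s_401_411 (c : Nat) : Nat := @Bool.rec (fun _ => Nat) (Atab_s_401_406 c) (Atab_s_406_411 c) (Nat.ble 406 c)
noncomputable def Atab_s_411_413 (c : Nat) : Nat := @Bool.rec (fun _ => Nat) (Atab_411) (Atab_412) (Nat.ble 412 c)
noncomputable def Atab_s_414_416 (c : Nat) : Nat := @Bool.rec (fun _ => Nat) (Atab_414) (Atab_415) (Nat.ble 415 c)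
noncomputable def Atab_s_413_416 (c : Nat) : Nat := @Bool.rec (fun _ => Nat) (Atab_413) (Atab_s_414_416 c) (Nat.ble 414 c)
noncomputable def Atab_s_411_416 (c : Nat) : Nat := @Bool.rec (fun _ => Nat) (Atab_s_411_413 c) (Atab_s_413_416 c) (Nat.ble 413 c)
noncomputable def Atab_s_417_419 (c : Nat) : Nat := @Bool.rec (fun _ => Nat) (Atab_417) (Atab_418) (Nat.ble 418 c)
noncomputable def Atab_s_416_419 (c : Nat) : Nat := @Bool.rec (fun _ => Nat) (Atab_416) (Atab_s_417_419 c) (Nat.ble 417 c)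
noncomputable def Atab_s_420_422 (c : Nat) : Nat := @Bool.rec (fun _ => Nat) (Atab_420) (Atab_421) (Nat.ble 421 c)
noncomputable def Atab_s_419_422 (c : Nat) : Nat := @Bool.rec (fun _ => Nat) (Atab_419) (Atab_s_420_422 c) (Nat.ble 420 c)
noncomputable def Atab_s_416_422 (c : Nat) : Nat := @Bool.rec (fun _ => Nat) (Atab_s_416_419 c) (Atab_s_419_422 c) (Nat.ble 419 c)
noncomputable def Atab_s_411_422 (c : Nat) : Nat := @Bool.rec (fun _ => Nat) (Atab_s_411_416 c) (Atab_s_416_422 c) (Nat.ble 416 c)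
noncomputable def Atab_s_401_422 (c : Nat) : Nat := @Bool.rec (fun _ => Nat) (Atab_s_401_411 c) (Atab_s_411_422 c) (Nat.ble 411 c)
noncomputable def Atab_s_380_422 (c : Nat) : Nat := @Bool.rec (fun _ => Nat) (Atab_s_380_401 c) (Atab_s_401_422 c) (Nat.ble 401 c)
noncomputable def Atab_s_338_422 (c : Nat) : Nat := @Bool.rec (fun _ => Nat) (Atab_s_338_380 c) (Atab_s_380_422 c) (Nat.ble 380 c)
noncomputable def Atab_s_422_424 (c : Nat) : Nat := @Bool.rec (fun _ => Nat) (Atab_422) (Atab_423) (Nat.ble 423 c)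
noncomputable def Atab_s_425_427 (c : Nat) : Nat := @Bool.rec (fun _ => Nat) (Atab_425) (Atab_426) (Nat.ble 426 c)
noncomputable def Atab_s_424_427 (c : Nat) : Nat := @Bool.rec (fun _ => Nat) (Atab_424) (Atab_s_425_427 c) (Nat.ble 425 c)
noncomputable def Atab_s_422_427 (c : Nat) : Nat := @Bool.rec (fun _ => Nat) (Atab_s_422_424 c) (Atab_s_424_427 c) (Nat.ble 424 c)
noncomputable def Atab_s_427_429 (c : Nat) : Nat := @Bool.rec (fun _ => Nat) (Atab_427) (Atab_428) (Nat.ble 428 c)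
noncomputable def Atab_s_430_432 (c : Nat) : Nat := @Bool.rec (fun _ => Nat) (Atab_430) (Atab_431) (Nat.ble 431 c)
noncomputable def Atab_s_429_432 (c : Nat) : Nat := @Bool.rec (fun _ => Nat) (Atab_429) (Atab_s_430_432 c) (Nat.ble 430 c)
noncomputable def Atab_s_427_432 (c : Nat) : Nat := @Bool.rec (fun _ => Nat) (Atab_s_427_429 c) (Atab_s_429_432 c) (Nat.ble 429 c)
noncomputable def Atab_s_422_432 (c : Nat) : Nat := @Bool.rec (fun _ => Nat) (Atab_s_422_427 c) (Atab_s_427_432 c) (Nat.ble 427 c)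
noncomputable def Atab_s_432_434 (c : Nat) : Nat := @Bool.rec (fun _ => Nat) (Atab_432) (Atab_433) (Nat.ble 433 c)
noncomputable def Atab_s_435_437 (c : Nat) : Nat := @Bool.rec (fun _ => Nat) (Atab_435) (Atab_436) (Nat.ble 436 c)
noncomputable def Atab_s_434_437 (c : Nat) : Nat := @Bool.rec (fun _ => Nat) (Atab_434) (Atab_s_435_437 c) (Nat.ble 435 c)
noncomputable def Atab_s_432_437 (c : Nat) : Nat := @Bool.rec (fun _ => Nat) (Atab_s_432_434 c) (Atab_s_434_437 c) (Nat.ble 434 c)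
noncomputable def Atab_s_438_440 (c : Nat) : Nat := @Bool.rec (fun _ => Nat) (Atab_438) (Atab_439) (Nat.ble 439 c)
noncomputable def Atab_s_437_440 (c : Nat) : Nat := @Bool.rec (fun _ => Nat) (Atab_437) (Atab_s_438_440 c) (Nat.ble 438 c)
noncomputable def Atab_s_441_443 (c : Nat) : Nat := @Bool.rec (fun _ => Nat) (Atab_441) (Atab_442) (Nat.ble 442 c)
noncomputable def Atab_s_440_443 (c : Nat) : Nat := @Bool.rec (fun _ => Nat) (Atab_440) (Atab_s_441_443 c) (Nat.ble 441 c)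
noncomputable def Atab_s_437_443 (c : Nat) : Nat := @Bool.rec (fun _ => Nat) (Atab_s_437_440 c) (Atab_s_440_443 c) (Nat.ble 440 c)
noncomputable def Atab_s_432_443 (c : Nat) : Nat := @Bool.rec (fun _ => Nat) (Atab_s_432_437 c) (Atab_s_437_443 c) (Nat.ble 437 c)
noncomputable def Atab_s_422_443 (c : Nat) : Nat := @Bool.rec (fun _ => Nat) (Atab_s_422_432 c) (Atab_s_432_443 c) (Nat.ble 432 c)
noncomputable def Atab_s_443_445 (c : Nat) : Nat := @Bool.rec (fun _ => Nat) (Atab_443) (Atab_444) (Nat.ble 444 c)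
noncomputable def Atab_s_446_448 (c : Nat) : Nat := @Bool.rec (fun _ => Nat) (Atab_446) (Atab_447) (Nat.ble 447 c)
noncomputable def Atab_s_445_448 (c : Nat) : Nat := @Bool.rec (fun _ => Nat) (Atab_445) (Atab_s_446_448 c) (Nat.ble 446 c)
noncomputable def Atab_s_443_448 (c : Nat) : Nat := @Bool.rec (fun _ => Nat) (Atab_s_443_445 c) (Atab_s_445_448 c) (Nat.ble 445 c)
noncomputable def Atab_s_448_450 (c : Nat) : Nat := @Bool.rec (fun _ => Nat) (Atab_448) (Atab_449) (Nat.ble 449 c)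
noncomputable def Atab_s_451_453 (c : Nat) : Nat := @Bool.rec (fun _ => Nat) (Atab_451) (Atab_452) (Nat.ble 452 c)
noncomputable def Atab_s_450_453 (c : Nat) : Nat := @Bool.rec (fun _ => Nat) (Atab_450) (Atab_s_451_453 c) (Nat.ble 451 c)
noncomputable def Atab_s_448_453 (c : Nat) : Nat := @Bool.rec (fun _ => Nat) (Atab_s_448_450 c) (Atab_s_450_453 c) (Nat.ble 450 c)
noncomputable def Atab_s_443_453 (c : Nat) : Nat := @Bool.rec (fun _ => Nat) (Atab_s_443_448 c) (Atab_s_448_453 c) (Nat.ble 448 c)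
noncomputable def Atab_s_453_455 (c : Nat) : Nat := @Bool.rec (fun _ => Nat) (Atab_453) (Atab_454) (Nat.ble 454 c)
noncomputable def Atab_s_456_458 (c : Nat) : Nat := @Bool.rec (fun _ => Nat) (Atab_456) (Atab_457) (Nat.ble 457 c)
noncomputable def Atab_s_455_458 (c : Nat) : Nat := @Bool.rec (fun _ => Nat) (Atab_455) (Atab_s_456_458 c) (Nat.ble 456 c)
noncomputable def Atab_s_453_458 (c : Nat) : Nat := @Bool.rec (fun _ => Nat) (Atab_s_453_455 c) (Atab_s_455_458 c) (Nat.ble 455 c)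
noncomputable def Atab_s_459_461 (c : Nat) : Nat := @Bool.rec (fun _ => Nat) (Atab_459) (Atab_460) (Nat.ble 460 c)
noncomputable def Atab_s_458_461 (c : Nat) : Nat := @Bool.rec (fun _ => Nat) (Atab_458) (Atab_s_459_461 c) (Nat.ble 459 c)
noncomputable def Atab_s_462_464 (c : Nat) : Nat := @Bool.rec (fun _ => Nat) (Atab_462) (Atab_463) (Nat.ble 463 c)
noncomputable def Atab_s_461_464 (c : Nat) : Nat := @Bool.rec (fun _ => Nat) (Atab_461) (Atab_s_462_464 c) (Nat.ble 462 c)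
noncomputable def Atab_s_458_464 (c : Nat) : Nat := @Bool.rec (fun _ => Nat) (Atab_s_458_461 c) (Atab_s_461_464 c) (Nat.ble 461 c)
noncomputable def Atab_s_453_464 (c : Nat) : Nat := @Bool.rec (fun _ => Nat) (Atab_s_453_458 c) (Atab_s_458_464 c) (Nat.ble 458 c)
noncomputable def Atab_s_443_464 (c : Nat) : Nat := @Bool.rec (fun _ => Nat) (Atab_s_443_453 c) (Atab_s_453_464 c) (Nat.ble 453 c)
noncomputable def Atab_s_422_464 (c : Nat) : Nat := @Bool.rec (fun _ => Nat) (Atab_s_422_443 c) (Atab_s_443_464 c) (Nat.ble 443 c)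
noncomputable def Atab_s_464_466 (c : Nat) : Nat := @Bool.rec (fun _ => Nat) (Atab_464) (Atab_465) (Nat.ble 465 c)
noncomputable def Atab_s_467_469 (c : Nat) : Nat := @Bool.rec (fun _ => Nat) (Atab_467) (Atab_468) (Nat.ble 468 c)
noncomputable def Atab_s_466_469 (c : Nat) : Nat := @Bool.rec (fun _ => Nat) (Atab_466) (Atab_s_467_469 c) (Nat.ble 467 c)
noncomputable def Atab_s_464_469 (c : Nat) : Nat := @Bool.rec (fun _ => Nat) (Atab_s_464_466 c) (Atab_s_466_469 c) (Nat.ble 466 c)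
noncomputable def Atab_s_469_471 (c : Nat) : Nat := @Bool.rec (fun _ => Nat) (Atab_469) (Atab_470) (Nat.ble 470 c)
noncomputable def Atab_s_472_474 (c : Nat) : Nat := @Bool.rec (fun _ => Nat) (Atab_472) (Atab_473) (Nat.ble 473 c)
noncomputable def Atab_s_471_474 (c : Nat) : Nat := @Bool.rec (fun _ => Nat) (Atab_471) (Atab_s_472_474 c) (Nat.ble 472 c)
noncomputable def Atab_s_469_474 (c : Nat) : Nat := @Bool.rec (fun _ => Nat) (Atab_s_469_471 c) (Atab_s_471_474 c) (Nat.ble 471 c)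
noncomputable def Atab_s_464_474 (c : Nat) : Nat := @Bool.rec (fun _ => Nat) (Atab_s_464_469 c) (Atab_s_469_474 c) (Nat.ble 469 c)
noncomputable def Atab_s_474_476 (c : Nat) : Nat := @Bool.rec (fun _ => Nat) (Atab_474) (Atab_475) (Nat.ble 475 c)
noncomputable def Atab_s_477_479 (c : Nat) : Nat := @Bool.rec (fun _ => Nat) (Atab_477) (Atab_478) (Nat.ble 478 c)
noncomputable def Atab_s_476_479 (c : Nat) : Nat := @Bool.rec (fun _ => Nat) (Atab_476) (Atab_s_477_479 c) (Nat.ble 477 c)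
noncomputable def Atab_s_474_479 (c : Nat) : Nat := @Bool.rec (fun _ => Nat) (Atab_s_474_476 c) (Atab_s_476_479 c) (Nat.ble 476 c)
noncomputable def Atab_s_480_482 (c : Nat) : Nat := @Bool.rec (fun _ => Nat) (Atab_480) (Atab_481) (Nat.ble 481 c)
noncomputable def Atab_s_479_482 (c : Nat) : Nat := @Bool.rec (fun _ => Nat) (Atab_479) (Atab_s_480_482 c) (Nat.ble 480 c)
noncomputable def Atab_s_483_485 (c : Nat) : Nat := @Bool.rec (fun _ => Nat) (Atab_483) (Atab_484) (Nat.ble 484 c)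
noncomputable def Atab_s_482_485 (c : Nat) : Nat := @Bool.rec (fun _ => Nat) (Atab_482) (Atab_s_483_485 c) (Nat.ble 483 c)
noncomputable def Atab_s_479_485 (c : Nat) : Nat := @Bool.rec (fun _ => Nat) (Atab_s_479_482 c) (Atab_s_482_485 c) (Nat.ble 482 c)
noncomputable def Atab_s_474_485 (c : Nat) : Nat := @Bool.rec (fun _ => Nat) (Atab_s_474_479 c) (Atab_s_479_485 c) (Nat.ble 479 c)
noncomputable def Atab_s_464_485 (c : Nat) : Nat := @Bool.rec (fun _ => Nat) (Atab_s_464_474 c) (Atab_s_474_485 c) (Nat.ble 474 c)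
noncomputable def Atab_s_485_487 (c : Nat) : Nat := @Bool.rec (fun _ => Nat) (Atab_485) (Atab_486) (Nat.ble 486 c)
noncomputable def Atab_s_488_490 (c : Nat) : Nat := @Bool.rec (fun _ => Nat) (Atab_488) (Atab_489) (Nat.ble 489 c)
noncomputable def Atab_s_487_490 (c : Nat) : Nat := @Bool.rec (fun _ => Nat) (Atab_487) (Atab_s_488_490 c) (Nat.ble 488 c)
noncomputable def Atab_s_485_490 (c : Nat) : Nat := @Bool.rec (fun _ => Nat) (Atab_s_485_487 c) (Atab_s_487_490 c) (Nat.ble 487 c)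
noncomputable def Atab_s_491_493 (c : Nat) : Nat := @Bool.rec (fun _ => Nat) (Atab_491) (Atab_492) (Nat.ble 492 c)
noncomputable def Atab_s_490_493 (c : Nat) : Nat := @Bool.rec (fun _ => Nat) (Atab_490) (Atab_s_491_493 c) (Nat.ble 491 c)
noncomputable def Atab_s_494_496 (c : Nat) : Nat := @Bool.rec (fun _ => Nat) (Atab_494) (Atab_495) (Nat.ble 495 c)
noncomputable def Atab_s_493_496 (c : Nat) : Nat := @Bool.rec (fun _ => Nat) (Atab_493) (Atab_s_494_496 c) (Nat.ble 494 c)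
noncomputable def Atab_s_490_496 (c : Nat) : Nat := @Bool.rec (fun _ => Nat) (Atab_s_490_493 c) (Atab_s_493_496 c) (Nat.ble 493 c)
noncomputable def Atab_s_485_496 (c : Nat) : Nat := @Bool.rec (fun _ => Nat) (Atab_s_485_490 c) (Atab_s_490_496 c) (Nat.ble 490 c)
noncomputable def Atab_s_496_498 (c : Nat) : Nat := @Bool.rec (fun _ => Nat) (Atab_496) (Atab_497) (Nat.ble 497 c)
noncomputable def Atab_s_499_501 (c : Nat) : Nat := @Bool.rec (fun _ => Nat) (Atab_499) (Atab_500) (Nat.ble 500 c)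
noncomputable def Atab_s_498_501 (c : Nat) : Nat := @Bool.rec (fun _ => Nat) (Atab_498) (Atab_s_499_501 c) (Nat.ble 499 c)
noncomputable def Atab_s_496_501 (c : Nat) : Nat := @Bool.rec (fun _ => Nat) (Atab_s_496_498 c) (Atab_s_498_501 c) (Nat.ble 498 c)
noncomputable def Atab_s_502_504 (c : Nat) : Nat := @Bool.rec (fun _ => Nat) (Atab_502) (Atab_503) (Nat.ble 503 c)
noncomputable def Atab_s_501_504 (c : Nat) : Nat := @Bool.rec (fun _ => Nat) (Atab_501) (Atab_s_502_504 c) (Nat.ble 502 c)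
noncomputable def Atab_s_505_507 (c : Nat) : Nat := @Bool.rec (fun _ => Nat) (Atab_505) (Atab_506) (Nat.ble 506 c)
noncomputable def Atab_s_504_507 (c : Nat) : Nat := @Bool.rec (fun _ => Nat) (Atab_504) (Atab_s_505_507 c) (Nat.ble 505 c)
noncomputable def Atab_s_501_507 (c : Nat) : Nat := @Bool.rec (fun _ => Nat) (Atab_s_501_504 c) (Atab_s_504_507 c) (Nat.ble 504 c)
noncomputable def Atab_s_496_507 (c : Nat) : Nat := @Bool.rec (fun _ => Nat) (Atab_s_496_501 c) (Atab_s_501_507 c) (Nat.ble 501 c)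
noncomputable def Atab_s_485_507 (c : Nat) : Nat := @Bool.rec (fun _ => Nat) (Atab_s_485_496 c) (Atab_s_496_507 c) (Nat.ble 496 c)
noncomputable def Atab_s_464_507 (c : Nat) : Nat := @Bool.rec (fun _ => Nat) (Atab_s_464_485 c) (Atab_s_485_507 c) (Nat.ble 485 c)
noncomputable def Atab_s_422_507 (c : Nat) : Nat := @Bool.rec (fun _ => Nat) (Atab_s_422_464 c) (Atab_s_464_507 c) (Nat.ble 464 c)
noncomputable def Atab_s_338_507 (c : Nat) : Nat := @Bool.rec (fun _ => Nat) (Atab_s_338_422 c) (Atab_s_422_507 c) (Nat.ble 422 c)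
noncomputable def Atab_s_507_509 (c : Nat) : Nat := @Bool.rec (fun _ => Nat) (Atab_507) (Atab_508) (Nat.ble 508 c)
noncomputable def Atab_s_510_512 (c : Nat) : Nat := @Bool.rec (fun _ => Nat) (Atab_510) (Atab_511) (Nat.ble 511 c)
noncomputable def Atab_s_509_512 (c : Nat) : Nat := @Bool.rec (fun _ => Nat) (Atab_509) (Atab_s_510_512 c) (Nat.ble 510 c)
noncomputable def Atab_s_507_512 (c : Nat) : Nat := @Bool.rec (fun _ => Nat) (Atab_s_507_509 c) (Atab_s_509_512 c) (Nat.ble 509 c)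
noncomputable def Atab_s_512_514 (c : Nat) : Nat := @Bool.rec (fun _ => Nat) (Atab_512) (Atab_513) (Nat.ble 513 c)
noncomputable def Atab_s_515_517 (c : Nat) : Nat := @Bool.rec (fun _ => Nat) (Atab_515) (Atab_516) (Nat.ble 516 c)
noncomputable def Atab_s_514_517 (c : Nat) : Nat := @Bool.rec (fun _ => Nat) (Atab_514) (Atab_s_515_517 c) (Nat.ble 515 c)
noncomputable def Atab_s_512_517 (c : Nat) : Nat := @Bool.rec (fun _ => Nat) (Atab_s_512_514 c) (Atab_s_514_517 c) (Nat.ble 514 c)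
noncomputable def Atab_s_507_517 (c : Nat) : Nat := @Bool.rec (fun _ => Nat) (Atab_s_507_512 c) (Atab_s_512_517 c) (Nat.ble 512 c)
noncomputable def Atab_s_517_519 (c : Nat) : Nat := @Bool.rec (fun _ => Nat) (Atab_517) (Atab_518) (Nat.ble 518 c)
noncomputable def Atab_s_520_522 (c : Nat) : Nat := @Bool.rec (fun _ => Nat) (Atab_520) (Atab_521) (Nat.ble 521 c)
noncomputable def Atab_s_519_522 (c : Nat) : Nat := @Bool.rec (fun _ => Nat) (Atab_519) (Atab_s_520_522 c) (Nat.ble 520 c)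
noncomputable def Atab_s_517_522 (c : Nat) : Nat := @Bool.rec (fun _ => Nat) (Atab_s_517_519 c) (Atab_s_519_522 c) (Nat.ble 519 c)
noncomputable def Atab_s_523_525 (c : Nat) : Nat := @Bool.rec (fun _ => Nat) (Atab_523) (Atab_524) (Nat.ble 524 c)
noncomputable def Atab_s_522_525 (c : Nat) : Nat := @Bool.rec (fun _ => Nat) (Atab_522) (Atab_s_523_525 c) (Nat.ble 523 c)
noncomputable def Atab_s_526_528 (c : Nat) : Nat := @Bool.rec (fun _ => Nat) (Atab_526) (Atab_527) (Nat.ble 527 c)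
noncomputable def Atab_s_525_528 (c : Nat) : Nat := @Bool.rec (fun _ => Nat) (Atab_525) (Atab_s_526_528 c) (Nat.ble 526 c)
noncomputable def Atab_s_522_528 (c : Nat) : Nat := @Bool.rec (fun _ => Nat) (Atab_s_522_525 c) (Atab_s_525_528 c) (Nat.ble 525 c)
noncomputable def Atab_s_517_528 (c : Nat) : Nat := @Bool.rec (fun _ => Nat) (Atab_s_517_522 c) (Atab_s_522_528 c) (Nat.ble 522 c)
noncomputable def Atab_s_507_528 (c : Nat) : Nat := @Bool.rec (fun _ => Nat) (Atab_s_507_517 c) (Atab_s_517_528 c) (Nat.ble 517 c)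
noncomputable def Atab_s_528_530 (c : Nat) : Nat := @Bool.rec (fun _ => Nat) (Atab_528) (Atab_529) (Nat.ble 529 c)
noncomputable def Atab_s_531_533 (c : Nat) : Nat := @Bool.rec (fun _ => Nat) (Atab_531) (Atab_532) (Nat.ble 532 c)
noncomputable def Atab_s_530_533 (c : Nat) : Nat := @Bool.rec (fun _ => Nat) (Atab_530) (Atab_s_531_533 c) (Nat.ble 531 c)
noncomputable def Atab_s_528_533 (c : Nat) : Nat := @Bool.rec (fun _ => Nat) (Atab_s_528_530 c) (Atab_s_530_533 c) (Nat.ble 530 c)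
noncomputable def Atab_s_533_535 (c : Nat) : Nat := @Bool.rec (fun _ => Nat) (Atab_533) (Atab_534) (Nat.ble 534 c)
noncomputable def Atab_s_536_538 (c : Nat) : Nat := @Bool.rec (fun _ => Nat) (Atab_536) (Atab_537) (Nat.ble 537 c)
noncomputable def Atab_s_535_538 (c : Nat) : Nat := @Bool.rec (fun _ => Nat) (Atab_535) (Atab_s_536_538 c) (Nat.ble 536 c)
noncomputable def Atab_s_533_538 (c : Nat) : Nat := @Bool.rec (fun _ => Nat) (Atab_s_533_535 c) (Atab_s_535_538 c) (Nat.ble 535 c)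
noncomputable def Atab_s_528_538 (c : Nat) : Nat := @Bool.rec (fun _ => Nat) (Atab_s_528_533 c) (Atab_s_533_538 c) (Nat.ble 533 c)
noncomputable def Atab_s_538_540 (c : Nat) : Nat := @Bool.rec (fun _ => Nat) (Atab_538) (Atab_539) (Nat.ble 539 c)
noncomputable def Atab_s_541_543 (c : Nat) : Nat := @Bool.rec (fun _ => Nat) (Atab_541) (Atab_542) (Nat.ble 542 c)
noncomputable def Atab_s_540_543 (c : Nat) : Nat := @Bool.rec (fun _ => Nat) (Atab_540) (Atab_s_541_543 c) (Nat.ble 541 c)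
noncomputable def Atab_s_538_543 (c : Nat) : Nat := @Bool.rec (fun _ => Nat) (Atab_s_538_540 c) (Atab_s_540_543 c) (Nat.ble 540 c)
noncomputable def Atab_s_544_546 (c : Nat) : Nat := @Bool.rec (fun _ => Nat) (Atab_544) (Atab_545) (Nat.ble 545 c)
noncomputable def Atab_s_543_546 (c : Nat) : Nat := @Bool.rec (fun _ => Nat) (Atab_543) (Atab_s_544_546 c) (Nat.ble 544 c)
noncomputable def Atab_s_547_549 (c : Nat) : Nat := @Bool.rec (fun _ => Nat) (Atab_547) (Atab_548) (Nat.ble 548 c)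
noncomputable def Atab_s_546_549 (c : Nat) : Nat := @Bool.rec (fun _ => Nat) (Atab_546) (Atab_s_547_549 c) (Nat.ble 547 c)
noncomputable def Atab_s_543_549 (c : Nat) : Nat := @Bool.rec (fun _ => Nat) (Atab_s_543_546 c) (Atab_s_546_549 c) (Nat.ble 546 c)
noncomputable def Atab_s_538_549 (c : Nat) : Nat := @Bool.rec (fun _ => Nat) (Atab_s_538_543 c) (Atab_s_543_549 c) (Nat.ble 543 c)
noncomputable def Atab_s_528_549 (c : Nat) : Nat := @Bool.rec (fun _ => Nat) (Atab_s_528_538 c) (Atab_s_538_549 c) (Nat.ble 538 c)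
noncomputable def Atab_s_507_549 (c : Nat) : Nat := @Bool.rec (fun _ => Nat) (Atab_s_507_528 c) (Atab_s_528_549 c) (Nat.ble 528 c)
noncomputable def Atab_s_549_551 (c : Nat) : Nat := @Bool.rec (fun _ => Nat) (Atab_549) (Atab_550) (Nat.ble 550 c)
noncomputable def Atab_s_552_554 (c : Nat) : Nat := @Bool.rec (fun _ => Nat) (Atab_552) (Atab_553) (Nat.ble 553 c)
noncomputable def Atab_s_551_554 (c : Nat) : Nat := @Bool.rec (fun _ => Nat) (Atab_551) (Atab_s_552_554 c) (Nat.ble 552 c)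
noncomputable def Atab_s_549_554 (c : Nat) : Nat := @Bool.rec (fun _ => Nat) (Atab_s_549_551 c) (Atab_s_551_554 c) (Nat.ble 551 c)
noncomputable def Atab_s_554_556 (c : Nat) : Nat := @Bool.rec (fun _ => Nat) (Atab_554) (Atab_555) (Nat.ble 555 c)
noncomputable def Atab_s_557_559 (c : Nat) : Nat := @Bool.rec (fun _ => Nat) (Atab_557) (Atab_558) (Nat.ble 558 c)
noncomputable def Atab_s_556_559 (c : Nat) : Nat := @Bool.rec (fun _ => Nat) (Atab_556) (Atab_s_557_559 c) (Nat.ble 557 c)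
noncomputable def Atab_s_554_559 (c : Nat) : Nat := @Bool.rec (fun _ => Nat) (Atab_s_554_556 c) (Atab_s_556_559 c) (Nat.ble 556 c)
noncomputable def Atab_s_549_559 (c : Nat) : Nat := @Bool.rec (fun _ => Nat) (Atab_s_549_554 c) (Atab_s_554_559 c) (Nat.ble 554 c)
noncomputable def Atab_s_559_561 (c : Nat) : Nat := @Bool.rec (fun _ => Nat) (Atab_559) (Atab_560) (Nat.ble 560 c)
noncomputable def Atab_s_562_564 (c : Nat) : Nat := @Bool.rec (fun _ => Nat) (Atab_562) (Atab_563) (Nat.ble 563 c)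
noncomputable def Atab_s_561_564 (c : Nat) : Nat := @Bool.rec (fun _ => Nat) (Atab_561) (Atab_s_562_564 c) (Nat.ble 562 c)
noncomputable def Atab_s_559_564 (c : Nat) : Nat := @Bool.rec (fun _ => Nat) (Atab_s_559_561 c) (Atab_s_561_564 c) (Nat.ble 561 c)
noncomputable def Atab_s_565_567 (c : Nat) : Nat := @Bool.rec (fun _ => Nat) (Atab_565) (Atab_566) (Nat.ble 566 c)
noncomputable def Atab_s_564_567 (c : Nat) : Nat := @Bool.rec (fun _ => Nat) (Atab_564) (Atab_s_565_567 c) (Nat.ble 565 c)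
noncomputable def Atab_s_568_570 (c : Nat) : Nat := @Bool.rec (fun _ => Nat) (Atab_568) (Atab_569) (Nat.ble 569 c)
noncomputable def Atab_s_567_570 (c : Nat) : Nat := @Bool.rec (fun _ => Nat) (Atab_567) (Atab_s_568_570 c) (Nat.ble 568 c)
noncomputable def Atab_s_564_570 (c : Nat) : Nat := @Bool.rec (fun _ => Nat) (Atab_s_564_567 c) (Atab_s_567_570 c) (Nat.ble 567 c)
noncomputable def Atab_s_559_570 (c : Nat) : Nat := @Bool.rec (fun _ => Nat) (Atab_s_559_564 c) (Atab_s_564_570 c) (Nat.ble 564 c)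
noncomputable def Atab_s_549_570 (c : Nat) : Nat := @Bool.rec (fun _ => Nat) (Atab_s_549_559 c) (Atab_s_559_570 c) (Nat.ble 559 c)
noncomputable def Atab_s_570_572 (c : Nat) : Nat := @Bool.rec (fun _ => Nat) (Atab_570) (Atab_571) (Nat.ble 571 c)
noncomputable def Atab_s_573_575 (c : Nat) : Nat := @Bool.rec (fun _ => Nat) (Atab_573) (Atab_574) (Nat.ble 574 c)
noncomputable def Atab_s_572_575 (c : Nat) : Nat := @Bool.rec (fun _ => Nat) (Atab_572) (Atab_s_573_575 c) (Nat.ble 573 c)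
noncomputable def Atab_s_570_575 (c : Nat) : Nat := @Bool.rec (fun _ => Nat) (Atab_s_570_572 c) (Atab_s_572_575 c) (Nat.ble 572 c)
noncomputable def Atab_s_576_578 (c : Nat) : Nat := @Bool.rec (fun _ => Nat) (Atab_576) (Atab_577) (Nat.ble 577 c)
noncomputable def Atab_s_575_578 (c : Nat) : Nat := @Bool.rec (fun _ => Nat) (Atab_575) (Atab_s_576_578 c) (Nat.ble 576 c)
noncomputable def Atab_s_579_581 (c : Nat) : Nat := @Bool.rec (fun _ => Nat) (Atab_579) (Atab_580) (Nat.ble 580 c)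
noncomputable def Atab_s_578_581 (c : Nat) : Nat := @Bool.rec (fun _ => Nat) (Atab_578) (Atab_s_579_581 c) (Nat.ble 579 c)
noncomputable def Atab_s_575_581 (c : Nat) : Nat := @Bool.rec (fun _ => Nat) (Atab_s_575_578 c) (Atab_s_578_581 c) (Nat.ble 578 c)
noncomputable def Atab_s_570_581 (c : Nat) : Nat := @Bool.rec (fun _ => Nat) (Atab_s_570_575 c) (Atab_s_575_581 c) (Nat.ble 575 c)
noncomputable def Atab_s_581_583 (c : Nat) : Nat := @Bool.rec (fun _ => Nat) (Atab_581) (Atab_582) (Nat.ble 582 c)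
noncomputable def Atab_s_584_586 (c : Nat) : Nat := @Bool.rec (fun _ => Nat) (Atab_584) (Atab_585) (Nat.ble 585 c)
noncomputable def Atab_s_583_586 (c : Nat) : Nat := @Bool.rec (fun _ => Nat) (Atab_583) (Atab_s_584_586 c) (Nat.ble 584 c)
noncomputable def Atab_s_581_586 (c : Nat) : Nat := @Bool.rec (fun _ => Nat) (Atab_s_581_583 c) (Atab_s_583_586 c) (Nat.ble 583 c)
noncomputable def Atab_s_587_589 (c : Nat) : Nat := @Bool.rec (fun _ => Nat) (Atab_587) (Atab_588) (Nat.ble 588 c)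
noncomputable def Atab_s_586_589 (c : Nat) : Nat := @Bool.rec (fun _ => Nat) (Atab_586) (Atab_s_587_589 c) (Nat.ble 587 c)
noncomputable def Atab_s_590_592 (c : Nat) : Nat := @Bool.rec (fun _ => Nat) (Atab_590) (Atab_591) (Nat.ble 591 c)
noncomputable def Atab_s_589_592 (c : Nat) : Nat := @Bool.rec (fun _ => Nat) (Atab_589) (Atab_s_590_592 c) (Nat.ble 590 c)
noncomputable def Atab_s_586_592 (c : Nat) : Nat := @Bool.rec (fun _ => Nat) (Atab_s_586_589 c) (Atab_s_589_592 c) (Nat.ble 589 c)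
noncomputable def Atab_s_581_592 (c : Nat) : Nat := @Bool.rec (fun _ => Nat) (Atab_s_581_586 c) (Atab_s_586_592 c) (Nat.ble 586 c)
noncomputable def Atab_s_570_592 (c : Nat) : Nat := @Bool.rec (fun _ => Nat) (Atab_s_570_581 c) (Atab_s_581_592 c) (Nat.ble 581 c)
noncomputable def Atab_s_549_592 (c : Nat) : Nat := @Bool.rec (fun _ => Nat) (Atab_s_549_570 c) (Atab_s_570_592 c) (Nat.ble 570 c)
noncomputable def Atab_s_507_592 (c : Nat) : Nat := @Bool.rec (fun _ => Nat) (Atab_s_507_549 c) (Atab_s_549_592 c) (Nat.ble 549 c)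
noncomputable def Atab_s_592_594 (c : Nat) : Nat := @Bool.rec (fun _ => Nat) (Atab_592) (Atab_593) (Nat.ble 593 c)
noncomputable def Atab_s_595_597 (c : Nat) : Nat := @Bool.rec (fun _ => Nat) (Atab_595) (Atab_596) (Nat.ble 596 c)
noncomputable def Atab_s_594_597 (c : Nat) : Nat := @Bool.rec (fun _ => Nat) (Atab_594) (Atab_s_595_597 c) (Nat.ble 595 c)
noncomputable def Atab_s_592_597 (c : Nat) : Nat := @Bool.rec (fun _ => Nat) (Atab_s_592_594 c) (Atab_s_594_597 c) (Nat.ble 594 c)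
noncomputable def Atab_s_597_599 (c : Nat) : Nat := @Bool.rec (fun _ => Nat) (Atab_597) (Atab_598) (Nat.ble 598 c)
noncomputable def Atab_s_600_602 (c : Nat) : Nat := @Bool.rec (fun _ => Nat) (Atab_600) (Atab_601) (Nat.ble 601 c)
noncomputable def Atab_s_599_602 (c : Nat) : Nat := @Bool.rec (fun _ => Nat) (Atab_599) (Atab_s_600_602 c) (Nat.ble 600 c)
noncomputable def Atab_s_597_602 (c : Nat) : Nat := @Bool.rec (fun _ => Nat) (Atab_s_597_599 c) (Atab_s_599_602 c) (Nat.ble 599 c)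
noncomputable def Atab_s_592_602 (c : Nat) : Nat := @Bool.rec (fun _ => Nat) (Atab_s_592_597 c) (Atab_s_597_602 c) (Nat.ble 597 c)
noncomputable def Atab_s_602_604 (c : Nat) : Nat := @Bool.rec (fun _ => Nat) (Atab_602) (Atab_603) (Nat.ble 603 c)
noncomputable def Atab_s_605_607 (c : Nat) : Nat := @Bool.rec (fun _ => Nat) (Atab_605) (Atab_606) (Nat.ble 606 c)
noncomputable def Atab_s_604_607 (c : Nat) : Nat := @Bool.rec (fun _ => Nat) (Atab_604) (Atab_s_605_607 c) (Nat.ble 605 c)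
noncomputable def Atab_s_602_607 (c : Nat) : Nat := @Bool.rec (fun _ => Nat) (Atab_s_602_604 c) (Atab_s_604_607 c) (Nat.ble 604 c)
noncomputable def Atab_s_608_610 (c : Nat) : Nat := @Bool.rec (fun _ => Nat) (Atab_608) (Atab_609) (Nat.ble 609 c)
noncomputable def Atab_s_607_610 (c : Nat) : Nat := @Bool.rec (fun _ => Nat) (Atab_607) (Atab_s_608_610 c) (Nat.ble 608 c)
noncomputable def Atab_s_611_613 (c : Nat) : Nat := @Bool.rec (fun _ => Nat) (Atab_611) (Atab_612) (Nat.ble 612 c)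
noncomputable def Atab_s_610_613 (c : Nat) : Nat := @Bool.rec (fun _ => Nat) (Atab_610) (Atab_s_611_613 c) (Nat.ble 611 c)
noncomputable def Atab_s_607_613 (c : Nat) : Nat := @Bool.rec (fun _ => Nat) (Atab_s_607_610 c) (Atab_s_610_613 c) (Nat.ble 610 c)
noncomputable def Atab_s_602_613 (c : Nat) : Nat := @Bool.rec (fun _ => Nat) (Atab_s_602_607 c) (Atab_s_607_613 c) (Nat.ble 607 c)
noncomputable def Atab_s_592_613 (c : Nat) : Nat := @Bool.rec (fun _ => Nat) (Atab_s_592_602 c) (Atab_s_602_613 c) (Nat.ble 602 c)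
noncomputable def Atab_s_613_615 (c : Nat) : Nat := @Bool.rec (fun _ => Nat) (Atab_613) (Atab_614) (Nat.ble 614 c)
noncomputable def Atab_s_616_618 (c : Nat) : Nat := @Bool.rec (fun _ => Nat) (Atab_616) (Atab_617) (Nat.ble 617 c)
noncomputable def Atab_s_615_618 (c : Nat) : Nat := @Bool.rec (fun _ => Nat) (Atab_615) (Atab_s_616_618 c) (Nat.ble 616 c)
noncomputable def Atab_s_613_618 (c : Nat) : Nat := @Bool.rec (fun _ => Nat) (Atab_s_613_615 c) (Atab_s_615_618 c) (Nat.ble 615 c)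
noncomputable def Atab_s_618_620 (c : Nat) : Nat := @Bool.rec (fun _ => Nat) (Atab_618) (Atab_619) (Nat.ble 619 c)
noncomputable def Atab_s_621_623 (c : Nat) : Nat := @Bool.rec (fun _ => Nat) (Atab_621) (Atab_622) (Nat.ble 622 c)
noncomputable def Atab_s_620_623 (c : Nat) : Nat := @Bool.rec (fun _ => Nat) (Atab_620) (Atab_s_621_623 c) (Nat.ble 621 c)
noncomputable def Atab_s_618_623 (c : Nat) : Nat := @Bool.rec (fun _ => Nat) (Atab_s_618_620 c) (Atab_s_620_623 c) (Nat.ble 620 c)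
noncomputable def Atab_s_613_623 (c : Nat) : Nat := @Bool.rec (fun _ => Nat) (Atab_s_613_618 c) (Atab_s_618_623 c) (Nat.ble 618 c)
noncomputable def Atab_s_623_625 (c : Nat) : Nat := @Bool.rec (fun _ => Nat) (Atab_623) (Atab_624) (Nat.ble 624 c)
noncomputable def Atab_s_626_628 (c : Nat) : Nat := @Bool.rec (fun _ => Nat) (Atab_626) (Atab_627) (Nat.ble 627 c)
noncomputable def Atab_s_625_628 (c : Nat) : Nat := @Bool.rec (fun _ => Nat) (Atab_625) (Atab_s_626_628 c) (Nat.ble 626 c)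
noncomputable def Atab_s_623_628 (c : Nat) : Nat := @Bool.rec (fun _ => Nat) (Atab_s_623_625 c) (Atab_s_625_628 c) (Nat.ble 625 c)
noncomputable def Atab_s_629_631 (c : Nat) : Nat := @Bool.rec (fun _ => Nat) (Atab_629) (Atab_630) (Nat.ble 630 c)
noncomputable def Atab_s_628_631 (c : Nat) : Nat := @Bool.rec (fun _ => Nat) (Atab_628) (Atab_s_629_631 c) (Nat.ble 629 c)
noncomputable def Atab_s_632_634 (c : Nat) : Nat := @Bool.rec (fun _ => Nat) (Atab_632) (Atab_633) (Nat.ble 633 c)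
noncomputable def Atab_s_631_634 (c : Nat) : Nat := @Bool.rec (fun _ => Nat) (Atab_631) (Atab_s_632_634 c) (Nat.ble 632 c)
noncomputable def Atab_s_628_634 (c : Nat) : Nat := @Bool.rec (fun _ => Nat) (Atab_s_628_631 c) (Atab_s_631_634 c) (Nat.ble 631 c)
noncomputable def Atab_s_623_634 (c : Nat) : Nat := @Bool.rec (fun _ => Nat) (Atab_s_623_628 c) (Atab_s_628_634 c) (Nat.ble 628 c)
noncomputable def Atab_s_613_634 (c : Nat) : Nat := @Bool.rec (fun _ => Nat) (Atab_s_613_623 c) (Atab_s_623_634 c) (Nat.ble 623 c)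
noncomputable def Atab_s_592_634 (c : Nat) : Nat := @Bool.rec (fun _ => Nat) (Atab_s_592_613 c) (Atab_s_613_634 c) (Nat.ble 613 c)
noncomputable def Atab_s_634_636 (c : Nat) : Nat := @Bool.rec (fun _ => Nat) (Atab_634) (Atab_635) (Nat.ble 635 c)
noncomputable def Atab_s_637_639 (c : Nat) : Nat := @Bool.rec (fun _ => Nat) (Atab_637) (Atab_638) (Nat.ble 638 c)
noncomputable def Atab_s_636_639 (c : Nat) : Nat := @Bool.rec (fun _ => Nat) (Atab_636) (Atab_s_637_639 c) (Nat.ble 637 c)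
noncomputable def Atab_s_634_639 (c : Nat) : Nat := @Bool.rec (fun _ => Nat) (Atab_s_634_636 c) (Atab_s_636_639 c) (Nat.ble 636 c)
noncomputable def Atab_s_639_641 (c : Nat) : Nat := @Bool.rec (fun _ => Nat) (Atab_639) (Atab_640) (Nat.ble 640 c)
noncomputable def Atab_s_642_644 (c : Nat) : Nat := @Bool.rec (fun _ => Nat) (Atab_642) (Atab_643) (Nat.ble 643 c)
noncomputable def Atab_s_641_644 (c : Nat) : Nat := @Bool.rec (fun _ => Nat) (Atab_641) (Atab_s_642_644 c) (Nat.ble 642 c)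
noncomputable def Atab_s_639_644 (c : Nat) : Nat := @Bool.rec (fun _ => Nat) (Atab_s_639_641 c) (Atab_s_641_644 c) (Nat.ble 641 c)
noncomputable def Atab_s_634_644 (c : Nat) : Nat := @Bool.rec (fun _ => Nat) (Atab_s_634_639 c) (Atab_s_639_644 c) (Nat.ble 639 c)
noncomputable def Atab_s_644_646 (c : Nat) : Nat := @Bool.rec (fun _ => Nat) (Atab_644) (Atab_645) (Nat.ble 645 c)
noncomputable def Atab_s_647_649 (c : Nat) : Nat := @Bool.rec (fun _ => Nat) (Atab_647) (Atab_648) (Nat.ble 648 c)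
noncomputable def Atab_s_646_649 (c : Nat) : Nat := @Bool.rec (fun _ => Nat) (Atab_646) (Atab_s_647_649 c) (Nat.ble 647 c)
noncomputable def Atab_s_644_649 (c : Nat) : Nat := @Bool.rec (fun _ => Nat) (Atab_s_644_646 c) (Atab_s_646_649 c) (Nat.ble 646 c)
noncomputable def Atab_s_650_652 (c : Nat) : Nat := @Bool.rec (fun _ => Nat) (Atab_650) (Atab_651) (Nat.ble 651 c)
noncomputable def Atab_s_649_652 (c : Nat) : Nat := @Bool.rec (fun _ => Nat) (Atab_649) (Atab_s_650_652 c) (Nat.ble 650 c)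
noncomputable def Atab_s_653_655 (c : Nat) : Nat := @Bool.rec (fun _ => Nat) (Atab_653) (Atab_654) (Nat.ble 654 c)
noncomputable def Atab_s_652_655 (c : Nat) : Nat := @Bool.rec (fun _ => Nat) (Atab_652) (Atab_s_653_655 c) (Nat.ble 653 c)
noncomputable def Atab_s_649_655 (c : Nat) : Nat := @Bool.rec (fun _ => Nat) (Atab_s_649_652 c) (Atab_s_652_655 c) (Nat.ble 652 c)
noncomputable def Atab_s_644_655 (c : Nat) : Nat := @Bool.rec (fun _ => Nat) (Atab_s_644_649 c) (Atab_s_649_655 c) (Nat.ble 649 c)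
noncomputable def Atab_s_634_655 (c : Nat) : Nat := @Bool.rec (fun _ => Nat) (Atab_s_634_644 c) (Atab_s_644_655 c) (Nat.ble 644 c)
noncomputable def Atab_s_655_657 (c : Nat) : Nat := @Bool.rec (fun _ => Nat) (Atab_655) (Atab_656) (Nat.ble 656 c)
noncomputable def Atab_s_658_660 (c : Nat) : Nat := @Bool.rec (fun _ => Nat) (Atab_658) (Atab_659) (Nat.ble 659 c)
noncomputable def Atab_s_657_660 (c : Nat) : Nat := @Bool.rec (fun _ => Nat) (Atab_657) (Atab_s_658_660 c) (Nat.ble 658 c)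
noncomputable def Atab_s_655_660 (c : Nat) : Nat := @Bool.rec (fun _ => Nat) (Atab_s_655_657 c) (Atab_s_657_660 c) (Nat.ble 657 c)
noncomputable def Atab_s_661_663 (c : Nat) : Nat := @Bool.rec (fun _ => Nat) (Atab_661) (Atab_662) (Nat.ble 662 c)
noncomputable def Atab_s_660_663 (c : Nat) : Nat := @Bool.rec (fun _ => Nat) (Atab_660) (Atab_s_661_663 c) (Nat.ble 661 c)
noncomputable def Atab_s_664_666 (c : Nat) : Nat := @Bool.rec (fun _ => Nat) (Atab_664) (Atab_665) (Nat.ble 665 c)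
noncomputable def Atab_s_663_666 (c : Nat) : Nat := @Bool.rec (fun _ => Nat) (Atab_663) (Atab_s_664_666 c) (Nat.ble 664 c)
noncomputable def Atab_s_660_666 (c : Nat) : Nat := @Bool.rec (fun _ => Nat) (Atab_s_660_663 c) (Atab_s_663_666 c) (Nat.ble 663 c)
noncomputable def Atab_s_655_666 (c : Nat) : Nat := @Bool.rec (fun _ => Nat) (Atab_s_655_660 c) (Atab_s_660_666 c) (Nat.ble 660 c)
noncomputable def Atab_s_666_668 (c : Nat) : Nat := @Bool.rec (fun _ => Nat) (Atab_666) (Atab_667) (Nat.ble 667 c)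
noncomputable def Atab_s_669_671 (c : Nat) : Nat := @Bool.rec (fun _ => Nat) (Atab_669) (Atab_670) (Nat.ble 670 c)
noncomputable def Atab_s_668_671 (c : Nat) : Nat := @Bool.rec (fun _ => Nat) (Atab_668) (Atab_s_669_671 c) (Nat.ble 669 c)
noncomputable def Atab_s_666_671 (c : Nat) : Nat := @Bool.rec (fun _ => Nat) (Atab_s_666_668 c) (Atab_s_668_671 c) (Nat.ble 668 c)
noncomputable def Atab_s_672_674 (c : Nat) : Nat := @Bool.rec (fun _ => Nat) (Atab_672) (Atab_673) (Nat.ble 673 c)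
noncomputable def Atab_s_671_674 (c : Nat) : Nat := @Bool.rec (fun _ => Nat) (Atab_671) (Atab_s_672_674 c) (Nat.ble 672 c)
noncomputable def Atab_s_675_677 (c : Nat) : Nat := @Bool.rec (fun _ => Nat) (Atab_675) (Atab_676) (Nat.ble 676 c)
noncomputable def Atab_s_674_677 (c : Nat) : Nat := @Bool.rec (fun _ => Nat) (Atab_674) (Atab_s_675_677 c) (Nat.ble 675 c)
noncomputable def Atab_s_671_677 (c : Nat) : Nat := @Bool.rec (fun _ => Nat) (Atab_s_671_674 c) (Atab_s_674_677 c) (Nat.ble 674 c)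
noncomputable def Atab_s_666_677 (c : Nat) : Nat := @Bool.rec (fun _ => Nat) (Atab_s_666_671 c) (Atab_s_671_677 c) (Nat.ble 671 c)
noncomputable def Atab_s_655_677 (c : Nat) : Nat := @Bool.rec (fun _ => Nat) (Atab_s_655_666 c) (Atab_s_666_677 c) (Nat.ble 666 c)
noncomputable def Atab_s_634_677 (c : Nat) : Nat := @Bool.rec (fun _ => Nat) (Atab_s_634_655 c) (Atab_s_655_677 c) (Nat.ble 655 c)
noncomputable def Atab_s_592_677 (c : Nat) : Nat := @Bool.rec (fun _ => Nat) (Atab_s_592_634 c) (Atab_s_634_677 c) (Nat.ble 634 c)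
noncomputable def Atab_s_507_677 (c : Nat) : Nat := @Bool.rec (fun _ => Nat) (Atab_s_507_592 c) (Atab_s_592_677 c) (Nat.ble 592 c)
noncomputable def Atab_s_338_677 (c : Nat) : Nat := @Bool.rec (fun _ => Nat) (Atab_s_338_507 c) (Atab_s_507_677 c) (Nat.ble 507 c)
noncomputable def Atab_s_0_677 (c : Nat) : Nat := @Bool.rec (fun _ => Nat) (Atab_s_0_338 c) (Atab_s_338_677 c) (Nat.ble 338 c)
noncomputable def Atab (i : Nat) : Nat := rdw 43 8796093022207 (Atab_s_0_677 (Nat.shiftRight i 11)) (Nat.land i 2047)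
noncomputable def Btab_s_1_3 (c : Nat) : Nat := @Bool.rec (fun _ => Nat) (Btab_1) (Btab_2) (Nat.ble 2 c)
noncomputable def Btab_s_0_3 (c : Nat) : Nat := @Bool.rec (fun _ => Nat) (Btab_0) (Btab_s_1_3 c) (Nat.ble 1 c)
noncomputable def Btab_s_4_6 (c : Nat) : Nat := @Bool.rec (fun _ => Nat) (Btab_4) (Btab_5) (Nat.ble 5 c)
noncomputable def Btab_s_3_6 (c : Nat) : Nat := @Bool.rec (fun _ => Nat) (Btab_3) (Btab_s_4_6 c) (Nat.ble 4 c)
noncomputable def Btab_s_0_6 (c : Nat) : Nat := @Bool.rec (fun _ => Nat) (Btab_s_0_3 c) (Btab_s_3_6 c) (Nat.ble 3 c)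
noncomputable def Btab_s_7_9 (c : Nat) : Nat := @Bool.rec (fun _ => Nat) (Btab_7) (Btab_8) (Nat.ble 8 c)
noncomputable def Btab_s_6_9 (c : Nat) : Nat := @Bool.rec (fun _ => Nat) (Btab_6) (Btab_s_7_9 c) (Nat.ble 7 c)
noncomputable def Btab_s_10_12 (c : Nat) : Nat := @Bool.rec (fun _ => Nat) (Btab_10) (Btab_11) (Nat.ble 11 c)
noncomputable def Btab_s_9_12 (c : Nat) : Nat := @Bool.rec (fun _ => Nat) (Btab_9) (Btab_s_10_12 c) (Nat.ble 10 c)
noncomputable def Btab_s_6_12 (c : Nat) : Nat := @Bool.rec (fun _ => Nat) (Btab_s_6_9 c) (Btab_s_9_12 c) (Nat.ble 9 c)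
noncomputable def Btab_s_0_12 (c : Nat) : Nat := @Bool.rec (fun _ => Nat) (Btab_s_0_6 c) (Btab_s_6_12 c) (Nat.ble 6 c)
noncomputable def Btab_s_13_15 (c : Nat) : Nat := @Bool.rec (fun _ => Nat) (Btab_13) (Btab_14) (Nat.ble 14 c)
noncomputable def Btab_s_12_15 (c : Nat) : Nat := @Bool.rec (fun _ => Nat) (Btab_12) (Btab_s_13_15 c) (Nat.ble 13 c)
noncomputable def Btab_s_16_18 (c : Nat) : Nat := @Bool.rec (fun _ => Nat) (Btab_16) (Btab_17) (Nat.ble 17 c)
noncomputable def Btab_s_15_18 (c : Nat) : Nat := @Bool.rec (fun _ => Nat) (Btab_15) (Btab_s_16_18 c) (Nat.ble 16 c)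
noncomputable def Btab_s_12_18 (c : Nat) : Nat := @Bool.rec (fun _ => Nat) (Btab_s_12_15 c) (Btab_s_15_18 c) (Nat.ble 15 c)
noncomputable def Btab_s_19_21 (c : Nat) : Nat := @Bool.rec (fun _ => Nat) (Btab_19) (Btab_20) (Nat.ble 20 c)
noncomputable def Btab_s_18_21 (c : Nat) : Nat := @Bool.rec (fun _ => Nat) (Btab_18) (Btab_s_19_21 c) (Nat.ble 19 c)
noncomputable def Btab_s_22_24 (c : Nat) : Nat := @Bool.rec (fun _ => Nat) (Btab_22) (Btab_23) (Nat.ble 23 c)
noncomputable def Btab_s_21_24 (c : Nat) : Nat := @Bool.rec (fun _ => Nat) (Btab_21) (Btab_s_22_24 c) (Nat.ble 22 c)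
noncomputable def Btab_s_18_24 (c : Nat) : Nat := @Bool.rec (fun _ => Nat) (Btab_s_18_21 c) (Btab_s_21_24 c) (Nat.ble 21 c)
noncomputable def Btab_s_12_24 (c : Nat) : Nat := @Bool.rec (fun _ => Nat) (Btab_s_12_18 c) (Btab_s_18_24 c) (Nat.ble 18 c)
noncomputable def Btab_s_0_24 (c : Nat) : Nat := @Bool.rec (fun _ => Nat) (Btab_s_0_12 c) (Btab_s_12_24 c) (Nat.ble 12 c)
noncomputable def Btab_s_25_27 (c : Nat) : Nat := @Bool.rec (fun _ => Nat) (Btab_25) (Btab_26) (Nat.ble 26 c)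
noncomputable def Btab_s_24_27 (c : Nat) : Nat := @Bool.rec (fun _ => Nat) (Btab_24) (Btab_s_25_27 c) (Nat.ble 25 c)
noncomputable def Btab_s_28_30 (c : Nat) : Nat := @Bool.rec (fun _ => Nat) (Btab_28) (Btab_29) (Nat.ble 29 c)
noncomputable def Btab_s_27_30 (c : Nat) : Nat := @Bool.rec (fun _ => Nat) (Btab_27) (Btab_s_28_30 c) (Nat.ble 28 c)
noncomputable def Btab_s_24_30 (c : Nat) : Nat := @Bool.rec (fun _ => Nat) (Btab_s_24_27 c) (Btab_s_27_30 c) (Nat.ble 27 c)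
noncomputable def Btab_s_31_33 (c : Nat) : Nat := @Bool.rec (fun _ => Nat) (Btab_31) (Btab_32) (Nat.ble 32 c)
noncomputable def Btab_s_30_33 (c : Nat) : Nat := @Bool.rec (fun _ => Nat) (Btab_30) (Btab_s_31_33 c) (Nat.ble 31 c)
noncomputable def Btab_s_34_36 (c : Nat) : Nat := @Bool.rec (fun _ => Nat) (Btab_34) (Btab_35) (Nat.ble 35 c)
noncomputable def Btab_s_33_36 (c : Nat) : Nat := @Bool.rec (fun _ => Nat) (Btab_33) (Btab_s_34_36 c) (Nat.ble 34 c)
noncomputable def Btab_s_30_36 (c : Nat) : Nat := @Bool.rec (fun _ => Nat) (Btab_s_30_33 c) (Btab_s_33_36 c) (Nat.ble 33 c)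
noncomputable def Btab_s_24_36 (c : Nat) : Nat := @Bool.rec (fun _ => Nat) (Btab_s_24_30 c) (Btab_s_30_36 c) (Nat.ble 30 c)
noncomputable def Btab_s_37_39 (c : Nat) : Nat := @Bool.rec (fun _ => Nat) (Btab_37) (Btab_38) (Nat.ble 38 c)
noncomputable def Btab_s_36_39 (c : Nat) : Nat := @Bool.rec (fun _ => Nat) (Btab_36) (Btab_s_37_39 c) (Nat.ble 37 c)
noncomputable def Btab_s_40_42 (c : Nat) : Nat := @Bool.rec (fun _ => Nat) (Btab_40) (Btab_41) (Nat.ble 41 c)
noncomputable def Btab_s_39_42 (c : Nat) : Nat := @Bool.rec (fun _ => Nat) (Btab_39) (Btab_s_40_42 c) (Nat.ble 40 c)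
noncomputable def Btab_s_36_42 (c : Nat) : Nat := @Bool.rec (fun _ => Nat) (Btab_s_36_39 c) (Btab_s_39_42 c) (Nat.ble 39 c)
noncomputable def Btab_s_43_45 (c : Nat) : Nat := @Bool.rec (fun _ => Nat) (Btab_43) (Btab_44) (Nat.ble 44 c)
noncomputable def Btab_s_42_45 (c : Nat) : Nat := @Bool.rec (fun _ => Nat) (Btab_42) (Btab_s_43_45 c) (Nat.ble 43 c)
noncomputable def Btab_s_46_48 (c : Nat) : Nat := @Bool.rec (fun _ => Nat) (Btab_46) (Btab_47) (Nat.ble 47 c)
noncomputable def Btab_s_45_48 (c : Nat) : Nat := @Bool.rec (fun _ => Nat) (Btab_45) (Btab_s_46_48 c) (Nat.ble 46 c)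
noncomputable def Btab_s_42_48 (c : Nat) : Nat := @Bool.rec (fun _ => Nat) (Btab_s_42_45 c) (Btab_s_45_48 c) (Nat.ble 45 c)
noncomputable def Btab_s_36_48 (c : Nat) : Nat := @Bool.rec (fun _ => Nat) (Btab_s_36_42 c) (Btab_s_42_48 c) (Nat.ble 42 c)
noncomputable def Btab_s_24_48 (c : Nat) : Nat := @Bool.rec (fun _ => Nat) (Btab_s_24_36 c) (Btab_s_36_48 c) (Nat.ble 36 c)
noncomputable def Btab_s_0_48 (c : Nat) : Nat := @Bool.rec (fun _ => Nat) (Btab_s_0_24 c) (Btab_s_24_48 c) (Nat.ble 24 c)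
noncomputable def Btab_s_49_51 (c : Nat) : Nat := @Bool.rec (fun _ => Nat) (Btab_49) (Btab_50) (Nat.ble 50 c)
noncomputable def Btab_s_48_51 (c : Nat) : Nat := @Bool.rec (fun _ => Nat) (Btab_48) (Btab_s_49_51 c) (Nat.ble 49 c)
noncomputable def Btab_s_52_54 (c : Nat) : Nat := @Bool.rec (fun _ => Nat) (Btab_52) (Btab_53) (Nat.ble 53 c)
noncomputable def Btab_s_51_54 (c : Nat) : Nat := @Bool.rec (fun _ => Nat) (Btab_51) (Btab_s_52_54 c) (Nat.ble 52 c)
noncomputable def Btab_s_48_54 (c : Nat) : Nat := @Bool.rec (fun _ => Nat) (Btab_s_48_51 c) (Btab_s_51_54 c) (Nat.ble 51 c)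
noncomputable def Btab_s_55_57 (c : Nat) : Nat := @Bool.rec (fun _ => Nat) (Btab_55) (Btab_56) (Nat.ble 56 c)
noncomputable def Btab_s_54_57 (c : Nat) : Nat := @Bool.rec (fun _ => Nat) (Btab_54) (Btab_s_55_57 c) (Nat.ble 55 c)
noncomputable def Btab_s_58_60 (c : Nat) : Nat := @Bool.rec (fun _ => Nat) (Btab_58) (Btab_59) (Nat.ble 59 c)
noncomputable def Btab_s_57_60 (c : Nat) : Nat := @Bool.rec (fun _ => Nat) (Btab_57) (Btab_s_58_60 c) (Nat.ble 58 c)
noncomputable def Btab_s_54_60 (c : Nat) : Nat := @Bool.rec (fun _ => Nat) (Btab_s_54_57 c) (Btab_s_57_60 c) (Nat.ble 57 c)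
noncomputable def Btab_s_48_60 (c : Nat) : Nat := @Bool.rec (fun _ => Nat) (Btab_s_48_54 c) (Btab_s_54_60 c) (Nat.ble 54 c)
noncomputable def Btab_s_61_63 (c : Nat) : Nat := @Bool.rec (fun _ => Nat) (Btab_61) (Btab_62) (Nat.ble 62 c)
noncomputable def Btab_s_60_63 (c : Nat) : Nat := @Bool.rec (fun _ => Nat) (Btab_60) (Btab_s_61_63 c) (Nat.ble 61 c)
noncomputable def Btab_s_64_66 (c : Nat) : Nat := @Bool.rec (fun _ => Nat) (Btab_64) (Btab_65) (Nat.ble 65 c)
noncomputable def Btab_s_63_66 (c : Nat) : Nat := @Bool.rec (fun _ => Nat) (Btab_63) (Btab_s_64_66 c) (Nat.ble 64 c)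
noncomputable def Btab_s_60_66 (c : Nat) : Nat := @Bool.rec (fun _ => Nat) (Btab_s_60_63 c) (Btab_s_63_66 c) (Nat.ble 63 c)
noncomputable def Btab_s_67_69 (c : Nat) : Nat := @Bool.rec (fun _ => Nat) (Btab_67) (Btab_68) (Nat.ble 68 c)
noncomputable def Btab_s_66_69 (c : Nat) : Nat := @Bool.rec (fun _ => Nat) (Btab_66) (Btab_s_67_69 c) (Nat.ble 67 c)
noncomputable def Btab_s_70_72 (c : Nat) : Nat := @Bool.rec (fun _ => Nat) (Btab_70) (Btab_71) (Nat.ble 71 c)
noncomputable def Btab_s_69_72 (c : Nat) : Nat := @Bool.rec (fun _ => Nat) (Btab_69) (Btab_s_70_72 c) (Nat.ble 70 c)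
noncomputable def Btab_s_66_72 (c : Nat) : Nat := @Bool.rec (fun _ => Nat) (Btab_s_66_69 c) (Btab_s_69_72 c) (Nat.ble 69 c)
noncomputable def Btab_s_60_72 (c : Nat) : Nat := @Bool.rec (fun _ => Nat) (Btab_s_60_66 c) (Btab_s_66_72 c) (Nat.ble 66 c)
noncomputable def Btab_s_48_72 (c : Nat) : Nat := @Bool.rec (fun _ => Nat) (Btab_s_48_60 c) (Btab_s_60_72 c) (Nat.ble 60 c)
noncomputable def Btab_s_73_75 (c : Nat) : Nat := @Bool.rec (fun _ => Nat) (Btab_73) (Btab_74) (Nat.ble 74 c)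
noncomputable def Btab_s_72_75 (c : Nat) : Nat := @Bool.rec (fun _ => Nat) (Btab_72) (Btab_s_73_75 c) (Nat.ble 73 c)
noncomputable def Btab_s_76_78 (c : Nat) : Nat := @Bool.rec (fun _ => Nat) (Btab_76) (Btab_77) (Nat.ble 77 c)
noncomputable def Btab_s_75_78 (c : Nat) : Nat := @Bool.rec (fun _ => Nat) (Btab_75) (Btab_s_76_78 c) (Nat.ble 76 c)
noncomputable def Btab_s_72_78 (c : Nat) : Nat := @Bool.rec (fun _ => Nat) (Btab_s_72_75 c) (Btab_s_75_78 c) (Nat.ble 75 c)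
noncomputable def Btab_s_79_81 (c : Nat) : Nat := @Bool.rec (fun _ => Nat) (Btab_79) (Btab_80) (Nat.ble 80 c)
noncomputable def Btab_s_78_81 (c : Nat) : Nat := @Bool.rec (fun _ => Nat) (Btab_78) (Btab_s_79_81 c) (Nat.ble 79 c)
noncomputable def Btab_s_82_84 (c : Nat) : Nat := @Bool.rec (fun _ => Nat) (Btab_82) (Btab_83) (Nat.ble 83 c)
noncomputable def Btab_s_81_84 (c : Nat) : Nat := @Bool.rec (fun _ => Nat) (Btab_81) (Btab_s_82_84 c) (Nat.ble 82 c)
noncomputable def Btab_s_78_84 (c : Nat) : Nat := @Bool.rec (fun _ => Nat) (Btab_s_78_81 c) (Btab_s_81_84 c) (Nat.ble 81 c)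
noncomputable def Btab_s_72_84 (c : Nat) : Nat := @Bool.rec (fun _ => Nat) (Btab_s_72_78 c) (Btab_s_78_84 c) (Nat.ble 78 c)
noncomputable def Btab_s_85_87 (c : Nat) : Nat := @Bool.rec (fun _ => Nat) (Btab_85) (Btab_86) (Nat.ble 86 c)
noncomputable def Btab_s_84_87 (c : Nat) : Nat := @Bool.rec (fun _ => Nat) (Btab_84) (Btab_s_85_87 c) (Nat.ble 85 c)
noncomputable def Btab_s_88_90 (c : Nat) : Nat := @Bool.rec (fun _ => Nat) (Btab_88) (Btab_89) (Nat.ble 89 c)
noncomputable def Btab_s_87_90 (c : Nat) : Nat := @Bool.rec (fun _ => Nat) (Btab_87) (Btab_s_88_90 c) (Nat.ble 88 c)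
noncomputable def Btab_s_84_90 (c : Nat) : Nat := @Bool.rec (fun _ => Nat) (Btab_s_84_87 c) (Btab_s_87_90 c) (Nat.ble 87 c)
noncomputable def Btab_s_91_93 (c : Nat) : Nat := @Bool.rec (fun _ => Nat) (Btab_91) (Btab_92) (Nat.ble 92 c)
noncomputable def Btab_s_90_93 (c : Nat) : Nat := @Bool.rec (fun _ => Nat) (Btab_90) (Btab_s_91_93 c) (Nat.ble 91 c)
noncomputable def Btab_s_94_96 (c : Nat) : Nat := @Bool.rec (fun _ => Nat) (Btab_94) (Btab_95) (Nat.ble 95 c)
noncomputable def Btab_s_93_96 (c : Nat) : Nat := @Bool.rec (fun _ => Nat) (Btab_93) (Btab_s_94_96 c) (Nat.ble 94 c)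
noncomputable def Btab_s_90_96 (c : Nat) : Nat := @Bool.rec (fun _ => Nat) (Btab_s_90_93 c) (Btab_s_93_96 c) (Nat.ble 93 c)
noncomputable def Btab_s_84_96 (c : Nat) : Nat := @Bool.rec (fun _ => Nat) (Btab_s_84_90 c) (Btab_s_90_96 c) (Nat.ble 90 c)
noncomputable def Btab_s_72_96 (c : Nat) : Nat := @Bool.rec (fun _ => Nat) (Btab_s_72_84 c) (Btab_s_84_96 c) (Nat.ble 84 c)
noncomputable def Btab_s_48_96 (c : Nat) : Nat := @Bool.rec (fun _ => Nat) (Btab_s_48_72 c) (Btab_s_72_96 c) (Nat.ble 72 c)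
noncomputable def Btab_s_0_96 (c : Nat) : Nat := @Bool.rec (fun _ => Nat) (Btab_s_0_48 c) (Btab_s_48_96 c) (Nat.ble 48 c)
noncomputable def Btab_s_97_99 (c : Nat) : Nat := @Bool.rec (fun _ => Nat) (Btab_97) (Btab_98) (Nat.ble 98 c)
noncomputable def Btab_s_96_99 (c : Nat) : Nat := @Bool.rec (fun _ => Nat) (Btab_96) (Btab_s_97_99 c) (Nat.ble 97 c)
noncomputable def Btab_s_100_102 (c : Nat) : Nat := @Bool.rec (fun _ => Nat) (Btab_100) (Btab_101) (Nat.ble 101 c)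
noncomputable def Btab_s_99_102 (c : Nat) : Nat := @Bool.rec (fun _ => Nat) (Btab_99) (Btab_s_100_102 c) (Nat.ble 100 c)
noncomputable def Btab_s_96_102 (c : Nat) : Nat := @Bool.rec (fun _ => Nat) (Btab_s_96_99 c) (Btab_s_99_102 c) (Nat.ble 99 c)
noncomputable def Btab_s_103_105 (c : Nat) : Nat := @Bool.rec (fun _ => Nat) (Btab_103) (Btab_104) (Nat.ble 104 c)
noncomputable def Btab_s_102_105 (c : Nat) : Nat := @Bool.rec (fun _ => Nat) (Btab_102) (Btab_s_103_105 c) (Nat.ble 103 c)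
noncomputable def Btab_s_106_108 (c : Nat) : Nat := @Bool.rec (fun _ => Nat) (Btab_106) (Btab_107) (Nat.ble 107 c)
noncomputable def Btab_s_105_108 (c : Nat) : Nat := @Bool.rec (fun _ => Nat) (Btab_105) (Btab_s_106_108 c) (Nat.ble 106 c)
noncomputable def Btab_s_102_108 (c : Nat) : Nat := @Bool.rec (fun _ => Nat) (Btab_s_102_105 c) (Btab_s_105_108 c) (Nat.ble 105 c)
noncomputable def Btab_s_96_108 (c : Nat) : Nat := @Bool.rec (fun _ => Nat) (Btab_s_96_102 c) (Btab_s_102_108 c) (Nat.ble 102 c)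
noncomputable def Btab_s_109_111 (c : Nat) : Nat := @Bool.rec (fun _ => Nat) (Btab_109) (Btab_110) (Nat.ble 110 c)
noncomputable def Btab_s_108_111 (c : Nat) : Nat := @Bool.rec (fun _ => Nat) (Btab_108) (Btab_s_109_111 c) (Nat.ble 109 c)
noncomputable def Btab_s_112_114 (c : Nat) : Nat := @Bool.rec (fun _ => Nat) (Btab_112) (Btab_113) (Nat.ble 113 c)
noncomputable def Btab_s_111_114 (c : Nat) : Nat := @Bool.rec (fun _ => Nat) (Btab_111) (Btab_s_112_114 c) (Nat.ble 112 c)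
noncomputable def Btab_s_108_114 (c : Nat) : Nat := @Bool.rec (fun _ => Nat) (Btab_s_108_111 c) (Btab_s_111_114 c) (Nat.ble 111 c)
noncomputable def Btab_s_115_117 (c : Nat) : Nat := @Bool.rec (fun _ => Nat) (Btab_115) (Btab_116) (Nat.ble 116 c)
noncomputable def Btab_s_114_117 (c : Nat) : Nat := @Bool.rec (fun _ => Nat) (Btab_114) (Btab_s_115_117 c) (Nat.ble 115 c)
noncomputable def Btab_s_118_120 (c : Nat) : Nat := @Bool.rec (fun _ => Nat) (Btab_118) (Btab_119) (Nat.ble 119 c)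
noncomputable def Btab_s_117_120 (c : Nat) : Nat := @Bool.rec (fun _ => Nat) (Btab_117) (Btab_s_118_120 c) (Nat.ble 118 c)
noncomputable def Btab_s_114_120 (c : Nat) : Nat := @Bool.rec (fun _ => Nat) (Btab_s_114_117 c) (Btab_s_117_120 c) (Nat.ble 117 c)
noncomputable def Btab_s_108_120 (c : Nat) : Nat := @Bool.rec (fun _ => Nat) (Btab_s_108_114 c) (Btab_s_114_120 c) (Nat.ble 114 c)
noncomputable def Btab_s_96_120 (c : Nat) : Nat := @Bool.rec (fun _ => Nat) (Btab_s_96_108 c) (Btab_s_108_120 c) (Nat.ble 108 c)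
noncomputable def Btab_s_121_123 (c : Nat) : Nat := @Bool.rec (fun _ => Nat) (Btab_121) (Btab_122) (Nat.ble 122 c)
noncomputable def Btab_s_120_123 (c : Nat) : Nat := @Bool.rec (fun _ => Nat) (Btab_120) (Btab_s_121_123 c) (Nat.ble 121 c)
noncomputable def Btab_s_124_126 (c : Nat) : Nat := @Bool.rec (fun _ => Nat) (Btab_124) (Btab_125) (Nat.ble 125 c)
noncomputable def Btab_s_123_126 (c : Nat) : Nat := @Bool.rec (fun _ => Nat) (Btab_123) (Btab_s_124_126 c) (Nat.ble 124 c)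
noncomputable def Btab_s_120_126 (c : Nat) : Nat := @Bool.rec (fun _ => Nat) (Btab_s_120_123 c) (Btab_s_123_126 c) (Nat.ble 123 c)
noncomputable def Btab_s_127_129 (c : Nat) : Nat := @Bool.rec (fun _ => Nat) (Btab_127) (Btab_128) (Nat.ble 128 c)
noncomputable def Btab_s_126_129 (c : Nat) : Nat := @Bool.rec (fun _ => Nat) (Btab_126) (Btab_s_127_129 c) (Nat.ble 127 c)
noncomputable def Btab_s_130_132 (c : Nat) : Nat := @Bool.rec (fun _ => Nat) (Btab_130) (Btab_131) (Nat.ble 131 c)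
noncomputable def Btab_s_129_132 (c : Nat) : Nat := @Bool.rec (fun _ => Nat) (Btab_129) (Btab_s_130_132 c) (Nat.ble 130 c)
noncomputable def Btab_s_126_132 (c : Nat) : Nat := @Bool.rec (fun _ => Nat) (Btab_s_126_129 c) (Btab_s_129_132 c) (Nat.ble 129 c)
noncomputable def Btab_s_120_132 (c : Nat) : Nat := @Bool.rec (fun _ => Nat) (Btab_s_120_126 c) (Btab_s_126_132 c) (Nat.ble 126 c)
noncomputable def Btab_s_133_135 (c : Nat) : Nat := @Bool.rec (fun _ => Nat) (Btab_133) (Btab_134) (Nat.ble 134 c)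
noncomputable def Btab_s_132_135 (c : Nat) : Nat := @Bool.rec (fun _ => Nat) (Btab_132) (Btab_s_133_135 c) (Nat.ble 133 c)
noncomputable def Btab_s_136_138 (c : Nat) : Nat := @Bool.rec (fun _ => Nat) (Btab_136) (Btab_137) (Nat.ble 137 c)
noncomputable def Btab_s_135_138 (c : Nat) : Nat := @Bool.rec (fun _ => Nat) (Btab_135) (Btab_s_136_138 c) (Nat.ble 136 c)
noncomputable def Btab_s_132_138 (c : Nat) : Nat := @Bool.rec (fun _ => Nat) (Btab_s_132_135 c) (Btab_s_135_138 c) (Nat.ble 135 c)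
noncomputable def Btab_s_139_141 (c : Nat) : Nat := @Bool.rec (fun _ => Nat) (Btab_139) (Btab_140) (Nat.ble 140 c)
noncomputable def Btab_s_138_141 (c : Nat) : Nat := @Bool.rec (fun _ => Nat) (Btab_138) (Btab_s_139_141 c) (Nat.ble 139 c)
noncomputable def Btab_s_142_144 (c : Nat) : Nat := @Bool.rec (fun _ => Nat) (Btab_142) (Btab_143) (Nat.ble 143 c)
noncomputable def Btab_s_141_144 (c : Nat) : Nat := @Bool.rec (fun _ => Nat) (Btab_141) (Btab_s_142_144 c) (Nat.ble 142 c)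
noncomputable def Btab_s_138_144 (c : Nat) : Nat := @Bool.rec (fun _ => Nat) (Btab_s_138_141 c) (Btab_s_141_144 c) (Nat.ble 141 c)
noncomputable def Btab_s_132_144 (c : Nat) : Nat := @Bool.rec (fun _ => Nat) (Btab_s_132_138 c) (Btab_s_138_144 c) (Nat.ble 138 c)
noncomputable def Btab_s_120_144 (c : Nat) : Nat := @Bool.rec (fun _ => Nat) (Btab_s_120_132 c) (Btab_s_132_144 c) (Nat.ble 132 c)
noncomputable def Btab_s_96_144 (c : Nat) : Nat := @Bool.rec (fun _ => Nat) (Btab_s_96_120 c) (Btab_s_120_144 c) (Nat.ble 120 c)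
noncomputable def Btab_s_145_147 (c : Nat) : Nat := @Bool.rec (fun _ => Nat) (Btab_145) (Btab_146) (Nat.ble 146 c)
noncomputable def Btab_s_144_147 (c : Nat) : Nat := @Bool.rec (fun _ => Nat) (Btab_144) (Btab_s_145_147 c) (Nat.ble 145 c)
noncomputable def Btab_s_148_150 (c : Nat) : Nat := @Bool.rec (fun _ => Nat) (Btab_148) (Btab_149) (Nat.ble 149 c)
noncomputable def Btab_s_147_150 (c : Nat) : Nat := @Bool.rec (fun _ => Nat) (Btab_147) (Btab_s_148_150 c) (Nat.ble 148 c)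
noncomputable def Btab_s_144_150 (c : Nat) : Nat := @Bool.rec (fun _ => Nat) (Btab_s_144_147 c) (Btab_s_147_150 c) (Nat.ble 147 c)
noncomputable def Btab_s_151_153 (c : Nat) : Nat := @Bool.rec (fun _ => Nat) (Btab_151) (Btab_152) (Nat.ble 152 c)
noncomputable def Btab_s_150_153 (c : Nat) : Nat := @Bool.rec (fun _ => Nat) (Btab_150) (Btab_s_151_153 c) (Nat.ble 151 c)
noncomputable def Btab_s_154_156 (c : Nat) : Nat := @Bool.rec (fun _ => Nat) (Btab_154) (Btab_155) (Nat.ble 155 c)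
noncomputable def Btab_s_153_156 (c : Nat) : Nat := @Bool.rec (fun _ => Nat) (Btab_153) (Btab_s_154_156 c) (Nat.ble 154 c)
noncomputable def Btab_s_150_156 (c : Nat) : Nat := @Bool.rec (fun _ => Nat) (Btab_s_150_153 c) (Btab_s_153_156 c) (Nat.ble 153 c)
noncomputable def Btab_s_144_156 (c : Nat) : Nat := @Bool.rec (fun _ => Nat) (Btab_s_144_150 c) (Btab_s_150_156 c) (Nat.ble 150 c)
noncomputable def Btab_s_157_159 (c : Nat) : Nat := @Bool.rec (fun _ => Nat) (Btab_157) (Btab_158) (Nat.ble 158 c)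
noncomputable def Btab_s_156_159 (c : Nat) : Nat := @Bool.rec (fun _ => Nat) (Btab_156) (Btab_s_157_159 c) (Nat.ble 157 c)
noncomputable def Btab_s_160_162 (c : Nat) : Nat := @Bool.rec (fun _ => Nat) (Btab_160) (Btab_161) (Nat.ble 161 c)
noncomputable def Btab_s_159_162 (c : Nat) : Nat := @Bool.rec (fun _ => Nat) (Btab_159) (Btab_s_160_162 c) (Nat.ble 160 c)
noncomputable def Btab_s_156_162 (c : Nat) : Nat := @Bool.rec (fun _ => Nat) (Btab_s_156_159 c) (Btab_s_159_162 c) (Nat.ble 159 c)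
noncomputable def Btab_s_163_165 (c : Nat) : Nat := @Bool.rec (fun _ => Nat) (Btab_163) (Btab_164) (Nat.ble 164 c)
noncomputable def Btab_s_162_165 (c : Nat) : Nat := @Bool.rec (fun _ => Nat) (Btab_162) (Btab_s_163_165 c) (Nat.ble 163 c)
noncomputable def Btab_s_166_168 (c : Nat) : Nat := @Bool.rec (fun _ => Nat) (Btab_166) (Btab_167) (Nat.ble 167 c)
noncomputable def Btab_s_165_168 (c : Nat) : Nat := @Bool.rec (fun _ => Nat) (Btab_165) (Btab_s_166_168 c) (Nat.ble 166 c)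
noncomputable def Btab_s_162_168 (c : Nat) : Nat := @Bool.rec (fun _ => Nat) (Btab_s_162_165 c) (Btab_s_165_168 c) (Nat.ble 165 c)
noncomputable def Btab_s_156_168 (c : Nat) : Nat := @Bool.rec (fun _ => Nat) (Btab_s_156_162 c) (Btab_s_162_168 c) (Nat.ble 162 c)
noncomputable def Btab_s_144_168 (c : Nat) : Nat := @Bool.rec (fun _ => Nat) (Btab_s_144_156 c) (Btab_s_156_168 c) (Nat.ble 156 c)
noncomputable def Btab_s_169_171 (c : Nat) : Nat := @Bool.rec (fun _ => Nat) (Btab_169) (Btab_170) (Nat.ble 170 c)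
noncomputable def Btab_s_168_171 (c : Nat) : Nat := @Bool.rec (fun _ => Nat) (Btab_168) (Btab_s_169_171 c) (Nat.ble 169 c)
noncomputable def Btab_s_172_174 (c : Nat) : Nat := @Bool.rec (fun _ => Nat) (Btab_172) (Btab_173) (Nat.ble 173 c)
noncomputable def Btab_s_171_174 (c : Nat) : Nat := @Bool.rec (fun _ => Nat) (Btab_171) (Btab_s_172_174 c) (Nat.ble 172 c)
noncomputable def Btab_s_168_174 (c : Nat) : Nat := @Bool.rec (fun _ => Nat) (Btab_s_168_171 c) (Btab_s_171_174 c) (Nat.ble 171 c)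
noncomputable def Btab_s_175_177 (c : Nat) : Nat := @Bool.rec (fun _ => Nat) (Btab_175) (Btab_176) (Nat.ble 176 c)
noncomputable def Btab_s_174_177 (c : Nat) : Nat := @Bool.rec (fun _ => Nat) (Btab_174) (Btab_s_175_177 c) (Nat.ble 175 c)
noncomputable def Btab_s_178_180 (c : Nat) : Nat := @Bool.rec (fun _ => Nat) (Btab_178) (Btab_179) (Nat.ble 179 c)
noncomputable def Btab_s_177_180 (c : Nat) : Nat := @Bool.rec (fun _ => Nat) (Btab_177) (Btab_s_178_180 c) (Nat.ble 178 c)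
noncomputable def Btab_s_174_180 (c : Nat) : Nat := @Bool.rec (fun _ => Nat) (Btab_s_174_177 c) (Btab_s_177_180 c) (Nat.ble 177 c)
noncomputable def Btab_s_168_180 (c : Nat) : Nat := @Bool.rec (fun _ => Nat) (Btab_s_168_174 c) (Btab_s_174_180 c) (Nat.ble 174 c)
noncomputable def Btab_s_181_183 (c : Nat) : Nat := @Bool.rec (fun _ => Nat) (Btab_181) (Btab_182) (Nat.ble 182 c)
noncomputable def Btab_s_180_183 (c : Nat) : Nat := @Bool.rec (fun _ => Nat) (Btab_180) (Btab_s_181_183 c) (Nat.ble 181 c)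
noncomputable def Btab_s_184_186 (c : Nat) : Nat := @Bool.rec (fun _ => Nat) (Btab_184) (Btab_185) (Nat.ble 185 c)
noncomputable def Btab_s_183_186 (c : Nat) : Nat := @Bool.rec (fun _ => Nat) (Btab_183) (Btab_s_184_186 c) (Nat.ble 184 c)
noncomputable def Btab_s_180_186 (c : Nat) : Nat := @Bool.rec (fun _ => Nat) (Btab_s_180_183 c) (Btab_s_183_186 c) (Nat.ble 183 c)
noncomputable def Btab_s_187_189 (c : Nat) : Nat := @Bool.rec (fun _ => Nat) (Btab_187) (Btab_188) (Nat.ble 188 c)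
noncomputable def Btab_s_186_189 (c : Nat) : Nat := @Bool.rec (fun _ => Nat) (Btab_186) (Btab_s_187_189 c) (Nat.ble 187 c)
noncomputable def Btab_s_189_191 (c : Nat) : Nat := @Bool.rec (fun _ => Nat) (Btab_189) (Btab_190) (Nat.ble 190 c)
noncomputable def Btab_s_191_193 (c : Nat) : Nat := @Bool.rec (fun _ => Nat) (Btab_191) (Btab_192) (Nat.ble 192 c)
noncomputable def Btab_s_189_193 (c : Nat) : Nat := @Bool.rec (fun _ => Nat) (Btab_s_189_191 c) (Btab_s_191_193 c) (Nat.ble 191 c)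
noncomputable def Btab_s_186_193 (c : Nat) : Nat := @Bool.rec (fun _ => Nat) (Btab_s_186_189 c) (Btab_s_189_193 c) (Nat.ble 189 c)
noncomputable def Btab_s_180_193 (c : Nat) : Nat := @Bool.rec (fun _ => Nat) (Btab_s_180_186 c) (Btab_s_186_193 c) (Nat.ble 186 c)
noncomputable def Btab_s_168_193 (c : Nat) : Nat := @Bool.rec (fun _ => Nat) (Btab_s_168_180 c) (Btab_s_180_193 c) (Nat.ble 180 c)
noncomputable def Btab_s_144_193 (c : Nat) : Nat := @Bool.rec (fun _ => Nat) (Btab_s_144_168 c) (Btab_s_168_193 c) (Nat.ble 168 c)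
noncomputable def Btab_s_96_193 (c : Nat) : Nat := @Bool.rec (fun _ => Nat) (Btab_s_96_144 c) (Btab_s_144_193 c) (Nat.ble 144 c)
noncomputable def Btab_s_0_193 (c : Nat) : Nat := @Bool.rec (fun _ => Nat) (Btab_s_0_96 c) (Btab_s_96_193 c) (Nat.ble 96 c)
noncomputable def Btab_s_194_196 (c : Nat) : Nat := @Bool.rec (fun _ => Nat) (Btab_194) (Btab_195) (Nat.ble 195 c)
noncomputable def Btab_s_193_196 (c : Nat) : Nat := @Bool.rec (fun _ => Nat) (Btab_193) (Btab_s_194_196 c) (Nat.ble 194 c)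
noncomputable def Btab_s_197_199 (c : Nat) : Nat := @Bool.rec (fun _ => Nat) (Btab_197) (Btab_198) (Nat.ble 198 c)
noncomputable def Btab_s_196_199 (c : Nat) : Nat := @Bool.rec (fun _ => Nat) (Btab_196) (Btab_s_197_199 c) (Nat.ble 197 c)
noncomputable def Btab_s_193_199 (c : Nat) : Nat := @Bool.rec (fun _ => Nat) (Btab_s_193_196 c) (Btab_s_196_199 c) (Nat.ble 196 c)
noncomputable def Btab_s_200_202 (c : Nat) : Nat := @Bool.rec (fun _ => Nat) (Btab_200) (Btab_201) (Nat.ble 201 c)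
noncomputable def Btab_s_199_202 (c : Nat) : Nat := @Bool.rec (fun _ => Nat) (Btab_199) (Btab_s_200_202 c) (Nat.ble 200 c)
noncomputable def Btab_s_203_205 (c : Nat) : Nat := @Bool.rec (fun _ => Nat) (Btab_203) (Btab_204) (Nat.ble 204 c)
noncomputable def Btab_s_202_205 (c : Nat) : Nat := @Bool.rec (fun _ => Nat) (Btab_202) (Btab_s_203_205 c) (Nat.ble 203 c)
noncomputable def Btab_s_199_205 (c : Nat) : Nat := @Bool.rec (fun _ => Nat) (Btab_s_199_202 c) (Btab_s_202_205 c) (Nat.ble 202 c)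
noncomputable def Btab_s_193_205 (c : Nat) : Nat := @Bool.rec (fun _ => Nat) (Btab_s_193_199 c) (Btab_s_199_205 c) (Nat.ble 199 c)
noncomputable def Btab_s_206_208 (c : Nat) : Nat := @Bool.rec (fun _ => Nat) (Btab_206) (Btab_207) (Nat.ble 207 c)
noncomputable def Btab_s_205_208 (c : Nat) : Nat := @Bool.rec (fun _ => Nat) (Btab_205) (Btab_s_206_208 c) (Nat.ble 206 c)
noncomputable def Btab_s_209_211 (c : Nat) : Nat := @Bool.rec (fun _ => Nat) (Btab_209) (Btab_210) (Nat.ble 210 c)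
noncomputable def Btab_s_208_211 (c : Nat) : Nat := @Bool.rec (fun _ => Nat) (Btab_208) (Btab_s_209_211 c) (Nat.ble 209 c)
noncomputable def Btab_s_205_211 (c : Nat) : Nat := @Bool.rec (fun _ => Nat) (Btab_s_205_208 c) (Btab_s_208_211 c) (Nat.ble 208 c)
noncomputable def Btab_s_212_214 (c : Nat) : Nat := @Bool.rec (fun _ => Nat) (Btab_212) (Btab_213) (Nat.ble 213 c)
noncomputable def Btab_s_211_214 (c : Nat) : Nat := @Bool.rec (fun _ => Nat) (Btab_211) (Btab_s_212_214 c) (Nat.ble 212 c)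
noncomputable def Btab_s_215_217 (c : Nat) : Nat := @Bool.rec (fun _ => Nat) (Btab_215) (Btab_216) (Nat.ble 216 c)
noncomputable def Btab_s_214_217 (c : Nat) : Nat := @Bool.rec (fun _ => Nat) (Btab_214) (Btab_s_215_217 c) (Nat.ble 215 c)
noncomputable def Btab_s_211_217 (c : Nat) : Nat := @Bool.rec (fun _ => Nat) (Btab_s_211_214 c) (Btab_s_214_217 c) (Nat.ble 214 c)
noncomputable def Btab_s_205_217 (c : Nat) : Nat := @Bool.rec (fun _ => Nat) (Btab_s_205_211 c) (Btab_s_211_217 c) (Nat.ble 211 c)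
noncomputable def Btab_s_193_217 (c : Nat) : Nat := @Bool.rec (fun _ => Nat) (Btab_s_193_205 c) (Btab_s_205_217 c) (Nat.ble 205 c)
noncomputable def Btab_s_218_220 (c : Nat) : Nat := @Bool.rec (fun _ => Nat) (Btab_218) (Btab_219) (Nat.ble 219 c)
noncomputable def Btab_s_217_220 (c : Nat) : Nat := @Bool.rec (fun _ => Nat) (Btab_217) (Btab_s_218_220 c) (Nat.ble 218 c)
noncomputable def Btab_s_221_223 (c : Nat) : Nat := @Bool.rec (fun _ => Nat) (Btab_221) (Btab_222) (Nat.ble 222 c)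
noncomputable def Btab_s_220_223 (c : Nat) : Nat := @Bool.rec (fun _ => Nat) (Btab_220) (Btab_s_221_223 c) (Nat.ble 221 c)
noncomputable def Btab_s_217_223 (c : Nat) : Nat := @Bool.rec (fun _ => Nat) (Btab_s_217_220 c) (Btab_s_220_223 c) (Nat.ble 220 c)
noncomputable def Btab_s_224_226 (c : Nat) : Nat := @Bool.rec (fun _ => Nat) (Btab_224) (Btab_225) (Nat.ble 225 c)
noncomputable def Btab_s_223_226 (c : Nat) : Nat := @Bool.rec (fun _ => Nat) (Btab_223) (Btab_s_224_226 c) (Nat.ble 224 c)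
noncomputable def Btab_s_227_229 (c : Nat) : Nat := @Bool.rec (fun _ => Nat) (Btab_227) (Btab_228) (Nat.ble 228 c)
noncomputable def Btab_s_226_229 (c : Nat) : Nat := @Bool.rec (fun _ => Nat) (Btab_226) (Btab_s_227_229 c) (Nat.ble 227 c)
noncomputable def Btab_s_223_229 (c : Nat) : Nat := @Bool.rec (fun _ => Nat) (Btab_s_223_226 c) (Btab_s_226_229 c) (Nat.ble 226 c)
noncomputable def Btab_s_217_229 (c : Nat) : Nat := @Bool.rec (fun _ => Nat) (Btab_s_217_223 c) (Btab_s_223_229 c) (Nat.ble 223 c)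
noncomputable def Btab_s_230_232 (c : Nat) : Nat := @Bool.rec (fun _ => Nat) (Btab_230) (Btab_231) (Nat.ble 231 c)
noncomputable def Btab_s_229_232 (c : Nat) : Nat := @Bool.rec (fun _ => Nat) (Btab_229) (Btab_s_230_232 c) (Nat.ble 230 c)
noncomputable def Btab_s_233_235 (c : Nat) : Nat := @Bool.rec (fun _ => Nat) (Btab_233) (Btab_234) (Nat.ble 234 c)
noncomputable def Btab_s_232_235 (c : Nat) : Nat := @Bool.rec (fun _ => Nat) (Btab_232) (Btab_s_233_235 c) (Nat.ble 233 c)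
noncomputable def Btab_s_229_235 (c : Nat) : Nat := @Bool.rec (fun _ => Nat) (Btab_s_229_232 c) (Btab_s_232_235 c) (Nat.ble 232 c)
noncomputable def Btab_s_236_238 (c : Nat) : Nat := @Bool.rec (fun _ => Nat) (Btab_236) (Btab_237) (Nat.ble 237 c)
noncomputable def Btab_s_235_238 (c : Nat) : Nat := @Bool.rec (fun _ => Nat) (Btab_235) (Btab_s_236_238 c) (Nat.ble 236 c)
noncomputable def Btab_s_239_241 (c : Nat) : Nat := @Bool.rec (fun _ => Nat) (Btab_239) (Btab_240) (Nat.ble 240 c)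
noncomputable def Btab_s_238_241 (c : Nat) : Nat := @Bool.rec (fun _ => Nat) (Btab_238) (Btab_s_239_241 c) (Nat.ble 239 c)
noncomputable def Btab_s_235_241 (c : Nat) : Nat := @Bool.rec (fun _ => Nat) (Btab_s_235_238 c) (Btab_s_238_241 c) (Nat.ble 238 c)
noncomputable def Btab_s_229_241 (c : Nat) : Nat := @Bool.rec (fun _ => Nat) (Btab_s_229_235 c) (Btab_s_235_241 c) (Nat.ble 235 c)
noncomputable def Btab_s_217_241 (c : Nat) : Nat := @Bool.rec (fun _ => Nat) (Btab_s_217_229 c) (Btab_s_229_241 c) (Nat.ble 229 c)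
noncomputable def Btab_s_193_241 (c : Nat) : Nat := @Bool.rec (fun _ => Nat) (Btab_s_193_217 c) (Btab_s_217_241 c) (Nat.ble 217 c)
noncomputable def Btab_s_242_244 (c : Nat) : Nat := @Bool.rec (fun _ => Nat) (Btab_242) (Btab_243) (Nat.ble 243 c)
noncomputable def Btab_s_241_244 (c : Nat) : Nat := @Bool.rec (fun _ => Nat) (Btab_241) (Btab_s_242_244 c) (Nat.ble 242 c)
noncomputable def Btab_s_245_247 (c : Nat) : Nat := @Bool.rec (fun _ => Nat) (Btab_245) (Btab_246) (Nat.ble 246 c)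
noncomputable def Btab_s_244_247 (c : Nat) : Nat := @Bool.rec (fun _ => Nat) (Btab_244) (Btab_s_245_247 c) (Nat.ble 245 c)
noncomputable def Btab_s_241_247 (c : Nat) : Nat := @Bool.rec (fun _ => Nat) (Btab_s_241_244 c) (Btab_s_244_247 c) (Nat.ble 244 c)
noncomputable def Btab_s_248_250 (c : Nat) : Nat := @Bool.rec (fun _ => Nat) (Btab_248) (Btab_249) (Nat.ble 249 c)
noncomputable def Btab_s_247_250 (c : Nat) : Nat := @Bool.rec (fun _ => Nat) (Btab_247) (Btab_s_248_250 c) (Nat.ble 248 c)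
noncomputable def Btab_s_251_253 (c : Nat) : Nat := @Bool.rec (fun _ => Nat) (Btab_251) (Btab_252) (Nat.ble 252 c)
noncomputable def Btab_s_250_253 (c : Nat) : Nat := @Bool.rec (fun _ => Nat) (Btab_250) (Btab_s_251_253 c) (Nat.ble 251 c)
noncomputable def Btab_s_247_253 (c : Nat) : Nat := @Bool.rec (fun _ => Nat) (Btab_s_247_250 c) (Btab_s_250_253 c) (Nat.ble 250 c)
noncomputable def Btab_s_241_253 (c : Nat) : Nat := @Bool.rec (fun _ => Nat) (Btab_s_241_247 c) (Btab_s_247_253 c) (Nat.ble 247 c)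
noncomputable def Btab_s_254_256 (c : Nat) : Nat := @Bool.rec (fun _ => Nat) (Btab_254) (Btab_255) (Nat.ble 255 c)
noncomputable def Btab_s_253_256 (c : Nat) : Nat := @Bool.rec (fun _ => Nat) (Btab_253) (Btab_s_254_256 c) (Nat.ble 254 c)
noncomputable def Btab_s_257_259 (c : Nat) : Nat := @Bool.rec (fun _ => Nat) (Btab_257) (Btab_258) (Nat.ble 258 c)
noncomputable def Btab_s_256_259 (c : Nat) : Nat := @Bool.rec (fun _ => Nat) (Btab_256) (Btab_s_257_259 c) (Nat.ble 257 c)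
noncomputable def Btab_s_253_259 (c : Nat) : Nat := @Bool.rec (fun _ => Nat) (Btab_s_253_256 c) (Btab_s_256_259 c) (Nat.ble 256 c)
noncomputable def Btab_s_260_262 (c : Nat) : Nat := @Bool.rec (fun _ => Nat) (Btab_260) (Btab_261) (Nat.ble 261 c)
noncomputable def Btab_s_259_262 (c : Nat) : Nat := @Bool.rec (fun _ => Nat) (Btab_259) (Btab_s_260_262 c) (Nat.ble 260 c)
noncomputable def Btab_s_263_265 (c : Nat) : Nat := @Bool.rec (fun _ => Nat) (Btab_263) (Btab_264) (Nat.ble 264 c)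
noncomputable def Btab_s_262_265 (c : Nat) : Nat := @Bool.rec (fun _ => Nat) (Btab_262) (Btab_s_263_265 c) (Nat.ble 263 c)
noncomputable def Btab_s_259_265 (c : Nat) : Nat := @Bool.rec (fun _ => Nat) (Btab_s_259_262 c) (Btab_s_262_265 c) (Nat.ble 262 c)
noncomputable def Btab_s_253_265 (c : Nat) : Nat := @Bool.rec (fun _ => Nat) (Btab_s_253_259 c) (Btab_s_259_265 c) (Nat.ble 259 c)
noncomputable def Btab_s_241_265 (c : Nat) : Nat := @Bool.rec (fun _ => Nat) (Btab_s_241_253 c) (Btab_s_253_265 c) (Nat.ble 253 c)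
noncomputable def Btab_s_266_268 (c : Nat) : Nat := @Bool.rec (fun _ => Nat) (Btab_266) (Btab_267) (Nat.ble 267 c)
noncomputable def Btab_s_265_268 (c : Nat) : Nat := @Bool.rec (fun _ => Nat) (Btab_265) (Btab_s_266_268 c) (Nat.ble 266 c)
noncomputable def Btab_s_269_271 (c : Nat) : Nat := @Bool.rec (fun _ => Nat) (Btab_269) (Btab_270) (Nat.ble 270 c)
noncomputable def Btab_s_268_271 (c : Nat) : Nat := @Bool.rec (fun _ => Nat) (Btab_268) (Btab_s_269_271 c) (Nat.ble 269 c)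
noncomputable def Btab_s_265_271 (c : Nat) : Nat := @Bool.rec (fun _ => Nat) (Btab_s_265_268 c) (Btab_s_268_271 c) (Nat.ble 268 c)
noncomputable def Btab_s_272_274 (c : Nat) : Nat := @Bool.rec (fun _ => Nat) (Btab_272) (Btab_273) (Nat.ble 273 c)
noncomputable def Btab_s_271_274 (c : Nat) : Nat := @Bool.rec (fun _ => Nat) (Btab_271) (Btab_s_272_274 c) (Nat.ble 272 c)
noncomputable def Btab_s_275_277 (c : Nat) : Nat := @Bool.rec (fun _ => Nat) (Btab_275) (Btab_276) (Nat.ble 276 c)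
noncomputable def Btab_s_274_277 (c : Nat) : Nat := @Bool.rec (fun _ => Nat) (Btab_274) (Btab_s_275_277 c) (Nat.ble 275 c)
noncomputable def Btab_s_271_277 (c : Nat) : Nat := @Bool.rec (fun _ => Nat) (Btab_s_271_274 c) (Btab_s_274_277 c) (Nat.ble 274 c)
noncomputable def Btab_s_265_277 (c : Nat) : Nat := @Bool.rec (fun _ => Nat) (Btab_s_265_271 c) (Btab_s_271_277 c) (Nat.ble 271 c)
noncomputable def Btab_s_278_280 (c : Nat) : Nat := @Bool.rec (fun _ => Nat) (Btab_278) (Btab_279) (Nat.ble 279 c)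
noncomputable def Btab_s_277_280 (c : Nat) : Nat := @Bool.rec (fun _ => Nat) (Btab_277) (Btab_s_278_280 c) (Nat.ble 278 c)
noncomputable def Btab_s_281_283 (c : Nat) : Nat := @Bool.rec (fun _ => Nat) (Btab_281) (Btab_282) (Nat.ble 282 c)
noncomputable def Btab_s_280_283 (c : Nat) : Nat := @Bool.rec (fun _ => Nat) (Btab_280) (Btab_s_281_283 c) (Nat.ble 281 c)
noncomputable def Btab_s_277_283 (c : Nat) : Nat := @Bool.rec (fun _ => Nat) (Btab_s_277_280 c) (Btab_s_280_283 c) (Nat.ble 280 c)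
noncomputable def Btab_s_284_286 (c : Nat) : Nat := @Bool.rec (fun _ => Nat) (Btab_284) (Btab_285) (Nat.ble 285 c)
noncomputable def Btab_s_283_286 (c : Nat) : Nat := @Bool.rec (fun _ => Nat) (Btab_283) (Btab_s_284_286 c) (Nat.ble 284 c)
noncomputable def Btab_s_287_289 (c : Nat) : Nat := @Bool.rec (fun _ => Nat) (Btab_287) (Btab_288) (Nat.ble 288 c)
noncomputable def Btab_s_286_289 (c : Nat) : Nat := @Bool.rec (fun _ => Nat) (Btab_286) (Btab_s_287_289 c) (Nat.ble 287 c)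
noncomputable def Btab_s_283_289 (c : Nat) : Nat := @Bool.rec (fun _ => Nat) (Btab_s_283_286 c) (Btab_s_286_289 c) (Nat.ble 286 c)
noncomputable def Btab_s_277_289 (c : Nat) : Nat := @Bool.rec (fun _ => Nat) (Btab_s_277_283 c) (Btab_s_283_289 c) (Nat.ble 283 c)
noncomputable def Btab_s_265_289 (c : Nat) : Nat := @Bool.rec (fun _ => Nat) (Btab_s_265_277 c) (Btab_s_277_289 c) (Nat.ble 277 c)
noncomputable def Btab_s_241_289 (c : Nat) : Nat := @Bool.rec (fun _ => Nat) (Btab_s_241_265 c) (Btab_s_265_289 c) (Nat.ble 265 c)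
noncomputable def Btab_s_193_289 (c : Nat) : Nat := @Bool.rec (fun _ => Nat) (Btab_s_193_241 c) (Btab_s_241_289 c) (Nat.ble 241 c)
noncomputable def Btab_s_290_292 (c : Nat) : Nat := @Bool.rec (fun _ => Nat) (Btab_290) (Btab_291) (Nat.ble 291 c)
noncomputable def Btab_s_289_292 (c : Nat) : Nat := @Bool.rec (fun _ => Nat) (Btab_289) (Btab_s_290_292 c) (Nat.ble 290 c)
noncomputable def Btab_s_293_295 (c : Nat) : Nat := @Bool.rec (fun _ => Nat) (Btab_293) (Btab_294) (Nat.ble 294 c)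
noncomputable def Btab_s_292_295 (c : Nat) : Nat := @Bool.rec (fun _ => Nat) (Btab_292) (Btab_s_293_295 c) (Nat.ble 293 c)
noncomputable def Btab_s_289_295 (c : Nat) : Nat := @Bool.rec (fun _ => Nat) (Btab_s_289_292 c) (Btab_s_292_295 c) (Nat.ble 292 c)
noncomputable def Btab_s_296_298 (c : Nat) : Nat := @Bool.rec (fun _ => Nat) (Btab_296) (Btab_297) (Nat.ble 297 c)
noncomputable def Btab_s_295_298 (c : Nat) : Nat := @Bool.rec (fun _ => Nat) (Btab_295) (Btab_s_296_298 c) (Nat.ble 296 c)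
noncomputable def Btab_s_299_301 (c : Nat) : Nat := @Bool.rec (fun _ => Nat) (Btab_299) (Btab_300) (Nat.ble 300 c)
noncomputable def Btab_s_298_301 (c : Nat) : Nat := @Bool.rec (fun _ => Nat) (Btab_298) (Btab_s_299_301 c) (Nat.ble 299 c)
noncomputable def Btab_s_295_301 (c : Nat) : Nat := @Bool.rec (fun _ => Nat) (Btab_s_295_298 c) (Btab_s_298_301 c) (Nat.ble 298 c)
noncomputable def Btab_s_289_301 (c : Nat) : Nat := @Bool.rec (fun _ => Nat) (Btab_s_289_295 c) (Btab_s_295_301 c) (Nat.ble 295 c)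
noncomputable def Btab_s_302_304 (c : Nat) : Nat := @Bool.rec (fun _ => Nat) (Btab_302) (Btab_303) (Nat.ble 303 c)
noncomputable def Btab_s_301_304 (c : Nat) : Nat := @Bool.rec (fun _ => Nat) (Btab_301) (Btab_s_302_304 c) (Nat.ble 302 c)
noncomputable def Btab_s_305_307 (c : Nat) : Nat := @Bool.rec (fun _ => Nat) (Btab_305) (Btab_306) (Nat.ble 306 c)
noncomputable def Btab_s_304_307 (c : Nat) : Nat := @Bool.rec (fun _ => Nat) (Btab_304) (Btab_s_305_307 c) (Nat.ble 305 c)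
noncomputable def Btab_s_301_307 (c : Nat) : Nat := @Bool.rec (fun _ => Nat) (Btab_s_301_304 c) (Btab_s_304_307 c) (Nat.ble 304 c)
noncomputable def Btab_s_308_310 (c : Nat) : Nat := @Bool.rec (fun _ => Nat) (Btab_308) (Btab_309) (Nat.ble 309 c)
noncomputable def Btab_s_307_310 (c : Nat) : Nat := @Bool.rec (fun _ => Nat) (Btab_307) (Btab_s_308_310 c) (Nat.ble 308 c)
noncomputable def Btab_s_311_313 (c : Nat) : Nat := @Bool.rec (fun _ => Nat) (Btab_311) (Btab_312) (Nat.ble 312 c)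
noncomputable def Btab_s_310_313 (c : Nat) : Nat := @Bool.rec (fun _ => Nat) (Btab_310) (Btab_s_311_313 c) (Nat.ble 311 c)
noncomputable def Btab_s_307_313 (c : Nat) : Nat := @Bool.rec (fun _ => Nat) (Btab_s_307_310 c) (Btab_s_310_313 c) (Nat.ble 310 c)
noncomputable def Btab_s_301_313 (c : Nat) : Nat := @Bool.rec (fun _ => Nat) (Btab_s_301_307 c) (Btab_s_307_313 c) (Nat.ble 307 c)
noncomputable def Btab_s_289_313 (c : Nat) : Nat := @Bool.rec (fun _ => Nat) (Btab_s_289_301 c) (Btab_s_301_313 c) (Nat.ble 301 c)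
noncomputable def Btab_s_314_316 (c : Nat) : Nat := @Bool.rec (fun _ => Nat) (Btab_314) (Btab_315) (Nat.ble 315 c)
noncomputable def Btab_s_313_316 (c : Nat) : Nat := @Bool.rec (fun _ => Nat) (Btab_313) (Btab_s_314_316 c) (Nat.ble 314 c)
noncomputable def Btab_s_317_319 (c : Nat) : Nat := @Bool.rec (fun _ => Nat) (Btab_317) (Btab_318) (Nat.ble 318 c)
noncomputable def Btab_s_316_319 (c : Nat) : Nat := @Bool.rec (fun _ => Nat) (Btab_316) (Btab_s_317_319 c) (Nat.ble 317 c)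
noncomputable def Btab_s_313_319 (c : Nat) : Nat := @Bool.rec (fun _ => Nat) (Btab_s_313_316 c) (Btab_s_316_319 c) (Nat.ble 316 c)
noncomputable def Btab_s_320_322 (c : Nat) : Nat := @Bool.rec (fun _ => Nat) (Btab_320) (Btab_321) (Nat.ble 321 c)
noncomputable def Btab_s_319_322 (c : Nat) : Nat := @Bool.rec (fun _ => Nat) (Btab_319) (Btab_s_320_322 c) (Nat.ble 320 c)
noncomputable def Btab_s_323_325 (c : Nat) : Nat := @Bool.rec (fun _ => Nat) (Btab_323) (Btab_324) (Nat.ble 324 c)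
noncomputable def Btab_s_322_325 (c : Nat) : Nat := @Bool.rec (fun _ => Nat) (Btab_322) (Btab_s_323_325 c) (Nat.ble 323 c)
noncomputable def Btab_s_319_325 (c : Nat) : Nat := @Bool.rec (fun _ => Nat) (Btab_s_319_322 c) (Btab_s_322_325 c) (Nat.ble 322 c)
noncomputable def Btab_s_313_325 (c : Nat) : Nat := @Bool.rec (fun _ => Nat) (Btab_s_313_319 c) (Btab_s_319_325 c) (Nat.ble 319 c)
noncomputable def Btab_s_326_328 (c : Nat) : Nat := @Bool.rec (fun _ => Nat) (Btab_326) (Btab_327) (Nat.ble 327 c)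
noncomputable def Btab_s_325_328 (c : Nat) : Nat := @Bool.rec (fun _ => Nat) (Btab_325) (Btab_s_326_328 c) (Nat.ble 326 c)
noncomputable def Btab_s_329_331 (c : Nat) : Nat := @Bool.rec (fun _ => Nat) (Btab_329) (Btab_330) (Nat.ble 330 c)
noncomputable def Btab_s_328_331 (c : Nat) : Nat := @Bool.rec (fun _ => Nat) (Btab_328) (Btab_s_329_331 c) (Nat.ble 329 c)
noncomputable def Btab_s_325_331 (c : Nat) : Nat := @Bool.rec (fun _ => Nat) (Btab_s_325_328 c) (Btab_s_328_331 c) (Nat.ble 328 c)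
noncomputable def Btab_s_332_334 (c : Nat) : Nat := @Bool.rec (fun _ => Nat) (Btab_332) (Btab_333) (Nat.ble 333 c)
noncomputable def Btab_s_331_334 (c : Nat) : Nat := @Bool.rec (fun _ => Nat) (Btab_331) (Btab_s_332_334 c) (Nat.ble 332 c)
noncomputable def Btab_s_335_337 (c : Nat) : Nat := @Bool.rec (fun _ => Nat) (Btab_335) (Btab_336) (Nat.ble 336 c)
noncomputable def Btab_s_334_337 (c : Nat) : Nat := @Bool.rec (fun _ => Nat) (Btab_334) (Btab_s_335_337 c) (Nat.ble 335 c)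
noncomputable def Btab_s_331_337 (c : Nat) : Nat := @Bool.rec (fun _ => Nat) (Btab_s_331_334 c) (Btab_s_334_337 c) (Nat.ble 334 c)
noncomputable def Btab_s_325_337 (c : Nat) : Nat := @Bool.rec (fun _ => Nat) (Btab_s_325_331 c) (Btab_s_331_337 c) (Nat.ble 331 c)
noncomputable def Btab_s_313_337 (c : Nat) : Nat := @Bool.rec (fun _ => Nat) (Btab_s_313_325 c) (Btab_s_325_337 c) (Nat.ble 325 c)
noncomputable def Btab_s_289_337 (c : Nat) : Nat := @Bool.rec (fun _ => Nat) (Btab_s_289_313 c) (Btab_s_313_337 c) (Nat.ble 313 c)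
noncomputable def Btab_s_338_340 (c : Nat) : Nat := @Bool.rec (fun _ => Nat) (Btab_338) (Btab_339) (Nat.ble 339 c)
noncomputable def Btab_s_337_340 (c : Nat) : Nat := @Bool.rec (fun _ => Nat) (Btab_337) (Btab_s_338_340 c) (Nat.ble 338 c)
noncomputable def Btab_s_341_343 (c : Nat) : Nat := @Bool.rec (fun _ => Nat) (Btab_341) (Btab_342) (Nat.ble 342 c)
noncomputable def Btab_s_340_343 (c : Nat) : Nat := @Bool.rec (fun _ => Nat) (Btab_340) (Btab_s_341_343 c) (Nat.ble 341 c)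
noncomputable def Btab_s_337_343 (c : Nat) : Nat := @Bool.rec (fun _ => Nat) (Btab_s_337_340 c) (Btab_s_340_343 c) (Nat.ble 340 c)
noncomputable def Btab_s_344_346 (c : Nat) : Nat := @Bool.rec (fun _ => Nat) (Btab_344) (Btab_345) (Nat.ble 345 c)
noncomputable def Btab_s_343_346 (c : Nat) : Nat := @Bool.rec (fun _ => Nat) (Btab_343) (Btab_s_344_346 c) (Nat.ble 344 c)
noncomputable def Btab_s_347_349 (c : Nat) : Nat := @Bool.rec (fun _ => Nat) (Btab_347) (Btab_348) (Nat.ble 348 c)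
noncomputable def Btab_s_346_349 (c : Nat) : Nat := @Bool.rec (fun _ => Nat) (Btab_346) (Btab_s_347_349 c) (Nat.ble 347 c)
noncomputable def Btab_s_343_349 (c : Nat) : Nat := @Bool.rec (fun _ => Nat) (Btab_s_343_346 c) (Btab_s_346_349 c) (Nat.ble 346 c)
noncomputable def Btab_s_337_349 (c : Nat) : Nat := @Bool.rec (fun _ => Nat) (Btab_s_337_343 c) (Btab_s_343_349 c) (Nat.ble 343 c)
noncomputable def Btab_s_350_352 (c : Nat) : Nat := @Bool.rec (fun _ => Nat) (Btab_350) (Btab_351) (Nat.ble 351 c)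
noncomputable def Btab_s_349_352 (c : Nat) : Nat := @Bool.rec (fun _ => Nat) (Btab_349) (Btab_s_350_352 c) (Nat.ble 350 c)
noncomputable def Btab_s_353_355 (c : Nat) : Nat := @Bool.rec (fun _ => Nat) (Btab_353) (Btab_354) (Nat.ble 354 c)
noncomputable def Btab_s_352_355 (c : Nat) : Nat := @Bool.rec (fun _ => Nat) (Btab_352) (Btab_s_353_355 c) (Nat.ble 353 c)
noncomputable def Btab_s_349_355 (c : Nat) : Nat := @Bool.rec (fun _ => Nat) (Btab_s_349_352 c) (Btab_s_352_355 c) (Nat.ble 352 c)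
noncomputable def Btab_s_356_358 (c : Nat) : Nat := @Bool.rec (fun _ => Nat) (Btab_356) (Btab_357) (Nat.ble 357 c)
noncomputable def Btab_s_355_358 (c : Nat) : Nat := @Bool.rec (fun _ => Nat) (Btab_355) (Btab_s_356_358 c) (Nat.ble 356 c)
noncomputable def Btab_s_359_361 (c : Nat) : Nat := @Bool.rec (fun _ => Nat) (Btab_359) (Btab_360) (Nat.ble 360 c)
noncomputable def Btab_s_358_361 (c : Nat) : Nat := @Bool.rec (fun _ => Nat) (Btab_358) (Btab_s_359_361 c) (Nat.ble 359 c)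
noncomputable def Btab_s_355_361 (c : Nat) : Nat := @Bool.rec (fun _ => Nat) (Btab_s_355_358 c) (Btab_s_358_361 c) (Nat.ble 358 c)
noncomputable def Btab_s_349_361 (c : Nat) : Nat := @Bool.rec (fun _ => Nat) (Btab_s_349_355 c) (Btab_s_355_361 c) (Nat.ble 355 c)
noncomputable def Btab_s_337_361 (c : Nat) : Nat := @Bool.rec (fun _ => Nat) (Btab_s_337_349 c) (Btab_s_349_361 c) (Nat.ble 349 c)
noncomputable def Btab_s_362_364 (c : Nat) : Nat := @Bool.rec (fun _ => Nat) (Btab_362) (Btab_363) (Nat.ble 363 c)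
noncomputable def Btab_s_361_364 (c : Nat) : Nat := @Bool.rec (fun _ => Nat) (Btab_361) (Btab_s_362_364 c) (Nat.ble 362 c)
noncomputable def Btab_s_365_367 (c : Nat) : Nat := @Bool.rec (fun _ => Nat) (Btab_365) (Btab_366) (Nat.ble 366 c)
noncomputable def Btab_s_364_367 (c : Nat) : Nat := @Bool.rec (fun _ => Nat) (Btab_364) (Btab_s_365_367 c) (Nat.ble 365 c)
noncomputable def Btab_s_361_367 (c : Nat) : Nat := @Bool.rec (fun _ => Nat) (Btab_s_361_364 c) (Btab_s_364_367 c) (Nat.ble 364 c)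
noncomputable def Btab_s_368_370 (c : Nat) : Nat := @Bool.rec (fun _ => Nat) (Btab_368) (Btab_369) (Nat.ble 369 c)
noncomputable def Btab_s_367_370 (c : Nat) : Nat := @Bool.rec (fun _ => Nat) (Btab_367) (Btab_s_368_370 c) (Nat.ble 368 c)
noncomputable def Btab_s_371_373 (c : Nat) : Nat := @Bool.rec (fun _ => Nat) (Btab_371) (Btab_372) (Nat.ble 372 c)
noncomputable def Btab_s_370_373 (c : Nat) : Nat := @Bool.rec (fun _ => Nat) (Btab_370) (Btab_s_371_373 c) (Nat.ble 371 c)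
noncomputable def Btab_s_367_373 (c : Nat) : Nat := @Bool.rec (fun _ => Nat) (Btab_s_367_370 c) (Btab_s_370_373 c) (Nat.ble 370 c)
noncomputable def Btab_s_361_373 (c : Nat) : Nat := @Bool.rec (fun _ => Nat) (Btab_s_361_367 c) (Btab_s_367_373 c) (Nat.ble 367 c)
noncomputable def Btab_s_374_376 (c : Nat) : Nat := @Bool.rec (fun _ => Nat) (Btab_374) (Btab_375) (Nat.ble 375 c)
noncomputable def Btab_s_373_376 (c : Nat) : Nat := @Bool.rec (fun _ => Nat) (Btab_373) (Btab_s_374_376 c) (Nat.ble 374 c)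
noncomputable def Btab_s_377_379 (c : Nat) : Nat := @Bool.rec (fun _ => Nat) (Btab_377) (Btab_378) (Nat.ble 378 c)
noncomputable def Btab_s_376_379 (c : Nat) : Nat := @Bool.rec (fun _ => Nat) (Btab_376) (Btab_s_377_379 c) (Nat.ble 377 c)
noncomputable def Btab_s_373_379 (c : Nat) : Nat := @Bool.rec (fun _ => Nat) (Btab_s_373_376 c) (Btab_s_376_379 c) (Nat.ble 376 c)
noncomputable def Btab_s_380_382 (c : Nat) : Nat := @Bool.rec (fun _ => Nat) (Btab_380) (Btab_381) (Nat.ble 381 c)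
noncomputable def Btab_s_379_382 (c : Nat) : Nat := @Bool.rec (fun _ => Nat) (Btab_379) (Btab_s_380_382 c) (Nat.ble 380 c)
noncomputable def Btab_s_382_384 (c : Nat) : Nat := @Bool.rec (fun _ => Nat) (Btab_382) (Btab_383) (Nat.ble 383 c)
noncomputable def Btab_s_384_386 (c : Nat) : Nat := @Bool.rec (fun _ => Nat) (Btab_384) (Btab_385) (Nat.ble 385 c)
noncomputable def Btab_s_382_386 (c : Nat) : Nat := @Bool.rec (fun _ => Nat) (Btab_s_382_384 c) (Btab_s_384_386 c) (Nat.ble 384 c)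
noncomputable def Btab_s_379_386 (c : Nat) : Nat := @Bool.rec (fun _ => Nat) (Btab_s_379_382 c) (Btab_s_382_386 c) (Nat.ble 382 c)
noncomputable def Btab_s_373_386 (c : Nat) : Nat := @Bool.rec (fun _ => Nat) (Btab_s_373_379 c) (Btab_s_379_386 c) (Nat.ble 379 c)
noncomputable def Btab_s_361_386 (c : Nat) : Nat := @Bool.rec (fun _ => Nat) (Btab_s_361_373 c) (Btab_s_373_386 c) (Nat.ble 373 c)
noncomputable def Btab_s_337_386 (c : Nat) : Nat := @Bool.rec (fun _ => Nat) (Btab_s_337_361 c) (Btab_s_361_386 c) (Nat.ble 361 c)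
noncomputable def Btab_s_289_386 (c : Nat) : Nat := @Bool.rec (fun _ => Nat) (Btab_s_289_337 c) (Btab_s_337_386 c) (Nat.ble 337 c)
noncomputable def Btab_s_193_386 (c : Nat) : Nat := @Bool.rec (fun _ => Nat) (Btab_s_193_289 c) (Btab_s_289_386 c) (Nat.ble 289 c)
noncomputable def Btab_s_0_386 (c : Nat) : Nat := @Bool.rec (fun _ => Nat) (Btab_s_0_193 c) (Btab_s_193_386 c) (Nat.ble 193 c)
noncomputable def Btab (i : Nat) : Nat := rdw 39 549755813887 (Btab_s_0_386 (Nat.shiftRight i 11)) (Nat.land i 2047)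
noncomputable def Ptab_s_1_3 (c : Nat) : Nat := @Bool.rec (fun _ => Nat) (Ptab_1) (Ptab_2) (Nat.ble 2 c)
noncomputable def Ptab_s_0_3 (c : Nat) : Nat := @Bool.rec (fun _ => Nat) (Ptab_0) (Ptab_s_1_3 c) (Nat.ble 1 c)
noncomputable def Ptab_s_4_6 (c : Nat) : Nat := @Bool.rec (fun _ => Nat) (Ptab_4) (Ptab_5) (Nat.ble 5 c)
noncomputable def Ptab_s_3_6 (c : Nat) : Nat := @Bool.rec (fun _ => Nat) (Ptab_3) (Ptab_s_4_6 c) (Nat.ble 4 c)
noncomputable def Ptab_s_0_6 (c : Nat) : Nat := @Bool.rec (fun _ => Nat) (Ptab_s_0_3 c) (Ptab_s_3_6 c) (Nat.ble 3 c)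
noncomputable def Ptab_s_7_9 (c : Nat) : Nat := @Bool.rec (fun _ => Nat) (Ptab_7) (Ptab_8) (Nat.ble 8 c)
noncomputable def Ptab_s_6_9 (c : Nat) : Nat := @Bool.rec (fun _ => Nat) (Ptab_6) (Ptab_s_7_9 c) (Nat.ble 7 c)
noncomputable def Ptab_s_10_12 (c : Nat) : Nat := @Bool.rec (fun _ => Nat) (Ptab_10) (Ptab_11) (Nat.ble 11 c)
noncomputable def Ptab_s_9_12 (c : Nat) : Nat := @Bool.rec (fun _ => Nat) (Ptab_9) (Ptab_s_10_12 c) (Nat.ble 10 c)
noncomputable def Ptab_s_6_12 (c : Nat) : Nat := @Bool.rec (fun _ => Nat) (Ptab_s_6_9 c) (Ptab_s_9_12 c) (Nat.ble 9 c)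
noncomputable def Ptab_s_0_12 (c : Nat) : Nat := @Bool.rec (fun _ => Nat) (Ptab_s_0_6 c) (Ptab_s_6_12 c) (Nat.ble 6 c)
noncomputable def Ptab_s_13_15 (c : Nat) : Nat := @Bool.rec (fun _ => Nat) (Ptab_13) (Ptab_14) (Nat.ble 14 c)
noncomputable def Ptab_s_12_15 (c : Nat) : Nat := @Bool.rec (fun _ => Nat) (Ptab_12) (Ptab_s_13_15 c) (Nat.ble 13 c)
noncomputable def Ptab_s_16_18 (c : Nat) : Nat := @Bool.rec (fun _ => Nat) (Ptab_16) (Ptab_17) (Nat.ble 17 c)
noncomputable def Ptab_s_15_18 (c : Nat) : Nat := @Bool.rec (fun _ => Nat) (Ptab_15) (Ptab_s_16_18 c) (Nat.ble 16 c)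
noncomputable def Ptab_s_12_18 (c : Nat) : Nat := @Bool.rec (fun _ => Nat) (Ptab_s_12_15 c) (Ptab_s_15_18 c) (Nat.ble 15 c)
noncomputable def Ptab_s_19_21 (c : Nat) : Nat := @Bool.rec (fun _ => Nat) (Ptab_19) (Ptab_20) (Nat.ble 20 c)
noncomputable def Ptab_s_18_21 (c : Nat) : Nat := @Bool.rec (fun _ => Nat) (Ptab_18) (Ptab_s_19_21 c) (Nat.ble 19 c)
noncomputable def Ptab_s_21_23 (c : Nat) : Nat := @Bool.rec (fun _ => Nat) (Ptab_21) (Ptab_22) (Nat.ble 22 c)
noncomputable def Ptab_s_23_25 (c : Nat) : Nat := @Bool.rec (fun _ => Nat) (Ptab_23) (Ptab_24) (Nat.ble 24 c)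
noncomputable def Ptab_s_21_25 (c : Nat) : Nat := @Bool.rec (fun _ => Nat) (Ptab_s_21_23 c) (Ptab_s_23_25 c) (Nat.ble 23 c)
noncomputable def Ptab_s_18_25 (c : Nat) : Nat := @Bool.rec (fun _ => Nat) (Ptab_s_18_21 c) (Ptab_s_21_25 c) (Nat.ble 21 c)
noncomputable def Ptab_s_12_25 (c : Nat) : Nat := @Bool.rec (fun _ => Nat) (Ptab_s_12_18 c) (Ptab_s_18_25 c) (Nat.ble 18 c)
noncomputable def Ptab_s_0_25 (c : Nat) : Nat := @Bool.rec (fun _ => Nat) (Ptab_s_0_12 c) (Ptab_s_12_25 c) (Nat.ble 12 c)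
noncomputable def Ptab_s_26_28 (c : Nat) : Nat := @Bool.rec (fun _ => Nat) (Ptab_26) (Ptab_27) (Nat.ble 27 c)
noncomputable def Ptab_s_25_28 (c : Nat) : Nat := @Bool.rec (fun _ => Nat) (Ptab_25) (Ptab_s_26_28 c) (Nat.ble 26 c)
noncomputable def Ptab_s_29_31 (c : Nat) : Nat := @Bool.rec (fun _ => Nat) (Ptab_29) (Ptab_30) (Nat.ble 30 c)
noncomputable def Ptab_s_28_31 (c : Nat) : Nat := @Bool.rec (fun _ => Nat) (Ptab_28) (Ptab_s_29_31 c) (Nat.ble 29 c)
noncomputable def Ptab_s_25_31 (c : Nat) : Nat := @Bool.rec (fun _ => Nat) (Ptab_s_25_28 c) (Ptab_s_28_31 c) (Nat.ble 28 c)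
noncomputable def Ptab_s_32_34 (c : Nat) : Nat := @Bool.rec (fun _ => Nat) (Ptab_32) (Ptab_33) (Nat.ble 33 c)
noncomputable def Ptab_s_31_34 (c : Nat) : Nat := @Bool.rec (fun _ => Nat) (Ptab_31) (Ptab_s_32_34 c) (Nat.ble 32 c)
noncomputable def Ptab_s_34_36 (c : Nat) : Nat := @Bool.rec (fun _ => Nat) (Ptab_34) (Ptab_35) (Nat.ble 35 c)
noncomputable def Ptab_s_36_38 (c : Nat) : Nat := @Bool.rec (fun _ => Nat) (Ptab_36) (Ptab_37) (Nat.ble 37 c)
noncomputable def Ptab_s_34_38 (c : Nat) : Nat := @Bool.rec (fun _ => Nat) (Ptab_s_34_36 c) (Ptab_s_36_38 c) (Nat.ble 36 c)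
noncomputable def Ptab_s_31_38 (c : Nat) : Nat := @Bool.rec (fun _ => Nat) (Ptab_s_31_34 c) (Ptab_s_34_38 c) (Nat.ble 34 c)
noncomputable def Ptab_s_25_38 (c : Nat) : Nat := @Bool.rec (fun _ => Nat) (Ptab_s_25_31 c) (Ptab_s_31_38 c) (Nat.ble 31 c)
noncomputable def Ptab_s_39_41 (c : Nat) : Nat := @Bool.rec (fun _ => Nat) (Ptab_39) (Ptab_40) (Nat.ble 40 c)
noncomputable def Ptab_s_38_41 (c : Nat) : Nat := @Bool.rec (fun _ => Nat) (Ptab_38) (Ptab_s_39_41 c) (Nat.ble 39 c)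
noncomputable def Ptab_s_42_44 (c : Nat) : Nat := @Bool.rec (fun _ => Nat) (Ptab_42) (Ptab_43) (Nat.ble 43 c)
noncomputable def Ptab_s_41_44 (c : Nat) : Nat := @Bool.rec (fun _ => Nat) (Ptab_41) (Ptab_s_42_44 c) (Nat.ble 42 c)
noncomputable def Ptab_s_38_44 (c : Nat) : Nat := @Bool.rec (fun _ => Nat) (Ptab_s_38_41 c) (Ptab_s_41_44 c) (Nat.ble 41 c)
noncomputable def Ptab_s_45_47 (c : Nat) : Nat := @Bool.rec (fun _ => Nat) (Ptab_45) (Ptab_46) (Nat.ble 46 c)
noncomputable def Ptab_s_44_47 (c : Nat) : Nat := @Bool.rec (fun _ => Nat) (Ptab_44) (Ptab_s_45_47 c) (Nat.ble 45 c)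
noncomputable def Ptab_s_47_49 (c : Nat) : Nat := @Bool.rec (fun _ => Nat) (Ptab_47) (Ptab_48) (Nat.ble 48 c)
noncomputable def Ptab_s_49_51 (c : Nat) : Nat := @Bool.rec (fun _ => Nat) (Ptab_49) (Ptab_50) (Nat.ble 50 c)
noncomputable def Ptab_s_47_51 (c : Nat) : Nat := @Bool.rec (fun _ => Nat) (Ptab_s_47_49 c) (Ptab_s_49_51 c) (Nat.ble 49 c)
noncomputable def Ptab_s_44_51 (c : Nat) : Nat := @Bool.rec (fun _ => Nat) (Ptab_s_44_47 c) (Ptab_s_47_51 c) (Nat.ble 47 c)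
noncomputable def Ptab_s_38_51 (c : Nat) : Nat := @Bool.rec (fun _ => Nat) (Ptab_s_38_44 c) (Ptab_s_44_51 c) (Nat.ble 44 c)
noncomputable def Ptab_s_25_51 (c : Nat) : Nat := @Bool.rec (fun _ => Nat) (Ptab_s_25_38 c) (Ptab_s_38_51 c) (Nat.ble 38 c)
noncomputable def Ptab_s_0_51 (c : Nat) : Nat := @Bool.rec (fun _ => Nat) (Ptab_s_0_25 c) (Ptab_s_25_51 c) (Nat.ble 25 c)
noncomputable def Ptab_s_52_54 (c : Nat) : Nat := @Bool.rec (fun _ => Nat) (Ptab_52) (Ptab_53) (Nat.ble 53 c)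
noncomputable def Ptab_s_51_54 (c : Nat) : Nat := @Bool.rec (fun _ => Nat) (Ptab_51) (Ptab_s_52_54 c) (Nat.ble 52 c)
noncomputable def Ptab_s_55_57 (c : Nat) : Nat := @Bool.rec (fun _ => Nat) (Ptab_55) (Ptab_56) (Nat.ble 56 c)
noncomputable def Ptab_s_54_57 (c : Nat) : Nat := @Bool.rec (fun _ => Nat) (Ptab_54) (Ptab_s_55_57 c) (Nat.ble 55 c)
noncomputable def Ptab_s_51_57 (c : Nat) : Nat := @Bool.rec (fun _ => Nat) (Ptab_s_51_54 c) (Ptab_s_54_57 c) (Nat.ble 54 c)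
noncomputable def Ptab_s_58_60 (c : Nat) : Nat := @Bool.rec (fun _ => Nat) (Ptab_58) (Ptab_59) (Nat.ble 59 c)
noncomputable def Ptab_s_57_60 (c : Nat) : Nat := @Bool.rec (fun _ => Nat) (Ptab_57) (Ptab_s_58_60 c) (Nat.ble 58 c)
noncomputable def Ptab_s_60_62 (c : Nat) : Nat := @Bool.rec (fun _ => Nat) (Ptab_60) (Ptab_61) (Nat.ble 61 c)
noncomputable def Ptab_s_62_64 (c : Nat) : Nat := @Bool.rec (fun _ => Nat) (Ptab_62) (Ptab_63) (Nat.ble 63 c)
noncomputable def Ptab_s_60_64 (c : Nat) : Nat := @Bool.rec (fun _ => Nat) (Ptab_s_60_62 c) (Ptab_s_62_64 c) (Nat.ble 62 c)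
noncomputable def Ptab_s_57_64 (c : Nat) : Nat := @Bool.rec (fun _ => Nat) (Ptab_s_57_60 c) (Ptab_s_60_64 c) (Nat.ble 60 c)
noncomputable def Ptab_s_51_64 (c : Nat) : Nat := @Bool.rec (fun _ => Nat) (Ptab_s_51_57 c) (Ptab_s_57_64 c) (Nat.ble 57 c)
noncomputable def Ptab_s_65_67 (c : Nat) : Nat := @Bool.rec (fun _ => Nat) (Ptab_65) (Ptab_66) (Nat.ble 66 c)
noncomputable def Ptab_s_64_67 (c : Nat) : Nat := @Bool.rec (fun _ => Nat) (Ptab_64) (Ptab_s_65_67 c) (Nat.ble 65 c)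
noncomputable def Ptab_s_68_70 (c : Nat) : Nat := @Bool.rec (fun _ => Nat) (Ptab_68) (Ptab_69) (Nat.ble 69 c)
noncomputable def Ptab_s_67_70 (c : Nat) : Nat := @Bool.rec (fun _ => Nat) (Ptab_67) (Ptab_s_68_70 c) (Nat.ble 68 c)
noncomputable def Ptab_s_64_70 (c : Nat) : Nat := @Bool.rec (fun _ => Nat) (Ptab_s_64_67 c) (Ptab_s_67_70 c) (Nat.ble 67 c)
noncomputable def Ptab_s_71_73 (c : Nat) : Nat := @Bool.rec (fun _ => Nat) (Ptab_71) (Ptab_72) (Nat.ble 72 c)
noncomputable def Ptab_s_70_73 (c : Nat) : Nat := @Bool.rec (fun _ => Nat) (Ptab_70) (Ptab_s_71_73 c) (Nat.ble 71 c)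
noncomputable def Ptab_s_73_75 (c : Nat) : Nat := @Bool.rec (fun _ => Nat) (Ptab_73) (Ptab_74) (Nat.ble 74 c)
noncomputable def Ptab_s_75_77 (c : Nat) : Nat := @Bool.rec (fun _ => Nat) (Ptab_75) (Ptab_76) (Nat.ble 76 c)
noncomputable def Ptab_s_73_77 (c : Nat) : Nat := @Bool.rec (fun _ => Nat) (Ptab_s_73_75 c) (Ptab_s_75_77 c) (Nat.ble 75 c)
noncomputable def Ptab_s_70_77 (c : Nat) : Nat := @Bool.rec (fun _ => Nat) (Ptab_s_70_73 c) (Ptab_s_73_77 c) (Nat.ble 73 c)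
noncomputable def Ptab_s_64_77 (c : Nat) : Nat := @Bool.rec (fun _ => Nat) (Ptab_s_64_70 c) (Ptab_s_70_77 c) (Nat.ble 70 c)
noncomputable def Ptab_s_51_77 (c : Nat) : Nat := @Bool.rec (fun _ => Nat) (Ptab_s_51_64 c) (Ptab_s_64_77 c) (Nat.ble 64 c)
noncomputable def Ptab_s_78_80 (c : Nat) : Nat := @Bool.rec (fun _ => Nat) (Ptab_78) (Ptab_79) (Nat.ble 79 c)
noncomputable def Ptab_s_77_80 (c : Nat) : Nat := @Bool.rec (fun _ => Nat) (Ptab_77) (Ptab_s_78_80 c) (Nat.ble 78 c)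
noncomputable def Ptab_s_81_83 (c : Nat) : Nat := @Bool.rec (fun _ => Nat) (Ptab_81) (Ptab_82) (Nat.ble 82 c)
noncomputable def Ptab_s_80_83 (c : Nat) : Nat := @Bool.rec (fun _ => Nat) (Ptab_80) (Ptab_s_81_83 c) (Nat.ble 81 c)
noncomputable def Ptab_s_77_83 (c : Nat) : Nat := @Bool.rec (fun _ => Nat) (Ptab_s_77_80 c) (Ptab_s_80_83 c) (Nat.ble 80 c)
noncomputable def Ptab_s_84_86 (c : Nat) : Nat := @Bool.rec (fun _ => Nat) (Ptab_84) (Ptab_85) (Nat.ble 85 c)
noncomputable def Ptab_s_83_86 (c : Nat) : Nat := @Bool.rec (fun _ => Nat) (Ptab_83) (Ptab_s_84_86 c) (Nat.ble 84 c)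
noncomputable def Ptab_s_86_88 (c : Nat) : Nat := @Bool.rec (fun _ => Nat) (Ptab_86) (Ptab_87) (Nat.ble 87 c)
noncomputable def Ptab_s_88_90 (c : Nat) : Nat := @Bool.rec (fun _ => Nat) (Ptab_88) (Ptab_89) (Nat.ble 89 c)
noncomputable def Ptab_s_86_90 (c : Nat) : Nat := @Bool.rec (fun _ => Nat) (Ptab_s_86_88 c) (Ptab_s_88_90 c) (Nat.ble 88 c)
noncomputable def Ptab_s_83_90 (c : Nat) : Nat := @Bool.rec (fun _ => Nat) (Ptab_s_83_86 c) (Ptab_s_86_90 c) (Nat.ble 86 c)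
noncomputable def Ptab_s_77_90 (c : Nat) : Nat := @Bool.rec (fun _ => Nat) (Ptab_s_77_83 c) (Ptab_s_83_90 c) (Nat.ble 83 c)
noncomputable def Ptab_s_91_93 (c : Nat) : Nat := @Bool.rec (fun _ => Nat) (Ptab_91) (Ptab_92) (Nat.ble 92 c)
noncomputable def Ptab_s_90_93 (c : Nat) : Nat := @Bool.rec (fun _ => Nat) (Ptab_90) (Ptab_s_91_93 c) (Nat.ble 91 c)
noncomputable def Ptab_s_94_96 (c : Nat) : Nat := @Bool.rec (fun _ => Nat) (Ptab_94) (Ptab_95) (Nat.ble 95 c)
noncomputable def Ptab_s_93_96 (c : Nat) : Nat := @Bool.rec (fun _ => Nat) (Ptab_93) (Ptab_s_94_96 c) (Nat.ble 94 c)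
noncomputable def Ptab_s_90_96 (c : Nat) : Nat := @Bool.rec (fun _ => Nat) (Ptab_s_90_93 c) (Ptab_s_93_96 c) (Nat.ble 93 c)
noncomputable def Ptab_s_97_99 (c : Nat) : Nat := @Bool.rec (fun _ => Nat) (Ptab_97) (Ptab_98) (Nat.ble 98 c)
noncomputable def Ptab_s_96_99 (c : Nat) : Nat := @Bool.rec (fun _ => Nat) (Ptab_96) (Ptab_s_97_99 c) (Nat.ble 97 c)
noncomputable def Ptab_s_99_101 (c : Nat) : Nat := @Bool.rec (fun _ => Nat) (Ptab_99) (Ptab_100) (Nat.ble 100 c)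
noncomputable def Ptab_s_101_103 (c : Nat) : Nat := @Bool.rec (fun _ => Nat) (Ptab_101) (Ptab_102) (Nat.ble 102 c)
noncomputable def Ptab_s_99_103 (c : Nat) : Nat := @Bool.rec (fun _ => Nat) (Ptab_s_99_101 c) (Ptab_s_101_103 c) (Nat.ble 101 c)
noncomputable def Ptab_s_96_103 (c : Nat) : Nat := @Bool.rec (fun _ => Nat) (Ptab_s_96_99 c) (Ptab_s_99_103 c) (Nat.ble 99 c)
noncomputable def Ptab_s_90_103 (c : Nat) : Nat := @Bool.rec (fun _ => Nat) (Ptab_s_90_96 c) (Ptab_s_96_103 c) (Nat.ble 96 c)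
noncomputable def Ptab_s_77_103 (c : Nat) : Nat := @Bool.rec (fun _ => Nat) (Ptab_s_77_90 c) (Ptab_s_90_103 c) (Nat.ble 90 c)
noncomputable def Ptab_s_51_103 (c : Nat) : Nat := @Bool.rec (fun _ => Nat) (Ptab_s_51_77 c) (Ptab_s_77_103 c) (Nat.ble 77 c)
noncomputable def Ptab_s_0_103 (c : Nat) : Nat := @Bool.rec (fun _ => Nat) (Ptab_s_0_51 c) (Ptab_s_51_103 c) (Nat.ble 51 c)
noncomputable def Ptab_s_104_106 (c : Nat) : Nat := @Bool.rec (fun _ => Nat) (Ptab_104) (Ptab_105) (Nat.ble 105 c)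
noncomputable def Ptab_s_103_106 (c : Nat) : Nat := @Bool.rec (fun _ => Nat) (Ptab_103) (Ptab_s_104_106 c) (Nat.ble 104 c)
noncomputable def Ptab_s_107_109 (c : Nat) : Nat := @Bool.rec (fun _ => Nat) (Ptab_107) (Ptab_108) (Nat.ble 108 c)
noncomputable def Ptab_s_106_109 (c : Nat) : Nat := @Bool.rec (fun _ => Nat) (Ptab_106) (Ptab_s_107_109 c) (Nat.ble 107 c)
noncomputable def Ptab_s_103_109 (c : Nat) : Nat := @Bool.rec (fun _ => Nat) (Ptab_s_103_106 c) (Ptab_s_106_109 c) (Nat.ble 106 c)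
noncomputable def Ptab_s_110_112 (c : Nat) : Nat := @Bool.rec (fun _ => Nat) (Ptab_110) (Ptab_111) (Nat.ble 111 c)
noncomputable def Ptab_s_109_112 (c : Nat) : Nat := @Bool.rec (fun _ => Nat) (Ptab_109) (Ptab_s_110_112 c) (Nat.ble 110 c)
noncomputable def Ptab_s_113_115 (c : Nat) : Nat := @Bool.rec (fun _ => Nat) (Ptab_113) (Ptab_114) (Nat.ble 114 c)
noncomputable def Ptab_s_112_115 (c : Nat) : Nat := @Bool.rec (fun _ => Nat) (Ptab_112) (Ptab_s_113_115 c) (Nat.ble 113 c)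
noncomputable def Ptab_s_109_115 (c : Nat) : Nat := @Bool.rec (fun _ => Nat) (Ptab_s_109_112 c) (Ptab_s_112_115 c) (Nat.ble 112 c)
noncomputable def Ptab_s_103_115 (c : Nat) : Nat := @Bool.rec (fun _ => Nat) (Ptab_s_103_109 c) (Ptab_s_109_115 c) (Nat.ble 109 c)
noncomputable def Ptab_s_116_118 (c : Nat) : Nat := @Bool.rec (fun _ => Nat) (Ptab_116) (Ptab_117) (Nat.ble 117 c)
noncomputable def Ptab_s_115_118 (c : Nat) : Nat := @Bool.rec (fun _ => Nat) (Ptab_115) (Ptab_s_116_118 c) (Nat.ble 116 c)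
noncomputable def Ptab_s_119_121 (c : Nat) : Nat := @Bool.rec (fun _ => Nat) (Ptab_119) (Ptab_120) (Nat.ble 120 c)
noncomputable def Ptab_s_118_121 (c : Nat) : Nat := @Bool.rec (fun _ => Nat) (Ptab_118) (Ptab_s_119_121 c) (Nat.ble 119 c)
noncomputable def Ptab_s_115_121 (c : Nat) : Nat := @Bool.rec (fun _ => Nat) (Ptab_s_115_118 c) (Ptab_s_118_121 c) (Nat.ble 118 c)
noncomputable def Ptab_s_122_124 (c : Nat) : Nat := @Bool.rec (fun _ => Nat) (Ptab_122) (Ptab_123) (Nat.ble 123 c)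
noncomputable def Ptab_s_121_124 (c : Nat) : Nat := @Bool.rec (fun _ => Nat) (Ptab_121) (Ptab_s_122_124 c) (Nat.ble 122 c)
noncomputable def Ptab_s_124_126 (c : Nat) : Nat := @Bool.rec (fun _ => Nat) (Ptab_124) (Ptab_125) (Nat.ble 125 c)
noncomputable def Ptab_s_126_128 (c : Nat) : Nat := @Bool.rec (fun _ => Nat) (Ptab_126) (Ptab_127) (Nat.ble 127 c)
noncomputable def Ptab_s_124_128 (c : Nat) : Nat := @Bool.rec (fun _ => Nat) (Ptab_s_124_126 c) (Ptab_s_126_128 c) (Nat.ble 126 c)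
noncomputable def Ptab_s_121_128 (c : Nat) : Nat := @Bool.rec (fun _ => Nat) (Ptab_s_121_124 c) (Ptab_s_124_128 c) (Nat.ble 124 c)
noncomputable def Ptab_s_115_128 (c : Nat) : Nat := @Bool.rec (fun _ => Nat) (Ptab_s_115_121 c) (Ptab_s_121_128 c) (Nat.ble 121 c)
noncomputable def Ptab_s_103_128 (c : Nat) : Nat := @Bool.rec (fun _ => Nat) (Ptab_s_103_115 c) (Ptab_s_115_128 c) (Nat.ble 115 c)
noncomputable def Ptab_s_129_131 (c : Nat) : Nat := @Bool.rec (fun _ => Nat) (Ptab_129) (Ptab_130) (Nat.ble 130 c)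
noncomputable def Ptab_s_128_131 (c : Nat) : Nat := @Bool.rec (fun _ => Nat) (Ptab_128) (Ptab_s_129_131 c) (Nat.ble 129 c)
noncomputable def Ptab_s_132_134 (c : Nat) : Nat := @Bool.rec (fun _ => Nat) (Ptab_132) (Ptab_133) (Nat.ble 133 c)
noncomputable def Ptab_s_131_134 (c : Nat) : Nat := @Bool.rec (fun _ => Nat) (Ptab_131) (Ptab_s_132_134 c) (Nat.ble 132 c)
noncomputable def Ptab_s_128_134 (c : Nat) : Nat := @Bool.rec (fun _ => Nat) (Ptab_s_128_131 c) (Ptab_s_131_134 c) (Nat.ble 131 c)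
noncomputable def Ptab_s_135_137 (c : Nat) : Nat := @Bool.rec (fun _ => Nat) (Ptab_135) (Ptab_136) (Nat.ble 136 c)
noncomputable def Ptab_s_134_137 (c : Nat) : Nat := @Bool.rec (fun _ => Nat) (Ptab_134) (Ptab_s_135_137 c) (Nat.ble 135 c)
noncomputable def Ptab_s_137_139 (c : Nat) : Nat := @Bool.rec (fun _ => Nat) (Ptab_137) (Ptab_138) (Nat.ble 138 c)
noncomputable def Ptab_s_139_141 (c : Nat) : Nat := @Bool.rec (fun _ => Nat) (Ptab_139) (Ptab_140) (Nat.ble 140 c)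
noncomputable def Ptab_s_137_141 (c : Nat) : Nat := @Bool.rec (fun _ => Nat) (Ptab_s_137_139 c) (Ptab_s_139_141 c) (Nat.ble 139 c)
noncomputable def Ptab_s_134_141 (c : Nat) : Nat := @Bool.rec (fun _ => Nat) (Ptab_s_134_137 c) (Ptab_s_137_141 c) (Nat.ble 137 c)
noncomputable def Ptab_s_128_141 (c : Nat) : Nat := @Bool.rec (fun _ => Nat) (Ptab_s_128_134 c) (Ptab_s_134_141 c) (Nat.ble 134 c)
noncomputable def Ptab_s_142_144 (c : Nat) : Nat := @Bool.rec (fun _ => Nat) (Ptab_142) (Ptab_143) (Nat.ble 143 c)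
noncomputable def Ptab_s_141_144 (c : Nat) : Nat := @Bool.rec (fun _ => Nat) (Ptab_141) (Ptab_s_142_144 c) (Nat.ble 142 c)
noncomputable def Ptab_s_145_147 (c : Nat) : Nat := @Bool.rec (fun _ => Nat) (Ptab_145) (Ptab_146) (Nat.ble 146 c)
noncomputable def Ptab_s_144_147 (c : Nat) : Nat := @Bool.rec (fun _ => Nat) (Ptab_144) (Ptab_s_145_147 c) (Nat.ble 145 c)
noncomputable def Ptab_s_141_147 (c : Nat) : Nat := @Bool.rec (fun _ => Nat) (Ptab_s_141_144 c) (Ptab_s_144_147 c) (Nat.ble 144 c)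
noncomputable def Ptab_s_148_150 (c : Nat) : Nat := @Bool.rec (fun _ => Nat) (Ptab_148) (Ptab_149) (Nat.ble 149 c)
noncomputable def Ptab_s_147_150 (c : Nat) : Nat := @Bool.rec (fun _ => Nat) (Ptab_147) (Ptab_s_148_150 c) (Nat.ble 148 c)
noncomputable def Ptab_s_150_152 (c : Nat) : Nat := @Bool.rec (fun _ => Nat) (Ptab_150) (Ptab_151) (Nat.ble 151 c)
noncomputable def Ptab_s_152_154 (c : Nat) : Nat := @Bool.rec (fun _ => Nat) (Ptab_152) (Ptab_153) (Nat.ble 153 c)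
noncomputable def Ptab_s_150_154 (c : Nat) : Nat := @Bool.rec (fun _ => Nat) (Ptab_s_150_152 c) (Ptab_s_152_154 c) (Nat.ble 152 c)
noncomputable def Ptab_s_147_154 (c : Nat) : Nat := @Bool.rec (fun _ => Nat) (Ptab_s_147_150 c) (Ptab_s_150_154 c) (Nat.ble 150 c)
noncomputable def Ptab_s_141_154 (c : Nat) : Nat := @Bool.rec (fun _ => Nat) (Ptab_s_141_147 c) (Ptab_s_147_154 c) (Nat.ble 147 c)
noncomputable def Ptab_s_128_154 (c : Nat) : Nat := @Bool.rec (fun _ => Nat) (Ptab_s_128_141 c) (Ptab_s_141_154 c) (Nat.ble 141 c)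
noncomputable def Ptab_s_103_154 (c : Nat) : Nat := @Bool.rec (fun _ => Nat) (Ptab_s_103_128 c) (Ptab_s_128_154 c) (Nat.ble 128 c)
noncomputable def Ptab_s_155_157 (c : Nat) : Nat := @Bool.rec (fun _ => Nat) (Ptab_155) (Ptab_156) (Nat.ble 156 c)
noncomputable def Ptab_s_154_157 (c : Nat) : Nat := @Bool.rec (fun _ => Nat) (Ptab_154) (Ptab_s_155_157 c) (Nat.ble 155 c)
noncomputable def Ptab_s_158_160 (c : Nat) : Nat := @Bool.rec (fun _ => Nat) (Ptab_158) (Ptab_159) (Nat.ble 159 c)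
noncomputable def Ptab_s_157_160 (c : Nat) : Nat := @Bool.rec (fun _ => Nat) (Ptab_157) (Ptab_s_158_160 c) (Nat.ble 158 c)
noncomputable def Ptab_s_154_160 (c : Nat) : Nat := @Bool.rec (fun _ => Nat) (Ptab_s_154_157 c) (Ptab_s_157_160 c) (Nat.ble 157 c)
noncomputable def Ptab_s_161_163 (c : Nat) : Nat := @Bool.rec (fun _ => Nat) (Ptab_161) (Ptab_162) (Nat.ble 162 c)
noncomputable def Ptab_s_160_163 (c : Nat) : Nat := @Bool.rec (fun _ => Nat) (Ptab_160) (Ptab_s_161_163 c) (Nat.ble 161 c)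
noncomputable def Ptab_s_163_165 (c : Nat) : Nat := @Bool.rec (fun _ => Nat) (Ptab_163) (Ptab_164) (Nat.ble 164 c)
noncomputable def Ptab_s_165_167 (c : Nat) : Nat := @Bool.rec (fun _ => Nat) (Ptab_165) (Ptab_166) (Nat.ble 166 c)
noncomputable def Ptab_s_163_167 (c : Nat) : Nat := @Bool.rec (fun _ => Nat) (Ptab_s_163_165 c) (Ptab_s_165_167 c) (Nat.ble 165 c)
noncomputable def Ptab_s_160_167 (c : Nat) : Nat := @Bool.rec (fun _ => Nat) (Ptab_s_160_163 c) (Ptab_s_163_167 c) (Nat.ble 163 c)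
noncomputable def Ptab_s_154_167 (c : Nat) : Nat := @Bool.rec (fun _ => Nat) (Ptab_s_154_160 c) (Ptab_s_160_167 c) (Nat.ble 160 c)
noncomputable def Ptab_s_168_170 (c : Nat) : Nat := @Bool.rec (fun _ => Nat) (Ptab_168) (Ptab_169) (Nat.ble 169 c)
noncomputable def Ptab_s_167_170 (c : Nat) : Nat := @Bool.rec (fun _ => Nat) (Ptab_167) (Ptab_s_168_170 c) (Nat.ble 168 c)
noncomputable def Ptab_s_171_173 (c : Nat) : Nat := @Bool.rec (fun _ => Nat) (Ptab_171) (Ptab_172) (Nat.ble 172 c)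
noncomputable def Ptab_s_170_173 (c : Nat) : Nat := @Bool.rec (fun _ => Nat) (Ptab_170) (Ptab_s_171_173 c) (Nat.ble 171 c)
noncomputable def Ptab_s_167_173 (c : Nat) : Nat := @Bool.rec (fun _ => Nat) (Ptab_s_167_170 c) (Ptab_s_170_173 c) (Nat.ble 170 c)
noncomputable def Ptab_s_174_176 (c : Nat) : Nat := @Bool.rec (fun _ => Nat) (Ptab_174) (Ptab_175) (Nat.ble 175 c)
noncomputable def Ptab_s_173_176 (c : Nat) : Nat := @Bool.rec (fun _ => Nat) (Ptab_173) (Ptab_s_174_176 c) (Nat.ble 174 c)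
noncomputable def Ptab_s_176_178 (c : Nat) : Nat := @Bool.rec (fun _ => Nat) (Ptab_176) (Ptab_177) (Nat.ble 177 c)
noncomputable def Ptab_s_178_180 (c : Nat) : Nat := @Bool.rec (fun _ => Nat) (Ptab_178) (Ptab_179) (Nat.ble 179 c)
noncomputable def Ptab_s_176_180 (c : Nat) : Nat := @Bool.rec (fun _ => Nat) (Ptab_s_176_178 c) (Ptab_s_178_180 c) (Nat.ble 178 c)
noncomputable def Ptab_s_173_180 (c : Nat) : Nat := @Bool.rec (fun _ => Nat) (Ptab_s_173_176 c) (Ptab_s_176_180 c) (Nat.ble 176 c)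
noncomputable def Ptab_s_167_180 (c : Nat) : Nat := @Bool.rec (fun _ => Nat) (Ptab_s_167_173 c) (Ptab_s_173_180 c) (Nat.ble 173 c)
noncomputable def Ptab_s_154_180 (c : Nat) : Nat := @Bool.rec (fun _ => Nat) (Ptab_s_154_167 c) (Ptab_s_167_180 c) (Nat.ble 167 c)
noncomputable def Ptab_s_181_183 (c : Nat) : Nat := @Bool.rec (fun _ => Nat) (Ptab_181) (Ptab_182) (Nat.ble 182 c)
noncomputable def Ptab_s_180_183 (c : Nat) : Nat := @Bool.rec (fun _ => Nat) (Ptab_180) (Ptab_s_181_183 c) (Nat.ble 181 c)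
noncomputable def Ptab_s_184_186 (c : Nat) : Nat := @Bool.rec (fun _ => Nat) (Ptab_184) (Ptab_185) (Nat.ble 185 c)
noncomputable def Ptab_s_183_186 (c : Nat) : Nat := @Bool.rec (fun _ => Nat) (Ptab_183) (Ptab_s_184_186 c) (Nat.ble 184 c)
noncomputable def Ptab_s_180_186 (c : Nat) : Nat := @Bool.rec (fun _ => Nat) (Ptab_s_180_183 c) (Ptab_s_183_186 c) (Nat.ble 183 c)
noncomputable def Ptab_s_187_189 (c : Nat) : Nat := @Bool.rec (fun _ => Nat) (Ptab_187) (Ptab_188) (Nat.ble 188 c)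
noncomputable def Ptab_s_186_189 (c : Nat) : Nat := @Bool.rec (fun _ => Nat) (Ptab_186) (Ptab_s_187_189 c) (Nat.ble 187 c)
noncomputable def Ptab_s_189_191 (c : Nat) : Nat := @Bool.rec (fun _ => Nat) (Ptab_189) (Ptab_190) (Nat.ble 190 c)
noncomputable def Ptab_s_191_193 (c : Nat) : Nat := @Bool.rec (fun _ => Nat) (Ptab_191) (Ptab_192) (Nat.ble 192 c)
noncomputable def Ptab_s_189_193 (c : Nat) : Nat := @Bool.rec (fun _ => Nat) (Ptab_s_189_191 c) (Ptab_s_191_193 c) (Nat.ble 191 c)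
noncomputable def Ptab_s_186_193 (c : Nat) : Nat := @Bool.rec (fun _ => Nat) (Ptab_s_186_189 c) (Ptab_s_189_193 c) (Nat.ble 189 c)
noncomputable def Ptab_s_180_193 (c : Nat) : Nat := @Bool.rec (fun _ => Nat) (Ptab_s_180_186 c) (Ptab_s_186_193 c) (Nat.ble 186 c)
noncomputable def Ptab_s_194_196 (c : Nat) : Nat := @Bool.rec (fun _ => Nat) (Ptab_194) (Ptab_195) (Nat.ble 195 c)
noncomputable def Ptab_s_193_196 (c : Nat) : Nat := @Bool.rec (fun _ => Nat) (Ptab_193) (Ptab_s_194_196 c) (Nat.ble 194 c)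
noncomputable def Ptab_s_197_199 (c : Nat) : Nat := @Bool.rec (fun _ => Nat) (Ptab_197) (Ptab_198) (Nat.ble 198 c)
noncomputable def Ptab_s_196_199 (c : Nat) : Nat := @Bool.rec (fun _ => Nat) (Ptab_196) (Ptab_s_197_199 c) (Nat.ble 197 c)
noncomputable def Ptab_s_193_199 (c : Nat) : Nat := @Bool.rec (fun _ => Nat) (Ptab_s_193_196 c) (Ptab_s_196_199 c) (Nat.ble 196 c)
noncomputable def Ptab_s_200_202 (c : Nat) : Nat := @Bool.rec (fun _ => Nat) (Ptab_200) (Ptab_201) (Nat.ble 201 c)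
noncomputable def Ptab_s_199_202 (c : Nat) : Nat := @Bool.rec (fun _ => Nat) (Ptab_199) (Ptab_s_200_202 c) (Nat.ble 200 c)
noncomputable def Ptab_s_202_204 (c : Nat) : Nat := @Bool.rec (fun _ => Nat) (Ptab_202) (Ptab_203) (Nat.ble 203 c)
noncomputable def Ptab_s_204_206 (c : Nat) : Nat := @Bool.rec (fun _ => Nat) (Ptab_204) (Ptab_205) (Nat.ble 205 c)
noncomputable def Ptab_s_202_206 (c : Nat) : Nat := @Bool.rec (fun _ => Nat) (Ptab_s_202_204 c) (Ptab_s_204_206 c) (Nat.ble 204 c)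
noncomputable def Ptab_s_199_206 (c : Nat) : Nat := @Bool.rec (fun _ => Nat) (Ptab_s_199_202 c) (Ptab_s_202_206 c) (Nat.ble 202 c)
noncomputable def Ptab_s_193_206 (c : Nat) : Nat := @Bool.rec (fun _ => Nat) (Ptab_s_193_199 c) (Ptab_s_199_206 c) (Nat.ble 199 c)
noncomputable def Ptab_s_180_206 (c : Nat) : Nat := @Bool.rec (fun _ => Nat) (Ptab_s_180_193 c) (Ptab_s_193_206 c) (Nat.ble 193 c)
noncomputable def Ptab_s_154_206 (c : Nat) : Nat := @Bool.rec (fun _ => Nat) (Ptab_s_154_180 c) (Ptab_s_180_206 c) (Nat.ble 180 c)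
noncomputable def Ptab_s_103_206 (c : Nat) : Nat := @Bool.rec (fun _ => Nat) (Ptab_s_103_154 c) (Ptab_s_154_206 c) (Nat.ble 154 c)
noncomputable def Ptab_s_0_206 (c : Nat) : Nat := @Bool.rec (fun _ => Nat) (Ptab_s_0_103 c) (Ptab_s_103_206 c) (Nat.ble 103 c)
noncomputable def Ptab_s_207_209 (c : Nat) : Nat := @Bool.rec (fun _ => Nat) (Ptab_207) (Ptab_208) (Nat.ble 208 c)
noncomputable def Ptab_s_206_209 (c : Nat) : Nat := @Bool.rec (fun _ => Nat) (Ptab_206) (Ptab_s_207_209 c) (Nat.ble 207 c)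
noncomputable def Ptab_s_210_212 (c : Nat) : Nat := @Bool.rec (fun _ => Nat) (Ptab_210) (Ptab_211) (Nat.ble 211 c)
noncomputable def Ptab_s_209_212 (c : Nat) : Nat := @Bool.rec (fun _ => Nat) (Ptab_209) (Ptab_s_210_212 c) (Nat.ble 210 c)
noncomputable def Ptab_s_206_212 (c : Nat) : Nat := @Bool.rec (fun _ => Nat) (Ptab_s_206_209 c) (Ptab_s_209_212 c) (Nat.ble 209 c)
noncomputable def Ptab_s_213_215 (c : Nat) : Nat := @Bool.rec (fun _ => Nat) (Ptab_213) (Ptab_214) (Nat.ble 214 c)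
noncomputable def Ptab_s_212_215 (c : Nat) : Nat := @Bool.rec (fun _ => Nat) (Ptab_212) (Ptab_s_213_215 c) (Nat.ble 213 c)
noncomputable def Ptab_s_216_218 (c : Nat) : Nat := @Bool.rec (fun _ => Nat) (Ptab_216) (Ptab_217) (Nat.ble 217 c)
noncomputable def Ptab_s_215_218 (c : Nat) : Nat := @Bool.rec (fun _ => Nat) (Ptab_215) (Ptab_s_216_218 c) (Nat.ble 216 c)
noncomputable def Ptab_s_212_218 (c : Nat) : Nat := @Bool.rec (fun _ => Nat) (Ptab_s_212_215 c) (Ptab_s_215_218 c) (Nat.ble 215 c)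
noncomputable def Ptab_s_206_218 (c : Nat) : Nat := @Bool.rec (fun _ => Nat) (Ptab_s_206_212 c) (Ptab_s_212_218 c) (Nat.ble 212 c)
noncomputable def Ptab_s_219_221 (c : Nat) : Nat := @Bool.rec (fun _ => Nat) (Ptab_219) (Ptab_220) (Nat.ble 220 c)
noncomputable def Ptab_s_218_221 (c : Nat) : Nat := @Bool.rec (fun _ => Nat) (Ptab_218) (Ptab_s_219_221 c) (Nat.ble 219 c)
noncomputable def Ptab_s_222_224 (c : Nat) : Nat := @Bool.rec (fun _ => Nat) (Ptab_222) (Ptab_223) (Nat.ble 223 c)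
noncomputable def Ptab_s_221_224 (c : Nat) : Nat := @Bool.rec (fun _ => Nat) (Ptab_221) (Ptab_s_222_224 c) (Nat.ble 222 c)
noncomputable def Ptab_s_218_224 (c : Nat) : Nat := @Bool.rec (fun _ => Nat) (Ptab_s_218_221 c) (Ptab_s_221_224 c) (Nat.ble 221 c)
noncomputable def Ptab_s_225_227 (c : Nat) : Nat := @Bool.rec (fun _ => Nat) (Ptab_225) (Ptab_226) (Nat.ble 226 c)
noncomputable def Ptab_s_224_227 (c : Nat) : Nat := @Bool.rec (fun _ => Nat) (Ptab_224) (Ptab_s_225_227 c) (Nat.ble 225 c)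
noncomputable def Ptab_s_227_229 (c : Nat) : Nat := @Bool.rec (fun _ => Nat) (Ptab_227) (Ptab_228) (Nat.ble 228 c)
noncomputable def Ptab_s_229_231 (c : Nat) : Nat := @Bool.rec (fun _ => Nat) (Ptab_229) (Ptab_230) (Nat.ble 230 c)
noncomputable def Ptab_s_227_231 (c : Nat) : Nat := @Bool.rec (fun _ => Nat) (Ptab_s_227_229 c) (Ptab_s_229_231 c) (Nat.ble 229 c)
noncomputable def Ptab_s_224_231 (c : Nat) : Nat := @Bool.rec (fun _ => Nat) (Ptab_s_224_227 c) (Ptab_s_227_231 c) (Nat.ble 227 c)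
noncomputable def Ptab_s_218_231 (c : Nat) : Nat := @Bool.rec (fun _ => Nat) (Ptab_s_218_224 c) (Ptab_s_224_231 c) (Nat.ble 224 c)
noncomputable def Ptab_s_206_231 (c : Nat) : Nat := @Bool.rec (fun _ => Nat) (Ptab_s_206_218 c) (Ptab_s_218_231 c) (Nat.ble 218 c)
noncomputable def Ptab_s_232_234 (c : Nat) : Nat := @Bool.rec (fun _ => Nat) (Ptab_232) (Ptab_233) (Nat.ble 233 c)
noncomputable def Ptab_s_231_234 (c : Nat) : Nat := @Bool.rec (fun _ => Nat) (Ptab_231) (Ptab_s_232_234 c) (Nat.ble 232 c)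
noncomputable def Ptab_s_235_237 (c : Nat) : Nat := @Bool.rec (fun _ => Nat) (Ptab_235) (Ptab_236) (Nat.ble 236 c)
noncomputable def Ptab_s_234_237 (c : Nat) : Nat := @Bool.rec (fun _ => Nat) (Ptab_234) (Ptab_s_235_237 c) (Nat.ble 235 c)
noncomputable def Ptab_s_231_237 (c : Nat) : Nat := @Bool.rec (fun _ => Nat) (Ptab_s_231_234 c) (Ptab_s_234_237 c) (Nat.ble 234 c)
noncomputable def Ptab_s_238_240 (c : Nat) : Nat := @Bool.rec (fun _ => Nat) (Ptab_238) (Ptab_239) (Nat.ble 239 c)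
noncomputable def Ptab_s_237_240 (c : Nat) : Nat := @Bool.rec (fun _ => Nat) (Ptab_237) (Ptab_s_238_240 c) (Nat.ble 238 c)
noncomputable def Ptab_s_240_242 (c : Nat) : Nat := @Bool.rec (fun _ => Nat) (Ptab_240) (Ptab_241) (Nat.ble 241 c)
noncomputable def Ptab_s_242_244 (c : Nat) : Nat := @Bool.rec (fun _ => Nat) (Ptab_242) (Ptab_243) (Nat.ble 243 c)
noncomputable def Ptab_s_240_244 (c : Nat) : Nat := @Bool.rec (fun _ => Nat) (Ptab_s_240_242 c) (Ptab_s_242_244 c) (Nat.ble 242 c)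
noncomputable def Ptab_s_237_244 (c : Nat) : Nat := @Bool.rec (fun _ => Nat) (Ptab_s_237_240 c) (Ptab_s_240_244 c) (Nat.ble 240 c)
noncomputable def Ptab_s_231_244 (c : Nat) : Nat := @Bool.rec (fun _ => Nat) (Ptab_s_231_237 c) (Ptab_s_237_244 c) (Nat.ble 237 c)
noncomputable def Ptab_s_245_247 (c : Nat) : Nat := @Bool.rec (fun _ => Nat) (Ptab_245) (Ptab_246) (Nat.ble 246 c)
noncomputable def Ptab_s_244_247 (c : Nat) : Nat := @Bool.rec (fun _ => Nat) (Ptab_244) (Ptab_s_245_247 c) (Nat.ble 245 c)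
noncomputable def Ptab_s_248_250 (c : Nat) : Nat := @Bool.rec (fun _ => Nat) (Ptab_248) (Ptab_249) (Nat.ble 249 c)
noncomputable def Ptab_s_247_250 (c : Nat) : Nat := @Bool.rec (fun _ => Nat) (Ptab_247) (Ptab_s_248_250 c) (Nat.ble 248 c)
noncomputable def Ptab_s_244_250 (c : Nat) : Nat := @Bool.rec (fun _ => Nat) (Ptab_s_244_247 c) (Ptab_s_247_250 c) (Nat.ble 247 c)
noncomputable def Ptab_s_251_253 (c : Nat) : Nat := @Bool.rec (fun _ => Nat) (Ptab_251) (Ptab_252) (Nat.ble 252 c)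
noncomputable def Ptab_s_250_253 (c : Nat) : Nat := @Bool.rec (fun _ => Nat) (Ptab_250) (Ptab_s_251_253 c) (Nat.ble 251 c)
noncomputable def Ptab_s_253_255 (c : Nat) : Nat := @Bool.rec (fun _ => Nat) (Ptab_253) (Ptab_254) (Nat.ble 254 c)
noncomputable def Ptab_s_255_257 (c : Nat) : Nat := @Bool.rec (fun _ => Nat) (Ptab_255) (Ptab_256) (Nat.ble 256 c)
noncomputable def Ptab_s_253_257 (c : Nat) : Nat := @Bool.rec (fun _ => Nat) (Ptab_s_253_255 c) (Ptab_s_255_257 c) (Nat.ble 255 c)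
noncomputable def Ptab_s_250_257 (c : Nat) : Nat := @Bool.rec (fun _ => Nat) (Ptab_s_250_253 c) (Ptab_s_253_257 c) (Nat.ble 253 c)
noncomputable def Ptab_s_244_257 (c : Nat) : Nat := @Bool.rec (fun _ => Nat) (Ptab_s_244_250 c) (Ptab_s_250_257 c) (Nat.ble 250 c)
noncomputable def Ptab_s_231_257 (c : Nat) : Nat := @Bool.rec (fun _ => Nat) (Ptab_s_231_244 c) (Ptab_s_244_257 c) (Nat.ble 244 c)
noncomputable def Ptab_s_206_257 (c : Nat) : Nat := @Bool.rec (fun _ => Nat) (Ptab_s_206_231 c) (Ptab_s_231_257 c) (Nat.ble 231 c)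
noncomputable def Ptab_s_258_260 (c : Nat) : Nat := @Bool.rec (fun _ => Nat) (Ptab_258) (Ptab_259) (Nat.ble 259 c)
noncomputable def Ptab_s_257_260 (c : Nat) : Nat := @Bool.rec (fun _ => Nat) (Ptab_257) (Ptab_s_258_260 c) (Nat.ble 258 c)
noncomputable def Ptab_s_261_263 (c : Nat) : Nat := @Bool.rec (fun _ => Nat) (Ptab_261) (Ptab_262) (Nat.ble 262 c)
noncomputable def Ptab_s_260_263 (c : Nat) : Nat := @Bool.rec (fun _ => Nat) (Ptab_260) (Ptab_s_261_263 c) (Nat.ble 261 c)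
noncomputable def Ptab_s_257_263 (c : Nat) : Nat := @Bool.rec (fun _ => Nat) (Ptab_s_257_260 c) (Ptab_s_260_263 c) (Nat.ble 260 c)
noncomputable def Ptab_s_264_266 (c : Nat) : Nat := @Bool.rec (fun _ => Nat) (Ptab_264) (Ptab_265) (Nat.ble 265 c)
noncomputable def Ptab_s_263_266 (c : Nat) : Nat := @Bool.rec (fun _ => Nat) (Ptab_263) (Ptab_s_264_266 c) (Nat.ble 264 c)
noncomputable def Ptab_s_266_268 (c : Nat) : Nat := @Bool.rec (fun _ => Nat) (Ptab_266) (Ptab_267) (Nat.ble 267 c)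
noncomputable def Ptab_s_268_270 (c : Nat) : Nat := @Bool.rec (fun _ => Nat) (Ptab_268) (Ptab_269) (Nat.ble 269 c)
noncomputable def Ptab_s_266_270 (c : Nat) : Nat := @Bool.rec (fun _ => Nat) (Ptab_s_266_268 c) (Ptab_s_268_270 c) (Nat.ble 268 c)
noncomputable def Ptab_s_263_270 (c : Nat) : Nat := @Bool.rec (fun _ => Nat) (Ptab_s_263_266 c) (Ptab_s_266_270 c) (Nat.ble 266 c)
noncomputable def Ptab_s_257_270 (c : Nat) : Nat := @Bool.rec (fun _ => Nat) (Ptab_s_257_263 c) (Ptab_s_263_270 c) (Nat.ble 263 c)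
noncomputable def Ptab_s_271_273 (c : Nat) : Nat := @Bool.rec (fun _ => Nat) (Ptab_271) (Ptab_272) (Nat.ble 272 c)
noncomputable def Ptab_s_270_273 (c : Nat) : Nat := @Bool.rec (fun _ => Nat) (Ptab_270) (Ptab_s_271_273 c) (Nat.ble 271 c)
noncomputable def Ptab_s_274_276 (c : Nat) : Nat := @Bool.rec (fun _ => Nat) (Ptab_274) (Ptab_275) (Nat.ble 275 c)
noncomputable def Ptab_s_273_276 (c : Nat) : Nat := @Bool.rec (fun _ => Nat) (Ptab_273) (Ptab_s_274_276 c) (Nat.ble 274 c)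
noncomputable def Ptab_s_270_276 (c : Nat) : Nat := @Bool.rec (fun _ => Nat) (Ptab_s_270_273 c) (Ptab_s_273_276 c) (Nat.ble 273 c)
noncomputable def Ptab_s_277_279 (c : Nat) : Nat := @Bool.rec (fun _ => Nat) (Ptab_277) (Ptab_278) (Nat.ble 278 c)
noncomputable def Ptab_s_276_279 (c : Nat) : Nat := @Bool.rec (fun _ => Nat) (Ptab_276) (Ptab_s_277_279 c) (Nat.ble 277 c)
noncomputable def Ptab_s_279_281 (c : Nat) : Nat := @Bool.rec (fun _ => Nat) (Ptab_279) (Ptab_280) (Nat.ble 280 c)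
noncomputable def Ptab_s_281_283 (c : Nat) : Nat := @Bool.rec (fun _ => Nat) (Ptab_281) (Ptab_282) (Nat.ble 282 c)
noncomputable def Ptab_s_279_283 (c : Nat) : Nat := @Bool.rec (fun _ => Nat) (Ptab_s_279_281 c) (Ptab_s_281_283 c) (Nat.ble 281 c)
noncomputable def Ptab_s_276_283 (c : Nat) : Nat := @Bool.rec (fun _ => Nat) (Ptab_s_276_279 c) (Ptab_s_279_283 c) (Nat.ble 279 c)
noncomputable def Ptab_s_270_283 (c : Nat) : Nat := @Bool.rec (fun _ => Nat) (Ptab_s_270_276 c) (Ptab_s_276_283 c) (Nat.ble 276 c)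
noncomputable def Ptab_s_257_283 (c : Nat) : Nat := @Bool.rec (fun _ => Nat) (Ptab_s_257_270 c) (Ptab_s_270_283 c) (Nat.ble 270 c)
noncomputable def Ptab_s_284_286 (c : Nat) : Nat := @Bool.rec (fun _ => Nat) (Ptab_284) (Ptab_285) (Nat.ble 285 c)
noncomputable def Ptab_s_283_286 (c : Nat) : Nat := @Bool.rec (fun _ => Nat) (Ptab_283) (Ptab_s_284_286 c) (Nat.ble 284 c)
noncomputable def Ptab_s_287_289 (c : Nat) : Nat := @Bool.rec (fun _ => Nat) (Ptab_287) (Ptab_288) (Nat.ble 288 c)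
noncomputable def Ptab_s_286_289 (c : Nat) : Nat := @Bool.rec (fun _ => Nat) (Ptab_286) (Ptab_s_287_289 c) (Nat.ble 287 c)
noncomputable def Ptab_s_283_289 (c : Nat) : Nat := @Bool.rec (fun _ => Nat) (Ptab_s_283_286 c) (Ptab_s_286_289 c) (Nat.ble 286 c)
noncomputable def Ptab_s_290_292 (c : Nat) : Nat := @Bool.rec (fun _ => Nat) (Ptab_290) (Ptab_291) (Nat.ble 291 c)
noncomputable def Ptab_s_289_292 (c : Nat) : Nat := @Bool.rec (fun _ => Nat) (Ptab_289) (Ptab_s_290_292 c) (Nat.ble 290 c)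
noncomputable def Ptab_s_292_294 (c : Nat) : Nat := @Bool.rec (fun _ => Nat) (Ptab_292) (Ptab_293) (Nat.ble 293 c)
noncomputable def Ptab_s_294_296 (c : Nat) : Nat := @Bool.rec (fun _ => Nat) (Ptab_294) (Ptab_295) (Nat.ble 295 c)
noncomputable def Ptab_s_292_296 (c : Nat) : Nat := @Bool.rec (fun _ => Nat) (Ptab_s_292_294 c) (Ptab_s_294_296 c) (Nat.ble 294 c)
noncomputable def Ptab_s_289_296 (c : Nat) : Nat := @Bool.rec (fun _ => Nat) (Ptab_s_289_292 c) (Ptab_s_292_296 c) (Nat.ble 292 c)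
noncomputable def Ptab_s_283_296 (c : Nat) : Nat := @Bool.rec (fun _ => Nat) (Ptab_s_283_289 c) (Ptab_s_289_296 c) (Nat.ble 289 c)
noncomputable def Ptab_s_297_299 (c : Nat) : Nat := @Bool.rec (fun _ => Nat) (Ptab_297) (Ptab_298) (Nat.ble 298 c)
noncomputable def Ptab_s_296_299 (c : Nat) : Nat := @Bool.rec (fun _ => Nat) (Ptab_296) (Ptab_s_297_299 c) (Nat.ble 297 c)
noncomputable def Ptab_s_300_302 (c : Nat) : Nat := @Bool.rec (fun _ => Nat) (Ptab_300) (Ptab_301) (Nat.ble 301 c)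
noncomputable def Ptab_s_299_302 (c : Nat) : Nat := @Bool.rec (fun _ => Nat) (Ptab_299) (Ptab_s_300_302 c) (Nat.ble 300 c)
noncomputable def Ptab_s_296_302 (c : Nat) : Nat := @Bool.rec (fun _ => Nat) (Ptab_s_296_299 c) (Ptab_s_299_302 c) (Nat.ble 299 c)
noncomputable def Ptab_s_303_305 (c : Nat) : Nat := @Bool.rec (fun _ => Nat) (Ptab_303) (Ptab_304) (Nat.ble 304 c)
noncomputable def Ptab_s_302_305 (c : Nat) : Nat := @Bool.rec (fun _ => Nat) (Ptab_302) (Ptab_s_303_305 c) (Nat.ble 303 c)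
noncomputable def Ptab_s_305_307 (c : Nat) : Nat := @Bool.rec (fun _ => Nat) (Ptab_305) (Ptab_306) (Nat.ble 306 c)
noncomputable def Ptab_s_307_309 (c : Nat) : Nat := @Bool.rec (fun _ => Nat) (Ptab_307) (Ptab_308) (Nat.ble 308 c)
noncomputable def Ptab_s_305_309 (c : Nat) : Nat := @Bool.rec (fun _ => Nat) (Ptab_s_305_307 c) (Ptab_s_307_309 c) (Nat.ble 307 c)
noncomputable def Ptab_s_302_309 (c : Nat) : Nat := @Bool.rec (fun _ => Nat) (Ptab_s_302_305 c) (Ptab_s_305_309 c) (Nat.ble 305 c)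
noncomputable def Ptab_s_296_309 (c : Nat) : Nat := @Bool.rec (fun _ => Nat) (Ptab_s_296_302 c) (Ptab_s_302_309 c) (Nat.ble 302 c)
noncomputable def Ptab_s_283_309 (c : Nat) : Nat := @Bool.rec (fun _ => Nat) (Ptab_s_283_296 c) (Ptab_s_296_309 c) (Nat.ble 296 c)
noncomputable def Ptab_s_257_309 (c : Nat) : Nat := @Bool.rec (fun _ => Nat) (Ptab_s_257_283 c) (Ptab_s_283_309 c) (Nat.ble 283 c)
noncomputable def Ptab_s_206_309 (c : Nat) : Nat := @Bool.rec (fun _ => Nat) (Ptab_s_206_257 c) (Ptab_s_257_309 c) (Nat.ble 257 c)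
noncomputable def Ptab_s_310_312 (c : Nat) : Nat := @Bool.rec (fun _ => Nat) (Ptab_310) (Ptab_311) (Nat.ble 311 c)
noncomputable def Ptab_s_309_312 (c : Nat) : Nat := @Bool.rec (fun _ => Nat) (Ptab_309) (Ptab_s_310_312 c) (Nat.ble 310 c)
noncomputable def Ptab_s_313_315 (c : Nat) : Nat := @Bool.rec (fun _ => Nat) (Ptab_313) (Ptab_314) (Nat.ble 314 c)
noncomputable def Ptab_s_312_315 (c : Nat) : Nat := @Bool.rec (fun _ => Nat) (Ptab_312) (Ptab_s_313_315 c) (Nat.ble 313 c)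
noncomputable def Ptab_s_309_315 (c : Nat) : Nat := @Bool.rec (fun _ => Nat) (Ptab_s_309_312 c) (Ptab_s_312_315 c) (Nat.ble 312 c)
noncomputable def Ptab_s_316_318 (c : Nat) : Nat := @Bool.rec (fun _ => Nat) (Ptab_316) (Ptab_317) (Nat.ble 317 c)
noncomputable def Ptab_s_315_318 (c : Nat) : Nat := @Bool.rec (fun _ => Nat) (Ptab_315) (Ptab_s_316_318 c) (Nat.ble 316 c)
noncomputable def Ptab_s_319_321 (c : Nat) : Nat := @Bool.rec (fun _ => Nat) (Ptab_319) (Ptab_320) (Nat.ble 320 c)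
noncomputable def Ptab_s_318_321 (c : Nat) : Nat := @Bool.rec (fun _ => Nat) (Ptab_318) (Ptab_s_319_321 c) (Nat.ble 319 c)
noncomputable def Ptab_s_315_321 (c : Nat) : Nat := @Bool.rec (fun _ => Nat) (Ptab_s_315_318 c) (Ptab_s_318_321 c) (Nat.ble 318 c)
noncomputable def Ptab_s_309_321 (c : Nat) : Nat := @Bool.rec (fun _ => Nat) (Ptab_s_309_315 c) (Ptab_s_315_321 c) (Nat.ble 315 c)
noncomputable def Ptab_s_322_324 (c : Nat) : Nat := @Bool.rec (fun _ => Nat) (Ptab_322) (Ptab_323) (Nat.ble 323 c)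
noncomputable def Ptab_s_321_324 (c : Nat) : Nat := @Bool.rec (fun _ => Nat) (Ptab_321) (Ptab_s_322_324 c) (Nat.ble 322 c)
noncomputable def Ptab_s_325_327 (c : Nat) : Nat := @Bool.rec (fun _ => Nat) (Ptab_325) (Ptab_326) (Nat.ble 326 c)
noncomputable def Ptab_s_324_327 (c : Nat) : Nat := @Bool.rec (fun _ => Nat) (Ptab_324) (Ptab_s_325_327 c) (Nat.ble 325 c)
noncomputable def Ptab_s_321_327 (c : Nat) : Nat := @Bool.rec (fun _ => Nat) (Ptab_s_321_324 c) (Ptab_s_324_327 c) (Nat.ble 324 c)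
noncomputable def Ptab_s_328_330 (c : Nat) : Nat := @Bool.rec (fun _ => Nat) (Ptab_328) (Ptab_329) (Nat.ble 329 c)
noncomputable def Ptab_s_327_330 (c : Nat) : Nat := @Bool.rec (fun _ => Nat) (Ptab_327) (Ptab_s_328_330 c) (Nat.ble 328 c)
noncomputable def Ptab_s_330_332 (c : Nat) : Nat := @Bool.rec (fun _ => Nat) (Ptab_330) (Ptab_331) (Nat.ble 331 c)
noncomputable def Ptab_s_332_334 (c : Nat) : Nat := @Bool.rec (fun _ => Nat) (Ptab_332) (Ptab_333) (Nat.ble 333 c)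
noncomputable def Ptab_s_330_334 (c : Nat) : Nat := @Bool.rec (fun _ => Nat) (Ptab_s_330_332 c) (Ptab_s_332_334 c) (Nat.ble 332 c)
noncomputable def Ptab_s_327_334 (c : Nat) : Nat := @Bool.rec (fun _ => Nat) (Ptab_s_327_330 c) (Ptab_s_330_334 c) (Nat.ble 330 c)
noncomputable def Ptab_s_321_334 (c : Nat) : Nat := @Bool.rec (fun _ => Nat) (Ptab_s_321_327 c) (Ptab_s_327_334 c) (Nat.ble 327 c)
noncomputable def Ptab_s_309_334 (c : Nat) : Nat := @Bool.rec (fun _ => Nat) (Ptab_s_309_321 c) (Ptab_s_321_334 c) (Nat.ble 321 c)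
noncomputable def Ptab_s_335_337 (c : Nat) : Nat := @Bool.rec (fun _ => Nat) (Ptab_335) (Ptab_336) (Nat.ble 336 c)
noncomputable def Ptab_s_334_337 (c : Nat) : Nat := @Bool.rec (fun _ => Nat) (Ptab_334) (Ptab_s_335_337 c) (Nat.ble 335 c)
noncomputable def Ptab_s_338_340 (c : Nat) : Nat := @Bool.rec (fun _ => Nat) (Ptab_338) (Ptab_339) (Nat.ble 339 c)
noncomputable def Ptab_s_337_340 (c : Nat) : Nat := @Bool.rec (fun _ => Nat) (Ptab_337) (Ptab_s_338_340 c) (Nat.ble 338 c)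
noncomputable def Ptab_s_334_340 (c : Nat) : Nat := @Bool.rec (fun _ => Nat) (Ptab_s_334_337 c) (Ptab_s_337_340 c) (Nat.ble 337 c)
noncomputable def Ptab_s_341_343 (c : Nat) : Nat := @Bool.rec (fun _ => Nat) (Ptab_341) (Ptab_342) (Nat.ble 342 c)
noncomputable def Ptab_s_340_343 (c : Nat) : Nat := @Bool.rec (fun _ => Nat) (Ptab_340) (Ptab_s_341_343 c) (Nat.ble 341 c)
noncomputable def Ptab_s_343_345 (c : Nat) : Nat := @Bool.rec (fun _ => Nat) (Ptab_343) (Ptab_344) (Nat.ble 344 c)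
noncomputable def Ptab_s_345_347 (c : Nat) : Nat := @Bool.rec (fun _ => Nat) (Ptab_345) (Ptab_346) (Nat.ble 346 c)
noncomputable def Ptab_s_343_347 (c : Nat) : Nat := @Bool.rec (fun _ => Nat) (Ptab_s_343_345 c) (Ptab_s_345_347 c) (Nat.ble 345 c)
noncomputable def Ptab_s_340_347 (c : Nat) : Nat := @Bool.rec (fun _ => Nat) (Ptab_s_340_343 c) (Ptab_s_343_347 c) (Nat.ble 343 c)
noncomputable def Ptab_s_334_347 (c : Nat) : Nat := @Bool.rec (fun _ => Nat) (Ptab_s_334_340 c) (Ptab_s_340_347 c) (Nat.ble 340 c)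
noncomputable def Ptab_s_348_350 (c : Nat) : Nat := @Bool.rec (fun _ => Nat) (Ptab_348) (Ptab_349) (Nat.ble 349 c)
noncomputable def Ptab_s_347_350 (c : Nat) : Nat := @Bool.rec (fun _ => Nat) (Ptab_347) (Ptab_s_348_350 c) (Nat.ble 348 c)
noncomputable def Ptab_s_351_353 (c : Nat) : Nat := @Bool.rec (fun _ => Nat) (Ptab_351) (Ptab_352) (Nat.ble 352 c)
noncomputable def Ptab_s_350_353 (c : Nat) : Nat := @Bool.rec (fun _ => Nat) (Ptab_350) (Ptab_s_351_353 c) (Nat.ble 351 c)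
noncomputable def Ptab_s_347_353 (c : Nat) : Nat := @Bool.rec (fun _ => Nat) (Ptab_s_347_350 c) (Ptab_s_350_353 c) (Nat.ble 350 c)
noncomputable def Ptab_s_354_356 (c : Nat) : Nat := @Bool.rec (fun _ => Nat) (Ptab_354) (Ptab_355) (Nat.ble 355 c)
noncomputable def Ptab_s_353_356 (c : Nat) : Nat := @Bool.rec (fun _ => Nat) (Ptab_353) (Ptab_s_354_356 c) (Nat.ble 354 c)
noncomputable def Ptab_s_356_358 (c : Nat) : Nat := @Bool.rec (fun _ => Nat) (Ptab_356) (Ptab_357) (Nat.ble 357 c)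
noncomputable def Ptab_s_358_360 (c : Nat) : Nat := @Bool.rec (fun _ => Nat) (Ptab_358) (Ptab_359) (Nat.ble 359 c)
noncomputable def Ptab_s_356_360 (c : Nat) : Nat := @Bool.rec (fun _ => Nat) (Ptab_s_356_358 c) (Ptab_s_358_360 c) (Nat.ble 358 c)
noncomputable def Ptab_s_353_360 (c : Nat) : Nat := @Bool.rec (fun _ => Nat) (Ptab_s_353_356 c) (Ptab_s_356_360 c) (Nat.ble 356 c)
noncomputable def Ptab_s_347_360 (c : Nat) : Nat := @Bool.rec (fun _ => Nat) (Ptab_s_347_353 c) (Ptab_s_353_360 c) (Nat.ble 353 c)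
noncomputable def Ptab_s_334_360 (c : Nat) : Nat := @Bool.rec (fun _ => Nat) (Ptab_s_334_347 c) (Ptab_s_347_360 c) (Nat.ble 347 c)
noncomputable def Ptab_s_309_360 (c : Nat) : Nat := @Bool.rec (fun _ => Nat) (Ptab_s_309_334 c) (Ptab_s_334_360 c) (Nat.ble 334 c)
noncomputable def Ptab_s_361_363 (c : Nat) : Nat := @Bool.rec (fun _ => Nat) (Ptab_361) (Ptab_362) (Nat.ble 362 c)
noncomputable def Ptab_s_360_363 (c : Nat) : Nat := @Bool.rec (fun _ => Nat) (Ptab_360) (Ptab_s_361_363 c) (Nat.ble 361 c)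
noncomputable def Ptab_s_364_366 (c : Nat) : Nat := @Bool.rec (fun _ => Nat) (Ptab_364) (Ptab_365) (Nat.ble 365 c)
noncomputable def Ptab_s_363_366 (c : Nat) : Nat := @Bool.rec (fun _ => Nat) (Ptab_363) (Ptab_s_364_366 c) (Nat.ble 364 c)
noncomputable def Ptab_s_360_366 (c : Nat) : Nat := @Bool.rec (fun _ => Nat) (Ptab_s_360_363 c) (Ptab_s_363_366 c) (Nat.ble 363 c)
noncomputable def Ptab_s_367_369 (c : Nat) : Nat := @Bool.rec (fun _ => Nat) (Ptab_367) (Ptab_368) (Nat.ble 368 c)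
noncomputable def Ptab_s_366_369 (c : Nat) : Nat := @Bool.rec (fun _ => Nat) (Ptab_366) (Ptab_s_367_369 c) (Nat.ble 367 c)
noncomputable def Ptab_s_369_371 (c : Nat) : Nat := @Bool.rec (fun _ => Nat) (Ptab_369) (Ptab_370) (Nat.ble 370 c)
noncomputable def Ptab_s_371_373 (c : Nat) : Nat := @Bool.rec (fun _ => Nat) (Ptab_371) (Ptab_372) (Nat.ble 372 c)
noncomputable def Ptab_s_369_373 (c : Nat) : Nat := @Bool.rec (fun _ => Nat) (Ptab_s_369_371 c) (Ptab_s_371_373 c) (Nat.ble 371 c)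
noncomputable def Ptab_s_366_373 (c : Nat) : Nat := @Bool.rec (fun _ => Nat) (Ptab_s_366_369 c) (Ptab_s_369_373 c) (Nat.ble 369 c)
noncomputable def Ptab_s_360_373 (c : Nat) : Nat := @Bool.rec (fun _ => Nat) (Ptab_s_360_366 c) (Ptab_s_366_373 c) (Nat.ble 366 c)
noncomputable def Ptab_s_374_376 (c : Nat) : Nat := @Bool.rec (fun _ => Nat) (Ptab_374) (Ptab_375) (Nat.ble 375 c)
noncomputable def Ptab_s_373_376 (c : Nat) : Nat := @Bool.rec (fun _ => Nat) (Ptab_373) (Ptab_s_374_376 c) (Nat.ble 374 c)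
noncomputable def Ptab_s_377_379 (c : Nat) : Nat := @Bool.rec (fun _ => Nat) (Ptab_377) (Ptab_378) (Nat.ble 378 c)
noncomputable def Ptab_s_376_379 (c : Nat) : Nat := @Bool.rec (fun _ => Nat) (Ptab_376) (Ptab_s_377_379 c) (Nat.ble 377 c)
noncomputable def Ptab_s_373_379 (c : Nat) : Nat := @Bool.rec (fun _ => Nat) (Ptab_s_373_376 c) (Ptab_s_376_379 c) (Nat.ble 376 c)
noncomputable def Ptab_s_380_382 (c : Nat) : Nat := @Bool.rec (fun _ => Nat) (Ptab_380) (Ptab_381) (Nat.ble 381 c)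
noncomputable def Ptab_s_379_382 (c : Nat) : Nat := @Bool.rec (fun _ => Nat) (Ptab_379) (Ptab_s_380_382 c) (Nat.ble 380 c)
noncomputable def Ptab_s_382_384 (c : Nat) : Nat := @Bool.rec (fun _ => Nat) (Ptab_382) (Ptab_383) (Nat.ble 383 c)
noncomputable def Ptab_s_384_386 (c : Nat) : Nat := @Bool.rec (fun _ => Nat) (Ptab_384) (Ptab_385) (Nat.ble 385 c)
noncomputable def Ptab_s_382_386 (c : Nat) : Nat := @Bool.rec (fun _ => Nat) (Ptab_s_382_384 c) (Ptab_s_384_386 c) (Nat.ble 384 c)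
noncomputable def Ptab_s_379_386 (c : Nat) : Nat := @Bool.rec (fun _ => Nat) (Ptab_s_379_382 c) (Ptab_s_382_386 c) (Nat.ble 382 c)
noncomputable def Ptab_s_373_386 (c : Nat) : Nat := @Bool.rec (fun _ => Nat) (Ptab_s_373_379 c) (Ptab_s_379_386 c) (Nat.ble 379 c)
noncomputable def Ptab_s_360_386 (c : Nat) : Nat := @Bool.rec (fun _ => Nat) (Ptab_s_360_373 c) (Ptab_s_373_386 c) (Nat.ble 373 c)
noncomputable def Ptab_s_387_389 (c : Nat) : Nat := @Bool.rec (fun _ => Nat) (Ptab_387) (Ptab_388) (Nat.ble 388 c)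
noncomputable def Ptab_s_386_389 (c : Nat) : Nat := @Bool.rec (fun _ => Nat) (Ptab_386) (Ptab_s_387_389 c) (Nat.ble 387 c)
noncomputable def Ptab_s_390_392 (c : Nat) : Nat := @Bool.rec (fun _ => Nat) (Ptab_390) (Ptab_391) (Nat.ble 391 c)
noncomputable def Ptab_s_389_392 (c : Nat) : Nat := @Bool.rec (fun _ => Nat) (Ptab_389) (Ptab_s_390_392 c) (Nat.ble 390 c)
noncomputable def Ptab_s_386_392 (c : Nat) : Nat := @Bool.rec (fun _ => Nat) (Ptab_s_386_389 c) (Ptab_s_389_392 c) (Nat.ble 389 c)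
noncomputable def Ptab_s_393_395 (c : Nat) : Nat := @Bool.rec (fun _ => Nat) (Ptab_393) (Ptab_394) (Nat.ble 394 c)
noncomputable def Ptab_s_392_395 (c : Nat) : Nat := @Bool.rec (fun _ => Nat) (Ptab_392) (Ptab_s_393_395 c) (Nat.ble 393 c)
noncomputable def Ptab_s_395_397 (c : Nat) : Nat := @Bool.rec (fun _ => Nat) (Ptab_395) (Ptab_396) (Nat.ble 396 c)
noncomputable def Ptab_s_397_399 (c : Nat) : Nat := @Bool.rec (fun _ => Nat) (Ptab_397) (Ptab_398) (Nat.ble 398 c)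
noncomputable def Ptab_s_395_399 (c : Nat) : Nat := @Bool.rec (fun _ => Nat) (Ptab_s_395_397 c) (Ptab_s_397_399 c) (Nat.ble 397 c)
noncomputable def Ptab_s_392_399 (c : Nat) : Nat := @Bool.rec (fun _ => Nat) (Ptab_s_392_395 c) (Ptab_s_395_399 c) (Nat.ble 395 c)
noncomputable def Ptab_s_386_399 (c : Nat) : Nat := @Bool.rec (fun _ => Nat) (Ptab_s_386_392 c) (Ptab_s_392_399 c) (Nat.ble 392 c)
noncomputable def Ptab_s_400_402 (c : Nat) : Nat := @Bool.rec (fun _ => Nat) (Ptab_400) (Ptab_401) (Nat.ble 401 c)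
noncomputable def Ptab_s_399_402 (c : Nat) : Nat := @Bool.rec (fun _ => Nat) (Ptab_399) (Ptab_s_400_402 c) (Nat.ble 400 c)
noncomputable def Ptab_s_403_405 (c : Nat) : Nat := @Bool.rec (fun _ => Nat) (Ptab_403) (Ptab_404) (Nat.ble 404 c)
noncomputable def Ptab_s_402_405 (c : Nat) : Nat := @Bool.rec (fun _ => Nat) (Ptab_402) (Ptab_s_403_405 c) (Nat.ble 403 c)
noncomputable def Ptab_s_399_405 (c : Nat) : Nat := @Bool.rec (fun _ => Nat) (Ptab_s_399_402 c) (Ptab_s_402_405 c) (Nat.ble 402 c)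
noncomputable def Ptab_s_406_408 (c : Nat) : Nat := @Bool.rec (fun _ => Nat) (Ptab_406) (Ptab_407) (Nat.ble 407 c)
noncomputable def Ptab_s_405_408 (c : Nat) : Nat := @Bool.rec (fun _ => Nat) (Ptab_405) (Ptab_s_406_408 c) (Nat.ble 406 c)
noncomputable def Ptab_s_408_410 (c : Nat) : Nat := @Bool.rec (fun _ => Nat) (Ptab_408) (Ptab_409) (Nat.ble 409 c)
noncomputable def Ptab_s_410_412 (c : Nat) : Nat := @Bool.rec (fun _ => Nat) (Ptab_410) (Ptab_411) (Nat.ble 411 c)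
noncomputable def Ptab_s_408_412 (c : Nat) : Nat := @Bool.rec (fun _ => Nat) (Ptab_s_408_410 c) (Ptab_s_410_412 c) (Nat.ble 410 c)
noncomputable def Ptab_s_405_412 (c : Nat) : Nat := @Bool.rec (fun _ => Nat) (Ptab_s_405_408 c) (Ptab_s_408_412 c) (Nat.ble 408 c)
noncomputable def Ptab_s_399_412 (c : Nat) : Nat := @Bool.rec (fun _ => Nat) (Ptab_s_399_405 c) (Ptab_s_405_412 c) (Nat.ble 405 c)
noncomputable def Ptab_s_386_412 (c : Nat) : Nat := @Bool.rec (fun _ => Nat) (Ptab_s_386_399 c) (Ptab_s_399_412 c) (Nat.ble 399 c)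
noncomputable def Ptab_s_360_412 (c : Nat) : Nat := @Bool.rec (fun _ => Nat) (Ptab_s_360_386 c) (Ptab_s_386_412 c) (Nat.ble 386 c)
noncomputable def Ptab_s_309_412 (c : Nat) : Nat := @Bool.rec (fun _ => Nat) (Ptab_s_309_360 c) (Ptab_s_360_412 c) (Nat.ble 360 c)
noncomputable def Ptab_s_206_412 (c : Nat) : Nat := @Bool.rec (fun _ => Nat) (Ptab_s_206_309 c) (Ptab_s_309_412 c) (Nat.ble 309 c)
noncomputable def Ptab_s_0_412 (c : Nat) : Nat := @Bool.rec (fun _ => Nat) (Ptab_s_0_206 c) (Ptab_s_206_412 c) (Nat.ble 206 c)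
noncomputable def Ptab_s_413_415 (c : Nat) : Nat := @Bool.rec (fun _ => Nat) (Ptab_413) (Ptab_414) (Nat.ble 414 c)
noncomputable def Ptab_s_412_415 (c : Nat) : Nat := @Bool.rec (fun _ => Nat) (Ptab_412) (Ptab_s_413_415 c) (Nat.ble 413 c)
noncomputable def Ptab_s_416_418 (c : Nat) : Nat := @Bool.rec (fun _ => Nat) (Ptab_416) (Ptab_417) (Nat.ble 417 c)
noncomputable def Ptab_s_415_418 (c : Nat) : Nat := @Bool.rec (fun _ => Nat) (Ptab_415) (Ptab_s_416_418 c) (Nat.ble 416 c)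
noncomputable def Ptab_s_412_418 (c : Nat) : Nat := @Bool.rec (fun _ => Nat) (Ptab_s_412_415 c) (Ptab_s_415_418 c) (Nat.ble 415 c)
noncomputable def Ptab_s_419_421 (c : Nat) : Nat := @Bool.rec (fun _ => Nat) (Ptab_419) (Ptab_420) (Nat.ble 420 c)
noncomputable def Ptab_s_418_421 (c : Nat) : Nat := @Bool.rec (fun _ => Nat) (Ptab_418) (Ptab_s_419_421 c) (Nat.ble 419 c)
noncomputable def Ptab_s_422_424 (c : Nat) : Nat := @Bool.rec (fun _ => Nat) (Ptab_422) (Ptab_423) (Nat.ble 423 c)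
noncomputable def Ptab_s_421_424 (c : Nat) : Nat := @Bool.rec (fun _ => Nat) (Ptab_421) (Ptab_s_422_424 c) (Nat.ble 422 c)
noncomputable def Ptab_s_418_424 (c : Nat) : Nat := @Bool.rec (fun _ => Nat) (Ptab_s_418_421 c) (Ptab_s_421_424 c) (Nat.ble 421 c)
noncomputable def Ptab_s_412_424 (c : Nat) : Nat := @Bool.rec (fun _ => Nat) (Ptab_s_412_418 c) (Ptab_s_418_424 c) (Nat.ble 418 c)
noncomputable def Ptab_s_425_427 (c : Nat) : Nat := @Bool.rec (fun _ => Nat) (Ptab_425) (Ptab_426) (Nat.ble 426 c)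
noncomputable def Ptab_s_424_427 (c : Nat) : Nat := @Bool.rec (fun _ => Nat) (Ptab_424) (Ptab_s_425_427 c) (Nat.ble 425 c)
noncomputable def Ptab_s_428_430 (c : Nat) : Nat := @Bool.rec (fun _ => Nat) (Ptab_428) (Ptab_429) (Nat.ble 429 c)
noncomputable def Ptab_s_427_430 (c : Nat) : Nat := @Bool.rec (fun _ => Nat) (Ptab_427) (Ptab_s_428_430 c) (Nat.ble 428 c)
noncomputable def Ptab_s_424_430 (c : Nat) : Nat := @Bool.rec (fun _ => Nat) (Ptab_s_424_427 c) (Ptab_s_427_430 c) (Nat.ble 427 c)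
noncomputable def Ptab_s_431_433 (c : Nat) : Nat := @Bool.rec (fun _ => Nat) (Ptab_431) (Ptab_432) (Nat.ble 432 c)
noncomputable def Ptab_s_430_433 (c : Nat) : Nat := @Bool.rec (fun _ => Nat) (Ptab_430) (Ptab_s_431_433 c) (Nat.ble 431 c)
noncomputable def Ptab_s_433_435 (c : Nat) : Nat := @Bool.rec (fun _ => Nat) (Ptab_433) (Ptab_434) (Nat.ble 434 c)
noncomputable def Ptab_s_435_437 (c : Nat) : Nat := @Bool.rec (fun _ => Nat) (Ptab_435) (Ptab_436) (Nat.ble 436 c)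
noncomputable def Ptab_s_433_437 (c : Nat) : Nat := @Bool.rec (fun _ => Nat) (Ptab_s_433_435 c) (Ptab_s_435_437 c) (Nat.ble 435 c)
noncomputable def Ptab_s_430_437 (c : Nat) : Nat := @Bool.rec (fun _ => Nat) (Ptab_s_430_433 c) (Ptab_s_433_437 c) (Nat.ble 433 c)
noncomputable def Ptab_s_424_437 (c : Nat) : Nat := @Bool.rec (fun _ => Nat) (Ptab_s_424_430 c) (Ptab_s_430_437 c) (Nat.ble 430 c)
noncomputable def Ptab_s_412_437 (c : Nat) : Nat := @Bool.rec (fun _ => Nat) (Ptab_s_412_424 c) (Ptab_s_424_437 c) (Nat.ble 424 c)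
noncomputable def Ptab_s_438_440 (c : Nat) : Nat := @Bool.rec (fun _ => Nat) (Ptab_438) (Ptab_439) (Nat.ble 439 c)
noncomputable def Ptab_s_437_440 (c : Nat) : Nat := @Bool.rec (fun _ => Nat) (Ptab_437) (Ptab_s_438_440 c) (Nat.ble 438 c)
noncomputable def Ptab_s_441_443 (c : Nat) : Nat := @Bool.rec (fun _ => Nat) (Ptab_441) (Ptab_442) (Nat.ble 442 c)
noncomputable def Ptab_s_440_443 (c : Nat) : Nat := @Bool.rec (fun _ => Nat) (Ptab_440) (Ptab_s_441_443 c) (Nat.ble 441 c)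
noncomputable def Ptab_s_437_443 (c : Nat) : Nat := @Bool.rec (fun _ => Nat) (Ptab_s_437_440 c) (Ptab_s_440_443 c) (Nat.ble 440 c)
noncomputable def Ptab_s_444_446 (c : Nat) : Nat := @Bool.rec (fun _ => Nat) (Ptab_444) (Ptab_445) (Nat.ble 445 c)
noncomputable def Ptab_s_443_446 (c : Nat) : Nat := @Bool.rec (fun _ => Nat) (Ptab_443) (Ptab_s_444_446 c) (Nat.ble 444 c)
noncomputable def Ptab_s_446_448 (c : Nat) : Nat := @Bool.rec (fun _ => Nat) (Ptab_446) (Ptab_447) (Nat.ble 447 c)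
noncomputable def Ptab_s_448_450 (c : Nat) : Nat := @Bool.rec (fun _ => Nat) (Ptab_448) (Ptab_449) (Nat.ble 449 c)
noncomputable def Ptab_s_446_450 (c : Nat) : Nat := @Bool.rec (fun _ => Nat) (Ptab_s_446_448 c) (Ptab_s_448_450 c) (Nat.ble 448 c)
noncomputable def Ptab_s_443_450 (c : Nat) : Nat := @Bool.rec (fun _ => Nat) (Ptab_s_443_446 c) (Ptab_s_446_450 c) (Nat.ble 446 c)
noncomputable def Ptab_s_437_450 (c : Nat) : Nat := @Bool.rec (fun _ => Nat) (Ptab_s_437_443 c) (Ptab_s_443_450 c) (Nat.ble 443 c)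
noncomputable def Ptab_s_451_453 (c : Nat) : Nat := @Bool.rec (fun _ => Nat) (Ptab_451) (Ptab_452) (Nat.ble 452 c)
noncomputable def Ptab_s_450_453 (c : Nat) : Nat := @Bool.rec (fun _ => Nat) (Ptab_450) (Ptab_s_451_453 c) (Nat.ble 451 c)
noncomputable def Ptab_s_454_456 (c : Nat) : Nat := @Bool.rec (fun _ => Nat) (Ptab_454) (Ptab_455) (Nat.ble 455 c)
noncomputable def Ptab_s_453_456 (c : Nat) : Nat := @Bool.rec (fun _ => Nat) (Ptab_453) (Ptab_s_454_456 c) (Nat.ble 454 c)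
noncomputable def Ptab_s_450_456 (c : Nat) : Nat := @Bool.rec (fun _ => Nat) (Ptab_s_450_453 c) (Ptab_s_453_456 c) (Nat.ble 453 c)
noncomputable def Ptab_s_457_459 (c : Nat) : Nat := @Bool.rec (fun _ => Nat) (Ptab_457) (Ptab_458) (Nat.ble 458 c)
noncomputable def Ptab_s_456_459 (c : Nat) : Nat := @Bool.rec (fun _ => Nat) (Ptab_456) (Ptab_s_457_459 c) (Nat.ble 457 c)
noncomputable def Ptab_s_459_461 (c : Nat) : Nat := @Bool.rec (fun _ => Nat) (Ptab_459) (Ptab_460) (Nat.ble 460 c)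
noncomputable def Ptab_s_461_463 (c : Nat) : Nat := @Bool.rec (fun _ => Nat) (Ptab_461) (Ptab_462) (Nat.ble 462 c)
noncomputable def Ptab_s_459_463 (c : Nat) : Nat := @Bool.rec (fun _ => Nat) (Ptab_s_459_461 c) (Ptab_s_461_463 c) (Nat.ble 461 c)
noncomputable def Ptab_s_456_463 (c : Nat) : Nat := @Bool.rec (fun _ => Nat) (Ptab_s_456_459 c) (Ptab_s_459_463 c) (Nat.ble 459 c)
noncomputable def Ptab_s_450_463 (c : Nat) : Nat := @Bool.rec (fun _ => Nat) (Ptab_s_450_456 c) (Ptab_s_456_463 c) (Nat.ble 456 c)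
noncomputable def Ptab_s_437_463 (c : Nat) : Nat := @Bool.rec (fun _ => Nat) (Ptab_s_437_450 c) (Ptab_s_450_463 c) (Nat.ble 450 c)
noncomputable def Ptab_s_412_463 (c : Nat) : Nat := @Bool.rec (fun _ => Nat) (Ptab_s_412_437 c) (Ptab_s_437_463 c) (Nat.ble 437 c)
noncomputable def Ptab_s_464_466 (c : Nat) : Nat := @Bool.rec (fun _ => Nat) (Ptab_464) (Ptab_465) (Nat.ble 465 c)
noncomputable def Ptab_s_463_466 (c : Nat) : Nat := @Bool.rec (fun _ => Nat) (Ptab_463) (Ptab_s_464_466 c) (Nat.ble 464 c)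
noncomputable def Ptab_s_467_469 (c : Nat) : Nat := @Bool.rec (fun _ => Nat) (Ptab_467) (Ptab_468) (Nat.ble 468 c)
noncomputable def Ptab_s_466_469 (c : Nat) : Nat := @Bool.rec (fun _ => Nat) (Ptab_466) (Ptab_s_467_469 c) (Nat.ble 467 c)
noncomputable def Ptab_s_463_469 (c : Nat) : Nat := @Bool.rec (fun _ => Nat) (Ptab_s_463_466 c) (Ptab_s_466_469 c) (Nat.ble 466 c)
noncomputable def Ptab_s_470_472 (c : Nat) : Nat := @Bool.rec (fun _ => Nat) (Ptab_470) (Ptab_471) (Nat.ble 471 c)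
noncomputable def Ptab_s_469_472 (c : Nat) : Nat := @Bool.rec (fun _ => Nat) (Ptab_469) (Ptab_s_470_472 c) (Nat.ble 470 c)
noncomputable def Ptab_s_472_474 (c : Nat) : Nat := @Bool.rec (fun _ => Nat) (Ptab_472) (Ptab_473) (Nat.ble 473 c)
noncomputable def Ptab_s_474_476 (c : Nat) : Nat := @Bool.rec (fun _ => Nat) (Ptab_474) (Ptab_475) (Nat.ble 475 c)
noncomputable def Ptab_s_472_476 (c : Nat) : Nat := @Bool.rec (fun _ => Nat) (Ptab_s_472_474 c) (Ptab_s_474_476 c) (Nat.ble 474 c)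
noncomputable def Ptab_s_469_476 (c : Nat) : Nat := @Bool.rec (fun _ => Nat) (Ptab_s_469_472 c) (Ptab_s_472_476 c) (Nat.ble 472 c)
noncomputable def Ptab_s_463_476 (c : Nat) : Nat := @Bool.rec (fun _ => Nat) (Ptab_s_463_469 c) (Ptab_s_469_476 c) (Nat.ble 469 c)
noncomputable def Ptab_s_477_479 (c : Nat) : Nat := @Bool.rec (fun _ => Nat) (Ptab_477) (Ptab_478) (Nat.ble 478 c)
noncomputable def Ptab_s_476_479 (c : Nat) : Nat := @Bool.rec (fun _ => Nat) (Ptab_476) (Ptab_s_477_479 c) (Nat.ble 477 c)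
noncomputable def Ptab_s_480_482 (c : Nat) : Nat := @Bool.rec (fun _ => Nat) (Ptab_480) (Ptab_481) (Nat.ble 481 c)
noncomputable def Ptab_s_479_482 (c : Nat) : Nat := @Bool.rec (fun _ => Nat) (Ptab_479) (Ptab_s_480_482 c) (Nat.ble 480 c)
noncomputable def Ptab_s_476_482 (c : Nat) : Nat := @Bool.rec (fun _ => Nat) (Ptab_s_476_479 c) (Ptab_s_479_482 c) (Nat.ble 479 c)
noncomputable def Ptab_s_483_485 (c : Nat) : Nat := @Bool.rec (fun _ => Nat) (Ptab_483) (Ptab_484) (Nat.ble 484 c)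
noncomputable def Ptab_s_482_485 (c : Nat) : Nat := @Bool.rec (fun _ => Nat) (Ptab_482) (Ptab_s_483_485 c) (Nat.ble 483 c)
noncomputable def Ptab_s_485_487 (c : Nat) : Nat := @Bool.rec (fun _ => Nat) (Ptab_485) (Ptab_486) (Nat.ble 486 c)
noncomputable def Ptab_s_487_489 (c : Nat) : Nat := @Bool.rec (fun _ => Nat) (Ptab_487) (Ptab_488) (Nat.ble 488 c)
noncomputable def Ptab_s_485_489 (c : Nat) : Nat := @Bool.rec (fun _ => Nat) (Ptab_s_485_487 c) (Ptab_s_487_489 c) (Nat.ble 487 c)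
noncomputable def Ptab_s_482_489 (c : Nat) : Nat := @Bool.rec (fun _ => Nat) (Ptab_s_482_485 c) (Ptab_s_485_489 c) (Nat.ble 485 c)
noncomputable def Ptab_s_476_489 (c : Nat) : Nat := @Bool.rec (fun _ => Nat) (Ptab_s_476_482 c) (Ptab_s_482_489 c) (Nat.ble 482 c)
noncomputable def Ptab_s_463_489 (c : Nat) : Nat := @Bool.rec (fun _ => Nat) (Ptab_s_463_476 c) (Ptab_s_476_489 c) (Nat.ble 476 c)
noncomputable def Ptab_s_490_492 (c : Nat) : Nat := @Bool.rec (fun _ => Nat) (Ptab_490) (Ptab_491) (Nat.ble 491 c)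
noncomputable def Ptab_s_489_492 (c : Nat) : Nat := @Bool.rec (fun _ => Nat) (Ptab_489) (Ptab_s_490_492 c) (Nat.ble 490 c)
noncomputable def Ptab_s_493_495 (c : Nat) : Nat := @Bool.rec (fun _ => Nat) (Ptab_493) (Ptab_494) (Nat.ble 494 c)
noncomputable def Ptab_s_492_495 (c : Nat) : Nat := @Bool.rec (fun _ => Nat) (Ptab_492) (Ptab_s_493_495 c) (Nat.ble 493 c)
noncomputable def Ptab_s_489_495 (c : Nat) : Nat := @Bool.rec (fun _ => Nat) (Ptab_s_489_492 c) (Ptab_s_492_495 c) (Nat.ble 492 c)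
noncomputable def Ptab_s_496_498 (c : Nat) : Nat := @Bool.rec (fun _ => Nat) (Ptab_496) (Ptab_497) (Nat.ble 497 c)
noncomputable def Ptab_s_495_498 (c : Nat) : Nat := @Bool.rec (fun _ => Nat) (Ptab_495) (Ptab_s_496_498 c) (Nat.ble 496 c)
noncomputable def Ptab_s_498_500 (c : Nat) : Nat := @Bool.rec (fun _ => Nat) (Ptab_498) (Ptab_499) (Nat.ble 499 c)
noncomputable def Ptab_s_500_502 (c : Nat) : Nat := @Bool.rec (fun _ => Nat) (Ptab_500) (Ptab_501) (Nat.ble 501 c)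
noncomputable def Ptab_s_498_502 (c : Nat) : Nat := @Bool.rec (fun _ => Nat) (Ptab_s_498_500 c) (Ptab_s_500_502 c) (Nat.ble 500 c)
noncomputable def Ptab_s_495_502 (c : Nat) : Nat := @Bool.rec (fun _ => Nat) (Ptab_s_495_498 c) (Ptab_s_498_502 c) (Nat.ble 498 c)
noncomputable def Ptab_s_489_502 (c : Nat) : Nat := @Bool.rec (fun _ => Nat) (Ptab_s_489_495 c) (Ptab_s_495_502 c) (Nat.ble 495 c)
noncomputable def Ptab_s_503_505 (c : Nat) : Nat := @Bool.rec (fun _ => Nat) (Ptab_503) (Ptab_504) (Nat.ble 504 c)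
noncomputable def Ptab_s_502_505 (c : Nat) : Nat := @Bool.rec (fun _ => Nat) (Ptab_502) (Ptab_s_503_505 c) (Nat.ble 503 c)
noncomputable def Ptab_s_506_508 (c : Nat) : Nat := @Bool.rec (fun _ => Nat) (Ptab_506) (Ptab_507) (Nat.ble 507 c)
noncomputable def Ptab_s_505_508 (c : Nat) : Nat := @Bool.rec (fun _ => Nat) (Ptab_505) (Ptab_s_506_508 c) (Nat.ble 506 c)
noncomputable def Ptab_s_502_508 (c : Nat) : Nat := @Bool.rec (fun _ => Nat) (Ptab_s_502_505 c) (Ptab_s_505_508 c) (Nat.ble 505 c)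
noncomputable def Ptab_s_509_511 (c : Nat) : Nat := @Bool.rec (fun _ => Nat) (Ptab_509) (Ptab_510) (Nat.ble 510 c)
noncomputable def Ptab_s_508_511 (c : Nat) : Nat := @Bool.rec (fun _ => Nat) (Ptab_508) (Ptab_s_509_511 c) (Nat.ble 509 c)
noncomputable def Ptab_s_511_513 (c : Nat) : Nat := @Bool.rec (fun _ => Nat) (Ptab_511) (Ptab_512) (Nat.ble 512 c)
noncomputable def Ptab_s_513_515 (c : Nat) : Nat := @Bool.rec (fun _ => Nat) (Ptab_513) (Ptab_514) (Nat.ble 514 c)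
noncomputable def Ptab_s_511_515 (c : Nat) : Nat := @Bool.rec (fun _ => Nat) (Ptab_s_511_513 c) (Ptab_s_513_515 c) (Nat.ble 513 c)
noncomputable def Ptab_s_508_515 (c : Nat) : Nat := @Bool.rec (fun _ => Nat) (Ptab_s_508_511 c) (Ptab_s_511_515 c) (Nat.ble 511 c)
noncomputable def Ptab_s_502_515 (c : Nat) : Nat := @Bool.rec (fun _ => Nat) (Ptab_s_502_508 c) (Ptab_s_508_515 c) (Nat.ble 508 c)
noncomputable def Ptab_s_489_515 (c : Nat) : Nat := @Bool.rec (fun _ => Nat) (Ptab_s_489_502 c) (Ptab_s_502_515 c) (Nat.ble 502 c)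
noncomputable def Ptab_s_463_515 (c : Nat) : Nat := @Bool.rec (fun _ => Nat) (Ptab_s_463_489 c) (Ptab_s_489_515 c) (Nat.ble 489 c)
noncomputable def Ptab_s_412_515 (c : Nat) : Nat := @Bool.rec (fun _ => Nat) (Ptab_s_412_463 c) (Ptab_s_463_515 c) (Nat.ble 463 c)
noncomputable def Ptab_s_516_518 (c : Nat) : Nat := @Bool.rec (fun _ => Nat) (Ptab_516) (Ptab_517) (Nat.ble 517 c)
noncomputable def Ptab_s_515_518 (c : Nat) : Nat := @Bool.rec (fun _ => Nat) (Ptab_515) (Ptab_s_516_518 c) (Nat.ble 516 c)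
noncomputable def Ptab_s_519_521 (c : Nat) : Nat := @Bool.rec (fun _ => Nat) (Ptab_519) (Ptab_520) (Nat.ble 520 c)
noncomputable def Ptab_s_518_521 (c : Nat) : Nat := @Bool.rec (fun _ => Nat) (Ptab_518) (Ptab_s_519_521 c) (Nat.ble 519 c)
noncomputable def Ptab_s_515_521 (c : Nat) : Nat := @Bool.rec (fun _ => Nat) (Ptab_s_515_518 c) (Ptab_s_518_521 c) (Nat.ble 518 c)
noncomputable def Ptab_s_522_524 (c : Nat) : Nat := @Bool.rec (fun _ => Nat) (Ptab_522) (Ptab_523) (Nat.ble 523 c)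
noncomputable def Ptab_s_521_524 (c : Nat) : Nat := @Bool.rec (fun _ => Nat) (Ptab_521) (Ptab_s_522_524 c) (Nat.ble 522 c)
noncomputable def Ptab_s_525_527 (c : Nat) : Nat := @Bool.rec (fun _ => Nat) (Ptab_525) (Ptab_526) (Nat.ble 526 c)
noncomputable def Ptab_s_524_527 (c : Nat) : Nat := @Bool.rec (fun _ => Nat) (Ptab_524) (Ptab_s_525_527 c) (Nat.ble 525 c)
noncomputable def Ptab_s_521_527 (c : Nat) : Nat := @Bool.rec (fun _ => Nat) (Ptab_s_521_524 c) (Ptab_s_524_527 c) (Nat.ble 524 c)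
noncomputable def Ptab_s_515_527 (c : Nat) : Nat := @Bool.rec (fun _ => Nat) (Ptab_s_515_521 c) (Ptab_s_521_527 c) (Nat.ble 521 c)
noncomputable def Ptab_s_528_530 (c : Nat) : Nat := @Bool.rec (fun _ => Nat) (Ptab_528) (Ptab_529) (Nat.ble 529 c)
noncomputable def Ptab_s_527_530 (c : Nat) : Nat := @Bool.rec (fun _ => Nat) (Ptab_527) (Ptab_s_528_530 c) (Nat.ble 528 c)
noncomputable def Ptab_s_531_533 (c : Nat) : Nat := @Bool.rec (fun _ => Nat) (Ptab_531) (Ptab_532) (Nat.ble 532 c)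
noncomputable def Ptab_s_530_533 (c : Nat) : Nat := @Bool.rec (fun _ => Nat) (Ptab_530) (Ptab_s_531_533 c) (Nat.ble 531 c)
noncomputable def Ptab_s_527_533 (c : Nat) : Nat := @Bool.rec (fun _ => Nat) (Ptab_s_527_530 c) (Ptab_s_530_533 c) (Nat.ble 530 c)
noncomputable def Ptab_s_534_536 (c : Nat) : Nat := @Bool.rec (fun _ => Nat) (Ptab_534) (Ptab_535) (Nat.ble 535 c)
noncomputable def Ptab_s_533_536 (c : Nat) : Nat := @Bool.rec (fun _ => Nat) (Ptab_533) (Ptab_s_534_536 c) (Nat.ble 534 c)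
noncomputable def Ptab_s_536_538 (c : Nat) : Nat := @Bool.rec (fun _ => Nat) (Ptab_536) (Ptab_537) (Nat.ble 537 c)
noncomputable def Ptab_s_538_540 (c : Nat) : Nat := @Bool.rec (fun _ => Nat) (Ptab_538) (Ptab_539) (Nat.ble 539 c)
noncomputable def Ptab_s_536_540 (c : Nat) : Nat := @Bool.rec (fun _ => Nat) (Ptab_s_536_538 c) (Ptab_s_538_540 c) (Nat.ble 538 c)
noncomputable def Ptab_s_533_540 (c : Nat) : Nat := @Bool.rec (fun _ => Nat) (Ptab_s_533_536 c) (Ptab_s_536_540 c) (Nat.ble 536 c)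
noncomputable def Ptab_s_527_540 (c : Nat) : Nat := @Bool.rec (fun _ => Nat) (Ptab_s_527_533 c) (Ptab_s_533_540 c) (Nat.ble 533 c)
noncomputable def Ptab_s_515_540 (c : Nat) : Nat := @Bool.rec (fun _ => Nat) (Ptab_s_515_527 c) (Ptab_s_527_540 c) (Nat.ble 527 c)
noncomputable def Ptab_s_541_543 (c : Nat) : Nat := @Bool.rec (fun _ => Nat) (Ptab_541) (Ptab_542) (Nat.ble 542 c)
noncomputable def Ptab_s_540_543 (c : Nat) : Nat := @Bool.rec (fun _ => Nat) (Ptab_540) (Ptab_s_541_543 c) (Nat.ble 541 c)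
noncomputable def Ptab_s_544_546 (c : Nat) : Nat := @Bool.rec (fun _ => Nat) (Ptab_544) (Ptab_545) (Nat.ble 545 c)
noncomputable def Ptab_s_543_546 (c : Nat) : Nat := @Bool.rec (fun _ => Nat) (Ptab_543) (Ptab_s_544_546 c) (Nat.ble 544 c)
noncomputable def Ptab_s_540_546 (c : Nat) : Nat := @Bool.rec (fun _ => Nat) (Ptab_s_540_543 c) (Ptab_s_543_546 c) (Nat.ble 543 c)
noncomputable def Ptab_s_547_549 (c : Nat) : Nat := @Bool.rec (fun _ => Nat) (Ptab_547) (Ptab_548) (Nat.ble 548 c)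
noncomputable def Ptab_s_546_549 (c : Nat) : Nat := @Bool.rec (fun _ => Nat) (Ptab_546) (Ptab_s_547_549 c) (Nat.ble 547 c)
noncomputable def Ptab_s_549_551 (c : Nat) : Nat := @Bool.rec (fun _ => Nat) (Ptab_549) (Ptab_550) (Nat.ble 550 c)
noncomputable def Ptab_s_551_553 (c : Nat) : Nat := @Bool.rec (fun _ => Nat) (Ptab_551) (Ptab_552) (Nat.ble 552 c)
noncomputable def Ptab_s_549_553 (c : Nat) : Nat := @Bool.rec (fun _ => Nat) (Ptab_s_549_551 c) (Ptab_s_551_553 c) (Nat.ble 551 c)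
noncomputable def Ptab_s_546_553 (c : Nat) : Nat := @Bool.rec (fun _ => Nat) (Ptab_s_546_549 c) (Ptab_s_549_553 c) (Nat.ble 549 c)
noncomputable def Ptab_s_540_553 (c : Nat) : Nat := @Bool.rec (fun _ => Nat) (Ptab_s_540_546 c) (Ptab_s_546_553 c) (Nat.ble 546 c)
noncomputable def Ptab_s_554_556 (c : Nat) : Nat := @Bool.rec (fun _ => Nat) (Ptab_554) (Ptab_555) (Nat.ble 555 c)
noncomputable def Ptab_s_553_556 (c : Nat) : Nat := @Bool.rec (fun _ => Nat) (Ptab_553) (Ptab_s_554_556 c) (Nat.ble 554 c)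
noncomputable def Ptab_s_557_559 (c : Nat) : Nat := @Bool.rec (fun _ => Nat) (Ptab_557) (Ptab_558) (Nat.ble 558 c)
noncomputable def Ptab_s_556_559 (c : Nat) : Nat := @Bool.rec (fun _ => Nat) (Ptab_556) (Ptab_s_557_559 c) (Nat.ble 557 c)
noncomputable def Ptab_s_553_559 (c : Nat) : Nat := @Bool.rec (fun _ => Nat) (Ptab_s_553_556 c) (Ptab_s_556_559 c) (Nat.ble 556 c)
noncomputable def Ptab_s_560_562 (c : Nat) : Nat := @Bool.rec (fun _ => Nat) (Ptab_560) (Ptab_561) (Nat.ble 561 c)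
noncomputable def Ptab_s_559_562 (c : Nat) : Nat := @Bool.rec (fun _ => Nat) (Ptab_559) (Ptab_s_560_562 c) (Nat.ble 560 c)
noncomputable def Ptab_s_562_564 (c : Nat) : Nat := @Bool.rec (fun _ => Nat) (Ptab_562) (Ptab_563) (Nat.ble 563 c)
noncomputable def Ptab_s_564_566 (c : Nat) : Nat := @Bool.rec (fun _ => Nat) (Ptab_564) (Ptab_565) (Nat.ble 565 c)
noncomputable def Ptab_s_562_566 (c : Nat) : Nat := @Bool.rec (fun _ => Nat) (Ptab_s_562_564 c) (Ptab_s_564_566 c) (Nat.ble 564 c)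
noncomputable def Ptab_s_559_566 (c : Nat) : Nat := @Bool.rec (fun _ => Nat) (Ptab_s_559_562 c) (Ptab_s_562_566 c) (Nat.ble 562 c)
noncomputable def Ptab_s_553_566 (c : Nat) : Nat := @Bool.rec (fun _ => Nat) (Ptab_s_553_559 c) (Ptab_s_559_566 c) (Nat.ble 559 c)
noncomputable def Ptab_s_540_566 (c : Nat) : Nat := @Bool.rec (fun _ => Nat) (Ptab_s_540_553 c) (Ptab_s_553_566 c) (Nat.ble 553 c)
noncomputable def Ptab_s_515_566 (c : Nat) : Nat := @Bool.rec (fun _ => Nat) (Ptab_s_515_540 c) (Ptab_s_540_566 c) (Nat.ble 540 c)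
noncomputable def Ptab_s_567_569 (c : Nat) : Nat := @Bool.rec (fun _ => Nat) (Ptab_567) (Ptab_568) (Nat.ble 568 c)
noncomputable def Ptab_s_566_569 (c : Nat) : Nat := @Bool.rec (fun _ => Nat) (Ptab_566) (Ptab_s_567_569 c) (Nat.ble 567 c)
noncomputable def Ptab_s_570_572 (c : Nat) : Nat := @Bool.rec (fun _ => Nat) (Ptab_570) (Ptab_571) (Nat.ble 571 c)
noncomputable def Ptab_s_569_572 (c : Nat) : Nat := @Bool.rec (fun _ => Nat) (Ptab_569) (Ptab_s_570_572 c) (Nat.ble 570 c)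
noncomputable def Ptab_s_566_572 (c : Nat) : Nat := @Bool.rec (fun _ => Nat) (Ptab_s_566_569 c) (Ptab_s_569_572 c) (Nat.ble 569 c)
noncomputable def Ptab_s_573_575 (c : Nat) : Nat := @Bool.rec (fun _ => Nat) (Ptab_573) (Ptab_574) (Nat.ble 574 c)
noncomputable def Ptab_s_572_575 (c : Nat) : Nat := @Bool.rec (fun _ => Nat) (Ptab_572) (Ptab_s_573_575 c) (Nat.ble 573 c)
noncomputable def Ptab_s_575_577 (c : Nat) : Nat := @Bool.rec (fun _ => Nat) (Ptab_575) (Ptab_576) (Nat.ble 576 c)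
noncomputable def Ptab_s_577_579 (c : Nat) : Nat := @Bool.rec (fun _ => Nat) (Ptab_577) (Ptab_578) (Nat.ble 578 c)
noncomputable def Ptab_s_575_579 (c : Nat) : Nat := @Bool.rec (fun _ => Nat) (Ptab_s_575_577 c) (Ptab_s_577_579 c) (Nat.ble 577 c)
noncomputable def Ptab_s_572_579 (c : Nat) : Nat := @Bool.rec (fun _ => Nat) (Ptab_s_572_575 c) (Ptab_s_575_579 c) (Nat.ble 575 c)
noncomputable def Ptab_s_566_579 (c : Nat) : Nat := @Bool.rec (fun _ => Nat) (Ptab_s_566_572 c) (Ptab_s_572_579 c) (Nat.ble 572 c)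
noncomputable def Ptab_s_580_582 (c : Nat) : Nat := @Bool.rec (fun _ => Nat) (Ptab_580) (Ptab_581) (Nat.ble 581 c)
noncomputable def Ptab_s_579_582 (c : Nat) : Nat := @Bool.rec (fun _ => Nat) (Ptab_579) (Ptab_s_580_582 c) (Nat.ble 580 c)
noncomputable def Ptab_s_583_585 (c : Nat) : Nat := @Bool.rec (fun _ => Nat) (Ptab_583) (Ptab_584) (Nat.ble 584 c)
noncomputable def Ptab_s_582_585 (c : Nat) : Nat := @Bool.rec (fun _ => Nat) (Ptab_582) (Ptab_s_583_585 c) (Nat.ble 583 c)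
noncomputable def Ptab_s_579_585 (c : Nat) : Nat := @Bool.rec (fun _ => Nat) (Ptab_s_579_582 c) (Ptab_s_582_585 c) (Nat.ble 582 c)
noncomputable def Ptab_s_586_588 (c : Nat) : Nat := @Bool.rec (fun _ => Nat) (Ptab_586) (Ptab_587) (Nat.ble 587 c)
noncomputable def Ptab_s_585_588 (c : Nat) : Nat := @Bool.rec (fun _ => Nat) (Ptab_585) (Ptab_s_586_588 c) (Nat.ble 586 c)
noncomputable def Ptab_s_588_590 (c : Nat) : Nat := @Bool.rec (fun _ => Nat) (Ptab_588) (Ptab_589) (Nat.ble 589 c)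
noncomputable def Ptab_s_590_592 (c : Nat) : Nat := @Bool.rec (fun _ => Nat) (Ptab_590) (Ptab_591) (Nat.ble 591 c)
noncomputable def Ptab_s_588_592 (c : Nat) : Nat := @Bool.rec (fun _ => Nat) (Ptab_s_588_590 c) (Ptab_s_590_592 c) (Nat.ble 590 c)
noncomputable def Ptab_s_585_592 (c : Nat) : Nat := @Bool.rec (fun _ => Nat) (Ptab_s_585_588 c) (Ptab_s_588_592 c) (Nat.ble 588 c)
noncomputable def Ptab_s_579_592 (c : Nat) : Nat := @Bool.rec (fun _ => Nat) (Ptab_s_579_585 c) (Ptab_s_585_592 c) (Nat.ble 585 c)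
noncomputable def Ptab_s_566_592 (c : Nat) : Nat := @Bool.rec (fun _ => Nat) (Ptab_s_566_579 c) (Ptab_s_579_592 c) (Nat.ble 579 c)
noncomputable def Ptab_s_593_595 (c : Nat) : Nat := @Bool.rec (fun _ => Nat) (Ptab_593) (Ptab_594) (Nat.ble 594 c)
noncomputable def Ptab_s_592_595 (c : Nat) : Nat := @Bool.rec (fun _ => Nat) (Ptab_592) (Ptab_s_593_595 c) (Nat.ble 593 c)
noncomputable def Ptab_s_596_598 (c : Nat) : Nat := @Bool.rec (fun _ => Nat) (Ptab_596) (Ptab_597) (Nat.ble 597 c)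
noncomputable def Ptab_s_595_598 (c : Nat) : Nat := @Bool.rec (fun _ => Nat) (Ptab_595) (Ptab_s_596_598 c) (Nat.ble 596 c)
noncomputable def Ptab_s_592_598 (c : Nat) : Nat := @Bool.rec (fun _ => Nat) (Ptab_s_592_595 c) (Ptab_s_595_598 c) (Nat.ble 595 c)
noncomputable def Ptab_s_599_601 (c : Nat) : Nat := @Bool.rec (fun _ => Nat) (Ptab_599) (Ptab_600) (Nat.ble 600 c)
noncomputable def Ptab_s_598_601 (c : Nat) : Nat := @Bool.rec (fun _ => Nat) (Ptab_598) (Ptab_s_599_601 c) (Nat.ble 599 c)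
noncomputable def Ptab_s_601_603 (c : Nat) : Nat := @Bool.rec (fun _ => Nat) (Ptab_601) (Ptab_602) (Nat.ble 602 c)
noncomputable def Ptab_s_603_605 (c : Nat) : Nat := @Bool.rec (fun _ => Nat) (Ptab_603) (Ptab_604) (Nat.ble 604 c)
noncomputable def Ptab_s_601_605 (c : Nat) : Nat := @Bool.rec (fun _ => Nat) (Ptab_s_601_603 c) (Ptab_s_603_605 c) (Nat.ble 603 c)
noncomputable def Ptab_s_598_605 (c : Nat) : Nat := @Bool.rec (fun _ => Nat) (Ptab_s_598_601 c) (Ptab_s_601_605 c) (Nat.ble 601 c)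
noncomputable def Ptab_s_592_605 (c : Nat) : Nat := @Bool.rec (fun _ => Nat) (Ptab_s_592_598 c) (Ptab_s_598_605 c) (Nat.ble 598 c)
noncomputable def Ptab_s_606_608 (c : Nat) : Nat := @Bool.rec (fun _ => Nat) (Ptab_606) (Ptab_607) (Nat.ble 607 c)
noncomputable def Ptab_s_605_608 (c : Nat) : Nat := @Bool.rec (fun _ => Nat) (Ptab_605) (Ptab_s_606_608 c) (Nat.ble 606 c)
noncomputable def Ptab_s_609_611 (c : Nat) : Nat := @Bool.rec (fun _ => Nat) (Ptab_609) (Ptab_610) (Nat.ble 610 c)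
noncomputable def Ptab_s_608_611 (c : Nat) : Nat := @Bool.rec (fun _ => Nat) (Ptab_608) (Ptab_s_609_611 c) (Nat.ble 609 c)
noncomputable def Ptab_s_605_611 (c : Nat) : Nat := @Bool.rec (fun _ => Nat) (Ptab_s_605_608 c) (Ptab_s_608_611 c) (Nat.ble 608 c)
noncomputable def Ptab_s_612_614 (c : Nat) : Nat := @Bool.rec (fun _ => Nat) (Ptab_612) (Ptab_613) (Nat.ble 613 c)
noncomputable def Ptab_s_611_614 (c : Nat) : Nat := @Bool.rec (fun _ => Nat) (Ptab_611) (Ptab_s_612_614 c) (Nat.ble 612 c)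
noncomputable def Ptab_s_614_616 (c : Nat) : Nat := @Bool.rec (fun _ => Nat) (Ptab_614) (Ptab_615) (Nat.ble 615 c)
noncomputable def Ptab_s_616_618 (c : Nat) : Nat := @Bool.rec (fun _ => Nat) (Ptab_616) (Ptab_617) (Nat.ble 617 c)
noncomputable def Ptab_s_614_618 (c : Nat) : Nat := @Bool.rec (fun _ => Nat) (Ptab_s_614_616 c) (Ptab_s_616_618 c) (Nat.ble 616 c)
noncomputable def Ptab_s_611_618 (c : Nat) : Nat := @Bool.rec (fun _ => Nat) (Ptab_s_611_614 c) (Ptab_s_614_618 c) (Nat.ble 614 c)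
noncomputable def Ptab_s_605_618 (c : Nat) : Nat := @Bool.rec (fun _ => Nat) (Ptab_s_605_611 c) (Ptab_s_611_618 c) (Nat.ble 611 c)
noncomputable def Ptab_s_592_618 (c : Nat) : Nat := @Bool.rec (fun _ => Nat) (Ptab_s_592_605 c) (Ptab_s_605_618 c) (Nat.ble 605 c)
noncomputable def Ptab_s_566_618 (c : Nat) : Nat := @Bool.rec (fun _ => Nat) (Ptab_s_566_592 c) (Ptab_s_592_618 c) (Nat.ble 592 c)
noncomputable def Ptab_s_515_618 (c : Nat) : Nat := @Bool.rec (fun _ => Nat) (Ptab_s_515_566 c) (Ptab_s_566_618 c) (Nat.ble 566 c)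
noncomputable def Ptab_s_412_618 (c : Nat) : Nat := @Bool.rec (fun _ => Nat) (Ptab_s_412_515 c) (Ptab_s_515_618 c) (Nat.ble 515 c)
noncomputable def Ptab_s_619_621 (c : Nat) : Nat := @Bool.rec (fun _ => Nat) (Ptab_619) (Ptab_620) (Nat.ble 620 c)
noncomputable def Ptab_s_618_621 (c : Nat) : Nat := @Bool.rec (fun _ => Nat) (Ptab_618) (Ptab_s_619_621 c) (Nat.ble 619 c)
noncomputable def Ptab_s_622_624 (c : Nat) : Nat := @Bool.rec (fun _ => Nat) (Ptab_622) (Ptab_623) (Nat.ble 623 c)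
noncomputable def Ptab_s_621_624 (c : Nat) : Nat := @Bool.rec (fun _ => Nat) (Ptab_621) (Ptab_s_622_624 c) (Nat.ble 622 c)
noncomputable def Ptab_s_618_624 (c : Nat) : Nat := @Bool.rec (fun _ => Nat) (Ptab_s_618_621 c) (Ptab_s_621_624 c) (Nat.ble 621 c)
noncomputable def Ptab_s_625_627 (c : Nat) : Nat := @Bool.rec (fun _ => Nat) (Ptab_625) (Ptab_626) (Nat.ble 626 c)
noncomputable def Ptab_s_624_627 (c : Nat) : Nat := @Bool.rec (fun _ => Nat) (Ptab_624) (Ptab_s_625_627 c) (Nat.ble 625 c)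
noncomputable def Ptab_s_628_630 (c : Nat) : Nat := @Bool.rec (fun _ => Nat) (Ptab_628) (Ptab_629) (Nat.ble 629 c)
noncomputable def Ptab_s_627_630 (c : Nat) : Nat := @Bool.rec (fun _ => Nat) (Ptab_627) (Ptab_s_628_630 c) (Nat.ble 628 c)
noncomputable def Ptab_s_624_630 (c : Nat) : Nat := @Bool.rec (fun _ => Nat) (Ptab_s_624_627 c) (Ptab_s_627_630 c) (Nat.ble 627 c)
noncomputable def Ptab_s_618_630 (c : Nat) : Nat := @Bool.rec (fun _ => Nat) (Ptab_s_618_624 c) (Ptab_s_624_630 c) (Nat.ble 624 c)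
noncomputable def Ptab_s_631_633 (c : Nat) : Nat := @Bool.rec (fun _ => Nat) (Ptab_631) (Ptab_632) (Nat.ble 632 c)
noncomputable def Ptab_s_630_633 (c : Nat) : Nat := @Bool.rec (fun _ => Nat) (Ptab_630) (Ptab_s_631_633 c) (Nat.ble 631 c)
noncomputable def Ptab_s_634_636 (c : Nat) : Nat := @Bool.rec (fun _ => Nat) (Ptab_634) (Ptab_635) (Nat.ble 635 c)
noncomputable def Ptab_s_633_636 (c : Nat) : Nat := @Bool.rec (fun _ => Nat) (Ptab_633) (Ptab_s_634_636 c) (Nat.ble 634 c)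
noncomputable def Ptab_s_630_636 (c : Nat) : Nat := @Bool.rec (fun _ => Nat) (Ptab_s_630_633 c) (Ptab_s_633_636 c) (Nat.ble 633 c)
noncomputable def Ptab_s_637_639 (c : Nat) : Nat := @Bool.rec (fun _ => Nat) (Ptab_637) (Ptab_638) (Nat.ble 638 c)
noncomputable def Ptab_s_636_639 (c : Nat) : Nat := @Bool.rec (fun _ => Nat) (Ptab_636) (Ptab_s_637_639 c) (Nat.ble 637 c)
noncomputable def Ptab_s_639_641 (c : Nat) : Nat := @Bool.rec (fun _ => Nat) (Ptab_639) (Ptab_640) (Nat.ble 640 c)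
noncomputable def Ptab_s_641_643 (c : Nat) : Nat := @Bool.rec (fun _ => Nat) (Ptab_641) (Ptab_642) (Nat.ble 642 c)
noncomputable def Ptab_s_639_643 (c : Nat) : Nat := @Bool.rec (fun _ => Nat) (Ptab_s_639_641 c) (Ptab_s_641_643 c) (Nat.ble 641 c)
noncomputable def Ptab_s_636_643 (c : Nat) : Nat := @Bool.rec (fun _ => Nat) (Ptab_s_636_639 c) (Ptab_s_639_643 c) (Nat.ble 639 c)
noncomputable def Ptab_s_630_643 (c : Nat) : Nat := @Bool.rec (fun _ => Nat) (Ptab_s_630_636 c) (Ptab_s_636_643 c) (Nat.ble 636 c)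
noncomputable def Ptab_s_618_643 (c : Nat) : Nat := @Bool.rec (fun _ => Nat) (Ptab_s_618_630 c) (Ptab_s_630_643 c) (Nat.ble 630 c)
noncomputable def Ptab_s_644_646 (c : Nat) : Nat := @Bool.rec (fun _ => Nat) (Ptab_644) (Ptab_645) (Nat.ble 645 c)
noncomputable def Ptab_s_643_646 (c : Nat) : Nat := @Bool.rec (fun _ => Nat) (Ptab_643) (Ptab_s_644_646 c) (Nat.ble 644 c)
noncomputable def Ptab_s_647_649 (c : Nat) : Nat := @Bool.rec (fun _ => Nat) (Ptab_647) (Ptab_648) (Nat.ble 648 c)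
noncomputable def Ptab_s_646_649 (c : Nat) : Nat := @Bool.rec (fun _ => Nat) (Ptab_646) (Ptab_s_647_649 c) (Nat.ble 647 c)
noncomputable def Ptab_s_643_649 (c : Nat) : Nat := @Bool.rec (fun _ => Nat) (Ptab_s_643_646 c) (Ptab_s_646_649 c) (Nat.ble 646 c)
noncomputable def Ptab_s_650_652 (c : Nat) : Nat := @Bool.rec (fun _ => Nat) (Ptab_650) (Ptab_651) (Nat.ble 651 c)
noncomputable def Ptab_s_649_652 (c : Nat) : Nat := @Bool.rec (fun _ => Nat) (Ptab_649) (Ptab_s_650_652 c) (Nat.ble 650 c)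
noncomputable def Ptab_s_652_654 (c : Nat) : Nat := @Bool.rec (fun _ => Nat) (Ptab_652) (Ptab_653) (Nat.ble 653 c)
noncomputable def Ptab_s_654_656 (c : Nat) : Nat := @Bool.rec (fun _ => Nat) (Ptab_654) (Ptab_655) (Nat.ble 655 c)
noncomputable def Ptab_s_652_656 (c : Nat) : Nat := @Bool.rec (fun _ => Nat) (Ptab_s_652_654 c) (Ptab_s_654_656 c) (Nat.ble 654 c)
noncomputable def Ptab_s_649_656 (c : Nat) : Nat := @Bool.rec (fun _ => Nat) (Ptab_s_649_652 c) (Ptab_s_652_656 c) (Nat.ble 652 c)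
noncomputable def Ptab_s_643_656 (c : Nat) : Nat := @Bool.rec (fun _ => Nat) (Ptab_s_643_649 c) (Ptab_s_649_656 c) (Nat.ble 649 c)
noncomputable def Ptab_s_657_659 (c : Nat) : Nat := @Bool.rec (fun _ => Nat) (Ptab_657) (Ptab_658) (Nat.ble 658 c)
noncomputable def Ptab_s_656_659 (c : Nat) : Nat := @Bool.rec (fun _ => Nat) (Ptab_656) (Ptab_s_657_659 c) (Nat.ble 657 c)
noncomputable def Ptab_s_660_662 (c : Nat) : Nat := @Bool.rec (fun _ => Nat) (Ptab_660) (Ptab_661) (Nat.ble 661 c)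
noncomputable def Ptab_s_659_662 (c : Nat) : Nat := @Bool.rec (fun _ => Nat) (Ptab_659) (Ptab_s_660_662 c) (Nat.ble 660 c)
noncomputable def Ptab_s_656_662 (c : Nat) : Nat := @Bool.rec (fun _ => Nat) (Ptab_s_656_659 c) (Ptab_s_659_662 c) (Nat.ble 659 c)
noncomputable def Ptab_s_663_665 (c : Nat) : Nat := @Bool.rec (fun _ => Nat) (Ptab_663) (Ptab_664) (Nat.ble 664 c)
noncomputable def Ptab_s_662_665 (c : Nat) : Nat := @Bool.rec (fun _ => Nat) (Ptab_662) (Ptab_s_663_665 c) (Nat.ble 663 c)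
noncomputable def Ptab_s_665_667 (c : Nat) : Nat := @Bool.rec (fun _ => Nat) (Ptab_665) (Ptab_666) (Nat.ble 666 c)
noncomputable def Ptab_s_667_669 (c : Nat) : Nat := @Bool.rec (fun _ => Nat) (Ptab_667) (Ptab_668) (Nat.ble 668 c)
noncomputable def Ptab_s_665_669 (c : Nat) : Nat := @Bool.rec (fun _ => Nat) (Ptab_s_665_667 c) (Ptab_s_667_669 c) (Nat.ble 667 c)
noncomputable def Ptab_s_662_669 (c : Nat) : Nat := @Bool.rec (fun _ => Nat) (Ptab_s_662_665 c) (Ptab_s_665_669 c) (Nat.ble 665 c)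
noncomputable def Ptab_s_656_669 (c : Nat) : Nat := @Bool.rec (fun _ => Nat) (Ptab_s_656_662 c) (Ptab_s_662_669 c) (Nat.ble 662 c)
noncomputable def Ptab_s_643_669 (c : Nat) : Nat := @Bool.rec (fun _ => Nat) (Ptab_s_643_656 c) (Ptab_s_656_669 c) (Nat.ble 656 c)
noncomputable def Ptab_s_618_669 (c : Nat) : Nat := @Bool.rec (fun _ => Nat) (Ptab_s_618_643 c) (Ptab_s_643_669 c) (Nat.ble 643 c)
noncomputable def Ptab_s_670_672 (c : Nat) : Nat := @Bool.rec (fun _ => Nat) (Ptab_670) (Ptab_671) (Nat.ble 671 c)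
noncomputable def Ptab_s_669_672 (c : Nat) : Nat := @Bool.rec (fun _ => Nat) (Ptab_669) (Ptab_s_670_672 c) (Nat.ble 670 c)
noncomputable def Ptab_s_673_675 (c : Nat) : Nat := @Bool.rec (fun _ => Nat) (Ptab_673) (Ptab_674) (Nat.ble 674 c)
noncomputable def Ptab_s_672_675 (c : Nat) : Nat := @Bool.rec (fun _ => Nat) (Ptab_672) (Ptab_s_673_675 c) (Nat.ble 673 c)
noncomputable def Ptab_s_669_675 (c : Nat) : Nat := @Bool.rec (fun _ => Nat) (Ptab_s_669_672 c) (Ptab_s_672_675 c) (Nat.ble 672 c)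
noncomputable def Ptab_s_676_678 (c : Nat) : Nat := @Bool.rec (fun _ => Nat) (Ptab_676) (Ptab_677) (Nat.ble 677 c)
noncomputable def Ptab_s_675_678 (c : Nat) : Nat := @Bool.rec (fun _ => Nat) (Ptab_675) (Ptab_s_676_678 c) (Nat.ble 676 c)
noncomputable def Ptab_s_678_680 (c : Nat) : Nat := @Bool.rec (fun _ => Nat) (Ptab_678) (Ptab_679) (Nat.ble 679 c)
noncomputable def Ptab_s_680_682 (c : Nat) : Nat := @Bool.rec (fun _ => Nat) (Ptab_680) (Ptab_681) (Nat.ble 681 c)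
noncomputable def Ptab_s_678_682 (c : Nat) : Nat := @Bool.rec (fun _ => Nat) (Ptab_s_678_680 c) (Ptab_s_680_682 c) (Nat.ble 680 c)
noncomputable def Ptab_s_675_682 (c : Nat) : Nat := @Bool.rec (fun _ => Nat) (Ptab_s_675_678 c) (Ptab_s_678_682 c) (Nat.ble 678 c)
noncomputable def Ptab_s_669_682 (c : Nat) : Nat := @Bool.rec (fun _ => Nat) (Ptab_s_669_675 c) (Ptab_s_675_682 c) (Nat.ble 675 c)
noncomputable def Ptab_s_683_685 (c : Nat) : Nat := @Bool.rec (fun _ => Nat) (Ptab_683) (Ptab_684) (Nat.ble 684 c)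
noncomputable def Ptab_s_682_685 (c : Nat) : Nat := @Bool.rec (fun _ => Nat) (Ptab_682) (Ptab_s_683_685 c) (Nat.ble 683 c)
noncomputable def Ptab_s_686_688 (c : Nat) : Nat := @Bool.rec (fun _ => Nat) (Ptab_686) (Ptab_687) (Nat.ble 687 c)
noncomputable def Ptab_s_685_688 (c : Nat) : Nat := @Bool.rec (fun _ => Nat) (Ptab_685) (Ptab_s_686_688 c) (Nat.ble 686 c)
noncomputable def Ptab_s_682_688 (c : Nat) : Nat := @Bool.rec (fun _ => Nat) (Ptab_s_682_685 c) (Ptab_s_685_688 c) (Nat.ble 685 c)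
noncomputable def Ptab_s_689_691 (c : Nat) : Nat := @Bool.rec (fun _ => Nat) (Ptab_689) (Ptab_690) (Nat.ble 690 c)
noncomputable def Ptab_s_688_691 (c : Nat) : Nat := @Bool.rec (fun _ => Nat) (Ptab_688) (Ptab_s_689_691 c) (Nat.ble 689 c)
noncomputable def Ptab_s_691_693 (c : Nat) : Nat := @Bool.rec (fun _ => Nat) (Ptab_691) (Ptab_692) (Nat.ble 692 c)
noncomputable def Ptab_s_693_695 (c : Nat) : Nat := @Bool.rec (fun _ => Nat) (Ptab_693) (Ptab_694) (Nat.ble 694 c)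
noncomputable def Ptab_s_691_695 (c : Nat) : Nat := @Bool.rec (fun _ => Nat) (Ptab_s_691_693 c) (Ptab_s_693_695 c) (Nat.ble 693 c)
noncomputable def Ptab_s_688_695 (c : Nat) : Nat := @Bool.rec (fun _ => Nat) (Ptab_s_688_691 c) (Ptab_s_691_695 c) (Nat.ble 691 c)
noncomputable def Ptab_s_682_695 (c : Nat) : Nat := @Bool.rec (fun _ => Nat) (Ptab_s_682_688 c) (Ptab_s_688_695 c) (Nat.ble 688 c)
noncomputable def Ptab_s_669_695 (c : Nat) : Nat := @Bool.rec (fun _ => Nat) (Ptab_s_669_682 c) (Ptab_s_682_695 c) (Nat.ble 682 c)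
noncomputable def Ptab_s_696_698 (c : Nat) : Nat := @Bool.rec (fun _ => Nat) (Ptab_696) (Ptab_697) (Nat.ble 697 c)
noncomputable def Ptab_s_695_698 (c : Nat) : Nat := @Bool.rec (fun _ => Nat) (Ptab_695) (Ptab_s_696_698 c) (Nat.ble 696 c)
noncomputable def Ptab_s_699_701 (c : Nat) : Nat := @Bool.rec (fun _ => Nat) (Ptab_699) (Ptab_700) (Nat.ble 700 c)
noncomputable def Ptab_s_698_701 (c : Nat) : Nat := @Bool.rec (fun _ => Nat) (Ptab_698) (Ptab_s_699_701 c) (Nat.ble 699 c)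
noncomputable def Ptab_s_695_701 (c : Nat) : Nat := @Bool.rec (fun _ => Nat) (Ptab_s_695_698 c) (Ptab_s_698_701 c) (Nat.ble 698 c)
noncomputable def Ptab_s_702_704 (c : Nat) : Nat := @Bool.rec (fun _ => Nat) (Ptab_702) (Ptab_703) (Nat.ble 703 c)
noncomputable def Ptab_s_701_704 (c : Nat) : Nat := @Bool.rec (fun _ => Nat) (Ptab_701) (Ptab_s_702_704 c) (Nat.ble 702 c)
noncomputable def Ptab_s_704_706 (c : Nat) : Nat := @Bool.rec (fun _ => Nat) (Ptab_704) (Ptab_705) (Nat.ble 705 c)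
noncomputable def Ptab_s_706_708 (c : Nat) : Nat := @Bool.rec (fun _ => Nat) (Ptab_706) (Ptab_707) (Nat.ble 707 c)
noncomputable def Ptab_s_704_708 (c : Nat) : Nat := @Bool.rec (fun _ => Nat) (Ptab_s_704_706 c) (Ptab_s_706_708 c) (Nat.ble 706 c)
noncomputable def Ptab_s_701_708 (c : Nat) : Nat := @Bool.rec (fun _ => Nat) (Ptab_s_701_704 c) (Ptab_s_704_708 c) (Nat.ble 704 c)
noncomputable def Ptab_s_695_708 (c : Nat) : Nat := @Bool.rec (fun _ => Nat) (Ptab_s_695_701 c) (Ptab_s_701_708 c) (Nat.ble 701 c)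
noncomputable def Ptab_s_709_711 (c : Nat) : Nat := @Bool.rec (fun _ => Nat) (Ptab_709) (Ptab_710) (Nat.ble 710 c)
noncomputable def Ptab_s_708_711 (c : Nat) : Nat := @Bool.rec (fun _ => Nat) (Ptab_708) (Ptab_s_709_711 c) (Nat.ble 709 c)
noncomputable def Ptab_s_712_714 (c : Nat) : Nat := @Bool.rec (fun _ => Nat) (Ptab_712) (Ptab_713) (Nat.ble 713 c)
noncomputable def Ptab_s_711_714 (c : Nat) : Nat := @Bool.rec (fun _ => Nat) (Ptab_711) (Ptab_s_712_714 c) (Nat.ble 712 c)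
noncomputable def Ptab_s_708_714 (c : Nat) : Nat := @Bool.rec (fun _ => Nat) (Ptab_s_708_711 c) (Ptab_s_711_714 c) (Nat.ble 711 c)
noncomputable def Ptab_s_715_717 (c : Nat) : Nat := @Bool.rec (fun _ => Nat) (Ptab_715) (Ptab_716) (Nat.ble 716 c)
noncomputable def Ptab_s_714_717 (c : Nat) : Nat := @Bool.rec (fun _ => Nat) (Ptab_714) (Ptab_s_715_717 c) (Nat.ble 715 c)
noncomputable def Ptab_s_717_719 (c : Nat) : Nat := @Bool.rec (fun _ => Nat) (Ptab_717) (Ptab_718) (Nat.ble 718 c)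
noncomputable def Ptab_s_719_721 (c : Nat) : Nat := @Bool.rec (fun _ => Nat) (Ptab_719) (Ptab_720) (Nat.ble 720 c)
noncomputable def Ptab_s_717_721 (c : Nat) : Nat := @Bool.rec (fun _ => Nat) (Ptab_s_717_719 c) (Ptab_s_719_721 c) (Nat.ble 719 c)
noncomputable def Ptab_s_714_721 (c : Nat) : Nat := @Bool.rec (fun _ => Nat) (Ptab_s_714_717 c) (Ptab_s_717_721 c) (Nat.ble 717 c)
noncomputable def Ptab_s_708_721 (c : Nat) : Nat := @Bool.rec (fun _ => Nat) (Ptab_s_708_714 c) (Ptab_s_714_721 c) (Nat.ble 714 c)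
noncomputable def Ptab_s_695_721 (c : Nat) : Nat := @Bool.rec (fun _ => Nat) (Ptab_s_695_708 c) (Ptab_s_708_721 c) (Nat.ble 708 c)
noncomputable def Ptab_s_669_721 (c : Nat) : Nat := @Bool.rec (fun _ => Nat) (Ptab_s_669_695 c) (Ptab_s_695_721 c) (Nat.ble 695 c)
noncomputable def Ptab_s_618_721 (c : Nat) : Nat := @Bool.rec (fun _ => Nat) (Ptab_s_618_669 c) (Ptab_s_669_721 c) (Nat.ble 669 c)
noncomputable def Ptab_s_722_724 (c : Nat) : Nat := @Bool.rec (fun _ => Nat) (Ptab_722) (Ptab_723) (Nat.ble 723 c)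
noncomputable def Ptab_s_721_724 (c : Nat) : Nat := @Bool.rec (fun _ => Nat) (Ptab_721) (Ptab_s_722_724 c) (Nat.ble 722 c)
noncomputable def Ptab_s_725_727 (c : Nat) : Nat := @Bool.rec (fun _ => Nat) (Ptab_725) (Ptab_726) (Nat.ble 726 c)
noncomputable def Ptab_s_724_727 (c : Nat) : Nat := @Bool.rec (fun _ => Nat) (Ptab_724) (Ptab_s_725_727 c) (Nat.ble 725 c)
noncomputable def Ptab_s_721_727 (c : Nat) : Nat := @Bool.rec (fun _ => Nat) (Ptab_s_721_724 c) (Ptab_s_724_727 c) (Nat.ble 724 c)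
noncomputable def Ptab_s_728_730 (c : Nat) : Nat := @Bool.rec (fun _ => Nat) (Ptab_728) (Ptab_729) (Nat.ble 729 c)
noncomputable def Ptab_s_727_730 (c : Nat) : Nat := @Bool.rec (fun _ => Nat) (Ptab_727) (Ptab_s_728_730 c) (Nat.ble 728 c)
noncomputable def Ptab_s_730_732 (c : Nat) : Nat := @Bool.rec (fun _ => Nat) (Ptab_730) (Ptab_731) (Nat.ble 731 c)
noncomputable def Ptab_s_732_734 (c : Nat) : Nat := @Bool.rec (fun _ => Nat) (Ptab_732) (Ptab_733) (Nat.ble 733 c)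
noncomputable def Ptab_s_730_734 (c : Nat) : Nat := @Bool.rec (fun _ => Nat) (Ptab_s_730_732 c) (Ptab_s_732_734 c) (Nat.ble 732 c)
noncomputable def Ptab_s_727_734 (c : Nat) : Nat := @Bool.rec (fun _ => Nat) (Ptab_s_727_730 c) (Ptab_s_730_734 c) (Nat.ble 730 c)
noncomputable def Ptab_s_721_734 (c : Nat) : Nat := @Bool.rec (fun _ => Nat) (Ptab_s_721_727 c) (Ptab_s_727_734 c) (Nat.ble 727 c)
noncomputable def Ptab_s_735_737 (c : Nat) : Nat := @Bool.rec (fun _ => Nat) (Ptab_735) (Ptab_736) (Nat.ble 736 c)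
noncomputable def Ptab_s_734_737 (c : Nat) : Nat := @Bool.rec (fun _ => Nat) (Ptab_734) (Ptab_s_735_737 c) (Nat.ble 735 c)
noncomputable def Ptab_s_738_740 (c : Nat) : Nat := @Bool.rec (fun _ => Nat) (Ptab_738) (Ptab_739) (Nat.ble 739 c)
noncomputable def Ptab_s_737_740 (c : Nat) : Nat := @Bool.rec (fun _ => Nat) (Ptab_737) (Ptab_s_738_740 c) (Nat.ble 738 c)
noncomputable def Ptab_s_734_740 (c : Nat) : Nat := @Bool.rec (fun _ => Nat) (Ptab_s_734_737 c) (Ptab_s_737_740 c) (Nat.ble 737 c)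
noncomputable def Ptab_s_741_743 (c : Nat) : Nat := @Bool.rec (fun _ => Nat) (Ptab_741) (Ptab_742) (Nat.ble 742 c)
noncomputable def Ptab_s_740_743 (c : Nat) : Nat := @Bool.rec (fun _ => Nat) (Ptab_740) (Ptab_s_741_743 c) (Nat.ble 741 c)
noncomputable def Ptab_s_743_745 (c : Nat) : Nat := @Bool.rec (fun _ => Nat) (Ptab_743) (Ptab_744) (Nat.ble 744 c)
noncomputable def Ptab_s_745_747 (c : Nat) : Nat := @Bool.rec (fun _ => Nat) (Ptab_745) (Ptab_746) (Nat.ble 746 c)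
noncomputable def Ptab_s_743_747 (c : Nat) : Nat := @Bool.rec (fun _ => Nat) (Ptab_s_743_745 c) (Ptab_s_745_747 c) (Nat.ble 745 c)
noncomputable def Ptab_s_740_747 (c : Nat) : Nat := @Bool.rec (fun _ => Nat) (Ptab_s_740_743 c) (Ptab_s_743_747 c) (Nat.ble 743 c)
noncomputable def Ptab_s_734_747 (c : Nat) : Nat := @Bool.rec (fun _ => Nat) (Ptab_s_734_740 c) (Ptab_s_740_747 c) (Nat.ble 740 c)
noncomputable def Ptab_s_721_747 (c : Nat) : Nat := @Bool.rec (fun _ => Nat) (Ptab_s_721_734 c) (Ptab_s_734_747 c) (Nat.ble 734 c)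
noncomputable def Ptab_s_748_750 (c : Nat) : Nat := @Bool.rec (fun _ => Nat) (Ptab_748) (Ptab_749) (Nat.ble 749 c)
noncomputable def Ptab_s_747_750 (c : Nat) : Nat := @Bool.rec (fun _ => Nat) (Ptab_747) (Ptab_s_748_750 c) (Nat.ble 748 c)
noncomputable def Ptab_s_751_753 (c : Nat) : Nat := @Bool.rec (fun _ => Nat) (Ptab_751) (Ptab_752) (Nat.ble 752 c)
noncomputable def Ptab_s_750_753 (c : Nat) : Nat := @Bool.rec (fun _ => Nat) (Ptab_750) (Ptab_s_751_753 c) (Nat.ble 751 c)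
noncomputable def Ptab_s_747_753 (c : Nat) : Nat := @Bool.rec (fun _ => Nat) (Ptab_s_747_750 c) (Ptab_s_750_753 c) (Nat.ble 750 c)
noncomputable def Ptab_s_754_756 (c : Nat) : Nat := @Bool.rec (fun _ => Nat) (Ptab_754) (Ptab_755) (Nat.ble 755 c)
noncomputable def Ptab_s_753_756 (c : Nat) : Nat := @Bool.rec (fun _ => Nat) (Ptab_753) (Ptab_s_754_756 c) (Nat.ble 754 c)
noncomputable def Ptab_s_756_758 (c : Nat) : Nat := @Bool.rec (fun _ => Nat) (Ptab_756) (Ptab_757) (Nat.ble 757 c)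
noncomputable def Ptab_s_758_760 (c : Nat) : Nat := @Bool.rec (fun _ => Nat) (Ptab_758) (Ptab_759) (Nat.ble 759 c)
noncomputable def Ptab_s_756_760 (c : Nat) : Nat := @Bool.rec (fun _ => Nat) (Ptab_s_756_758 c) (Ptab_s_758_760 c) (Nat.ble 758 c)
noncomputable def Ptab_s_753_760 (c : Nat) : Nat := @Bool.rec (fun _ => Nat) (Ptab_s_753_756 c) (Ptab_s_756_760 c) (Nat.ble 756 c)
noncomputable def Ptab_s_747_760 (c : Nat) : Nat := @Bool.rec (fun _ => Nat) (Ptab_s_747_753 c) (Ptab_s_753_760 c) (Nat.ble 753 c)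
noncomputable def Ptab_s_761_763 (c : Nat) : Nat := @Bool.rec (fun _ => Nat) (Ptab_761) (Ptab_762) (Nat.ble 762 c)
noncomputable def Ptab_s_760_763 (c : Nat) : Nat := @Bool.rec (fun _ => Nat) (Ptab_760) (Ptab_s_761_763 c) (Nat.ble 761 c)
noncomputable def Ptab_s_764_766 (c : Nat) : Nat := @Bool.rec (fun _ => Nat) (Ptab_764) (Ptab_765) (Nat.ble 765 c)
noncomputable def Ptab_s_763_766 (c : Nat) : Nat := @Bool.rec (fun _ => Nat) (Ptab_763) (Ptab_s_764_766 c) (Nat.ble 764 c)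
noncomputable def Ptab_s_760_766 (c : Nat) : Nat := @Bool.rec (fun _ => Nat) (Ptab_s_760_763 c) (Ptab_s_763_766 c) (Nat.ble 763 c)
noncomputable def Ptab_s_767_769 (c : Nat) : Nat := @Bool.rec (fun _ => Nat) (Ptab_767) (Ptab_768) (Nat.ble 768 c)
noncomputable def Ptab_s_766_769 (c : Nat) : Nat := @Bool.rec (fun _ => Nat) (Ptab_766) (Ptab_s_767_769 c) (Nat.ble 767 c)
noncomputable def Ptab_s_769_771 (c : Nat) : Nat := @Bool.rec (fun _ => Nat) (Ptab_769) (Ptab_770) (Nat.ble 770 c)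
noncomputable def Ptab_s_771_773 (c : Nat) : Nat := @Bool.rec (fun _ => Nat) (Ptab_771) (Ptab_772) (Nat.ble 772 c)
noncomputable def Ptab_s_769_773 (c : Nat) : Nat := @Bool.rec (fun _ => Nat) (Ptab_s_769_771 c) (Ptab_s_771_773 c) (Nat.ble 771 c)
noncomputable def Ptab_s_766_773 (c : Nat) : Nat := @Bool.rec (fun _ => Nat) (Ptab_s_766_769 c) (Ptab_s_769_773 c) (Nat.ble 769 c)
noncomputable def Ptab_s_760_773 (c : Nat) : Nat := @Bool.rec (fun _ => Nat) (Ptab_s_760_766 c) (Ptab_s_766_773 c) (Nat.ble 766 c)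
noncomputable def Ptab_s_747_773 (c : Nat) : Nat := @Bool.rec (fun _ => Nat) (Ptab_s_747_760 c) (Ptab_s_760_773 c) (Nat.ble 760 c)
noncomputable def Ptab_s_721_773 (c : Nat) : Nat := @Bool.rec (fun _ => Nat) (Ptab_s_721_747 c) (Ptab_s_747_773 c) (Nat.ble 747 c)
noncomputable def Ptab_s_774_776 (c : Nat) : Nat := @Bool.rec (fun _ => Nat) (Ptab_774) (Ptab_775) (Nat.ble 775 c)
noncomputable def Ptab_s_773_776 (c : Nat) : Nat := @Bool.rec (fun _ => Nat) (Ptab_773) (Ptab_s_774_776 c) (Nat.ble 774 c)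
noncomputable def Ptab_s_777_779 (c : Nat) : Nat := @Bool.rec (fun _ => Nat) (Ptab_777) (Ptab_778) (Nat.ble 778 c)
noncomputable def Ptab_s_776_779 (c : Nat) : Nat := @Bool.rec (fun _ => Nat) (Ptab_776) (Ptab_s_777_779 c) (Nat.ble 777 c)
noncomputable def Ptab_s_773_779 (c : Nat) : Nat := @Bool.rec (fun _ => Nat) (Ptab_s_773_776 c) (Ptab_s_776_779 c) (Nat.ble 776 c)
noncomputable def Ptab_s_780_782 (c : Nat) : Nat := @Bool.rec (fun _ => Nat) (Ptab_780) (Ptab_781) (Nat.ble 781 c)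
noncomputable def Ptab_s_779_782 (c : Nat) : Nat := @Bool.rec (fun _ => Nat) (Ptab_779) (Ptab_s_780_782 c) (Nat.ble 780 c)
noncomputable def Ptab_s_782_784 (c : Nat) : Nat := @Bool.rec (fun _ => Nat) (Ptab_782) (Ptab_783) (Nat.ble 783 c)
noncomputable def Ptab_s_784_786 (c : Nat) : Nat := @Bool.rec (fun _ => Nat) (Ptab_784) (Ptab_785) (Nat.ble 785 c)
noncomputable def Ptab_s_782_786 (c : Nat) : Nat := @Bool.rec (fun _ => Nat) (Ptab_s_782_784 c) (Ptab_s_784_786 c) (Nat.ble 784 c)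
noncomputable def Ptab_s_779_786 (c : Nat) : Nat := @Bool.rec (fun _ => Nat) (Ptab_s_779_782 c) (Ptab_s_782_786 c) (Nat.ble 782 c)
noncomputable def Ptab_s_773_786 (c : Nat) : Nat := @Bool.rec (fun _ => Nat) (Ptab_s_773_779 c) (Ptab_s_779_786 c) (Nat.ble 779 c)
noncomputable def Ptab_s_787_789 (c : Nat) : Nat := @Bool.rec (fun _ => Nat) (Ptab_787) (Ptab_788) (Nat.ble 788 c)
noncomputable def Ptab_s_786_789 (c : Nat) : Nat := @Bool.rec (fun _ => Nat) (Ptab_786) (Ptab_s_787_789 c) (Nat.ble 787 c)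
noncomputable def Ptab_s_790_792 (c : Nat) : Nat := @Bool.rec (fun _ => Nat) (Ptab_790) (Ptab_791) (Nat.ble 791 c)
noncomputable def Ptab_s_789_792 (c : Nat) : Nat := @Bool.rec (fun _ => Nat) (Ptab_789) (Ptab_s_790_792 c) (Nat.ble 790 c)
noncomputable def Ptab_s_786_792 (c : Nat) : Nat := @Bool.rec (fun _ => Nat) (Ptab_s_786_789 c) (Ptab_s_789_792 c) (Nat.ble 789 c)
noncomputable def Ptab_s_793_795 (c : Nat) : Nat := @Bool.rec (fun _ => Nat) (Ptab_793) (Ptab_794) (Nat.ble 794 c)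
noncomputable def Ptab_s_792_795 (c : Nat) : Nat := @Bool.rec (fun _ => Nat) (Ptab_792) (Ptab_s_793_795 c) (Nat.ble 793 c)
noncomputable def Ptab_s_795_797 (c : Nat) : Nat := @Bool.rec (fun _ => Nat) (Ptab_795) (Ptab_796) (Nat.ble 796 c)
noncomputable def Ptab_s_797_799 (c : Nat) : Nat := @Bool.rec (fun _ => Nat) (Ptab_797) (Ptab_798) (Nat.ble 798 c)
noncomputable def Ptab_s_795_799 (c : Nat) : Nat := @Bool.rec (fun _ => Nat) (Ptab_s_795_797 c) (Ptab_s_797_799 c) (Nat.ble 797 c)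
noncomputable def Ptab_s_792_799 (c : Nat) : Nat := @Bool.rec (fun _ => Nat) (Ptab_s_792_795 c) (Ptab_s_795_799 c) (Nat.ble 795 c)
noncomputable def Ptab_s_786_799 (c : Nat) : Nat := @Bool.rec (fun _ => Nat) (Ptab_s_786_792 c) (Ptab_s_792_799 c) (Nat.ble 792 c)
noncomputable def Ptab_s_773_799 (c : Nat) : Nat := @Bool.rec (fun _ => Nat) (Ptab_s_773_786 c) (Ptab_s_786_799 c) (Nat.ble 786 c)
noncomputable def Ptab_s_800_802 (c : Nat) : Nat := @Bool.rec (fun _ => Nat) (Ptab_800) (Ptab_801) (Nat.ble 801 c)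
noncomputable def Ptab_s_799_802 (c : Nat) : Nat := @Bool.rec (fun _ => Nat) (Ptab_799) (Ptab_s_800_802 c) (Nat.ble 800 c)
noncomputable def Ptab_s_803_805 (c : Nat) : Nat := @Bool.rec (fun _ => Nat) (Ptab_803) (Ptab_804) (Nat.ble 804 c)
noncomputable def Ptab_s_802_805 (c : Nat) : Nat := @Bool.rec (fun _ => Nat) (Ptab_802) (Ptab_s_803_805 c) (Nat.ble 803 c)
noncomputable def Ptab_s_799_805 (c : Nat) : Nat := @Bool.rec (fun _ => Nat) (Ptab_s_799_802 c) (Ptab_s_802_805 c) (Nat.ble 802 c)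
noncomputable def Ptab_s_806_808 (c : Nat) : Nat := @Bool.rec (fun _ => Nat) (Ptab_806) (Ptab_807) (Nat.ble 807 c)
noncomputable def Ptab_s_805_808 (c : Nat) : Nat := @Bool.rec (fun _ => Nat) (Ptab_805) (Ptab_s_806_808 c) (Nat.ble 806 c)
noncomputable def Ptab_s_808_810 (c : Nat) : Nat := @Bool.rec (fun _ => Nat) (Ptab_808) (Ptab_809) (Nat.ble 809 c)
noncomputable def Ptab_s_810_812 (c : Nat) : Nat := @Bool.rec (fun _ => Nat) (Ptab_810) (Ptab_811) (Nat.ble 811 c)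
noncomputable def Ptab_s_808_812 (c : Nat) : Nat := @Bool.rec (fun _ => Nat) (Ptab_s_808_810 c) (Ptab_s_810_812 c) (Nat.ble 810 c)
noncomputable def Ptab_s_805_812 (c : Nat) : Nat := @Bool.rec (fun _ => Nat) (Ptab_s_805_808 c) (Ptab_s_808_812 c) (Nat.ble 808 c)
noncomputable def Ptab_s_799_812 (c : Nat) : Nat := @Bool.rec (fun _ => Nat) (Ptab_s_799_805 c) (Ptab_s_805_812 c) (Nat.ble 805 c)
noncomputable def Ptab_s_813_815 (c : Nat) : Nat := @Bool.rec (fun _ => Nat) (Ptab_813) (Ptab_814) (Nat.ble 814 c)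
noncomputable def Ptab_s_812_815 (c : Nat) : Nat := @Bool.rec (fun _ => Nat) (Ptab_812) (Ptab_s_813_815 c) (Nat.ble 813 c)
noncomputable def Ptab_s_816_818 (c : Nat) : Nat := @Bool.rec (fun _ => Nat) (Ptab_816) (Ptab_817) (Nat.ble 817 c)
noncomputable def Ptab_s_815_818 (c : Nat) : Nat := @Bool.rec (fun _ => Nat) (Ptab_815) (Ptab_s_816_818 c) (Nat.ble 816 c)
noncomputable def Ptab_s_812_818 (c : Nat) : Nat := @Bool.rec (fun _ => Nat) (Ptab_s_812_815 c) (Ptab_s_815_818 c) (Nat.ble 815 c)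
noncomputable def Ptab_s_819_821 (c : Nat) : Nat := @Bool.rec (fun _ => Nat) (Ptab_819) (Ptab_820) (Nat.ble 820 c)
noncomputable def Ptab_s_818_821 (c : Nat) : Nat := @Bool.rec (fun _ => Nat) (Ptab_818) (Ptab_s_819_821 c) (Nat.ble 819 c)
noncomputable def Ptab_s_821_823 (c : Nat) : Nat := @Bool.rec (fun _ => Nat) (Ptab_821) (Ptab_822) (Nat.ble 822 c)
noncomputable def Ptab_s_823_825 (c : Nat) : Nat := @Bool.rec (fun _ => Nat) (Ptab_823) (Ptab_824) (Nat.ble 824 c)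
noncomputable def Ptab_s_821_825 (c : Nat) : Nat := @Bool.rec (fun _ => Nat) (Ptab_s_821_823 c) (Ptab_s_823_825 c) (Nat.ble 823 c)
noncomputable def Ptab_s_818_825 (c : Nat) : Nat := @Bool.rec (fun _ => Nat) (Ptab_s_818_821 c) (Ptab_s_821_825 c) (Nat.ble 821 c)
noncomputable def Ptab_s_812_825 (c : Nat) : Nat := @Bool.rec (fun _ => Nat) (Ptab_s_812_818 c) (Ptab_s_818_825 c) (Nat.ble 818 c)
noncomputable def Ptab_s_799_825 (c : Nat) : Nat := @Bool.rec (fun _ => Nat) (Ptab_s_799_812 c) (Ptab_s_812_825 c) (Nat.ble 812 c)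
noncomputable def Ptab_s_773_825 (c : Nat) : Nat := @Bool.rec (fun _ => Nat) (Ptab_s_773_799 c) (Ptab_s_799_825 c) (Nat.ble 799 c)
noncomputable def Ptab_s_721_825 (c : Nat) : Nat := @Bool.rec (fun _ => Nat) (Ptab_s_721_773 c) (Ptab_s_773_825 c) (Nat.ble 773 c)
noncomputable def Ptab_s_618_825 (c : Nat) : Nat := @Bool.rec (fun _ => Nat) (Ptab_s_618_721 c) (Ptab_s_721_825 c) (Nat.ble 721 c)
noncomputable def Ptab_s_412_825 (c : Nat) : Nat := @Bool.rec (fun _ => Nat) (Ptab_s_412_618 c) (Ptab_s_618_825 c) (Nat.ble 618 c)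
noncomputable def Ptab_s_0_825 (c : Nat) : Nat := @Bool.rec (fun _ => Nat) (Ptab_s_0_412 c) (Ptab_s_412_825 c) (Nat.ble 412 c)
noncomputable def Ptab (i : Nat) : Nat := rdw 22 4194303 (Ptab_s_0_825 (Nat.shiftRight i 12)) (Nat.land i 4095)
noncomputable def RRtab (i : Nat) : Nat := rdw 3 7 RRtab_0 i
noncomputable def rBtab (i : Nat) : Nat := rdw 9 511 rBtab_0 i
noncomputable def rLtab (i : Nat) : Nat := rdw 6 63 rLtab_0 i
noncomputable def nameTab_s_1_3 (c : Nat) : Nat := @Bool.rec (fun _ => Nat) (nameTab_1) (nameTab_2) (Nat.ble 2 c)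
noncomputable def nameTab_s_0_3 (c : Nat) : Nat := @Bool.rec (fun _ => Nat) (nameTab_0) (nameTab_s_1_3 c) (Nat.ble 1 c)
noncomputable def nameTab_s_4_6 (c : Nat) : Nat := @Bool.rec (fun _ => Nat) (nameTab_4) (nameTab_5) (Nat.ble 5 c)
noncomputable def nameTab_s_3_6 (c : Nat) : Nat := @Bool.rec (fun _ => Nat) (nameTab_3) (nameTab_s_4_6 c) (Nat.ble 4 c)
noncomputable def nameTab_s_0_6 (c : Nat) : Nat := @Bool.rec (fun _ => Nat) (nameTab_s_0_3 c) (nameTab_s_3_6 c) (Nat.ble 3 c)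
noncomputable def nameTab_s_7_9 (c : Nat) : Nat := @Bool.rec (fun _ => Nat) (nameTab_7) (nameTab_8) (Nat.ble 8 c)
noncomputable def nameTab_s_6_9 (c : Nat) : Nat := @Bool.rec (fun _ => Nat) (nameTab_6) (nameTab_s_7_9 c) (Nat.ble 7 c)
noncomputable def nameTab_s_10_12 (c : Nat) : Nat := @Bool.rec (fun _ => Nat) (nameTab_10) (nameTab_11) (Nat.ble 11 c)
noncomputable def nameTab_s_9_12 (c : Nat) : Nat := @Bool.rec (fun _ => Nat) (nameTab_9) (nameTab_s_10_12 c) (Nat.ble 10 c)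
noncomputable def nameTab_s_6_12 (c : Nat) : Nat := @Bool.rec (fun _ => Nat) (nameTab_s_6_9 c) (nameTab_s_9_12 c) (Nat.ble 9 c)
noncomputable def nameTab_s_0_12 (c : Nat) : Nat := @Bool.rec (fun _ => Nat) (nameTab_s_0_6 c) (nameTab_s_6_12 c) (Nat.ble 6 c)
noncomputable def nameTab_s_13_15 (c : Nat) : Nat := @Bool.rec (fun _ => Nat) (nameTab_13) (nameTab_14) (Nat.ble 14 c)
noncomputable def nameTab_s_12_15 (c : Nat) : Nat := @Bool.rec (fun _ => Nat) (nameTab_12) (nameTab_s_13_15 c) (Nat.ble 13 c)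
noncomputable def nameTab_s_16_18 (c : Nat) : Nat := @Bool.rec (fun _ => Nat) (nameTab_16) (nameTab_17) (Nat.ble 17 c)
noncomputable def nameTab_s_15_18 (c : Nat) : Nat := @Bool.rec (fun _ => Nat) (nameTab_15) (nameTab_s_16_18 c) (Nat.ble 16 c)
noncomputable def nameTab_s_12_18 (c : Nat) : Nat := @Bool.rec (fun _ => Nat) (nameTab_s_12_15 c) (nameTab_s_15_18 c) (Nat.ble 15 c)
noncomputable def nameTab_s_19_21 (c : Nat) : Nat := @Bool.rec (fun _ => Nat) (nameTab_19) (nameTab_20) (Nat.ble 20 c)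
noncomputable def nameTab_s_18_21 (c : Nat) : Nat := @Bool.rec (fun _ => Nat) (nameTab_18) (nameTab_s_19_21 c) (Nat.ble 19 c)
noncomputable def nameTab_s_21_23 (c : Nat) : Nat := @Bool.rec (fun _ => Nat) (nameTab_21) (nameTab_22) (Nat.ble 22 c)
noncomputable def nameTab_s_23_25 (c : Nat) : Nat := @Bool.rec (fun _ => Nat) (nameTab_23) (nameTab_24) (Nat.ble 24 c)
noncomputable def nameTab_s_21_25 (c : Nat) : Nat := @Bool.rec (fun _ => Nat) (nameTab_s_21_23 c) (nameTab_s_23_25 c) (Nat.ble 23 c)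
noncomputable def nameTab_s_18_25 (c : Nat) : Nat := @Bool.rec (fun _ => Nat) (nameTab_s_18_21 c) (nameTab_s_21_25 c) (Nat.ble 21 c)
noncomputable def nameTab_s_12_25 (c : Nat) : Nat := @Bool.rec (fun _ => Nat) (nameTab_s_12_18 c) (nameTab_s_18_25 c) (Nat.ble 18 c)
noncomputable def nameTab_s_0_25 (c : Nat) : Nat := @Bool.rec (fun _ => Nat) (nameTab_s_0_12 c) (nameTab_s_12_25 c) (Nat.ble 12 c)
noncomputable def nameTab_s_26_28 (c : Nat) : Nat := @Bool.rec (fun _ => Nat) (nameTab_26) (nameTab_27) (Nat.ble 27 c)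
noncomputable def nameTab_s_25_28 (c : Nat) : Nat := @Bool.rec (fun _ => Nat) (nameTab_25) (nameTab_s_26_28 c) (Nat.ble 26 c)
noncomputable def nameTab_s_29_31 (c : Nat) : Nat := @Bool.rec (fun _ => Nat) (nameTab_29) (nameTab_30) (Nat.ble 30 c)
noncomputable def nameTab_s_28_31 (c : Nat) : Nat := @Bool.rec (fun _ => Nat) (nameTab_28) (nameTab_s_29_31 c) (Nat.ble 29 c)
noncomputable def nameTab_s_25_31 (c : Nat) : Nat := @Bool.rec (fun _ => Nat) (nameTab_s_25_28 c) (nameTab_s_28_31 c) (Nat.ble 28 c)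
noncomputable def nameTab_s_32_34 (c : Nat) : Nat := @Bool.rec (fun _ => Nat) (nameTab_32) (nameTab_33) (Nat.ble 33 c)
noncomputable def nameTab_s_31_34 (c : Nat) : Nat := @Bool.rec (fun _ => Nat) (nameTab_31) (nameTab_s_32_34 c) (Nat.ble 32 c)
noncomputable def nameTab_s_34_36 (c : Nat) : Nat := @Bool.rec (fun _ => Nat) (nameTab_34) (nameTab_35) (Nat.ble 35 c)
noncomputable def nameTab_s_36_38 (c : Nat) : Nat := @Bool.rec (fun _ => Nat) (nameTab_36) (nameTab_37) (Nat.ble 37 c)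
noncomputable def nameTab_s_34_38 (c : Nat) : Nat := @Bool.rec (fun _ => Nat) (nameTab_s_34_36 c) (nameTab_s_36_38 c) (Nat.ble 36 c)
noncomputable def nameTab_s_31_38 (c : Nat) : Nat := @Bool.rec (fun _ => Nat) (nameTab_s_31_34 c) (nameTab_s_34_38 c) (Nat.ble 34 c)
noncomputable def nameTab_s_25_38 (c : Nat) : Nat := @Bool.rec (fun _ => Nat) (nameTab_s_25_31 c) (nameTab_s_31_38 c) (Nat.ble 31 c)
noncomputable def nameTab_s_39_41 (c : Nat) : Nat := @Bool.rec (fun _ => Nat) (nameTab_39) (nameTab_40) (Nat.ble 40 c)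
noncomputable def nameTab_s_38_41 (c : Nat) : Nat := @Bool.rec (fun _ => Nat) (nameTab_38) (nameTab_s_39_41 c) (Nat.ble 39 c)
noncomputable def nameTab_s_42_44 (c : Nat) : Nat := @Bool.rec (fun _ => Nat) (nameTab_42) (nameTab_43) (Nat.ble 43 c)
noncomputable def nameTab_s_41_44 (c : Nat) : Nat := @Bool.rec (fun _ => Nat) (nameTab_41) (nameTab_s_42_44 c) (Nat.ble 42 c)
noncomputable def nameTab_s_38_44 (c : Nat) : Nat := @Bool.rec (fun _ => Nat) (nameTab_s_38_41 c) (nameTab_s_41_44 c) (Nat.ble 41 c)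
noncomputable def nameTab_s_45_47 (c : Nat) : Nat := @Bool.rec (fun _ => Nat) (nameTab_45) (nameTab_46) (Nat.ble 46 c)
noncomputable def nameTab_s_44_47 (c : Nat) : Nat := @Bool.rec (fun _ => Nat) (nameTab_44) (nameTab_s_45_47 c) (Nat.ble 45 c)
noncomputable def nameTab_s_47_49 (c : Nat) : Nat := @Bool.rec (fun _ => Nat) (nameTab_47) (nameTab_48) (Nat.ble 48 c)
noncomputable def nameTab_s_49_51 (c : Nat) : Nat := @Bool.rec (fun _ => Nat) (nameTab_49) (nameTab_50) (Nat.ble 50 c)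
noncomputable def nameTab_s_47_51 (c : Nat) : Nat := @Bool.rec (fun _ => Nat) (nameTab_s_47_49 c) (nameTab_s_49_51 c) (Nat.ble 49 c)
noncomputable def nameTab_s_44_51 (c : Nat) : Nat := @Bool.rec (fun _ => Nat) (nameTab_s_44_47 c) (nameTab_s_47_51 c) (Nat.ble 47 c)
noncomputable def nameTab_s_38_51 (c : Nat) : Nat := @Bool.rec (fun _ => Nat) (nameTab_s_38_44 c) (nameTab_s_44_51 c) (Nat.ble 44 c)
noncomputable def nameTab_s_25_51 (c : Nat) : Nat := @Bool.rec (fun _ => Nat) (nameTab_s_25_38 c) (nameTab_s_38_51 c) (Nat.ble 38 c)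
noncomputable def nameTab_s_0_51 (c : Nat) : Nat := @Bool.rec (fun _ => Nat) (nameTab_s_0_25 c) (nameTab_s_25_51 c) (Nat.ble 25 c)
noncomputable def nameTab (i : Nat) : Nat := rdw 20 1048575 (nameTab_s_0_51 (Nat.shiftRight i 12)) (Nat.land i 4095)
noncomputable def col0_s_1_3 (c : Nat) : Nat := @Bool.rec (fun _ => Nat) (col0_1) (col0_2) (Nat.ble 2 c)
noncomputable def col0_s_0_3 (c : Nat) : Nat := @Bool.rec (fun _ => Nat) (col0_0) (col0_s_1_3 c) (Nat.ble 1 c)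
noncomputable def col0_s_4_6 (c : Nat) : Nat := @Bool.rec (fun _ => Nat) (col0_4) (col0_5) (Nat.ble 5 c)
noncomputable def col0_s_3_6 (c : Nat) : Nat := @Bool.rec (fun _ => Nat) (col0_3) (col0_s_4_6 c) (Nat.ble 4 c)
noncomputable def col0_s_0_6 (c : Nat) : Nat := @Bool.rec (fun _ => Nat) (col0_s_0_3 c) (col0_s_3_6 c) (Nat.ble 3 c)
noncomputable def col0_s_7_9 (c : Nat) : Nat := @Bool.rec (fun _ => Nat) (col0_7) (col0_8) (Nat.ble 8 c)
noncomputable def col0_s_6_9 (c : Nat) : Nat := @Bool.rec (fun _ => Nat) (col0_6) (col0_s_7_9 c) (Nat.ble 7 c)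
noncomputable def col0_s_10_12 (c : Nat) : Nat := @Bool.rec (fun _ => Nat) (col0_10) (col0_11) (Nat.ble 11 c)
noncomputable def col0_s_9_12 (c : Nat) : Nat := @Bool.rec (fun _ => Nat) (col0_9) (col0_s_10_12 c) (Nat.ble 10 c)
noncomputable def col0_s_6_12 (c : Nat) : Nat := @Bool.rec (fun _ => Nat) (col0_s_6_9 c) (col0_s_9_12 c) (Nat.ble 9 c)
noncomputable def col0_s_0_12 (c : Nat) : Nat := @Bool.rec (fun _ => Nat) (col0_s_0_6 c) (col0_s_6_12 c) (Nat.ble 6 c)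
noncomputable def col0_s_13_15 (c : Nat) : Nat := @Bool.rec (fun _ => Nat) (col0_13) (col0_14) (Nat.ble 14 c)
noncomputable def col0_s_12_15 (c : Nat) : Nat := @Bool.rec (fun _ => Nat) (col0_12) (col0_s_13_15 c) (Nat.ble 13 c)
noncomputable def col0_s_16_18 (c : Nat) : Nat := @Bool.rec (fun _ => Nat) (col0_16) (col0_17) (Nat.ble 17 c)
noncomputable def col0_s_15_18 (c : Nat) : Nat := @Bool.rec (fun _ => Nat) (col0_15) (col0_s_16_18 c) (Nat.ble 16 c)
noncomputable def col0_s_12_18 (c : Nat) : Nat := @Bool.rec (fun _ => Nat) (col0_s_12_15 c) (col0_s_15_18 c) (Nat.ble 15 c)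
noncomputable def col0_s_19_21 (c : Nat) : Nat := @Bool.rec (fun _ => Nat) (col0_19) (col0_20) (Nat.ble 20 c)
noncomputable def col0_s_18_21 (c : Nat) : Nat := @Bool.rec (fun _ => Nat) (col0_18) (col0_s_19_21 c) (Nat.ble 19 c)
noncomputable def col0_s_21_23 (c : Nat) : Nat := @Bool.rec (fun _ => Nat) (col0_21) (col0_22) (Nat.ble 22 c)
noncomputable def col0_s_23_25 (c : Nat) : Nat := @Bool.rec (fun _ => Nat) (col0_23) (col0_24) (Nat.ble 24 c)
noncomputable def col0_s_21_25 (c : Nat) : Nat := @Bool.rec (fun _ => Nat) (col0_s_21_23 c) (col0_s_23_25 c) (Nat.ble 23 c)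
noncomputable def col0_s_18_25 (c : Nat) : Nat := @Bool.rec (fun _ => Nat) (col0_s_18_21 c) (col0_s_21_25 c) (Nat.ble 21 c)
noncomputable def col0_s_12_25 (c : Nat) : Nat := @Bool.rec (fun _ => Nat) (col0_s_12_18 c) (col0_s_18_25 c) (Nat.ble 18 c)
noncomputable def col0_s_0_25 (c : Nat) : Nat := @Bool.rec (fun _ => Nat) (col0_s_0_12 c) (col0_s_12_25 c) (Nat.ble 12 c)
noncomputable def col0_s_26_28 (c : Nat) : Nat := @Bool.rec (fun _ => Nat) (col0_26) (col0_27) (Nat.ble 27 c)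
noncomputable def col0_s_25_28 (c : Nat) : Nat := @Bool.rec (fun _ => Nat) (col0_25) (col0_s_26_28 c) (Nat.ble 26 c)
noncomputable def col0_s_29_31 (c : Nat) : Nat := @Bool.rec (fun _ => Nat) (col0_29) (col0_30) (Nat.ble 30 c)
noncomputable def col0_s_28_31 (c : Nat) : Nat := @Bool.rec (fun _ => Nat) (col0_28) (col0_s_29_31 c) (Nat.ble 29 c)
noncomputable def col0_s_25_31 (c : Nat) : Nat := @Bool.rec (fun _ => Nat) (col0_s_25_28 c) (col0_s_28_31 c) (Nat.ble 28 c)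
noncomputable def col0_s_32_34 (c : Nat) : Nat := @Bool.rec (fun _ => Nat) (col0_32) (col0_33) (Nat.ble 33 c)
noncomputable def col0_s_31_34 (c : Nat) : Nat := @Bool.rec (fun _ => Nat) (col0_31) (col0_s_32_34 c) (Nat.ble 32 c)
noncomputable def col0_s_34_36 (c : Nat) : Nat := @Bool.rec (fun _ => Nat) (col0_34) (col0_35) (Nat.ble 35 c)
noncomputable def col0_s_36_38 (c : Nat) : Nat := @Bool.rec (fun _ => Nat) (col0_36) (col0_37) (Nat.ble 37 c)
noncomputable def col0_s_34_38 (c : Nat) : Nat := @Bool.rec (fun _ => Nat) (col0_s_34_36 c) (col0_s_36_38 c) (Nat.ble 36 c)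
noncomputable def col0_s_31_38 (c : Nat) : Nat := @Bool.rec (fun _ => Nat) (col0_s_31_34 c) (col0_s_34_38 c) (Nat.ble 34 c)
noncomputable def col0_s_25_38 (c : Nat) : Nat := @Bool.rec (fun _ => Nat) (col0_s_25_31 c) (col0_s_31_38 c) (Nat.ble 31 c)
noncomputable def col0_s_39_41 (c : Nat) : Nat := @Bool.rec (fun _ => Nat) (col0_39) (col0_40) (Nat.ble 40 c)
noncomputable def col0_s_38_41 (c : Nat) : Nat := @Bool.rec (fun _ => Nat) (col0_38) (col0_s_39_41 c) (Nat.ble 39 c)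
noncomputable def col0_s_42_44 (c : Nat) : Nat := @Bool.rec (fun _ => Nat) (col0_42) (col0_43) (Nat.ble 43 c)
noncomputable def col0_s_41_44 (c : Nat) : Nat := @Bool.rec (fun _ => Nat) (col0_41) (col0_s_42_44 c) (Nat.ble 42 c)
noncomputable def col0_s_38_44 (c : Nat) : Nat := @Bool.rec (fun _ => Nat) (col0_s_38_41 c) (col0_s_41_44 c) (Nat.ble 41 c)
noncomputable def col0_s_45_47 (c : Nat) : Nat := @Bool.rec (fun _ => Nat) (col0_45) (col0_46) (Nat.ble 46 c)
noncomputable def col0_s_44_47 (c : Nat) : Nat := @Bool.rec (fun _ => Nat) (col0_44) (col0_s_45_47 c) (Nat.ble 45 c)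
noncomputable def col0_s_47_49 (c : Nat) : Nat := @Bool.rec (fun _ => Nat) (col0_47) (col0_48) (Nat.ble 48 c)
noncomputable def col0_s_49_51 (c : Nat) : Nat := @Bool.rec (fun _ => Nat) (col0_49) (col0_50) (Nat.ble 50 c)
noncomputable def col0_s_47_51 (c : Nat) : Nat := @Bool.rec (fun _ => Nat) (col0_s_47_49 c) (col0_s_49_51 c) (Nat.ble 49 c)
noncomputable def col0_s_44_51 (c : Nat) : Nat := @Bool.rec (fun _ => Nat) (col0_s_44_47 c) (col0_s_47_51 c) (Nat.ble 47 c)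
noncomputable def col0_s_38_51 (c : Nat) : Nat := @Bool.rec (fun _ => Nat) (col0_s_38_44 c) (col0_s_44_51 c) (Nat.ble 44 c)
noncomputable def col0_s_25_51 (c : Nat) : Nat := @Bool.rec (fun _ => Nat) (col0_s_25_38 c) (col0_s_38_51 c) (Nat.ble 38 c)
noncomputable def col0_s_0_51 (c : Nat) : Nat := @Bool.rec (fun _ => Nat) (col0_s_0_25 c) (col0_s_25_51 c) (Nat.ble 25 c)
noncomputable def col0 (i : Nat) : Nat := rdw 18 262143 (col0_s_0_51 (Nat.shiftRight i 12)) (Nat.land i 4095)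
noncomputable def col1_s_1_3 (c : Nat) : Nat := @Bool.rec (fun _ => Nat) (col1_1) (col1_2) (Nat.ble 2 c)
noncomputable def col1_s_0_3 (c : Nat) : Nat := @Bool.rec (fun _ => Nat) (col1_0) (col1_s_1_3 c) (Nat.ble 1 c)
noncomputable def col1_s_4_6 (c : Nat) : Nat := @Bool.rec (fun _ => Nat) (col1_4) (col1_5) (Nat.ble 5 c)
noncomputable def col1_s_3_6 (c : Nat) : Nat := @Bool.rec (fun _ => Nat) (col1_3) (col1_s_4_6 c) (Nat.ble 4 c)
noncomputable def col1_s_0_6 (c : Nat) : Nat := @Bool.rec (fun _ => Nat) (col1_s_0_3 c) (col1_s_3_6 c) (Nat.ble 3 c)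
noncomputable def col1_s_7_9 (c : Nat) : Nat := @Bool.rec (fun _ => Nat) (col1_7) (col1_8) (Nat.ble 8 c)
noncomputable def col1_s_6_9 (c : Nat) : Nat := @Bool.rec (fun _ => Nat) (col1_6) (col1_s_7_9 c) (Nat.ble 7 c)
noncomputable def col1_s_10_12 (c : Nat) : Nat := @Bool.rec (fun _ => Nat) (col1_10) (col1_11) (Nat.ble 11 c)
noncomputable def col1_s_9_12 (c : Nat) : Nat := @Bool.rec (fun _ => Nat) (col1_9) (col1_s_10_12 c) (Nat.ble 10 c)
noncomputable def col1_s_6_12 (c : Nat) : Nat := @Bool.rec (fun _ => Nat) (col1_s_6_9 c) (col1_s_9_12 c) (Nat.ble 9 c)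
noncomputable def col1_s_0_12 (c : Nat) : Nat := @Bool.rec (fun _ => Nat) (col1_s_0_6 c) (col1_s_6_12 c) (Nat.ble 6 c)
noncomputable def col1_s_13_15 (c : Nat) : Nat := @Bool.rec (fun _ => Nat) (col1_13) (col1_14) (Nat.ble 14 c)
noncomputable def col1_s_12_15 (c : Nat) : Nat := @Bool.rec (fun _ => Nat) (col1_12) (col1_s_13_15 c) (Nat.ble 13 c)
noncomputable def col1_s_16_18 (c : Nat) : Nat := @Bool.rec (fun _ => Nat) (col1_16) (col1_17) (Nat.ble 17 c)
noncomputable def col1_s_15_18 (c : Nat) : Nat := @Bool.rec (fun _ => Nat) (col1_15) (col1_s_16_18 c) (Nat.ble 16 c)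
noncomputable def col1_s_12_18 (c : Nat) : Nat := @Bool.rec (fun _ => Nat) (col1_s_12_15 c) (col1_s_15_18 c) (Nat.ble 15 c)
noncomputable def col1_s_19_21 (c : Nat) : Nat := @Bool.rec (fun _ => Nat) (col1_19) (col1_20) (Nat.ble 20 c)
noncomputable def col1_s_18_21 (c : Nat) : Nat := @Bool.rec (fun _ => Nat) (col1_18) (col1_s_19_21 c) (Nat.ble 19 c)
noncomputable def col1_s_21_23 (c : Nat) : Nat := @Bool.rec (fun _ => Nat) (col1_21) (col1_22) (Nat.ble 22 c)
noncomputable def col1_s_23_25 (c : Nat) : Nat := @Bool.rec (fun _ => Nat) (col1_23) (col1_24) (Nat.ble 24 c)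
noncomputable def col1_s_21_25 (c : Nat) : Nat := @Bool.rec (fun _ => Nat) (col1_s_21_23 c) (col1_s_23_25 c) (Nat.ble 23 c)
noncomputable def col1_s_18_25 (c : Nat) : Nat := @Bool.rec (fun _ => Nat) (col1_s_18_21 c) (col1_s_21_25 c) (Nat.ble 21 c)
noncomputable def col1_s_12_25 (c : Nat) : Nat := @Bool.rec (fun _ => Nat) (col1_s_12_18 c) (col1_s_18_25 c) (Nat.ble 18 c)
noncomputable def col1_s_0_25 (c : Nat) : Nat := @Bool.rec (fun _ => Nat) (col1_s_0_12 c) (col1_s_12_25 c) (Nat.ble 12 c)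
noncomputable def col1_s_26_28 (c : Nat) : Nat := @Bool.rec (fun _ => Nat) (col1_26) (col1_27) (Nat.ble 27 c)
noncomputable def col1_s_25_28 (c : Nat) : Nat := @Bool.rec (fun _ => Nat) (col1_25) (col1_s_26_28 c) (Nat.ble 26 c)
noncomputable def col1_s_29_31 (c : Nat) : Nat := @Bool.rec (fun _ => Nat) (col1_29) (col1_30) (Nat.ble 30 c)
noncomputable def col1_s_28_31 (c : Nat) : Nat := @Bool.rec (fun _ => Nat) (col1_28) (col1_s_29_31 c) (Nat.ble 29 c)
noncomputable def col1_s_25_31 (c : Nat) : Nat := @Bool.rec (fun _ => Nat) (col1_s_25_28 c) (col1_s_28_31 c) (Nat.ble 28 c)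
noncomputable def col1_s_32_34 (c : Nat) : Nat := @Bool.rec (fun _ => Nat) (col1_32) (col1_33) (Nat.ble 33 c)
noncomputable def col1_s_31_34 (c : Nat) : Nat := @Bool.rec (fun _ => Nat) (col1_31) (col1_s_32_34 c) (Nat.ble 32 c)
noncomputable def col1_s_34_36 (c : Nat) : Nat := @Bool.rec (fun _ => Nat) (col1_34) (col1_35) (Nat.ble 35 c)
noncomputable def col1_s_36_38 (c : Nat) : Nat := @Bool.rec (fun _ => Nat) (col1_36) (col1_37) (Nat.ble 37 c)
noncomputable def col1_s_34_38 (c : Nat) : Nat := @Bool.rec (fun _ => Nat) (col1_s_34_36 c) (col1_s_36_38 c) (Nat.ble 36 c)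
noncomputable def col1_s_31_38 (c : Nat) : Nat := @Bool.rec (fun _ => Nat) (col1_s_31_34 c) (col1_s_34_38 c) (Nat.ble 34 c)
noncomputable def col1_s_25_38 (c : Nat) : Nat := @Bool.rec (fun _ => Nat) (col1_s_25_31 c) (col1_s_31_38 c) (Nat.ble 31 c)
noncomputable def col1_s_39_41 (c : Nat) : Nat := @Bool.rec (fun _ => Nat) (col1_39) (col1_40) (Nat.ble 40 c)
noncomputable def col1_s_38_41 (c : Nat) : Nat := @Bool.rec (fun _ => Nat) (col1_38) (col1_s_39_41 c) (Nat.ble 39 c)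
noncomputable def col1_s_42_44 (c : Nat) : Nat := @Bool.rec (fun _ => Nat) (col1_42) (col1_43) (Nat.ble 43 c)
noncomputable def col1_s_41_44 (c : Nat) : Nat := @Bool.rec (fun _ => Nat) (col1_41) (col1_s_42_44 c) (Nat.ble 42 c)
noncomputable def col1_s_38_44 (c : Nat) : Nat := @Bool.rec (fun _ => Nat) (col1_s_38_41 c) (col1_s_41_44 c) (Nat.ble 41 c)
noncomputable def col1_s_45_47 (c : Nat) : Nat := @Bool.rec (fun _ => Nat) (col1_45) (col1_46) (Nat.ble 46 c)
noncomputable def col1_s_44_47 (c : Nat) : Nat := @Bool.rec (fun _ => Nat) (col1_44) (col1_s_45_47 c) (Nat.ble 45 c)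
noncomputable def col1_s_47_49 (c : Nat) : Nat := @Bool.rec (fun _ => Nat) (col1_47) (col1_48) (Nat.ble 48 c)
noncomputable def col1_s_49_51 (c : Nat) : Nat := @Bool.rec (fun _ => Nat) (col1_49) (col1_50) (Nat.ble 50 c)
noncomputable def col1_s_47_51 (c : Nat) : Nat := @Bool.rec (fun _ => Nat) (col1_s_47_49 c) (col1_s_49_51 c) (Nat.ble 49 c)
noncomputable def col1_s_44_51 (c : Nat) : Nat := @Bool.rec (fun _ => Nat) (col1_s_44_47 c) (col1_s_47_51 c) (Nat.ble 47 c)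
noncomputable def col1_s_38_51 (c : Nat) : Nat := @Bool.rec (fun _ => Nat) (col1_s_38_44 c) (col1_s_44_51 c) (Nat.ble 44 c)
noncomputable def col1_s_25_51 (c : Nat) : Nat := @Bool.rec (fun _ => Nat) (col1_s_25_38 c) (col1_s_38_51 c) (Nat.ble 38 c)
noncomputable def col1_s_0_51 (c : Nat) : Nat := @Bool.rec (fun _ => Nat) (col1_s_0_25 c) (col1_s_25_51 c) (Nat.ble 25 c)
noncomputable def col1 (i : Nat) : Nat := rdw 18 262143 (col1_s_0_51 (Nat.shiftRight i 12)) (Nat.land i 4095)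
noncomputable def col2_s_1_3 (c : Nat) : Nat := @Bool.rec (fun _ => Nat) (col2_1) (col2_2) (Nat.ble 2 c)
noncomputable def col2_s_0_3 (c : Nat) : Nat := @Bool.rec (fun _ => Nat) (col2_0) (col2_s_1_3 c) (Nat.ble 1 c)
noncomputable def col2_s_4_6 (c : Nat) : Nat := @Bool.rec (fun _ => Nat) (col2_4) (col2_5) (Nat.ble 5 c)
noncomputable def col2_s_3_6 (c : Nat) : Nat := @Bool.rec (fun _ => Nat) (col2_3) (col2_s_4_6 c) (Nat.ble 4 c)
noncomputable def col2_s_0_6 (c : Nat) : Nat := @Bool.rec (fun _ => Nat) (col2_s_0_3 c) (col2_s_3_6 c) (Nat.ble 3 c)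
noncomputable def col2_s_7_9 (c : Nat) : Nat := @Bool.rec (fun _ => Nat) (col2_7) (col2_8) (Nat.ble 8 c)
noncomputable def col2_s_6_9 (c : Nat) : Nat := @Bool.rec (fun _ => Nat) (col2_6) (col2_s_7_9 c) (Nat.ble 7 c)
noncomputable def col2_s_10_12 (c : Nat) : Nat := @Bool.rec (fun _ => Nat) (col2_10) (col2_11) (Nat.ble 11 c)
noncomputable def col2_s_9_12 (c : Nat) : Nat := @Bool.rec (fun _ => Nat) (col2_9) (col2_s_10_12 c) (Nat.ble 10 c)
noncomputable def col2_s_6_12 (c : Nat) : Nat := @Bool.rec (fun _ => Nat) (col2_s_6_9 c) (col2_s_9_12 c) (Nat.ble 9 c)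
noncomputable def col2_s_0_12 (c : Nat) : Nat := @Bool.rec (fun _ => Nat) (col2_s_0_6 c) (col2_s_6_12 c) (Nat.ble 6 c)
noncomputable def col2_s_13_15 (c : Nat) : Nat := @Bool.rec (fun _ => Nat) (col2_13) (col2_14) (Nat.ble 14 c)
noncomputable def col2_s_12_15 (c : Nat) : Nat := @Bool.rec (fun _ => Nat) (col2_12) (col2_s_13_15 c) (Nat.ble 13 c)
noncomputable def col2_s_16_18 (c : Nat) : Nat := @Bool.rec (fun _ => Nat) (col2_16) (col2_17) (Nat.ble 17 c)
noncomputable def col2_s_15_18 (c : Nat) : Nat := @Bool.rec (fun _ => Nat) (col2_15) (col2_s_16_18 c) (Nat.ble 16 c)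
noncomputable def col2_s_12_18 (c : Nat) : Nat := @Bool.rec (fun _ => Nat) (col2_s_12_15 c) (col2_s_15_18 c) (Nat.ble 15 c)
noncomputable def col2_s_19_21 (c : Nat) : Nat := @Bool.rec (fun _ => Nat) (col2_19) (col2_20) (Nat.ble 20 c)
noncomputable def col2_s_18_21 (c : Nat) : Nat := @Bool.rec (fun _ => Nat) (col2_18) (col2_s_19_21 c) (Nat.ble 19 c)
noncomputable def col2_s_21_23 (c : Nat) : Nat := @Bool.rec (fun _ => Nat) (col2_21) (col2_22) (Nat.ble 22 c)
noncomputable def col2_s_23_25 (c : Nat) : Nat := @Bool.rec (fun _ => Nat) (col2_23) (col2_24) (Nat.ble 24 c)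
noncomputable def col2_s_21_25 (c : Nat) : Nat := @Bool.rec (fun _ => Nat) (col2_s_21_23 c) (col2_s_23_25 c) (Nat.ble 23 c)
noncomputable def col2_s_18_25 (c : Nat) : Nat := @Bool.rec (fun _ => Nat) (col2_s_18_21 c) (col2_s_21_25 c) (Nat.ble 21 c)
noncomputable def col2_s_12_25 (c : Nat) : Nat := @Bool.rec (fun _ => Nat) (col2_s_12_18 c) (col2_s_18_25 c) (Nat.ble 18 c)
noncomputable def col2_s_0_25 (c : Nat) : Nat := @Bool.rec (fun _ => Nat) (col2_s_0_12 c) (col2_s_12_25 c) (Nat.ble 12 c)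
noncomputable def col2_s_26_28 (c : Nat) : Nat := @Bool.rec (fun _ => Nat) (col2_26) (col2_27) (Nat.ble 27 c)
noncomputable def col2_s_25_28 (c : Nat) : Nat := @Bool.rec (fun _ => Nat) (col2_25) (col2_s_26_28 c) (Nat.ble 26 c)
noncomputable def col2_s_29_31 (c : Nat) : Nat := @Bool.rec (fun _ => Nat) (col2_29) (col2_30) (Nat.ble 30 c)
noncomputable def col2_s_28_31 (c : Nat) : Nat := @Bool.rec (fun _ => Nat) (col2_28) (col2_s_29_31 c) (Nat.ble 29 c)
noncomputable def col2_s_25_31 (c : Nat) : Nat := @Bool.rec (fun _ => Nat) (col2_s_25_28 c) (col2_s_28_31 c) (Nat.ble 28 c)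
noncomputable def col2_s_32_34 (c : Nat) : Nat := @Bool.rec (fun _ => Nat) (col2_32) (col2_33) (Nat.ble 33 c)
noncomputable def col2_s_31_34 (c : Nat) : Nat := @Bool.rec (fun _ => Nat) (col2_31) (col2_s_32_34 c) (Nat.ble 32 c)
noncomputable def col2_s_34_36 (c : Nat) : Nat := @Bool.rec (fun _ => Nat) (col2_34) (col2_35) (Nat.ble 35 c)
noncomputable def col2_s_36_38 (c : Nat) : Nat := @Bool.rec (fun _ => Nat) (col2_36) (col2_37) (Nat.ble 37 c)
noncomputable def col2_s_34_38 (c : Nat) : Nat := @Bool.rec (fun _ => Nat) (col2_s_34_36 c) (col2_s_36_38 c) (Nat.ble 36 c)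
noncomputable def col2_s_31_38 (c : Nat) : Nat := @Bool.rec (fun _ => Nat) (col2_s_31_34 c) (col2_s_34_38 c) (Nat.ble 34 c)
noncomputable def col2_s_25_38 (c : Nat) : Nat := @Bool.rec (fun _ => Nat) (col2_s_25_31 c) (col2_s_31_38 c) (Nat.ble 31 c)
noncomputable def col2_s_39_41 (c : Nat) : Nat := @Bool.rec (fun _ => Nat) (col2_39) (col2_40) (Nat.ble 40 c)
noncomputable def col2_s_38_41 (c : Nat) : Nat := @Bool.rec (fun _ => Nat) (col2_38) (col2_s_39_41 c) (Nat.ble 39 c)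
noncomputable def col2_s_42_44 (c : Nat) : Nat := @Bool.rec (fun _ => Nat) (col2_42) (col2_43) (Nat.ble 43 c)
noncomputable def col2_s_41_44 (c : Nat) : Nat := @Bool.rec (fun _ => Nat) (col2_41) (col2_s_42_44 c) (Nat.ble 42 c)
noncomputable def col2_s_38_44 (c : Nat) : Nat := @Bool.rec (fun _ => Nat) (col2_s_38_41 c) (col2_s_41_44 c) (Nat.ble 41 c)
noncomputable def col2_s_45_47 (c : Nat) : Nat := @Bool.rec (fun _ => Nat) (col2_45) (col2_46) (Nat.ble 46 c)
noncomputable def col2_s_44_47 (c : Nat) : Nat := @Bool.rec (fun _ => Nat) (col2_44) (col2_s_45_47 c) (Nat.ble 45 c)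
noncomputable def col2_s_47_49 (c : Nat) : Nat := @Bool.rec (fun _ => Nat) (col2_47) (col2_48) (Nat.ble 48 c)
noncomputable def col2_s_49_51 (c : Nat) : Nat := @Bool.rec (fun _ => Nat) (col2_49) (col2_50) (Nat.ble 50 c)
noncomputable def col2_s_47_51 (c : Nat) : Nat := @Bool.rec (fun _ => Nat) (col2_s_47_49 c) (col2_s_49_51 c) (Nat.ble 49 c)
noncomputable def col2_s_44_51 (c : Nat) : Nat := @Bool.rec (fun _ => Nat) (col2_s_44_47 c) (col2_s_47_51 c) (Nat.ble 47 c)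
noncomputable def col2_s_38_51 (c : Nat) : Nat := @Bool.rec (fun _ => Nat) (col2_s_38_44 c) (col2_s_44_51 c) (Nat.ble 44 c)
noncomputable def col2_s_25_51 (c : Nat) : Nat := @Bool.rec (fun _ => Nat) (col2_s_25_38 c) (col2_s_38_51 c) (Nat.ble 38 c)
noncomputable def col2_s_0_51 (c : Nat) : Nat := @Bool.rec (fun _ => Nat) (col2_s_0_25 c) (col2_s_25_51 c) (Nat.ble 25 c)
noncomputable def col2 (i : Nat) : Nat := rdw 18 262143 (col2_s_0_51 (Nat.shiftRight i 12)) (Nat.land i 4095)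
noncomputable def col3_s_1_3 (c : Nat) : Nat := @Bool.rec (fun _ => Nat) (col3_1) (col3_2) (Nat.ble 2 c)
noncomputable def col3_s_0_3 (c : Nat) : Nat := @Bool.rec (fun _ => Nat) (col3_0) (col3_s_1_3 c) (Nat.ble 1 c)
noncomputable def col3_s_4_6 (c : Nat) : Nat := @Bool.rec (fun _ => Nat) (col3_4) (col3_5) (Nat.ble 5 c)
noncomputable def col3_s_3_6 (c : Nat) : Nat := @Bool.rec (fun _ => Nat) (col3_3) (col3_s_4_6 c) (Nat.ble 4 c)
noncomputable def col3_s_0_6 (c : Nat) : Nat := @Bool.rec (fun _ => Nat) (col3_s_0_3 c) (col3_s_3_6 c) (Nat.ble 3 c)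
noncomputable def col3_s_7_9 (c : Nat) : Nat := @Bool.rec (fun _ => Nat) (col3_7) (col3_8) (Nat.ble 8 c)
noncomputable def col3_s_6_9 (c : Nat) : Nat := @Bool.rec (fun _ => Nat) (col3_6) (col3_s_7_9 c) (Nat.ble 7 c)
noncomputable def col3_s_10_12 (c : Nat) : Nat := @Bool.rec (fun _ => Nat) (col3_10) (col3_11) (Nat.ble 11 c)
noncomputable def col3_s_9_12 (c : Nat) : Nat := @Bool.rec (fun _ => Nat) (col3_9) (col3_s_10_12 c) (Nat.ble 10 c)
noncomputable def col3_s_6_12 (c : Nat) : Nat := @Bool.rec (fun _ => Nat) (col3_s_6_9 c) (col3_s_9_12 c) (Nat.ble 9 c)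
noncomputable def col3_s_0_12 (c : Nat) : Nat := @Bool.rec (fun _ => Nat) (col3_s_0_6 c) (col3_s_6_12 c) (Nat.ble 6 c)
noncomputable def col3_s_13_15 (c : Nat) : Nat := @Bool.rec (fun _ => Nat) (col3_13) (col3_14) (Nat.ble 14 c)
noncomputable def col3_s_12_15 (c : Nat) : Nat := @Bool.rec (fun _ => Nat) (col3_12) (col3_s_13_15 c) (Nat.ble 13 c)
noncomputable def col3_s_16_18 (c : Nat) : Nat := @Bool.rec (fun _ => Nat) (col3_16) (col3_17) (Nat.ble 17 c)
noncomputable def col3_s_15_18 (c : Nat) : Nat := @Bool.rec (fun _ => Nat) (col3_15) (col3_s_16_18 c) (Nat.ble 16 c)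
noncomputable def col3_s_12_18 (c : Nat) : Nat := @Bool.rec (fun _ => Nat) (col3_s_12_15 c) (col3_s_15_18 c) (Nat.ble 15 c)
noncomputable def col3_s_19_21 (c : Nat) : Nat := @Bool.rec (fun _ => Nat) (col3_19) (col3_20) (Nat.ble 20 c)
noncomputable def col3_s_18_21 (c : Nat) : Nat := @Bool.rec (fun _ => Nat) (col3_18) (col3_s_19_21 c) (Nat.ble 19 c)
noncomputable def col3_s_21_23 (c : Nat) : Nat := @Bool.rec (fun _ => Nat) (col3_21) (col3_22) (Nat.ble 22 c)
noncomputable def col3_s_23_25 (c : Nat) : Nat := @Bool.rec (fun _ => Nat) (col3_23) (col3_24) (Nat.ble 24 c)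
noncomputable def col3_s_21_25 (c : Nat) : Nat := @Bool.rec (fun _ => Nat) (col3_s_21_23 c) (col3_s_23_25 c) (Nat.ble 23 c)
noncomputable def col3_s_18_25 (c : Nat) : Nat := @Bool.rec (fun _ => Nat) (col3_s_18_21 c) (col3_s_21_25 c) (Nat.ble 21 c)
noncomputable def col3_s_12_25 (c : Nat) : Nat := @Bool.rec (fun _ => Nat) (col3_s_12_18 c) (col3_s_18_25 c) (Nat.ble 18 c)
noncomputable def col3_s_0_25 (c : Nat) : Nat := @Bool.rec (fun _ => Nat) (col3_s_0_12 c) (col3_s_12_25 c) (Nat.ble 12 c)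
noncomputable def col3_s_26_28 (c : Nat) : Nat := @Bool.rec (fun _ => Nat) (col3_26) (col3_27) (Nat.ble 27 c)
noncomputable def col3_s_25_28 (c : Nat) : Nat := @Bool.rec (fun _ => Nat) (col3_25) (col3_s_26_28 c) (Nat.ble 26 c)
noncomputable def col3_s_29_31 (c : Nat) : Nat := @Bool.rec (fun _ => Nat) (col3_29) (col3_30) (Nat.ble 30 c)
noncomputable def col3_s_28_31 (c : Nat) : Nat := @Bool.rec (fun _ => Nat) (col3_28) (col3_s_29_31 c) (Nat.ble 29 c)
noncomputable def col3_s_25_31 (c : Nat) : Nat := @Bool.rec (fun _ => Nat) (col3_s_25_28 c) (col3_s_28_31 c) (Nat.ble 28 c)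
noncomputable def col3_s_32_34 (c : Nat) : Nat := @Bool.rec (fun _ => Nat) (col3_32) (col3_33) (Nat.ble 33 c)
noncomputable def col3_s_31_34 (c : Nat) : Nat := @Bool.rec (fun _ => Nat) (col3_31) (col3_s_32_34 c) (Nat.ble 32 c)
noncomputable def col3_s_34_36 (c : Nat) : Nat := @Bool.rec (fun _ => Nat) (col3_34) (col3_35) (Nat.ble 35 c)
noncomputable def col3_s_36_38 (c : Nat) : Nat := @Bool.rec (fun _ => Nat) (col3_36) (col3_37) (Nat.ble 37 c)
noncomputable def col3_s_34_38 (c : Nat) : Nat := @Bool.rec (fun _ => Nat) (col3_s_34_36 c) (col3_s_36_38 c) (Nat.ble 36 c)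
noncomputable def col3_s_31_38 (c : Nat) : Nat := @Bool.rec (fun _ => Nat) (col3_s_31_34 c) (col3_s_34_38 c) (Nat.ble 34 c)
noncomputable def col3_s_25_38 (c : Nat) : Nat := @Bool.rec (fun _ => Nat) (col3_s_25_31 c) (col3_s_31_38 c) (Nat.ble 31 c)
noncomputable def col3_s_39_41 (c : Nat) : Nat := @Bool.rec (fun _ => Nat) (col3_39) (col3_40) (Nat.ble 40 c)
noncomputable def col3_s_38_41 (c : Nat) : Nat := @Bool.rec (fun _ => Nat) (col3_38) (col3_s_39_41 c) (Nat.ble 39 c)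
noncomputable def col3_s_42_44 (c : Nat) : Nat := @Bool.rec (fun _ => Nat) (col3_42) (col3_43) (Nat.ble 43 c)
noncomputable def col3_s_41_44 (c : Nat) : Nat := @Bool.rec (fun _ => Nat) (col3_41) (col3_s_42_44 c) (Nat.ble 42 c)
noncomputable def col3_s_38_44 (c : Nat) : Nat := @Bool.rec (fun _ => Nat) (col3_s_38_41 c) (col3_s_41_44 c) (Nat.ble 41 c)
noncomputable def col3_s_45_47 (c : Nat) : Nat := @Bool.rec (fun _ => Nat) (col3_45) (col3_46) (Nat.ble 46 c)
noncomputable def col3_s_44_47 (c : Nat) : Nat := @Bool.rec (fun _ => Nat) (col3_44) (col3_s_45_47 c) (Nat.ble 45 c)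
noncomputable def col3_s_47_49 (c : Nat) : Nat := @Bool.rec (fun _ => Nat) (col3_47) (col3_48) (Nat.ble 48 c)
noncomputable def col3_s_49_51 (c : Nat) : Nat := @Bool.rec (fun _ => Nat) (col3_49) (col3_50) (Nat.ble 50 c)
noncomputable def col3_s_47_51 (c : Nat) : Nat := @Bool.rec (fun _ => Nat) (col3_s_47_49 c) (col3_s_49_51 c) (Nat.ble 49 c)
noncomputable def col3_s_44_51 (c : Nat) : Nat := @Bool.rec (fun _ => Nat) (col3_s_44_47 c) (col3_s_47_51 c) (Nat.ble 47 c)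
noncomputable def col3_s_38_51 (c : Nat) : Nat := @Bool.rec (fun _ => Nat) (col3_s_38_44 c) (col3_s_44_51 c) (Nat.ble 44 c)
noncomputable def col3_s_25_51 (c : Nat) : Nat := @Bool.rec (fun _ => Nat) (col3_s_25_38 c) (col3_s_38_51 c) (Nat.ble 38 c)
noncomputable def col3_s_0_51 (c : Nat) : Nat := @Bool.rec (fun _ => Nat) (col3_s_0_25 c) (col3_s_25_51 c) (Nat.ble 25 c)
noncomputable def col3 (i : Nat) : Nat := rdw 18 262143 (col3_s_0_51 (Nat.shiftRight i 12)) (Nat.land i 4095)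
noncomputable def finTab_s_1_3 (c : Nat) : Nat := @Bool.rec (fun _ => Nat) (finTab_1) (finTab_2) (Nat.ble 2 c)
noncomputable def finTab_s_0_3 (c : Nat) : Nat := @Bool.rec (fun _ => Nat) (finTab_0) (finTab_s_1_3 c) (Nat.ble 1 c)
noncomputable def finTab_s_4_6 (c : Nat) : Nat := @Bool.rec (fun _ => Nat) (finTab_4) (finTab_5) (Nat.ble 5 c)
noncomputable def finTab_s_3_6 (c : Nat) : Nat := @Bool.rec (fun _ => Nat) (finTab_3) (finTab_s_4_6 c) (Nat.ble 4 c)
noncomputable def finTab_s_0_6 (c : Nat) : Nat := @Bool.rec (fun _ => Nat) (finTab_s_0_3 c) (finTab_s_3_6 c) (Nat.ble 3 c)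
noncomputable def finTab_s_7_9 (c : Nat) : Nat := @Bool.rec (fun _ => Nat) (finTab_7) (finTab_8) (Nat.ble 8 c)
noncomputable def finTab_s_6_9 (c : Nat) : Nat := @Bool.rec (fun _ => Nat) (finTab_6) (finTab_s_7_9 c) (Nat.ble 7 c)
noncomputable def finTab_s_10_12 (c : Nat) : Nat := @Bool.rec (fun _ => Nat) (finTab_10) (finTab_11) (Nat.ble 11 c)
noncomputable def finTab_s_9_12 (c : Nat) : Nat := @Bool.rec (fun _ => Nat) (finTab_9) (finTab_s_10_12 c) (Nat.ble 10 c)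
noncomputable def finTab_s_6_12 (c : Nat) : Nat := @Bool.rec (fun _ => Nat) (finTab_s_6_9 c) (finTab_s_9_12 c) (Nat.ble 9 c)
noncomputable def finTab_s_0_12 (c : Nat) : Nat := @Bool.rec (fun _ => Nat) (finTab_s_0_6 c) (finTab_s_6_12 c) (Nat.ble 6 c)
noncomputable def finTab_s_13_15 (c : Nat) : Nat := @Bool.rec (fun _ => Nat) (finTab_13) (finTab_14) (Nat.ble 14 c)
noncomputable def finTab_s_12_15 (c : Nat) : Nat := @Bool.rec (fun _ => Nat) (finTab_12) (finTab_s_13_15 c) (Nat.ble 13 c)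
noncomputable def finTab_s_16_18 (c : Nat) : Nat := @Bool.rec (fun _ => Nat) (finTab_16) (finTab_17) (Nat.ble 17 c)
noncomputable def finTab_s_15_18 (c : Nat) : Nat := @Bool.rec (fun _ => Nat) (finTab_15) (finTab_s_16_18 c) (Nat.ble 16 c)
noncomputable def finTab_s_12_18 (c : Nat) : Nat := @Bool.rec (fun _ => Nat) (finTab_s_12_15 c) (finTab_s_15_18 c) (Nat.ble 15 c)
noncomputable def finTab_s_19_21 (c : Nat) : Nat := @Bool.rec (fun _ => Nat) (finTab_19) (finTab_20) (Nat.ble 20 c)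
noncomputable def finTab_s_18_21 (c : Nat) : Nat := @Bool.rec (fun _ => Nat) (finTab_18) (finTab_s_19_21 c) (Nat.ble 19 c)
noncomputable def finTab_s_21_23 (c : Nat) : Nat := @Bool.rec (fun _ => Nat) (finTab_21) (finTab_22) (Nat.ble 22 c)
noncomputable def finTab_s_23_25 (c : Nat) : Nat := @Bool.rec (fun _ => Nat) (finTab_23) (finTab_24) (Nat.ble 24 c)
noncomputable def finTab_s_21_25 (c : Nat) : Nat := @Bool.rec (fun _ => Nat) (finTab_s_21_23 c) (finTab_s_23_25 c) (Nat.ble 23 c)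
noncomputable def finTab_s_18_25 (c : Nat) : Nat := @Bool.rec (fun _ => Nat) (finTab_s_18_21 c) (finTab_s_21_25 c) (Nat.ble 21 c)
noncomputable def finTab_s_12_25 (c : Nat) : Nat := @Bool.rec (fun _ => Nat) (finTab_s_12_18 c) (finTab_s_18_25 c) (Nat.ble 18 c)
noncomputable def finTab_s_0_25 (c : Nat) : Nat := @Bool.rec (fun _ => Nat) (finTab_s_0_12 c) (finTab_s_12_25 c) (Nat.ble 12 c)
noncomputable def finTab_s_26_28 (c : Nat) : Nat := @Bool.rec (fun _ => Nat) (finTab_26) (finTab_27) (Nat.ble 27 c)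
noncomputable def finTab_s_25_28 (c : Nat) : Nat := @Bool.rec (fun _ => Nat) (finTab_25) (finTab_s_26_28 c) (Nat.ble 26 c)
noncomputable def finTab_s_29_31 (c : Nat) : Nat := @Bool.rec (fun _ => Nat) (finTab_29) (finTab_30) (Nat.ble 30 c)
noncomputable def finTab_s_28_31 (c : Nat) : Nat := @Bool.rec (fun _ => Nat) (finTab_28) (finTab_s_29_31 c) (Nat.ble 29 c)
noncomputable def finTab_s_25_31 (c : Nat) : Nat := @Bool.rec (fun _ => Nat) (finTab_s_25_28 c) (finTab_s_28_31 c) (Nat.ble 28 c)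
noncomputable def finTab_s_32_34 (c : Nat) : Nat := @Bool.rec (fun _ => Nat) (finTab_32) (finTab_33) (Nat.ble 33 c)
noncomputable def finTab_s_31_34 (c : Nat) : Nat := @Bool.rec (fun _ => Nat) (finTab_31) (finTab_s_32_34 c) (Nat.ble 32 c)
noncomputable def finTab_s_35_37 (c : Nat) : Nat := @Bool.rec (fun _ => Nat) (finTab_35) (finTab_36) (Nat.ble 36 c)
noncomputable def finTab_s_34_37 (c : Nat) : Nat := @Bool.rec (fun _ => Nat) (finTab_34) (finTab_s_35_37 c) (Nat.ble 35 c)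
noncomputable def finTab_s_31_37 (c : Nat) : Nat := @Bool.rec (fun _ => Nat) (finTab_s_31_34 c) (finTab_s_34_37 c) (Nat.ble 34 c)
noncomputable def finTab_s_25_37 (c : Nat) : Nat := @Bool.rec (fun _ => Nat) (finTab_s_25_31 c) (finTab_s_31_37 c) (Nat.ble 31 c)
noncomputable def finTab_s_38_40 (c : Nat) : Nat := @Bool.rec (fun _ => Nat) (finTab_38) (finTab_39) (Nat.ble 39 c)
noncomputable def finTab_s_37_40 (c : Nat) : Nat := @Bool.rec (fun _ => Nat) (finTab_37) (finTab_s_38_40 c) (Nat.ble 38 c)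
noncomputable def finTab_s_41_43 (c : Nat) : Nat := @Bool.rec (fun _ => Nat) (finTab_41) (finTab_42) (Nat.ble 42 c)
noncomputable def finTab_s_40_43 (c : Nat) : Nat := @Bool.rec (fun _ => Nat) (finTab_40) (finTab_s_41_43 c) (Nat.ble 41 c)
noncomputable def finTab_s_37_43 (c : Nat) : Nat := @Bool.rec (fun _ => Nat) (finTab_s_37_40 c) (finTab_s_40_43 c) (Nat.ble 40 c)
noncomputable def finTab_s_44_46 (c : Nat) : Nat := @Bool.rec (fun _ => Nat) (finTab_44) (finTab_45) (Nat.ble 45 c)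
noncomputable def finTab_s_43_46 (c : Nat) : Nat := @Bool.rec (fun _ => Nat) (finTab_43) (finTab_s_44_46 c) (Nat.ble 44 c)
noncomputable def finTab_s_46_48 (c : Nat) : Nat := @Bool.rec (fun _ => Nat) (finTab_46) (finTab_47) (Nat.ble 47 c)
noncomputable def finTab_s_48_50 (c : Nat) : Nat := @Bool.rec (fun _ => Nat) (finTab_48) (finTab_49) (Nat.ble 49 c)
noncomputable def finTab_s_46_50 (c : Nat) : Nat := @Bool.rec (fun _ => Nat) (finTab_s_46_48 c) (finTab_s_48_50 c) (Nat.ble 48 c)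
noncomputable def finTab_s_43_50 (c : Nat) : Nat := @Bool.rec (fun _ => Nat) (finTab_s_43_46 c) (finTab_s_46_50 c) (Nat.ble 46 c)
noncomputable def finTab_s_37_50 (c : Nat) : Nat := @Bool.rec (fun _ => Nat) (finTab_s_37_43 c) (finTab_s_43_50 c) (Nat.ble 43 c)
noncomputable def finTab_s_25_50 (c : Nat) : Nat := @Bool.rec (fun _ => Nat) (finTab_s_25_37 c) (finTab_s_37_50 c) (Nat.ble 37 c)
noncomputable def finTab_s_0_50 (c : Nat) : Nat := @Bool.rec (fun _ => Nat) (finTab_s_0_25 c) (finTab_s_25_50 c) (Nat.ble 25 c)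
noncomputable def finTab_s_51_53 (c : Nat) : Nat := @Bool.rec (fun _ => Nat) (finTab_51) (finTab_52) (Nat.ble 52 c)
noncomputable def finTab_s_50_53 (c : Nat) : Nat := @Bool.rec (fun _ => Nat) (finTab_50) (finTab_s_51_53 c) (Nat.ble 51 c)
noncomputable def finTab_s_54_56 (c : Nat) : Nat := @Bool.rec (fun _ => Nat) (finTab_54) (finTab_55) (Nat.ble 55 c)
noncomputable def finTab_s_53_56 (c : Nat) : Nat := @Bool.rec (fun _ => Nat) (finTab_53) (finTab_s_54_56 c) (Nat.ble 54 c)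
noncomputable def finTab_s_50_56 (c : Nat) : Nat := @Bool.rec (fun _ => Nat) (finTab_s_50_53 c) (finTab_s_53_56 c) (Nat.ble 53 c)
noncomputable def finTab_s_57_59 (c : Nat) : Nat := @Bool.rec (fun _ => Nat) (finTab_57) (finTab_58) (Nat.ble 58 c)
noncomputable def finTab_s_56_59 (c : Nat) : Nat := @Bool.rec (fun _ => Nat) (finTab_56) (finTab_s_57_59 c) (Nat.ble 57 c)
noncomputable def finTab_s_60_62 (c : Nat) : Nat := @Bool.rec (fun _ => Nat) (finTab_60) (finTab_61) (Nat.ble 61 c)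
noncomputable def finTab_s_59_62 (c : Nat) : Nat := @Bool.rec (fun _ => Nat) (finTab_59) (finTab_s_60_62 c) (Nat.ble 60 c)
noncomputable def finTab_s_56_62 (c : Nat) : Nat := @Bool.rec (fun _ => Nat) (finTab_s_56_59 c) (finTab_s_59_62 c) (Nat.ble 59 c)
noncomputable def finTab_s_50_62 (c : Nat) : Nat := @Bool.rec (fun _ => Nat) (finTab_s_50_56 c) (finTab_s_56_62 c) (Nat.ble 56 c)
noncomputable def finTab_s_63_65 (c : Nat) : Nat := @Bool.rec (fun _ => Nat) (finTab_63) (finTab_64) (Nat.ble 64 c)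
noncomputable def finTab_s_62_65 (c : Nat) : Nat := @Bool.rec (fun _ => Nat) (finTab_62) (finTab_s_63_65 c) (Nat.ble 63 c)
noncomputable def finTab_s_66_68 (c : Nat) : Nat := @Bool.rec (fun _ => Nat) (finTab_66) (finTab_67) (Nat.ble 67 c)
noncomputable def finTab_s_65_68 (c : Nat) : Nat := @Bool.rec (fun _ => Nat) (finTab_65) (finTab_s_66_68 c) (Nat.ble 66 c)
noncomputable def finTab_s_62_68 (c : Nat) : Nat := @Bool.rec (fun _ => Nat) (finTab_s_62_65 c) (finTab_s_65_68 c) (Nat.ble 65 c)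
noncomputable def finTab_s_69_71 (c : Nat) : Nat := @Bool.rec (fun _ => Nat) (finTab_69) (finTab_70) (Nat.ble 70 c)
noncomputable def finTab_s_68_71 (c : Nat) : Nat := @Bool.rec (fun _ => Nat) (finTab_68) (finTab_s_69_71 c) (Nat.ble 69 c)
noncomputable def finTab_s_71_73 (c : Nat) : Nat := @Bool.rec (fun _ => Nat) (finTab_71) (finTab_72) (Nat.ble 72 c)
noncomputable def finTab_s_73_75 (c : Nat) : Nat := @Bool.rec (fun _ => Nat) (finTab_73) (finTab_74) (Nat.ble 74 c)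
noncomputable def finTab_s_71_75 (c : Nat) : Nat := @Bool.rec (fun _ => Nat) (finTab_s_71_73 c) (finTab_s_73_75 c) (Nat.ble 73 c)
noncomputable def finTab_s_68_75 (c : Nat) : Nat := @Bool.rec (fun _ => Nat) (finTab_s_68_71 c) (finTab_s_71_75 c) (Nat.ble 71 c)
noncomputable def finTab_s_62_75 (c : Nat) : Nat := @Bool.rec (fun _ => Nat) (finTab_s_62_68 c) (finTab_s_68_75 c) (Nat.ble 68 c)
noncomputable def finTab_s_50_75 (c : Nat) : Nat := @Bool.rec (fun _ => Nat) (finTab_s_50_62 c) (finTab_s_62_75 c) (Nat.ble 62 c)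
noncomputable def finTab_s_76_78 (c : Nat) : Nat := @Bool.rec (fun _ => Nat) (finTab_76) (finTab_77) (Nat.ble 77 c)
noncomputable def finTab_s_75_78 (c : Nat) : Nat := @Bool.rec (fun _ => Nat) (finTab_75) (finTab_s_76_78 c) (Nat.ble 76 c)
noncomputable def finTab_s_79_81 (c : Nat) : Nat := @Bool.rec (fun _ => Nat) (finTab_79) (finTab_80) (Nat.ble 80 c)
noncomputable def finTab_s_78_81 (c : Nat) : Nat := @Bool.rec (fun _ => Nat) (finTab_78) (finTab_s_79_81 c) (Nat.ble 79 c)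
noncomputable def finTab_s_75_81 (c : Nat) : Nat := @Bool.rec (fun _ => Nat) (finTab_s_75_78 c) (finTab_s_78_81 c) (Nat.ble 78 c)
noncomputable def finTab_s_82_84 (c : Nat) : Nat := @Bool.rec (fun _ => Nat) (finTab_82) (finTab_83) (Nat.ble 83 c)
noncomputable def finTab_s_81_84 (c : Nat) : Nat := @Bool.rec (fun _ => Nat) (finTab_81) (finTab_s_82_84 c) (Nat.ble 82 c)
noncomputable def finTab_s_84_86 (c : Nat) : Nat := @Bool.rec (fun _ => Nat) (finTab_84) (finTab_85) (Nat.ble 85 c)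
noncomputable def finTab_s_86_88 (c : Nat) : Nat := @Bool.rec (fun _ => Nat) (finTab_86) (finTab_87) (Nat.ble 87 c)
noncomputable def finTab_s_84_88 (c : Nat) : Nat := @Bool.rec (fun _ => Nat) (finTab_s_84_86 c) (finTab_s_86_88 c) (Nat.ble 86 c)
noncomputable def finTab_s_81_88 (c : Nat) : Nat := @Bool.rec (fun _ => Nat) (finTab_s_81_84 c) (finTab_s_84_88 c) (Nat.ble 84 c)
noncomputable def finTab_s_75_88 (c : Nat) : Nat := @Bool.rec (fun _ => Nat) (finTab_s_75_81 c) (finTab_s_81_88 c) (Nat.ble 81 c)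
noncomputable def finTab_s_89_91 (c : Nat) : Nat := @Bool.rec (fun _ => Nat) (finTab_89) (finTab_90) (Nat.ble 90 c)
noncomputable def finTab_s_88_91 (c : Nat) : Nat := @Bool.rec (fun _ => Nat) (finTab_88) (finTab_s_89_91 c) (Nat.ble 89 c)
noncomputable def finTab_s_92_94 (c : Nat) : Nat := @Bool.rec (fun _ => Nat) (finTab_92) (finTab_93) (Nat.ble 93 c)
noncomputable def finTab_s_91_94 (c : Nat) : Nat := @Bool.rec (fun _ => Nat) (finTab_91) (finTab_s_92_94 c) (Nat.ble 92 c)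
noncomputable def finTab_s_88_94 (c : Nat) : Nat := @Bool.rec (fun _ => Nat) (finTab_s_88_91 c) (finTab_s_91_94 c) (Nat.ble 91 c)
noncomputable def finTab_s_95_97 (c : Nat) : Nat := @Bool.rec (fun _ => Nat) (finTab_95) (finTab_96) (Nat.ble 96 c)
noncomputable def finTab_s_94_97 (c : Nat) : Nat := @Bool.rec (fun _ => Nat) (finTab_94) (finTab_s_95_97 c) (Nat.ble 95 c)
noncomputable def finTab_s_97_99 (c : Nat) : Nat := @Bool.rec (fun _ => Nat) (finTab_97) (finTab_98) (Nat.ble 98 c)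
noncomputable def finTab_s_99_101 (c : Nat) : Nat := @Bool.rec (fun _ => Nat) (finTab_99) (finTab_100) (Nat.ble 100 c)
noncomputable def finTab_s_97_101 (c : Nat) : Nat := @Bool.rec (fun _ => Nat) (finTab_s_97_99 c) (finTab_s_99_101 c) (Nat.ble 99 c)
noncomputable def finTab_s_94_101 (c : Nat) : Nat := @Bool.rec (fun _ => Nat) (finTab_s_94_97 c) (finTab_s_97_101 c) (Nat.ble 97 c)
noncomputable def finTab_s_88_101 (c : Nat) : Nat := @Bool.rec (fun _ => Nat) (finTab_s_88_94 c) (finTab_s_94_101 c) (Nat.ble 94 c)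
noncomputable def finTab_s_75_101 (c : Nat) : Nat := @Bool.rec (fun _ => Nat) (finTab_s_75_88 c) (finTab_s_88_101 c) (Nat.ble 88 c)
noncomputable def finTab_s_50_101 (c : Nat) : Nat := @Bool.rec (fun _ => Nat) (finTab_s_50_75 c) (finTab_s_75_101 c) (Nat.ble 75 c)
noncomputable def finTab_s_0_101 (c : Nat) : Nat := @Bool.rec (fun _ => Nat) (finTab_s_0_50 c) (finTab_s_50_101 c) (Nat.ble 50 c)
noncomputable def finTab_s_102_104 (c : Nat) : Nat := @Bool.rec (fun _ => Nat) (finTab_102) (finTab_103) (Nat.ble 103 c)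
noncomputable def finTab_s_101_104 (c : Nat) : Nat := @Bool.rec (fun _ => Nat) (finTab_101) (finTab_s_102_104 c) (Nat.ble 102 c)
noncomputable def finTab_s_105_107 (c : Nat) : Nat := @Bool.rec (fun _ => Nat) (finTab_105) (finTab_106) (Nat.ble 106 c)
noncomputable def finTab_s_104_107 (c : Nat) : Nat := @Bool.rec (fun _ => Nat) (finTab_104) (finTab_s_105_107 c) (Nat.ble 105 c)
noncomputable def finTab_s_101_107 (c : Nat) : Nat := @Bool.rec (fun _ => Nat) (finTab_s_101_104 c) (finTab_s_104_107 c) (Nat.ble 104 c)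
noncomputable def finTab_s_108_110 (c : Nat) : Nat := @Bool.rec (fun _ => Nat) (finTab_108) (finTab_109) (Nat.ble 109 c)
noncomputable def finTab_s_107_110 (c : Nat) : Nat := @Bool.rec (fun _ => Nat) (finTab_107) (finTab_s_108_110 c) (Nat.ble 108 c)
noncomputable def finTab_s_111_113 (c : Nat) : Nat := @Bool.rec (fun _ => Nat) (finTab_111) (finTab_112) (Nat.ble 112 c)
noncomputable def finTab_s_110_113 (c : Nat) : Nat := @Bool.rec (fun _ => Nat) (finTab_110) (finTab_s_111_113 c) (Nat.ble 111 c)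
noncomputable def finTab_s_107_113 (c : Nat) : Nat := @Bool.rec (fun _ => Nat) (finTab_s_107_110 c) (finTab_s_110_113 c) (Nat.ble 110 c)
noncomputable def finTab_s_101_113 (c : Nat) : Nat := @Bool.rec (fun _ => Nat) (finTab_s_101_107 c) (finTab_s_107_113 c) (Nat.ble 107 c)
noncomputable def finTab_s_114_116 (c : Nat) : Nat := @Bool.rec (fun _ => Nat) (finTab_114) (finTab_115) (Nat.ble 115 c)
noncomputable def finTab_s_113_116 (c : Nat) : Nat := @Bool.rec (fun _ => Nat) (finTab_113) (finTab_s_114_116 c) (Nat.ble 114 c)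
noncomputable def finTab_s_117_119 (c : Nat) : Nat := @Bool.rec (fun _ => Nat) (finTab_117) (finTab_118) (Nat.ble 118 c)
noncomputable def finTab_s_116_119 (c : Nat) : Nat := @Bool.rec (fun _ => Nat) (finTab_116) (finTab_s_117_119 c) (Nat.ble 117 c)
noncomputable def finTab_s_113_119 (c : Nat) : Nat := @Bool.rec (fun _ => Nat) (finTab_s_113_116 c) (finTab_s_116_119 c) (Nat.ble 116 c)
noncomputable def finTab_s_120_122 (c : Nat) : Nat := @Bool.rec (fun _ => Nat) (finTab_120) (finTab_121) (Nat.ble 121 c)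
noncomputable def finTab_s_119_122 (c : Nat) : Nat := @Bool.rec (fun _ => Nat) (finTab_119) (finTab_s_120_122 c) (Nat.ble 120 c)
noncomputable def finTab_s_122_124 (c : Nat) : Nat := @Bool.rec (fun _ => Nat) (finTab_122) (finTab_123) (Nat.ble 123 c)
noncomputable def finTab_s_124_126 (c : Nat) : Nat := @Bool.rec (fun _ => Nat) (finTab_124) (finTab_125) (Nat.ble 125 c)
noncomputable def finTab_s_122_126 (c : Nat) : Nat := @Bool.rec (fun _ => Nat) (finTab_s_122_124 c) (finTab_s_124_126 c) (Nat.ble 124 c)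
noncomputable def finTab_s_119_126 (c : Nat) : Nat := @Bool.rec (fun _ => Nat) (finTab_s_119_122 c) (finTab_s_122_126 c) (Nat.ble 122 c)
noncomputable def finTab_s_113_126 (c : Nat) : Nat := @Bool.rec (fun _ => Nat) (finTab_s_113_119 c) (finTab_s_119_126 c) (Nat.ble 119 c)
noncomputable def finTab_s_101_126 (c : Nat) : Nat := @Bool.rec (fun _ => Nat) (finTab_s_101_113 c) (finTab_s_113_126 c) (Nat.ble 113 c)
noncomputable def finTab_s_127_129 (c : Nat) : Nat := @Bool.rec (fun _ => Nat) (finTab_127) (finTab_128) (Nat.ble 128 c)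
noncomputable def finTab_s_126_129 (c : Nat) : Nat := @Bool.rec (fun _ => Nat) (finTab_126) (finTab_s_127_129 c) (Nat.ble 127 c)
noncomputable def finTab_s_130_132 (c : Nat) : Nat := @Bool.rec (fun _ => Nat) (finTab_130) (finTab_131) (Nat.ble 131 c)
noncomputable def finTab_s_129_132 (c : Nat) : Nat := @Bool.rec (fun _ => Nat) (finTab_129) (finTab_s_130_132 c) (Nat.ble 130 c)
noncomputable def finTab_s_126_132 (c : Nat) : Nat := @Bool.rec (fun _ => Nat) (finTab_s_126_129 c) (finTab_s_129_132 c) (Nat.ble 129 c)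
noncomputable def finTab_s_133_135 (c : Nat) : Nat := @Bool.rec (fun _ => Nat) (finTab_133) (finTab_134) (Nat.ble 134 c)
noncomputable def finTab_s_132_135 (c : Nat) : Nat := @Bool.rec (fun _ => Nat) (finTab_132) (finTab_s_133_135 c) (Nat.ble 133 c)
noncomputable def finTab_s_135_137 (c : Nat) : Nat := @Bool.rec (fun _ => Nat) (finTab_135) (finTab_136) (Nat.ble 136 c)
noncomputable def finTab_s_137_139 (c : Nat) : Nat := @Bool.rec (fun _ => Nat) (finTab_137) (finTab_138) (Nat.ble 138 c)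
noncomputable def finTab_s_135_139 (c : Nat) : Nat := @Bool.rec (fun _ => Nat) (finTab_s_135_137 c) (finTab_s_137_139 c) (Nat.ble 137 c)
noncomputable def finTab_s_132_139 (c : Nat) : Nat := @Bool.rec (fun _ => Nat) (finTab_s_132_135 c) (finTab_s_135_139 c) (Nat.ble 135 c)
noncomputable def finTab_s_126_139 (c : Nat) : Nat := @Bool.rec (fun _ => Nat) (finTab_s_126_132 c) (finTab_s_132_139 c) (Nat.ble 132 c)
noncomputable def finTab_s_140_142 (c : Nat) : Nat := @Bool.rec (fun _ => Nat) (finTab_140) (finTab_141) (Nat.ble 141 c)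
noncomputable def finTab_s_139_142 (c : Nat) : Nat := @Bool.rec (fun _ => Nat) (finTab_139) (finTab_s_140_142 c) (Nat.ble 140 c)
noncomputable def finTab_s_143_145 (c : Nat) : Nat := @Bool.rec (fun _ => Nat) (finTab_143) (finTab_144) (Nat.ble 144 c)
noncomputable def finTab_s_142_145 (c : Nat) : Nat := @Bool.rec (fun _ => Nat) (finTab_142) (finTab_s_143_145 c) (Nat.ble 143 c)
noncomputable def finTab_s_139_145 (c : Nat) : Nat := @Bool.rec (fun _ => Nat) (finTab_s_139_142 c) (finTab_s_142_145 c) (Nat.ble 142 c)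
noncomputable def finTab_s_146_148 (c : Nat) : Nat := @Bool.rec (fun _ => Nat) (finTab_146) (finTab_147) (Nat.ble 147 c)
noncomputable def finTab_s_145_148 (c : Nat) : Nat := @Bool.rec (fun _ => Nat) (finTab_145) (finTab_s_146_148 c) (Nat.ble 146 c)
noncomputable def finTab_s_148_150 (c : Nat) : Nat := @Bool.rec (fun _ => Nat) (finTab_148) (finTab_149) (Nat.ble 149 c)
noncomputable def finTab_s_150_152 (c : Nat) : Nat := @Bool.rec (fun _ => Nat) (finTab_150) (finTab_151) (Nat.ble 151 c)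
noncomputable def finTab_s_148_152 (c : Nat) : Nat := @Bool.rec (fun _ => Nat) (finTab_s_148_150 c) (finTab_s_150_152 c) (Nat.ble 150 c)
noncomputable def finTab_s_145_152 (c : Nat) : Nat := @Bool.rec (fun _ => Nat) (finTab_s_145_148 c) (finTab_s_148_152 c) (Nat.ble 148 c)
noncomputable def finTab_s_139_152 (c : Nat) : Nat := @Bool.rec (fun _ => Nat) (finTab_s_139_145 c) (finTab_s_145_152 c) (Nat.ble 145 c)
noncomputable def finTab_s_126_152 (c : Nat) : Nat := @Bool.rec (fun _ => Nat) (finTab_s_126_139 c) (finTab_s_139_152 c) (Nat.ble 139 c)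
noncomputable def finTab_s_101_152 (c : Nat) : Nat := @Bool.rec (fun _ => Nat) (finTab_s_101_126 c) (finTab_s_126_152 c) (Nat.ble 126 c)
noncomputable def finTab_s_153_155 (c : Nat) : Nat := @Bool.rec (fun _ => Nat) (finTab_153) (finTab_154) (Nat.ble 154 c)
noncomputable def finTab_s_152_155 (c : Nat) : Nat := @Bool.rec (fun _ => Nat) (finTab_152) (finTab_s_153_155 c) (Nat.ble 153 c)
noncomputable def finTab_s_156_158 (c : Nat) : Nat := @Bool.rec (fun _ => Nat) (finTab_156) (finTab_157) (Nat.ble 157 c)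
noncomputable def finTab_s_155_158 (c : Nat) : Nat := @Bool.rec (fun _ => Nat) (finTab_155) (finTab_s_156_158 c) (Nat.ble 156 c)
noncomputable def finTab_s_152_158 (c : Nat) : Nat := @Bool.rec (fun _ => Nat) (finTab_s_152_155 c) (finTab_s_155_158 c) (Nat.ble 155 c)
noncomputable def finTab_s_159_161 (c : Nat) : Nat := @Bool.rec (fun _ => Nat) (finTab_159) (finTab_160) (Nat.ble 160 c)
noncomputable def finTab_s_158_161 (c : Nat) : Nat := @Bool.rec (fun _ => Nat) (finTab_158) (finTab_s_159_161 c) (Nat.ble 159 c)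
noncomputable def finTab_s_162_164 (c : Nat) : Nat := @Bool.rec (fun _ => Nat) (finTab_162) (finTab_163) (Nat.ble 163 c)
noncomputable def finTab_s_161_164 (c : Nat) : Nat := @Bool.rec (fun _ => Nat) (finTab_161) (finTab_s_162_164 c) (Nat.ble 162 c)
noncomputable def finTab_s_158_164 (c : Nat) : Nat := @Bool.rec (fun _ => Nat) (finTab_s_158_161 c) (finTab_s_161_164 c) (Nat.ble 161 c)
noncomputable def finTab_s_152_164 (c : Nat) : Nat := @Bool.rec (fun _ => Nat) (finTab_s_152_158 c) (finTab_s_158_164 c) (Nat.ble 158 c)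
noncomputable def finTab_s_165_167 (c : Nat) : Nat := @Bool.rec (fun _ => Nat) (finTab_165) (finTab_166) (Nat.ble 166 c)
noncomputable def finTab_s_164_167 (c : Nat) : Nat := @Bool.rec (fun _ => Nat) (finTab_164) (finTab_s_165_167 c) (Nat.ble 165 c)
noncomputable def finTab_s_168_170 (c : Nat) : Nat := @Bool.rec (fun _ => Nat) (finTab_168) (finTab_169) (Nat.ble 169 c)
noncomputable def finTab_s_167_170 (c : Nat) : Nat := @Bool.rec (fun _ => Nat) (finTab_167) (finTab_s_168_170 c) (Nat.ble 168 c)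
noncomputable def finTab_s_164_170 (c : Nat) : Nat := @Bool.rec (fun _ => Nat) (finTab_s_164_167 c) (finTab_s_167_170 c) (Nat.ble 167 c)
noncomputable def finTab_s_171_173 (c : Nat) : Nat := @Bool.rec (fun _ => Nat) (finTab_171) (finTab_172) (Nat.ble 172 c)
noncomputable def finTab_s_170_173 (c : Nat) : Nat := @Bool.rec (fun _ => Nat) (finTab_170) (finTab_s_171_173 c) (Nat.ble 171 c)
noncomputable def finTab_s_173_175 (c : Nat) : Nat := @Bool.rec (fun _ => Nat) (finTab_173) (finTab_174) (Nat.ble 174 c)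
noncomputable def finTab_s_175_177 (c : Nat) : Nat := @Bool.rec (fun _ => Nat) (finTab_175) (finTab_176) (Nat.ble 176 c)
noncomputable def finTab_s_173_177 (c : Nat) : Nat := @Bool.rec (fun _ => Nat) (finTab_s_173_175 c) (finTab_s_175_177 c) (Nat.ble 175 c)
noncomputable def finTab_s_170_177 (c : Nat) : Nat := @Bool.rec (fun _ => Nat) (finTab_s_170_173 c) (finTab_s_173_177 c) (Nat.ble 173 c)
noncomputable def finTab_s_164_177 (c : Nat) : Nat := @Bool.rec (fun _ => Nat) (finTab_s_164_170 c) (finTab_s_170_177 c) (Nat.ble 170 c)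
noncomputable def finTab_s_152_177 (c : Nat) : Nat := @Bool.rec (fun _ => Nat) (finTab_s_152_164 c) (finTab_s_164_177 c) (Nat.ble 164 c)
noncomputable def finTab_s_178_180 (c : Nat) : Nat := @Bool.rec (fun _ => Nat) (finTab_178) (finTab_179) (Nat.ble 179 c)
noncomputable def finTab_s_177_180 (c : Nat) : Nat := @Bool.rec (fun _ => Nat) (finTab_177) (finTab_s_178_180 c) (Nat.ble 178 c)
noncomputable def finTab_s_181_183 (c : Nat) : Nat := @Bool.rec (fun _ => Nat) (finTab_181) (finTab_182) (Nat.ble 182 c)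
noncomputable def finTab_s_180_183 (c : Nat) : Nat := @Bool.rec (fun _ => Nat) (finTab_180) (finTab_s_181_183 c) (Nat.ble 181 c)
noncomputable def finTab_s_177_183 (c : Nat) : Nat := @Bool.rec (fun _ => Nat) (finTab_s_177_180 c) (finTab_s_180_183 c) (Nat.ble 180 c)
noncomputable def finTab_s_184_186 (c : Nat) : Nat := @Bool.rec (fun _ => Nat) (finTab_184) (finTab_185) (Nat.ble 185 c)
noncomputable def finTab_s_183_186 (c : Nat) : Nat := @Bool.rec (fun _ => Nat) (finTab_183) (finTab_s_184_186 c) (Nat.ble 184 c)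
noncomputable def finTab_s_186_188 (c : Nat) : Nat := @Bool.rec (fun _ => Nat) (finTab_186) (finTab_187) (Nat.ble 187 c)
noncomputable def finTab_s_188_190 (c : Nat) : Nat := @Bool.rec (fun _ => Nat) (finTab_188) (finTab_189) (Nat.ble 189 c)
noncomputable def finTab_s_186_190 (c : Nat) : Nat := @Bool.rec (fun _ => Nat) (finTab_s_186_188 c) (finTab_s_188_190 c) (Nat.ble 188 c)
noncomputable def finTab_s_183_190 (c : Nat) : Nat := @Bool.rec (fun _ => Nat) (finTab_s_183_186 c) (finTab_s_186_190 c) (Nat.ble 186 c)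
noncomputable def finTab_s_177_190 (c : Nat) : Nat := @Bool.rec (fun _ => Nat) (finTab_s_177_183 c) (finTab_s_183_190 c) (Nat.ble 183 c)
noncomputable def finTab_s_191_193 (c : Nat) : Nat := @Bool.rec (fun _ => Nat) (finTab_191) (finTab_192) (Nat.ble 192 c)
noncomputable def finTab_s_190_193 (c : Nat) : Nat := @Bool.rec (fun _ => Nat) (finTab_190) (finTab_s_191_193 c) (Nat.ble 191 c)
noncomputable def finTab_s_194_196 (c : Nat) : Nat := @Bool.rec (fun _ => Nat) (finTab_194) (finTab_195) (Nat.ble 195 c)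
noncomputable def finTab_s_193_196 (c : Nat) : Nat := @Bool.rec (fun _ => Nat) (finTab_193) (finTab_s_194_196 c) (Nat.ble 194 c)
noncomputable def finTab_s_190_196 (c : Nat) : Nat := @Bool.rec (fun _ => Nat) (finTab_s_190_193 c) (finTab_s_193_196 c) (Nat.ble 193 c)
noncomputable def finTab_s_197_199 (c : Nat) : Nat := @Bool.rec (fun _ => Nat) (finTab_197) (finTab_198) (Nat.ble 198 c)
noncomputable def finTab_s_196_199 (c : Nat) : Nat := @Bool.rec (fun _ => Nat) (finTab_196) (finTab_s_197_199 c) (Nat.ble 197 c)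
noncomputable def finTab_s_199_201 (c : Nat) : Nat := @Bool.rec (fun _ => Nat) (finTab_199) (finTab_200) (Nat.ble 200 c)
noncomputable def finTab_s_201_203 (c : Nat) : Nat := @Bool.rec (fun _ => Nat) (finTab_201) (finTab_202) (Nat.ble 202 c)
noncomputable def finTab_s_199_203 (c : Nat) : Nat := @Bool.rec (fun _ => Nat) (finTab_s_199_201 c) (finTab_s_201_203 c) (Nat.ble 201 c)
noncomputable def finTab_s_196_203 (c : Nat) : Nat := @Bool.rec (fun _ => Nat) (finTab_s_196_199 c) (finTab_s_199_203 c) (Nat.ble 199 c)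
noncomputable def finTab_s_190_203 (c : Nat) : Nat := @Bool.rec (fun _ => Nat) (finTab_s_190_196 c) (finTab_s_196_203 c) (Nat.ble 196 c)
noncomputable def finTab_s_177_203 (c : Nat) : Nat := @Bool.rec (fun _ => Nat) (finTab_s_177_190 c) (finTab_s_190_203 c) (Nat.ble 190 c)
noncomputable def finTab_s_152_203 (c : Nat) : Nat := @Bool.rec (fun _ => Nat) (finTab_s_152_177 c) (finTab_s_177_203 c) (Nat.ble 177 c)
noncomputable def finTab_s_101_203 (c : Nat) : Nat := @Bool.rec (fun _ => Nat) (finTab_s_101_152 c) (finTab_s_152_203 c) (Nat.ble 152 c)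
noncomputable def finTab_s_0_203 (c : Nat) : Nat := @Bool.rec (fun _ => Nat) (finTab_s_0_101 c) (finTab_s_101_203 c) (Nat.ble 101 c)
noncomputable def finTab (i : Nat) : Nat := rdw 22 4194303 (finTab_s_0_203 (Nat.shiftRight i 12)) (Nat.land i 4095)
noncomputable def clsTab_s_0_2 (c : Nat) : Nat := @Bool.rec (fun _ => Nat) (clsTab_0) (clsTab_1) (Nat.ble 1 c)
noncomputable def clsTab_s_2_4 (c : Nat) : Nat := @Bool.rec (fun _ => Nat) (clsTab_2) (clsTab_3) (Nat.ble 3 c)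
noncomputable def clsTab_s_0_4 (c : Nat) : Nat := @Bool.rec (fun _ => Nat) (clsTab_s_0_2 c) (clsTab_s_2_4 c) (Nat.ble 2 c)
noncomputable def clsTab_s_4_6 (c : Nat) : Nat := @Bool.rec (fun _ => Nat) (clsTab_4) (clsTab_5) (Nat.ble 5 c)
noncomputable def clsTab_s_7_9 (c : Nat) : Nat := @Bool.rec (fun _ => Nat) (clsTab_7) (clsTab_8) (Nat.ble 8 c)
noncomputable def clsTab_s_6_9 (c : Nat) : Nat := @Bool.rec (fun _ => Nat) (clsTab_6) (clsTab_s_7_9 c) (Nat.ble 7 c)
noncomputable def clsTab_s_4_9 (c : Nat) : Nat := @Bool.rec (fun _ => Nat) (clsTab_s_4_6 c) (clsTab_s_6_9 c) (Nat.ble 6 c)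
noncomputable def clsTab_s_0_9 (c : Nat) : Nat := @Bool.rec (fun _ => Nat) (clsTab_s_0_4 c) (clsTab_s_4_9 c) (Nat.ble 4 c)
noncomputable def clsTab_s_9_11 (c : Nat) : Nat := @Bool.rec (fun _ => Nat) (clsTab_9) (clsTab_10) (Nat.ble 10 c)
noncomputable def clsTab_s_11_13 (c : Nat) : Nat := @Bool.rec (fun _ => Nat) (clsTab_11) (clsTab_12) (Nat.ble 12 c)
noncomputable def clsTab_s_9_13 (c : Nat) : Nat := @Bool.rec (fun _ => Nat) (clsTab_s_9_11 c) (clsTab_s_11_13 c) (Nat.ble 11 c)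
noncomputable def clsTab_s_13_15 (c : Nat) : Nat := @Bool.rec (fun _ => Nat) (clsTab_13) (clsTab_14) (Nat.ble 14 c)
noncomputable def clsTab_s_16_18 (c : Nat) : Nat := @Bool.rec (fun _ => Nat) (clsTab_16) (clsTab_17) (Nat.ble 17 c)
noncomputable def clsTab_s_15_18 (c : Nat) : Nat := @Bool.rec (fun _ => Nat) (clsTab_15) (clsTab_s_16_18 c) (Nat.ble 16 c)
noncomputable def clsTab_s_13_18 (c : Nat) : Nat := @Bool.rec (fun _ => Nat) (clsTab_s_13_15 c) (clsTab_s_15_18 c) (Nat.ble 15 c)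
noncomputable def clsTab_s_9_18 (c : Nat) : Nat := @Bool.rec (fun _ => Nat) (clsTab_s_9_13 c) (clsTab_s_13_18 c) (Nat.ble 13 c)
noncomputable def clsTab_s_0_18 (c : Nat) : Nat := @Bool.rec (fun _ => Nat) (clsTab_s_0_9 c) (clsTab_s_9_18 c) (Nat.ble 9 c)
noncomputable def clsTab_s_18_20 (c : Nat) : Nat := @Bool.rec (fun _ => Nat) (clsTab_18) (clsTab_19) (Nat.ble 19 c)
noncomputable def clsTab_s_20_22 (c : Nat) : Nat := @Bool.rec (fun _ => Nat) (clsTab_20) (clsTab_21) (Nat.ble 21 c)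
noncomputable def clsTab_s_18_22 (c : Nat) : Nat := @Bool.rec (fun _ => Nat) (clsTab_s_18_20 c) (clsTab_s_20_22 c) (Nat.ble 20 c)
noncomputable def clsTab_s_22_24 (c : Nat) : Nat := @Bool.rec (fun _ => Nat) (clsTab_22) (clsTab_23) (Nat.ble 23 c)
noncomputable def clsTab_s_25_27 (c : Nat) : Nat := @Bool.rec (fun _ => Nat) (clsTab_25) (clsTab_26) (Nat.ble 26 c)
noncomputable def clsTab_s_24_27 (c : Nat) : Nat := @Bool.rec (fun _ => Nat) (clsTab_24) (clsTab_s_25_27 c) (Nat.ble 25 c)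
noncomputable def clsTab_s_22_27 (c : Nat) : Nat := @Bool.rec (fun _ => Nat) (clsTab_s_22_24 c) (clsTab_s_24_27 c) (Nat.ble 24 c)
noncomputable def clsTab_s_18_27 (c : Nat) : Nat := @Bool.rec (fun _ => Nat) (clsTab_s_18_22 c) (clsTab_s_22_27 c) (Nat.ble 22 c)
noncomputable def clsTab_s_27_29 (c : Nat) : Nat := @Bool.rec (fun _ => Nat) (clsTab_27) (clsTab_28) (Nat.ble 28 c)
noncomputable def clsTab_s_29_31 (c : Nat) : Nat := @Bool.rec (fun _ => Nat) (clsTab_29) (clsTab_30) (Nat.ble 30 c)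
noncomputable def clsTab_s_27_31 (c : Nat) : Nat := @Bool.rec (fun _ => Nat) (clsTab_s_27_29 c) (clsTab_s_29_31 c) (Nat.ble 29 c)
noncomputable def clsTab_s_31_33 (c : Nat) : Nat := @Bool.rec (fun _ => Nat) (clsTab_31) (clsTab_32) (Nat.ble 32 c)
noncomputable def clsTab_s_34_36 (c : Nat) : Nat := @Bool.rec (fun _ => Nat) (clsTab_34) (clsTab_35) (Nat.ble 35 c)
noncomputable def clsTab_s_33_36 (c : Nat) : Nat := @Bool.rec (fun _ => Nat) (clsTab_33) (clsTab_s_34_36 c) (Nat.ble 34 c)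
noncomputable def clsTab_s_31_36 (c : Nat) : Nat := @Bool.rec (fun _ => Nat) (clsTab_s_31_33 c) (clsTab_s_33_36 c) (Nat.ble 33 c)
noncomputable def clsTab_s_27_36 (c : Nat) : Nat := @Bool.rec (fun _ => Nat) (clsTab_s_27_31 c) (clsTab_s_31_36 c) (Nat.ble 31 c)
noncomputable def clsTab_s_18_36 (c : Nat) : Nat := @Bool.rec (fun _ => Nat) (clsTab_s_18_27 c) (clsTab_s_27_36 c) (Nat.ble 27 c)
noncomputable def clsTab_s_0_36 (c : Nat) : Nat := @Bool.rec (fun _ => Nat) (clsTab_s_0_18 c) (clsTab_s_18_36 c) (Nat.ble 18 c)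
noncomputable def clsTab_s_36_38 (c : Nat) : Nat := @Bool.rec (fun _ => Nat) (clsTab_36) (clsTab_37) (Nat.ble 37 c)
noncomputable def clsTab_s_38_40 (c : Nat) : Nat := @Bool.rec (fun _ => Nat) (clsTab_38) (clsTab_39) (Nat.ble 39 c)
noncomputable def clsTab_s_36_40 (c : Nat) : Nat := @Bool.rec (fun _ => Nat) (clsTab_s_36_38 c) (clsTab_s_38_40 c) (Nat.ble 38 c)
noncomputable def clsTab_s_40_42 (c : Nat) : Nat := @Bool.rec (fun _ => Nat) (clsTab_40) (clsTab_41) (Nat.ble 41 c)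
noncomputable def clsTab_s_43_45 (c : Nat) : Nat := @Bool.rec (fun _ => Nat) (clsTab_43) (clsTab_44) (Nat.ble 44 c)
noncomputable def clsTab_s_42_45 (c : Nat) : Nat := @Bool.rec (fun _ => Nat) (clsTab_42) (clsTab_s_43_45 c) (Nat.ble 43 c)
noncomputable def clsTab_s_40_45 (c : Nat) : Nat := @Bool.rec (fun _ => Nat) (clsTab_s_40_42 c) (clsTab_s_42_45 c) (Nat.ble 42 c)
noncomputable def clsTab_s_36_45 (c : Nat) : Nat := @Bool.rec (fun _ => Nat) (clsTab_s_36_40 c) (clsTab_s_40_45 c) (Nat.ble 40 c)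
noncomputable def clsTab_s_45_47 (c : Nat) : Nat := @Bool.rec (fun _ => Nat) (clsTab_45) (clsTab_46) (Nat.ble 46 c)
noncomputable def clsTab_s_47_49 (c : Nat) : Nat := @Bool.rec (fun _ => Nat) (clsTab_47) (clsTab_48) (Nat.ble 48 c)
noncomputable def clsTab_s_45_49 (c : Nat) : Nat := @Bool.rec (fun _ => Nat) (clsTab_s_45_47 c) (clsTab_s_47_49 c) (Nat.ble 47 c)
noncomputable def clsTab_s_49_51 (c : Nat) : Nat := @Bool.rec (fun _ => Nat) (clsTab_49) (clsTab_50) (Nat.ble 50 c)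
noncomputable def clsTab_s_52_54 (c : Nat) : Nat := @Bool.rec (fun _ => Nat) (clsTab_52) (clsTab_53) (Nat.ble 53 c)
noncomputable def clsTab_s_51_54 (c : Nat) : Nat := @Bool.rec (fun _ => Nat) (clsTab_51) (clsTab_s_52_54 c) (Nat.ble 52 c)
noncomputable def clsTab_s_49_54 (c : Nat) : Nat := @Bool.rec (fun _ => Nat) (clsTab_s_49_51 c) (clsTab_s_51_54 c) (Nat.ble 51 c)
noncomputable def clsTab_s_45_54 (c : Nat) : Nat := @Bool.rec (fun _ => Nat) (clsTab_s_45_49 c) (clsTab_s_49_54 c) (Nat.ble 49 c)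
noncomputable def clsTab_s_36_54 (c : Nat) : Nat := @Bool.rec (fun _ => Nat) (clsTab_s_36_45 c) (clsTab_s_45_54 c) (Nat.ble 45 c)
noncomputable def clsTab_s_54_56 (c : Nat) : Nat := @Bool.rec (fun _ => Nat) (clsTab_54) (clsTab_55) (Nat.ble 55 c)
noncomputable def clsTab_s_56_58 (c : Nat) : Nat := @Bool.rec (fun _ => Nat) (clsTab_56) (clsTab_57) (Nat.ble 57 c)
noncomputable def clsTab_s_54_58 (c : Nat) : Nat := @Bool.rec (fun _ => Nat) (clsTab_s_54_56 c) (clsTab_s_56_58 c) (Nat.ble 56 c)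
noncomputable def clsTab_s_58_60 (c : Nat) : Nat := @Bool.rec (fun _ => Nat) (clsTab_58) (clsTab_59) (Nat.ble 59 c)
noncomputable def clsTab_s_61_63 (c : Nat) : Nat := @Bool.rec (fun _ => Nat) (clsTab_61) (clsTab_62) (Nat.ble 62 c)
noncomputable def clsTab_s_60_63 (c : Nat) : Nat := @Bool.rec (fun _ => Nat) (clsTab_60) (clsTab_s_61_63 c) (Nat.ble 61 c)
noncomputable def clsTab_s_58_63 (c : Nat) : Nat := @Bool.rec (fun _ => Nat) (clsTab_s_58_60 c) (clsTab_s_60_63 c) (Nat.ble 60 c)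
noncomputable def clsTab_s_54_63 (c : Nat) : Nat := @Bool.rec (fun _ => Nat) (clsTab_s_54_58 c) (clsTab_s_58_63 c) (Nat.ble 58 c)
noncomputable def clsTab_s_63_65 (c : Nat) : Nat := @Bool.rec (fun _ => Nat) (clsTab_63) (clsTab_64) (Nat.ble 64 c)
noncomputable def clsTab_s_66_68 (c : Nat) : Nat := @Bool.rec (fun _ => Nat) (clsTab_66) (clsTab_67) (Nat.ble 67 c)
noncomputable def clsTab_s_65_68 (c : Nat) : Nat := @Bool.rec (fun _ => Nat) (clsTab_65) (clsTab_s_66_68 c) (Nat.ble 66 c)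
noncomputable def clsTab_s_63_68 (c : Nat) : Nat := @Bool.rec (fun _ => Nat) (clsTab_s_63_65 c) (clsTab_s_65_68 c) (Nat.ble 65 c)
noncomputable def clsTab_s_68_70 (c : Nat) : Nat := @Bool.rec (fun _ => Nat) (clsTab_68) (clsTab_69) (Nat.ble 69 c)
noncomputable def clsTab_s_71_73 (c : Nat) : Nat := @Bool.rec (fun _ => Nat) (clsTab_71) (clsTab_72) (Nat.ble 72 c)
noncomputable def clsTab_s_70_73 (c : Nat) : Nat := @Bool.rec (fun _ => Nat) (clsTab_70) (clsTab_s_71_73 c) (Nat.ble 71 c)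
noncomputable def clsTab_s_68_73 (c : Nat) : Nat := @Bool.rec (fun _ => Nat) (clsTab_s_68_70 c) (clsTab_s_70_73 c) (Nat.ble 70 c)
noncomputable def clsTab_s_63_73 (c : Nat) : Nat := @Bool.rec (fun _ => Nat) (clsTab_s_63_68 c) (clsTab_s_68_73 c) (Nat.ble 68 c)
noncomputable def clsTab_s_54_73 (c : Nat) : Nat := @Bool.rec (fun _ => Nat) (clsTab_s_54_63 c) (clsTab_s_63_73 c) (Nat.ble 63 c)
noncomputable def clsTab_s_36_73 (c : Nat) : Nat := @Bool.rec (fun _ => Nat) (clsTab_s_36_54 c) (clsTab_s_54_73 c) (Nat.ble 54 c)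
noncomputable def clsTab_s_0_73 (c : Nat) : Nat := @Bool.rec (fun _ => Nat) (clsTab_s_0_36 c) (clsTab_s_36_73 c) (Nat.ble 36 c)
noncomputable def clsTab_s_73_75 (c : Nat) : Nat := @Bool.rec (fun _ => Nat) (clsTab_73) (clsTab_74) (Nat.ble 74 c)
noncomputable def clsTab_s_75_77 (c : Nat) : Nat := @Bool.rec (fun _ => Nat) (clsTab_75) (clsTab_76) (Nat.ble 76 c)
noncomputable def clsTab_s_73_77 (c : Nat) : Nat := @Bool.rec (fun _ => Nat) (clsTab_s_73_75 c) (clsTab_s_75_77 c) (Nat.ble 75 c)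
noncomputable def clsTab_s_77_79 (c : Nat) : Nat := @Bool.rec (fun _ => Nat) (clsTab_77) (clsTab_78) (Nat.ble 78 c)
noncomputable def clsTab_s_80_82 (c : Nat) : Nat := @Bool.rec (fun _ => Nat) (clsTab_80) (clsTab_81) (Nat.ble 81 c)
noncomputable def clsTab_s_79_82 (c : Nat) : Nat := @Bool.rec (fun _ => Nat) (clsTab_79) (clsTab_s_80_82 c) (Nat.ble 80 c)
noncomputable def clsTab_s_77_82 (c : Nat) : Nat := @Bool.rec (fun _ => Nat) (clsTab_s_77_79 c) (clsTab_s_79_82 c) (Nat.ble 79 c)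
noncomputable def clsTab_s_73_82 (c : Nat) : Nat := @Bool.rec (fun _ => Nat) (clsTab_s_73_77 c) (clsTab_s_77_82 c) (Nat.ble 77 c)
noncomputable def clsTab_s_82_84 (c : Nat) : Nat := @Bool.rec (fun _ => Nat) (clsTab_82) (clsTab_83) (Nat.ble 83 c)
noncomputable def clsTab_s_84_86 (c : Nat) : Nat := @Bool.rec (fun _ => Nat) (clsTab_84) (clsTab_85) (Nat.ble 85 c)
noncomputable def clsTab_s_82_86 (c : Nat) : Nat := @Bool.rec (fun _ => Nat) (clsTab_s_82_84 c) (clsTab_s_84_86 c) (Nat.ble 84 c)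
noncomputable def clsTab_s_86_88 (c : Nat) : Nat := @Bool.rec (fun _ => Nat) (clsTab_86) (clsTab_87) (Nat.ble 87 c)
noncomputable def clsTab_s_89_91 (c : Nat) : Nat := @Bool.rec (fun _ => Nat) (clsTab_89) (clsTab_90) (Nat.ble 90 c)
noncomputable def clsTab_s_88_91 (c : Nat) : Nat := @Bool.rec (fun _ => Nat) (clsTab_88) (clsTab_s_89_91 c) (Nat.ble 89 c)
noncomputable def clsTab_s_86_91 (c : Nat) : Nat := @Bool.rec (fun _ => Nat) (clsTab_s_86_88 c) (clsTab_s_88_91 c) (Nat.ble 88 c)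
noncomputable def clsTab_s_82_91 (c : Nat) : Nat := @Bool.rec (fun _ => Nat) (clsTab_s_82_86 c) (clsTab_s_86_91 c) (Nat.ble 86 c)
noncomputable def clsTab_s_73_91 (c : Nat) : Nat := @Bool.rec (fun _ => Nat) (clsTab_s_73_82 c) (clsTab_s_82_91 c) (Nat.ble 82 c)
noncomputable def clsTab_s_91_93 (c : Nat) : Nat := @Bool.rec (fun _ => Nat) (clsTab_91) (clsTab_92) (Nat.ble 92 c)
noncomputable def clsTab_s_93_95 (c : Nat) : Nat := @Bool.rec (fun _ => Nat) (clsTab_93) (clsTab_94) (Nat.ble 94 c)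
noncomputable def clsTab_s_91_95 (c : Nat) : Nat := @Bool.rec (fun _ => Nat) (clsTab_s_91_93 c) (clsTab_s_93_95 c) (Nat.ble 93 c)
noncomputable def clsTab_s_95_97 (c : Nat) : Nat := @Bool.rec (fun _ => Nat) (clsTab_95) (clsTab_96) (Nat.ble 96 c)
noncomputable def clsTab_s_98_100 (c : Nat) : Nat := @Bool.rec (fun _ => Nat) (clsTab_98) (clsTab_99) (Nat.ble 99 c)
noncomputable def clsTab_s_97_100 (c : Nat) : Nat := @Bool.rec (fun _ => Nat) (clsTab_97) (clsTab_s_98_100 c) (Nat.ble 98 c)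
noncomputable def clsTab_s_95_100 (c : Nat) : Nat := @Bool.rec (fun _ => Nat) (clsTab_s_95_97 c) (clsTab_s_97_100 c) (Nat.ble 97 c)
noncomputable def clsTab_s_91_100 (c : Nat) : Nat := @Bool.rec (fun _ => Nat) (clsTab_s_91_95 c) (clsTab_s_95_100 c) (Nat.ble 95 c)
noncomputable def clsTab_s_100_102 (c : Nat) : Nat := @Bool.rec (fun _ => Nat) (clsTab_100) (clsTab_101) (Nat.ble 101 c)
noncomputable def clsTab_s_102_104 (c : Nat) : Nat := @Bool.rec (fun _ => Nat) (clsTab_102) (clsTab_103) (Nat.ble 103 c)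
noncomputable def clsTab_s_100_104 (c : Nat) : Nat := @Bool.rec (fun _ => Nat) (clsTab_s_100_102 c) (clsTab_s_102_104 c) (Nat.ble 102 c)
noncomputable def clsTab_s_104_106 (c : Nat) : Nat := @Bool.rec (fun _ => Nat) (clsTab_104) (clsTab_105) (Nat.ble 105 c)
noncomputable def clsTab_s_107_109 (c : Nat) : Nat := @Bool.rec (fun _ => Nat) (clsTab_107) (clsTab_108) (Nat.ble 108 c)
noncomputable def clsTab_s_106_109 (c : Nat) : Nat := @Bool.rec (fun _ => Nat) (clsTab_106) (clsTab_s_107_109 c) (Nat.ble 107 c)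
noncomputable def clsTab_s_104_109 (c : Nat) : Nat := @Bool.rec (fun _ => Nat) (clsTab_s_104_106 c) (clsTab_s_106_109 c) (Nat.ble 106 c)
noncomputable def clsTab_s_100_109 (c : Nat) : Nat := @Bool.rec (fun _ => Nat) (clsTab_s_100_104 c) (clsTab_s_104_109 c) (Nat.ble 104 c)
noncomputable def clsTab_s_91_109 (c : Nat) : Nat := @Bool.rec (fun _ => Nat) (clsTab_s_91_100 c) (clsTab_s_100_109 c) (Nat.ble 100 c)
noncomputable def clsTab_s_73_109 (c : Nat) : Nat := @Bool.rec (fun _ => Nat) (clsTab_s_73_91 c) (clsTab_s_91_109 c) (Nat.ble 91 c)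
noncomputable def clsTab_s_109_111 (c : Nat) : Nat := @Bool.rec (fun _ => Nat) (clsTab_109) (clsTab_110) (Nat.ble 110 c)
noncomputable def clsTab_s_111_113 (c : Nat) : Nat := @Bool.rec (fun _ => Nat) (clsTab_111) (clsTab_112) (Nat.ble 112 c)
noncomputable def clsTab_s_109_113 (c : Nat) : Nat := @Bool.rec (fun _ => Nat) (clsTab_s_109_111 c) (clsTab_s_111_113 c) (Nat.ble 111 c)
noncomputable def clsTab_s_113_115 (c : Nat) : Nat := @Bool.rec (fun _ => Nat) (clsTab_113) (clsTab_114) (Nat.ble 114 c)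
noncomputable def clsTab_s_116_118 (c : Nat) : Nat := @Bool.rec (fun _ => Nat) (clsTab_116) (clsTab_117) (Nat.ble 117 c)
noncomputable def clsTab_s_115_118 (c : Nat) : Nat := @Bool.rec (fun _ => Nat) (clsTab_115) (clsTab_s_116_118 c) (Nat.ble 116 c)
noncomputable def clsTab_s_113_118 (c : Nat) : Nat := @Bool.rec (fun _ => Nat) (clsTab_s_113_115 c) (clsTab_s_115_118 c) (Nat.ble 115 c)
noncomputable def clsTab_s_109_118 (c : Nat) : Nat := @Bool.rec (fun _ => Nat) (clsTab_s_109_113 c) (clsTab_s_113_118 c) (Nat.ble 113 c)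
noncomputable def clsTab_s_118_120 (c : Nat) : Nat := @Bool.rec (fun _ => Nat) (clsTab_118) (clsTab_119) (Nat.ble 119 c)
noncomputable def clsTab_s_120_122 (c : Nat) : Nat := @Bool.rec (fun _ => Nat) (clsTab_120) (clsTab_121) (Nat.ble 121 c)
noncomputable def clsTab_s_118_122 (c : Nat) : Nat := @Bool.rec (fun _ => Nat) (clsTab_s_118_120 c) (clsTab_s_120_122 c) (Nat.ble 120 c)
noncomputable def clsTab_s_122_124 (c : Nat) : Nat := @Bool.rec (fun _ => Nat) (clsTab_122) (clsTab_123) (Nat.ble 123 c)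
noncomputable def clsTab_s_125_127 (c : Nat) : Nat := @Bool.rec (fun _ => Nat) (clsTab_125) (clsTab_126) (Nat.ble 126 c)
noncomputable def clsTab_s_124_127 (c : Nat) : Nat := @Bool.rec (fun _ => Nat) (clsTab_124) (clsTab_s_125_127 c) (Nat.ble 125 c)
noncomputable def clsTab_s_122_127 (c : Nat) : Nat := @Bool.rec (fun _ => Nat) (clsTab_s_122_124 c) (clsTab_s_124_127 c) (Nat.ble 124 c)
noncomputable def clsTab_s_118_127 (c : Nat) : Nat := @Bool.rec (fun _ => Nat) (clsTab_s_118_122 c) (clsTab_s_122_127 c) (Nat.ble 122 c)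
noncomputable def clsTab_s_109_127 (c : Nat) : Nat := @Bool.rec (fun _ => Nat) (clsTab_s_109_118 c) (clsTab_s_118_127 c) (Nat.ble 118 c)
noncomputable def clsTab_s_127_129 (c : Nat) : Nat := @Bool.rec (fun _ => Nat) (clsTab_127) (clsTab_128) (Nat.ble 128 c)
noncomputable def clsTab_s_129_131 (c : Nat) : Nat := @Bool.rec (fun _ => Nat) (clsTab_129) (clsTab_130) (Nat.ble 130 c)
noncomputable def clsTab_s_127_131 (c : Nat) : Nat := @Bool.rec (fun _ => Nat) (clsTab_s_127_129 c) (clsTab_s_129_131 c) (Nat.ble 129 c)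
noncomputable def clsTab_s_131_133 (c : Nat) : Nat := @Bool.rec (fun _ => Nat) (clsTab_131) (clsTab_132) (Nat.ble 132 c)
noncomputable def clsTab_s_134_136 (c : Nat) : Nat := @Bool.rec (fun _ => Nat) (clsTab_134) (clsTab_135) (Nat.ble 135 c)
noncomputable def clsTab_s_133_136 (c : Nat) : Nat := @Bool.rec (fun _ => Nat) (clsTab_133) (clsTab_s_134_136 c) (Nat.ble 134 c)
noncomputable def clsTab_s_131_136 (c : Nat) : Nat := @Bool.rec (fun _ => Nat) (clsTab_s_131_133 c) (clsTab_s_133_136 c) (Nat.ble 133 c)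
noncomputable def clsTab_s_127_136 (c : Nat) : Nat := @Bool.rec (fun _ => Nat) (clsTab_s_127_131 c) (clsTab_s_131_136 c) (Nat.ble 131 c)
noncomputable def clsTab_s_136_138 (c : Nat) : Nat := @Bool.rec (fun _ => Nat) (clsTab_136) (clsTab_137) (Nat.ble 137 c)
noncomputable def clsTab_s_139_141 (c : Nat) : Nat := @Bool.rec (fun _ => Nat) (clsTab_139) (clsTab_140) (Nat.ble 140 c)
noncomputable def clsTab_s_138_141 (c : Nat) : Nat := @Bool.rec (fun _ => Nat) (clsTab_138) (clsTab_s_139_141 c) (Nat.ble 139 c)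
noncomputable def clsTab_s_136_141 (c : Nat) : Nat := @Bool.rec (fun _ => Nat) (clsTab_s_136_138 c) (clsTab_s_138_141 c) (Nat.ble 138 c)
noncomputable def clsTab_s_141_143 (c : Nat) : Nat := @Bool.rec (fun _ => Nat) (clsTab_141) (clsTab_142) (Nat.ble 142 c)
noncomputable def clsTab_s_144_146 (c : Nat) : Nat := @Bool.rec (fun _ => Nat) (clsTab_144) (clsTab_145) (Nat.ble 145 c)
noncomputable def clsTab_s_143_146 (c : Nat) : Nat := @Bool.rec (fun _ => Nat) (clsTab_143) (clsTab_s_144_146 c) (Nat.ble 144 c)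
noncomputable def clsTab_s_141_146 (c : Nat) : Nat := @Bool.rec (fun _ => Nat) (clsTab_s_141_143 c) (clsTab_s_143_146 c) (Nat.ble 143 c)
noncomputable def clsTab_s_136_146 (c : Nat) : Nat := @Bool.rec (fun _ => Nat) (clsTab_s_136_141 c) (clsTab_s_141_146 c) (Nat.ble 141 c)
noncomputable def clsTab_s_127_146 (c : Nat) : Nat := @Bool.rec (fun _ => Nat) (clsTab_s_127_136 c) (clsTab_s_136_146 c) (Nat.ble 136 c)
noncomputable def clsTab_s_109_146 (c : Nat) : Nat := @Bool.rec (fun _ => Nat) (clsTab_s_109_127 c) (clsTab_s_127_146 c) (Nat.ble 127 c)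
noncomputable def clsTab_s_73_146 (c : Nat) : Nat := @Bool.rec (fun _ => Nat) (clsTab_s_73_109 c) (clsTab_s_109_146 c) (Nat.ble 109 c)
noncomputable def clsTab_s_0_146 (c : Nat) : Nat := @Bool.rec (fun _ => Nat) (clsTab_s_0_73 c) (clsTab_s_73_146 c) (Nat.ble 73 c)
noncomputable def clsTab (i : Nat) : Nat := rdw 18 262143 (clsTab_s_0_146 (Nat.shiftRight i 12)) (Nat.land i 4095)
noncomputable def srcF (t : Nat) : Nat := Nat.land (Atab t) 1048575
noncomputable def tgtF (t : Nat) : Nat := Nat.land (Nat.shiftRight (Atab t) 20) 1048575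
noncomputable def ltF (t : Nat) : Nat := Nat.shiftRight (Atab t) 40
noncomputable def rhoF (t : Nat) : Nat := Nat.land (Btab (Nat.sub t 595336)) 31
noncomputable def rotF (t : Nat) : Nat := Nat.land (Nat.shiftRight (Btab (Nat.sub t 595336)) 5) 63
noncomputable def lenF (t : Nat) : Nat := Nat.land (Nat.shiftRight (Btab (Nat.sub t 595336)) 11) 63
noncomputable def offF (t : Nat) : Nat := Nat.shiftRight (Btab (Nat.sub t 595336)) 17
noncomputable def pfF (j : Nat) : Nat := Nat.shiftRight (Ptab j) 1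
noncomputable def pdF (j : Nat) : Nat := Nat.land (Ptab j) 1
noncomputable def tblF (i x : Nat) : Nat := @Bool.rec (fun _ => Nat) (@Bool.rec (fun _ => Nat) (col0 i) (col1 i) (Nat.ble 1 x)) (@Bool.rec (fun _ => Nat) (col2 i) (col3 i) (Nat.ble 3 x)) (Nat.ble 2 x)
noncomputable def finE (i x : Nat) : Nat := finTab (Nat.add (Nat.mul i 4) x)
noncomputable def finFF (i x : Nat) : Nat := Nat.shiftRight (finE i x) 1
noncomputable def finDF (i x : Nat) : Nat := Nat.land (finE i x) 1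

def invLoc : ℕ → ℕ
  | 0 => 1
  | 1 => 0
  | 2 => 3
  | 3 => 2
  | l => l
def emb : List Nat := [0, 1, 2, 3]
noncomputable def D : Log :=
  { k := 4, inv := invE 4 invLoc, nR := 22, rBase := rBtab, rLen := rLtab, RR := RRtab,
    M := 595334, nB := 2, F := 1385512, src := srcF, lt := ltF, tgt := tgtF, rho := rhoF, rot := rotF,
    off := offF, len := lenF, pf := pfF, pd := pdF }

noncomputable def T : Tab :=
  { N := 207360, nameOf := nameTab, tbl := tblF, finF := finFF, finD := finDF, cls := clsTab }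

def subs : List (List Nat) := [
[0] ]

def realLoc : List (List Nat) := [
  [0, 0, 0, 0, 0, 0, 0],
  [2, 2],
  [2, 0, 2, 0, 2, 0, 2, 0, 2, 0, 2, 0, 2, 0, 2, 0, 2, 0],
  [2, 0, 0, 2, 0, 0, 2, 0, 0, 2, 0, 0, 2, 0, 0, 2, 0, 0, 2, 0, 0, 2, 0, 0, 2, 0, 0, 2, 0, 0, 2, 0, 0, 2, 0, 0],
  [2, 0, 3, 1, 2, 0, 3, 1, 2, 0, 3, 1],
  [2, 0, 0, 3, 1, 1, 2, 0, 0, 3, 1, 1] ]

end Cfsg.Agent.Lib.Helper4.TCD.Sp62pU1
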