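namespace Cfsg.Agent.Lib.Helper4.TCD.Sp62pX7

noncomputable def Atab_0 : Nat := nat_lit 0x6080800852d1411ca0240
noncomputable def Btab_0 : Nat := nat_lit 0x90402a21009804021e10070f68b82080004208800800
noncomputable def Ptab_0 : Nat := nat_lit 0x1c42bd021a4ed58d253b563494ed58d253b563494ed59882
noncomputable def RRtab_0 : Nat := nat_lit 0x4d369a04120864a01928064a01928065065065065065065064b2592c964b2592c964b2592c964b2592c964b2592c964b2592c96596596596596596596596596596db2492492492494d369a0412082580896022580896022c22c22c22c22c22c2010080402010080402010080402010080402010080402010080402082082082082082082082082082492000000000000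
noncomputable def rBtab_0 : Nat := nat_lit 0x2f978ba5c2b1407c351a0c2602f170b45826100380a0400400
noncomputable def rLtab_0 : Nat := nat_lit 0x8208230c91208704208208c3244821c1
noncomputable def nameTab_0 : Nat := nat_lit 0x0
noncomputable def col0_0 : Nat := nat_lit 0x0
noncomputable def col1_0 : Nat := nat_lit 0x0
noncomputable def col2_0 : Nat := nat_lit 0x0
noncomputable def col3_0 : Nat := nat_lit 0x0
noncomputable def finTab_0 : Nat := nat_lit 0xb5250
noncomputable def clsTab_0 : Nat := nat_lit 0x0

end Cfsg.Agent.Lib.Helper4.TCD.Sp62pX7
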