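import Cfsg.Agent.Lib.Helper4.TCD_Suz2_Acc

namespace Cfsg.Agent.Lib.Helper4.TCD.Suz2

open Cfsg.Agent.Lib.Helper4.TC

set_option maxRecDepth 100000
set_option Elab.async false

theorem c_zero : D.zeroOK = true := by decide +kernel
theorem c_base : allBelow D.baseOK 12 = true := by decide +kernel
theorem c_let : allBelow D.letOK 7 = true := by decide +kernel
theorem c_cls0 : T.cls 0 = 0 := by decide +kernel
theorem c_name0 : T.nameOf 0 = 0 := by decide +kernel
theorem c_tab : D.relTabOK 0 (baseRels 7 PSuz.invR PSuz.P.real subs ++ (baseRels 7 PSuz.invR PSuz.P.real subs).map (invWord D.inv)) = true := by decide +kernel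
theorem c_real : PSuz.P.real = realLit := by decide +kernel
theorem c_subfix : subs.all (fun u => Nat.beq (Tab.act T D u 0) 0) = true := by decide +kernel
theorem c_subs : subs.all (fun u => u.all (fun x => Nat.ble (Nat.succ x) 7)) = true := by decide +kernel
theorem c_names_0 : allRange D.nameOK 1 27483 = true := by decide +kernel
theorem c_cls_0 : allRange (T.clsOK D) 1 15000 = true := by decide +kernel
theorem c_cls_1 : allRange (T.clsOK D) 15001 12483 = true := by decide +kernel
theorem c_rep_0 : allRange (T.repOK D) 0 22880 = true := by decide +kernel
theorem c_rel_0 : allRange D.relOK 27496 3190 = true := by decide +kernel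
theorem c_rel_1 : allRange D.relOK 30686 3136 = true := by decide +kernel
theorem c_rel_2 : allRange D.relOK 33822 3163 = true := by decide +kernel
theorem c_rel_3 : allRange D.relOK 36985 3052 = true := by decide +kernel
theorem c_rel_4 : allRange D.relOK 40037 3158 = true := by decide +kernel
theorem c_rel_5 : allRange D.relOK 43195 2992 = true := by decide +kernel
theorem c_rel_6 : allRange D.relOK 46187 3040 = true := by decide +kernel
theorem c_rel_7 : allRange D.relOK 49227 2819 = true := by decide +kernel
theorem c_rel_8 : allRange D.relOK 52046 2908 = true := by decide +kernel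
theorem c_rel_9 : allRange D.relOK 54954 2917 = true := by decide +kernel
theorem c_rel_10 : allRange D.relOK 57871 2777 = true := by decide +kernel
theorem c_rel_11 : allRange D.relOK 60648 2911 = true := by decide +kernel
theorem c_rel_12 : allRange D.relOK 63559 2906 = true := by decide +kernel
theorem c_rel_13 : allRange D.relOK 66465 2900 = true := by decide +kernel
theorem c_rel_14 : allRange D.relOK 69365 2803 = true := by decide +kernel
theorem c_rel_15 : allRange D.relOK 72168 2806 = true := by decide +kernel
theorem c_rel_16 : allRange D.relOK 74974 2968 = true := by decide +kernel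
theorem c_rel_17 : allRange D.relOK 77942 2999 = true := by decide +kernel
theorem c_rel_18 : allRange D.relOK 80941 2897 = true := by decide +kernel
theorem c_rel_19 : allRange D.relOK 83838 2776 = true := by decide +kernel
theorem c_rel_20 : allRange D.relOK 86614 2605 = true := by decide +kernel
theorem c_rel_21 : allRange D.relOK 89219 2405 = true := by decide +kernel
theorem c_rel_22 : allRange D.relOK 91624 4251 = true := by decide +kernel
theorem c_rel_23 : allRange D.relOK 95875 2037 = true := by decide +kernel
theorem c_fin_0 : allGrid (T.finOK D) 0 1714 7 = true := by decide +kernel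
theorem c_fin_1 : allGrid (T.finOK D) 1714 1714 7 = true := by decide +kernel
theorem c_fin_2 : allGrid (T.finOK D) 3428 1714 7 = true := by decide +kernel
theorem c_fin_3 : allGrid (T.finOK D) 5142 1714 7 = true := by decide +kernel
theorem c_fin_4 : allGrid (T.finOK D) 6856 1714 7 = true := by decide +kernel
theorem c_fin_5 : allGrid (T.finOK D) 8570 1714 7 = true := by decide +kernel
theorem c_fin_6 : allGrid (T.finOK D) 10284 1714 7 = true := by decide +kernel
theorem c_fin_7 : allGrid (T.finOK D) 11998 1714 7 = true := by decide +kernel
theorem c_fin_8 : allGrid (T.finOK D) 13712 1714 7 = true := by decide +kernel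
theorem c_fin_9 : allGrid (T.finOK D) 15426 1714 7 = true := by decide +kernel
theorem c_fin_10 : allGrid (T.finOK D) 17140 1714 7 = true := by decide +kernel
theorem c_fin_11 : allGrid (T.finOK D) 18854 1714 7 = true := by decide +kernel
theorem c_fin_12 : allGrid (T.finOK D) 20568 1714 7 = true := by decide +kernel
theorem c_fin_13 : allGrid (T.finOK D) 22282 598 7 = true := by decide +kernel
theorem c_perm_0 : allGrid (T.permOK1 D) 0 4285 7 = true := by decide +kernel
theorem c_perm_1 : allGrid (T.permOK1 D) 4285 4285 7 = true := by decide +kernel
theorem c_perm_2 : allGrid (T.permOK1 D) 8570 4285 7 = true := by decide +kernel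
theorem c_perm_3 : allGrid (T.permOK1 D) 12855 4285 7 = true := by decide +kernel
theorem c_perm_4 : allGrid (T.permOK1 D) 17140 4285 7 = true := by decide +kernel
theorem c_perm_5 : allGrid (T.permOK1 D) 21425 1455 7 = true := by decide +kernel
theorem c_act0_0 : allRange (fun i => Nat.beq (actR0 i) i) 0 22880 = true := by decide +kernel
theorem c_act1_0 : allRange (fun i => Nat.beq (actR1 i) i) 0 6000 = true := by decide +kernel
theorem c_act1_1 : allRange (fun i => Nat.beq (actR1 i) i) 6000 6000 = true := by decide +kernel
theorem c_act1_2 : allRange (fun i => Nat.beq (actR1 i) i) 12000 6000 = true := by decide +kernel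
theorem c_act1_3 : allRange (fun i => Nat.beq (actR1 i) i) 18000 4880 = true := by decide +kernel
theorem c_act2_0 : allRange (fun i => Nat.beq (actR2 i) i) 0 15000 = true := by decide +kernel
theorem c_act2_1 : allRange (fun i => Nat.beq (actR2 i) i) 15000 7880 = true := by decide +kernel
theorem c_act3_0 : allRange (fun i => Nat.beq (actR3 i) i) 0 15000 = true := by decide +kernel
theorem c_act3_1 : allRange (fun i => Nat.beq (actR3 i) i) 15000 7880 = true := by decide +kernel
theorem c_act4_0 : allRange (fun i => Nat.beq (actR4 i) i) 0 15000 = true := by decide +kernel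
theorem c_act4_1 : allRange (fun i => Nat.beq (actR4 i) i) 15000 7880 = true := by decide +kernel
theorem c_act5_0 : allRange (fun i => Nat.beq (actR5 i) i) 0 15000 = true := by decide +kernel
theorem c_act5_1 : allRange (fun i => Nat.beq (actR5 i) i) 15000 7880 = true := by decide +kernel
theorem c_act6_0 : allRange (fun i => Nat.beq (actR6 i) i) 0 15000 = true := by decide +kernel
theorem c_act6_1 : allRange (fun i => Nat.beq (actR6 i) i) 15000 7880 = true := by decide +kernel
theorem c_act7_0 : allRange (fun i => Nat.beq (actR7 i) i) 0 22880 = true := by decide +kernel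
theorem c_act8_0 : allRange (fun i => Nat.beq (actR8 i) i) 0 10000 = true := by decide +kernel
theorem c_act8_1 : allRange (fun i => Nat.beq (actR8 i) i) 10000 10000 = true := by decide +kernel
theorem c_act8_2 : allRange (fun i => Nat.beq (actR8 i) i) 20000 2880 = true := by decide +kernel
theorem c_act9_0 : allRange (fun i => Nat.beq (actR9 i) i) 0 15000 = true := by decide +kernel

end Cfsg.Agent.Lib.Helper4.TCD.Suz2
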