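import Cfsg.Agent.Lib.Helper4.TCD_Suz2_Acc

namespace Cfsg.Agent.Lib.Helper4.TCD.Suz2

open Cfsg.Agent.Lib.Helper4.TC

set_option maxRecDepth 100000
set_option Elab.async false

theorem c_act31_4 : allRange (fun i => Nat.beq (actR31 i) i) 16000 4000 = true := by decide +kernel
theorem c_act31_5 : allRange (fun i => Nat.beq (actR31 i) i) 20000 2880 = true := by decide +kernel
theorem c_act32_0 : allRange (fun i => Nat.beq (actR32 i) i) 0 769 = true := by decide +kernel
theorem c_act32_1 : allRange (fun i => Nat.beq (actR32 i) i) 769 769 = true := by decide +kernel
theorem c_act32_2 : allRange (fun i => Nat.beq (actR32 i) i) 1538 769 = true := by decide +kernel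
theorem c_act32_3 : allRange (fun i => Nat.beq (actR32 i) i) 2307 769 = true := by decide +kernel
theorem c_act32_4 : allRange (fun i => Nat.beq (actR32 i) i) 3076 769 = true := by decide +kernel
theorem c_act32_5 : allRange (fun i => Nat.beq (actR32 i) i) 3845 769 = true := by decide +kernel
theorem c_act32_6 : allRange (fun i => Nat.beq (actR32 i) i) 4614 769 = true := by decide +kernel
theorem c_act32_7 : allRange (fun i => Nat.beq (actR32 i) i) 5383 769 = true := by decide +kernel
theorem c_act32_8 : allRange (fun i => Nat.beq (actR32 i) i) 6152 769 = true := by decide +kernel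
theorem c_act32_9 : allRange (fun i => Nat.beq (actR32 i) i) 6921 769 = true := by decide +kernel
theorem c_act32_10 : allRange (fun i => Nat.beq (actR32 i) i) 7690 769 = true := by decide +kernel
theorem c_act32_11 : allRange (fun i => Nat.beq (actR32 i) i) 8459 769 = true := by decide +kernel
theorem c_act32_12 : allRange (fun i => Nat.beq (actR32 i) i) 9228 769 = true := by decide +kernel
theorem c_act32_13 : allRange (fun i => Nat.beq (actR32 i) i) 9997 769 = true := by decide +kernel
theorem c_act32_14 : allRange (fun i => Nat.beq (actR32 i) i) 10766 769 = true := by decide +kernel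
theorem c_act32_15 : allRange (fun i => Nat.beq (actR32 i) i) 11535 769 = true := by decide +kernel
theorem c_act32_16 : allRange (fun i => Nat.beq (actR32 i) i) 12304 769 = true := by decide +kernel
theorem c_act32_17 : allRange (fun i => Nat.beq (actR32 i) i) 13073 769 = true := by decide +kernel
theorem c_act32_18 : allRange (fun i => Nat.beq (actR32 i) i) 13842 769 = true := by decide +kernel
theorem c_act32_19 : allRange (fun i => Nat.beq (actR32 i) i) 14611 769 = true := by decide +kernel
theorem c_act32_20 : allRange (fun i => Nat.beq (actR32 i) i) 15380 769 = true := by decide +kernel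
theorem c_act32_21 : allRange (fun i => Nat.beq (actR32 i) i) 16149 769 = true := by decide +kernel
theorem c_act32_22 : allRange (fun i => Nat.beq (actR32 i) i) 16918 769 = true := by decide +kernel
theorem c_act32_23 : allRange (fun i => Nat.beq (actR32 i) i) 17687 769 = true := by decide +kernel
theorem c_act32_24 : allRange (fun i => Nat.beq (actR32 i) i) 18456 769 = true := by decide +kernel
theorem c_act32_25 : allRange (fun i => Nat.beq (actR32 i) i) 19225 769 = true := by decide +kernel
theorem c_act32_26 : allRange (fun i => Nat.beq (actR32 i) i) 19994 769 = true := by decide +kernel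
theorem c_act32_27 : allRange (fun i => Nat.beq (actR32 i) i) 20763 769 = true := by decide +kernel
theorem c_act32_28 : allRange (fun i => Nat.beq (actR32 i) i) 21532 769 = true := by decide +kernel
theorem c_act32_29 : allRange (fun i => Nat.beq (actR32 i) i) 22301 579 = true := by decide +kernel

end Cfsg.Agent.Lib.Helper4.TCD.Suz2
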