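import Cfsg.Agent.Lib.Helper4.TC11
import Cfsg.Agent.Lib.Helper4.TCD_Suz1_Acc
import Cfsg.Agent.Lib.Helper4.TCD_SuzL_D0

namespace Cfsg.Agent.Lib.Helper4.TCD.SuzL

open Cfsg.Agent.Lib.Helper4.TC Cfsg.Agent.Lib.Helper4.TCD.Suz1

set_option maxRecDepth 100000

noncomputable def st7 (i : Nat) : Nat := rdw 11 2047 st7_0 i
noncomputable def st8 (i : Nat) : Nat := rdw 11 2047 st8_0 i
noncomputable def st9 (i : Nat) : Nat := rdw 11 2047 st9_0 i
noncomputable def st10 (i : Nat) : Nat := rdw 11 2047 st10_0 i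
noncomputable def st11 (i : Nat) : Nat := rdw 11 2047 st11_0 i
noncomputable def st12 (i : Nat) : Nat := rdw 11 2047 st12_0 i
noncomputable def st13 (i : Nat) : Nat := rdw 11 2047 st13_0 i
noncomputable def st14 (i : Nat) : Nat := rdw 11 2047 st14_0 i
noncomputable def st15 (i : Nat) : Nat := rdw 11 2047 st15_0 i
noncomputable def st16 (i : Nat) : Nat := rdw 11 2047 st16_0 i
noncomputable def st17 (i : Nat) : Nat := rdw 11 2047 st17_0 i
noncomputable def st18 (i : Nat) : Nat := rdw 11 2047 st18_0 i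
noncomputable def st19 (i : Nat) : Nat := rdw 11 2047 st19_0 i
noncomputable def st20 (i : Nat) : Nat := rdw 11 2047 st20_0 i
noncomputable def st21 (i : Nat) : Nat := rdw 11 2047 st21_0 i
noncomputable def st22 (i : Nat) : Nat := rdw 11 2047 st22_0 i
noncomputable def st23 (i : Nat) : Nat := rdw 11 2047 st23_0 i
noncomputable def levTab (i : Nat) : Nat := rdw 3 7 levTab_0 i
noncomputable def betaTab (i : Nat) : Nat := rdw 11 2047 betaTab_0 i
noncomputable def nodeTab_s_0_2 (c : Nat) : Nat := @Bool.rec (fun _ => Nat) (nodeTab_0) (nodeTab_1) (Nat.ble 1 c)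
noncomputable def nodeTab (i : Nat) : Nat := rdw 31 2147483647 (nodeTab_s_0_2 (Nat.shiftRight i 11)) (Nat.land i 2047)
noncomputable def offTab (i : Nat) : Nat := rdw 12 4095 offTab_0 i
noncomputable def nTab (i : Nat) : Nat := rdw 11 2047 nTab_0 i
noncomputable def rootTab (i : Nat) : Nat := rdw 11 2047 rootTab_0 i
noncomputable def tabF (i p : Nat) : Nat := @Bool.rec (fun _ => Nat) (@Bool.rec (fun _ => Nat) (@Bool.rec (fun _ => Nat) (@Bool.rec (fun _ => Nat) (col0 p) (@Bool.rec (fun _ => Nat) (col1 p) (col2 p) (Nat.ble 2 i)) (Nat.ble 1 i)) (@Bool.rec (fun _ => Nat) (col3 p) (@Bool.rec (fun _ => Nat) (col4 p) (col5 p) (Nat.ble 5 i)) (Nat.ble 4 i)) (Nat.ble 3 i)) (@Bool.rec (fun _ => Nat) (@Bool.rec (fun _ => Nat) (col6 p) (@Bool.rec (fun _ => Nat) (st7 p) (st8 p) (Nat.ble 8 i)) (Nat.ble 7 i)) (@Bool.rec (fun _ => Nat) (st9 p) (@Bool.rec (fun _ => Nat) (st10 p) (st11 p) (Nat.ble 11 i)) (Nat.ble 10 i)) (Nat.ble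 9 i)) (Nat.ble 6 i)) (@Bool.rec (fun _ => Nat) (@Bool.rec (fun _ => Nat) (@Bool.rec (fun _ => Nat) (st12 p) (@Bool.rec (fun _ => Nat) (st13 p) (st14 p) (Nat.ble 14 i)) (Nat.ble 13 i)) (@Bool.rec (fun _ => Nat) (st15 p) (@Bool.rec (fun _ => Nat) (st16 p) (st17 p) (Nat.ble 17 i)) (Nat.ble 16 i)) (Nat.ble 15 i)) (@Bool.rec (fun _ => Nat) (@Bool.rec (fun _ => Nat) (st18 p) (@Bool.rec (fun _ => Nat) (st19 p) (st20 p) (Nat.ble 20 i)) (Nat.ble 19 i)) (@Bool.rec (fun _ => Nat) (st21 p) (@Bool.rec (fun _ => Nat) (st22 p) (st23 p) (Nat.ble 23 i)) (Nat.ble 22 i)) (Nat.ble 21 i)) (Nat.ble 18 i)) (Nat.ble 12 i)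
def wAF : Nat → List Nat
  | 7 => [1, 6, 3, 4, 0, 1, 2, 3, 1, 2, 0, 1, 6]
  | 8 => [6, 4, 7, 4, 7, 6, 4, 1, 0, 7]
  | 9 => [8]
  | 10 => []
  | 11 => [2, 7, 8, 2, 1, 6, 9]
  | 12 => [11]
  | 13 => [1, 0, 7, 3, 9, 12, 5]
  | 14 => [13]
  | 15 => [3, 13, 1, 4, 3]
  | 16 => [15]
  | 17 => [12]
  | 18 => [15, 8, 15, 12]
  | 19 => [18]
  | 20 => [16, 11, 18, 2]
  | 21 => [20]
  | 22 => [15, 4, 19, 13, 18]
  | 23 => [22]
  | _ => []
def wBF : Nat → List Nat
  | 7 => [0, 1, 6, 3, 4, 0, 1, 2, 3, 1, 2, 0, 1, 6]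
  | 8 => [0, 7, 6, 7, 4, 7, 6]
  | 9 => []
  | 10 => [4]
  | 11 => [7, 1, 8, 0, 7, 6]
  | 12 => []
  | 13 => [12, 7, 8, 7, 1]
  | 14 => [2, 13]
  | 15 => [0, 2, 8, 7]
  | 16 => []
  | 17 => [0, 12]
  | 18 => [16, 9]
  | 19 => []
  | 20 => [11, 16, 11]
  | 21 => []
  | 22 => [10, 15, 5]
  | 23 => []
  | _ => []
noncomputable def ptF (j idx : Nat) : Nat := Nat.land (nodeTab (Nat.add (offTab j) idx)) 2047
noncomputable def parF (j idx : Nat) : Nat := Nat.land (Nat.shiftRight (nodeTab (Nat.add (offTab j) idx)) 11) 2047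
noncomputable def giF (j idx : Nat) : Nat := Nat.land (Nat.shiftRight (nodeTab (Nat.add (offTab j) idx)) 22) 31
noncomputable def depF (j idx : Nat) : Nat := Nat.shiftRight (nodeTab (Nat.add (offTab j) idx)) 27

noncomputable def S : Sgs :=
  { N := 1782, k := 7, m := 24, tab := tabF, wA := wAF, wB := wBF, lev := levTab, r := 7, beta := betaTab,
    n := nTab, root := rootTab, pt := ptF, par := parF, gi := giF, dep := depF }

noncomputable def chk7 (p : Nat) : Bool := band (Nat.ble (Nat.succ (st7 p)) 1782) (Nat.beq (col1 (col6 (col3 (col4 (col0 (col1 (col2 (col3 (col1 (col2 (col0 (col1 (col6 (st7 p)))))))))))))) (col0 (col1 (col6 (col3 (col4 (col0 (col1 (col2 (col3 (col1 (col2 (col0 (col1 (col6 p)))))))))))))))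
theorem chk7_eq (p : Nat) : chk7 p = Sgs.permOK S 7 p := rfl
noncomputable def chk8 (p : Nat) : Bool := band (Nat.ble (Nat.succ (st8 p)) 1782) (Nat.beq (col6 (col4 (st7 (col4 (st7 (col6 (col4 (col1 (col0 (st7 (st8 p))))))))))) (col0 (st7 (col6 (st7 (col4 (st7 (col6 p))))))))
theorem chk8_eq (p : Nat) : chk8 p = Sgs.permOK S 8 p := rfl
noncomputable def chk9 (p : Nat) : Bool := band (Nat.ble (Nat.succ (st9 p)) 1782) (Nat.beq (st8 (st9 p)) p)
theorem chk9_eq (p : Nat) : chk9 p = Sgs.permOK S 9 p := rfl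
noncomputable def chk10 (p : Nat) : Bool := band (Nat.ble (Nat.succ (st10 p)) 1782) (Nat.beq (st10 p) (col4 p))
theorem chk10_eq (p : Nat) : chk10 p = Sgs.permOK S 10 p := rfl
noncomputable def chk11 (p : Nat) : Bool := band (Nat.ble (Nat.succ (st11 p)) 1782) (Nat.beq (col2 (st7 (st8 (col2 (col1 (col6 (st9 (st11 p)))))))) (st7 (col1 (st8 (col0 (st7 (col6 p)))))))
theorem chk11_eq (p : Nat) : chk11 p = Sgs.permOK S 11 p := rfl
noncomputable def chk12 (p : Nat) : Bool := band (Nat.ble (Nat.succ (st12 p)) 1782) (Nat.beq (st11 (st12 p)) p)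
theorem chk12_eq (p : Nat) : chk12 p = Sgs.permOK S 12 p := rfl
noncomputable def chk13 (p : Nat) : Bool := band (Nat.ble (Nat.succ (st13 p)) 1782) (Nat.beq (col1 (col0 (st7 (col3 (st9 (st12 (col5 (st13 p)))))))) (st12 (st7 (st8 (st7 (col1 p))))))
theorem chk13_eq (p : Nat) : chk13 p = Sgs.permOK S 13 p := rfl
noncomputable def chk14 (p : Nat) : Bool := band (Nat.ble (Nat.succ (st14 p)) 1782) (Nat.beq (st13 (st14 p)) (col2 (st13 p)))
theorem chk14_eq (p : Nat) : chk14 p = Sgs.permOK S 14 p := rfl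
noncomputable def chk15 (p : Nat) : Bool := band (Nat.ble (Nat.succ (st15 p)) 1782) (Nat.beq (col3 (st13 (col1 (col4 (col3 (st15 p)))))) (col0 (col2 (st8 (st7 p)))))
theorem chk15_eq (p : Nat) : chk15 p = Sgs.permOK S 15 p := rfl
noncomputable def chk16 (p : Nat) : Bool := band (Nat.ble (Nat.succ (st16 p)) 1782) (Nat.beq (st15 (st16 p)) p)
theorem chk16_eq (p : Nat) : chk16 p = Sgs.permOK S 16 p := rfl
noncomputable def chk17 (p : Nat) : Bool := band (Nat.ble (Nat.succ (st17 p)) 1782) (Nat.beq (st12 (st17 p)) (col0 (st12 p)))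
theorem chk17_eq (p : Nat) : chk17 p = Sgs.permOK S 17 p := rfl
noncomputable def chk18 (p : Nat) : Bool := band (Nat.ble (Nat.succ (st18 p)) 1782) (Nat.beq (st15 (st8 (st15 (st12 (st18 p))))) (st16 (st9 p)))
theorem chk18_eq (p : Nat) : chk18 p = Sgs.permOK S 18 p := rfl
noncomputable def chk19 (p : Nat) : Bool := band (Nat.ble (Nat.succ (st19 p)) 1782) (Nat.beq (st18 (st19 p)) p)
theorem chk19_eq (p : Nat) : chk19 p = Sgs.permOK S 19 p := rfl
noncomputable def chk20 (p : Nat) : Bool := band (Nat.ble (Nat.succ (st20 p)) 1782) (Nat.beq (st16 (st11 (st18 (col2 (st20 p))))) (st11 (st16 (st11 p))))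
theorem chk20_eq (p : Nat) : chk20 p = Sgs.permOK S 20 p := rfl
noncomputable def chk21 (p : Nat) : Bool := band (Nat.ble (Nat.succ (st21 p)) 1782) (Nat.beq (st20 (st21 p)) p)
theorem chk21_eq (p : Nat) : chk21 p = Sgs.permOK S 21 p := rfl
noncomputable def chk22 (p : Nat) : Bool := band (Nat.ble (Nat.succ (st22 p)) 1782) (Nat.beq (st15 (col4 (st19 (st13 (st18 (st22 p)))))) (st10 (st15 (col5 p))))
theorem chk22_eq (p : Nat) : chk22 p = Sgs.permOK S 22 p := rfl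
noncomputable def chk23 (p : Nat) : Bool := band (Nat.ble (Nat.succ (st23 p)) 1782) (Nat.beq (st22 (st23 p)) p)
theorem chk23_eq (p : Nat) : chk23 p = Sgs.permOK S 23 p := rfl

end Cfsg.Agent.Lib.Helper4.TCD.SuzL
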