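import Cfsg.Agent.Lib.Helper4.TCD_SuzL_Acc

namespace Cfsg.Agent.Lib.Helper4.TCD.SuzL

open Cfsg.Agent.Lib.Helper4.TC Cfsg.Agent.Lib.Helper4.TCD.Suz1

set_option maxRecDepth 100000
set_option Elab.async false

theorem c_words : allRange S.wordsOK 7 17 = true := by decide +kernel
theorem c_fix : allGrid S.fixOK 0 24 7 = true := by decide +kernel
theorem c_root : allBelow (fun j => Nat.ble (Nat.succ (S.root j)) (S.n j)) 7 = true := by decide +kernel
theorem c_n0 : S.n 0 = 1782 := by decide +kernel
theorem c_n1 : S.n 1 = 1365 := by decide +kernel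
theorem c_n2 : S.n 2 = 20 := by decide +kernel
theorem c_n3 : S.n 3 = 48 := by decide +kernel
theorem c_n4 : S.n 4 = 12 := by decide +kernel
theorem c_n5 : S.n 5 = 4 := by decide +kernel
theorem c_n6 : S.n 6 = 4 := by decide +kernel
theorem c_p7_0 : allRange chk7 0 1782 = true := by decide +kernel
theorem c_p8_0 : allRange chk8 0 1782 = true := by decide +kernel
theorem c_p9_0 : allRange chk9 0 1782 = true := by decide +kernel
theorem c_p10_0 : allRange chk10 0 1782 = true := by decide +kernel
theorem c_p11_0 : allRange chk11 0 1782 = true := by decide +kernel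
theorem c_p12_0 : allRange chk12 0 1782 = true := by decide +kernel
theorem c_p13_0 : allRange chk13 0 1782 = true := by decide +kernel
theorem c_p14_0 : allRange chk14 0 1782 = true := by decide +kernel
theorem c_p15_0 : allRange chk15 0 1782 = true := by decide +kernel
theorem c_p16_0 : allRange chk16 0 1782 = true := by decide +kernel
theorem c_p17_0 : allRange chk17 0 1782 = true := by decide +kernel
theorem c_p18_0 : allRange chk18 0 1782 = true := by decide +kernel
theorem c_p19_0 : allRange chk19 0 1782 = true := by decide +kernel
theorem c_p20_0 : allRange chk20 0 1782 = true := by decide +kernel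
theorem c_p21_0 : allRange chk21 0 1782 = true := by decide +kernel
theorem c_p22_0 : allRange chk22 0 1782 = true := by decide +kernel
theorem c_p23_0 : allRange chk23 0 1782 = true := by decide +kernel
theorem c_nd0_0 : allRange (S.nodeOK 0) 0 1782 = true := by decide +kernel
theorem c_nd1_0 : allRange (S.nodeOK 1) 0 1365 = true := by decide +kernel
theorem c_nd2_0 : allRange (S.nodeOK 2) 0 20 = true := by decide +kernel
theorem c_nd3_0 : allRange (S.nodeOK 3) 0 48 = true := by decide +kernel
theorem c_nd4_0 : allRange (S.nodeOK 4) 0 12 = true := by decide +kernel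
theorem c_nd5_0 : allRange (S.nodeOK 5) 0 4 = true := by decide +kernel
theorem c_nd6_0 : allRange (S.nodeOK 6) 0 4 = true := by decide +kernel

end Cfsg.Agent.Lib.Helper4.TCD.SuzL
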