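import Cfsg.Agent.Lib.Helper4.TC11
import Cfsg.Agent.Lib.Helper4.TCD_SuzpA_Acc
import Cfsg.Agent.Lib.Helper4.TCD_SuzpL_D0

namespace Cfsg.Agent.Lib.Helper4.TCD.SuzpL

open Cfsg.Agent.Lib.Helper4.TC Cfsg.Agent.Lib.Helper4.TCD.SuzpA

set_option maxRecDepth 100000

noncomputable def st10 (i : Nat) : Nat := rdw 11 2047 st10_0 i
noncomputable def st11 (i : Nat) : Nat := rdw 11 2047 st11_0 i
noncomputable def st12 (i : Nat) : Nat := rdw 11 2047 st12_0 i
noncomputable def st13 (i : Nat) : Nat := rdw 11 2047 st13_0 i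
noncomputable def st14 (i : Nat) : Nat := rdw 11 2047 st14_0 i
noncomputable def st15 (i : Nat) : Nat := rdw 11 2047 st15_0 i
noncomputable def st16 (i : Nat) : Nat := rdw 11 2047 st16_0 i
noncomputable def st17 (i : Nat) : Nat := rdw 11 2047 st17_0 i
noncomputable def st18 (i : Nat) : Nat := rdw 11 2047 st18_0 i
noncomputable def st19 (i : Nat) : Nat := rdw 11 2047 st19_0 i
noncomputable def st20 (i : Nat) : Nat := rdw 11 2047 st20_0 i
noncomputable def levTab (i : Nat) : Nat := rdw 3 7 levTab_0 i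
noncomputable def betaTab (i : Nat) : Nat := rdw 11 2047 betaTab_0 i
noncomputable def nodeTab_s_0_2 (c : Nat) : Nat := @Bool.rec (fun _ => Nat) (nodeTab_0) (nodeTab_1) (Nat.ble 1 c)
noncomputable def nodeTab (i : Nat) : Nat := rdw 30 1073741823 (nodeTab_s_0_2 (Nat.shiftRight i 11)) (Nat.land i 2047)
noncomputable def offTab (i : Nat) : Nat := rdw 12 4095 offTab_0 i
noncomputable def nTab (i : Nat) : Nat := rdw 11 2047 nTab_0 i
noncomputable def rootTab (i : Nat) : Nat := rdw 11 2047 rootTab_0 i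
noncomputable def tabF (i p : Nat) : Nat := @Bool.rec (fun _ => Nat) (@Bool.rec (fun _ => Nat) (@Bool.rec (fun _ => Nat) (@Bool.rec (fun _ => Nat) (col1 p) (col0 p) (Nat.ble 1 i)) (@Bool.rec (fun _ => Nat) (col3 p) (@Bool.rec (fun _ => Nat) (col2 p) (col5 p) (Nat.ble 4 i)) (Nat.ble 3 i)) (Nat.ble 2 i)) (@Bool.rec (fun _ => Nat) (@Bool.rec (fun _ => Nat) (col4 p) (col7 p) (Nat.ble 6 i)) (@Bool.rec (fun _ => Nat) (col6 p) (@Bool.rec (fun _ => Nat) (col9 p) (col8 p) (Nat.ble 9 i)) (Nat.ble 8 i)) (Nat.ble 7 i)) (Nat.ble 5 i)) (@Bool.rec (fun _ => Nat) (@Bool.rec (fun _ => Nat) (@Bool.rec (fun _ => Nat) (st10 p) (st11 p) (Nat.ble 11 i)) (@Bool.rec (fun _ => Nat) (st12 p) (@Bool.rec (fun _ => Nat) (st13 p) (st14 p) (Nat.ble 14 i)) (Nat.ble 13 i)) (Nat.ble 12 i)) (@Bool.rec (fun _ => Nat) (@Bool.rec (fun _ => Nat) (st15 p) (@Bool.rec (fun _ => Nat) (st16 p) (st17 p) (Nat.ble 17 i)) (Nat.ble 16 i)) (@Bool.rec (fun _ => Nat) (st18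 p) (@Bool.rec (fun _ => Nat) (st19 p) (st20 p) (Nat.ble 20 i)) (Nat.ble 19 i)) (Nat.ble 18 i)) (Nat.ble 15 i)) (Nat.ble 10 i)
def wAF : Nat → List Nat
  | 10 => [8, 6, 1, 2, 8]
  | 11 => [10]
  | 12 => [2, 0, 0, 8, 0, 11, 0, 6]
  | 13 => [12]
  | 14 => [13, 13, 8, 2, 2, 13]
  | 15 => [14]
  | 16 => [0, 4, 6, 1, 1, 12, 0, 15, 1, 15]
  | 17 => [16]
  | 18 => [14, 1, 2, 1, 16, 0]
  | 19 => [18]
  | 20 => [16, 0, 4, 14, 17, 2, 16, 16]
  | _ => []
def wBF : Nat → List Nat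
  | 10 => [1, 6, 1, 6, 8]
  | 11 => []
  | 12 => [4, 11, 0, 4, 8]
  | 13 => []
  | 14 => [1, 8, 2, 1, 8]
  | 15 => []
  | 16 => [4, 14, 11, 6]
  | 17 => []
  | 18 => [1, 1, 15]
  | 19 => []
  | 20 => [13, 16, 4]
  | _ => []
noncomputable def ptF (j idx : Nat) : Nat := Nat.land (nodeTab (Nat.add (offTab j) idx)) 2047
noncomputable def parF (j idx : Nat) : Nat := Nat.land (Nat.shiftRight (nodeTab (Nat.add (offTab j) idx)) 11) 2047
noncomputable def giF (j idx : Nat) : Nat := Nat.land (Nat.shiftRight (nodeTab (Nat.add (offTab j) idx)) 22) 31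
noncomputable def depF (j idx : Nat) : Nat := Nat.shiftRight (nodeTab (Nat.add (offTab j) idx)) 27

noncomputable def S : Sgs :=
  { N := 1782, k := 10, m := 21, tab := tabF, wA := wAF, wB := wBF, lev := levTab, r := 6, beta := betaTab,
    n := nTab, root := rootTab, pt := ptF, par := parF, gi := giF, dep := depF }

noncomputable def chk10 (p : Nat) : Bool := band (Nat.ble (Nat.succ (st10 p)) 1782) (Nat.beq (col9 (col7 (col0 (col3 (col9 (st10 p)))))) (col0 (col7 (col0 (col7 (col9 p))))))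
theorem chk10_eq (p : Nat) : chk10 p = Sgs.permOK S 10 p := rfl
noncomputable def chk11 (p : Nat) : Bool := band (Nat.ble (Nat.succ (st11 p)) 1782) (Nat.beq (st10 (st11 p)) p)
theorem chk11_eq (p : Nat) : chk11 p = Sgs.permOK S 11 p := rfl
noncomputable def chk12 (p : Nat) : Bool := band (Nat.ble (Nat.succ (st12 p)) 1782) (Nat.beq (col3 (col1 (col1 (col9 (col1 (st11 (col1 (col7 (st12 p))))))))) (col5 (st11 (col1 (col5 (col9 p))))))
theorem chk12_eq (p : Nat) : chk12 p = Sgs.permOK S 12 p := rfl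
noncomputable def chk13 (p : Nat) : Bool := band (Nat.ble (Nat.succ (st13 p)) 1782) (Nat.beq (st12 (st13 p)) p)
theorem chk13_eq (p : Nat) : chk13 p = Sgs.permOK S 13 p := rfl
noncomputable def chk14 (p : Nat) : Bool := band (Nat.ble (Nat.succ (st14 p)) 1782) (Nat.beq (st13 (st13 (col9 (col3 (col3 (st13 (st14 p))))))) (col0 (col9 (col3 (col0 (col9 p))))))
theorem chk14_eq (p : Nat) : chk14 p = Sgs.permOK S 14 p := rfl
noncomputable def chk15 (p : Nat) : Bool := band (Nat.ble (Nat.succ (st15 p)) 1782) (Nat.beq (st14 (st15 p)) p)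
theorem chk15_eq (p : Nat) : chk15 p = Sgs.permOK S 15 p := rfl
noncomputable def chk16 (p : Nat) : Bool := band (Nat.ble (Nat.succ (st16 p)) 1782) (Nat.beq (col1 (col5 (col7 (col0 (col0 (st12 (col1 (st15 (col0 (st15 (st16 p))))))))))) (col5 (st14 (st11 (col7 p)))))
theorem chk16_eq (p : Nat) : chk16 p = Sgs.permOK S 16 p := rfl
noncomputable def chk17 (p : Nat) : Bool := band (Nat.ble (Nat.succ (st17 p)) 1782) (Nat.beq (st16 (st17 p)) p)
theorem chk17_eq (p : Nat) : chk17 p = Sgs.permOK S 17 p := rfl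
noncomputable def chk18 (p : Nat) : Bool := band (Nat.ble (Nat.succ (st18 p)) 1782) (Nat.beq (st14 (col0 (col3 (col0 (st16 (col1 (st18 p))))))) (col0 (col0 (st15 p))))
theorem chk18_eq (p : Nat) : chk18 p = Sgs.permOK S 18 p := rfl
noncomputable def chk19 (p : Nat) : Bool := band (Nat.ble (Nat.succ (st19 p)) 1782) (Nat.beq (st18 (st19 p)) p)
theorem chk19_eq (p : Nat) : chk19 p = Sgs.permOK S 19 p := rfl
noncomputable def chk20 (p : Nat) : Bool := band (Nat.ble (Nat.succ (st20 p)) 1782) (Nat.beq (st16 (col1 (col5 (st14 (st17 (col3 (st16 (st16 (st20 p))))))))) (st13 (st16 (col5 p))))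
theorem chk20_eq (p : Nat) : chk20 p = Sgs.permOK S 20 p := rfl

end Cfsg.Agent.Lib.Helper4.TCD.SuzpL
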