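import Cfsg.Agent.Lib.Helper4.TCD_SuzpL_Acc

namespace Cfsg.Agent.Lib.Helper4.TCD.SuzpL

open Cfsg.Agent.Lib.Helper4.TC Cfsg.Agent.Lib.Helper4.TCD.SuzpA

set_option maxRecDepth 100000
set_option Elab.async false

theorem c_words : allRange S.wordsOK 10 11 = true := by decide +kernel
theorem c_fix : allGrid S.fixOK 0 21 6 = true := by decide +kernel
theorem c_root : allBelow (fun j => Nat.ble (Nat.succ (S.root j)) (S.n j)) 6 = true := by decide +kernel
theorem c_n0 : S.n 0 = 1782 := by decide +kernel
theorem c_n1 : S.n 1 = 416 := by decide +kernel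
theorem c_n2 : S.n 2 = 100 := by decide +kernel
theorem c_n3 : S.n 3 = 36 := by decide +kernel
theorem c_n4 : S.n 4 = 21 := by decide +kernel
theorem c_n5 : S.n 5 = 8 := by decide +kernel
theorem c_p10_0 : allRange chk10 0 1782 = true := by decide +kernel
theorem c_p11_0 : allRange chk11 0 1782 = true := by decide +kernel
theorem c_p12_0 : allRange chk12 0 1782 = true := by decide +kernel
theorem c_p13_0 : allRange chk13 0 1782 = true := by decide +kernel
theorem c_p14_0 : allRange chk14 0 1782 = true := by decide +kernel
theorem c_p15_0 : allRange chk15 0 1782 = true := by decide +kernel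
theorem c_p16_0 : allRange chk16 0 1782 = true := by decide +kernel
theorem c_p17_0 : allRange chk17 0 1782 = true := by decide +kernel
theorem c_p18_0 : allRange chk18 0 1782 = true := by decide +kernel
theorem c_p19_0 : allRange chk19 0 1782 = true := by decide +kernel
theorem c_p20_0 : allRange chk20 0 1782 = true := by decide +kernel
theorem c_nd0_0 : allRange (S.nodeOK 0) 0 1782 = true := by decide +kernel
theorem c_nd1_0 : allRange (S.nodeOK 1) 0 416 = true := by decide +kernel
theorem c_nd2_0 : allRange (S.nodeOK 2) 0 100 = true := by decide +kernel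
theorem c_nd3_0 : allRange (S.nodeOK 3) 0 36 = true := by decide +kernel
theorem c_nd4_0 : allRange (S.nodeOK 4) 0 21 = true := by decide +kernel
theorem c_nd5_0 : allRange (S.nodeOK 5) 0 8 = true := by decide +kernel

end Cfsg.Agent.Lib.Helper4.TCD.SuzpL
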