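namespace Cfsg.Agent.Lib.Helper4.TCD.SuzpX11

noncomputable def Atab_0 : Nat := nat_lit 0x90020007001800500100030008001000000a01e8f70ad4af54b568059bde8b3a2c28b1a8c8a31a012803a1be88ca6381cca1aa94ba1e1b2d85659b943de806a3d028783500f481b6801a08a808649e02963a600760190058ca830a4b9cec72a9e2863994a45189420537905c4868c983158c143848410183818c04280c8021804400082800
noncomputable def Btab_0 : Nat := nat_lit 0x26e20124d44023998804531100865e20104b4401f958803d29100764e200e494401b90901470f90acdf7400b396c4906bb881ac4984195d61dbaa8801d538c136a418279271256215c30a401413a6ba9410d0304f190809b2948106447000872b0130d8609c191030031082206010460b46000160410a291828c44700087c61000f041181b1840034104603d6026060c13808206000e1044018208c018c00002082300210440002085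
noncomputable def Ptab_0 : Nat := nat_lit 0x820e0f83500c0d51780a0b79096b6a08440203458077813953390b7944026a080345096b0f2b7e2a4d4f7d2e4d4f0e4402780a096b0345780a6a08382d7a2a4e4c0e03456a086a08780a44024402384d4f4d4f522a0e6a08780a6a080345384e4c2d0a4402096b34217321732775217327750a6a08534d4f394402096b4402096b03450345096b0f4e4c2f26706c712070226d6e2424236c22354402096b4402096b03450b23220a0d510345096b4402500c34231f676907695e145e14661e0844024402091f675e145e14661e081e64186260621c60185e145e145e1406440244024402091d6018155f064402075e14060345091d5c16155c16155c16155c16165a303056581a54323214462e4a4f394c484c484c484c0e364a28280c381a4204034204034204034204044010103c3e0e3a121202380e0c0a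
noncomputable def RRtab_0 : Nat := nat_lit 0x898998986767767645455454232332320101101039573957395739573957395739573957395739573957395739573957395739571397959791505313979597915053159593395950331595933959503311125953000595111259530005951539250351905215392503519052113113920020091131139200200912129303031902121293030319021305190737190513051907371905112905951902021129059519020211533091335009115330913350091152209133500911522091335009190392190392190392190392129302159503129302159503190252935319025293539999115202053521717561152020535217175613065031571306503157130573651305736577771502021502021502021502021525303005315253030053555511331122112211331122112211131113111311131113111311303121303113031213031111111111111179197919898998986767767645455454232332320101101064826482648264826482648264826482648264826482648264826482648264822414086848682024140868486820221484822848402214848228484048411124843000484111248430003418042143824034180421438240811311382002008113113820020031802121283030318021212830304180626180412041806261804120313180484183003131804841830081142208122400811422081224008114220813340081142208133400382180382180382180382180214840312830214840312830242834318024283431808888746060342413134007460603424131340064021471206402147120472641204726412066663131403131403131403131402411212434024112124340444433003300220033003300220020002000200020002000200021203021200212030212000000000000000080868086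
noncomputable def rBtab_0 : Nat := nat_lit 0x29e538a694c296528a494828e5189b12f2504848d1132184147f0f71e03a8720df1bc356684cc997316600bf1722cc56caa15029c530a514828c510a114027c4f08e10e2003c8720d61902e85609e1202103c06e0d816c2884908e0ec1802e04405805804000
noncomputable def rLtab_0 : Nat := nat_lit 0x8208208208208280e38e38e38e38e38c30a09128808c2c230c2c71020820820820820a038e38e38e38e38e30c28244a20230b08c30b1c4
noncomputable def nameTab_0 : Nat := nat_lit 0x0
noncomputable def col0_0 : Nat := nat_lit 0x0
noncomputable def col1_0 : Nat := nat_lit 0x0
noncomputable def col2_0 : Nat := nat_lit 0x0
noncomputable def col3_0 : Nat := nat_lit 0x0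
noncomputable def col4_0 : Nat := nat_lit 0x0
noncomputable def col5_0 : Nat := nat_lit 0x0
noncomputable def col6_0 : Nat := nat_lit 0x0
noncomputable def col7_0 : Nat := nat_lit 0x0
noncomputable def col8_0 : Nat := nat_lit 0x0
noncomputable def col9_0 : Nat := nat_lit 0x0
noncomputable def finTab_0 : Nat := nat_lit 0x969492908e8c8a888684
noncomputable def clsTab_0 : Nat := nat_lit 0x0

end Cfsg.Agent.Lib.Helper4.TCD.SuzpX11
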