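namespace Cfsg.Agent.Lib.Helper4.TCD.Sz8pL

noncomputable def st4_0 : Nat := nat_lit 0x3c70d59b16ced5a974dd3c04c89a1f60c8e3f366961e485d6be30509a33a4178f243888d7a30cae14e448b4a1d0065014a84540d0822c04400
noncomputable def st5_0 : Nat := nat_lit 0x345890bc074dc93f6cedf317ab9e2f3a512a9721dc0b6acc7a740c828d60a0fad56a8aa34c0c4a2426cc9e3868c16204c8811c305080c10100
noncomputable def st6_0 : Nat := nat_lit 0x357cc133f8079cbd6429e2b047023b2269d2a5ae04376c39a2218cd8930c597ae58614a84e95223428009f3a6cc972a509101e345890e14180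
noncomputable def st7_0 : Nat := nat_lit 0x3b78fdc3560b5caa509e02544dd0be3a7159b68b0c982ef4b15289099220e87b21cb869a187858a40257880e983230ad8229067c13102cc880
noncomputable def st8_0 : Nat := nat_lit 0xe200cba12c219a9229d19e74e1e9862eda2b6c4898232682251a7ca0c64196a40ea1b896098db91e7563e44fce0b2b017bc0aa903514b8080
noncomputable def st9_0 : Nat := nat_lit 0xa1c418885ccca3232ac22d727d7971208e915819c1a6c5921c6a3de0544d090d2a993b07aec5a152a9bbf27011a0180cc3a36783a57ca0080
noncomputable def levTab_0 : Nat := nat_lit 0xa5550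
noncomputable def betaTab_0 : Nat := nat_lit 0x8080
noncomputable def nodeTab_0 : Nat := nat_lit 0x5015d9800b8c8050e41265210d380c5800004c9dc0723dfa904f99327aa03bc70b5da90ee9cb272c94385241bb712d9c036b0d8344e059b35ac9b8362d9eb04e417a802b9bb95aa082c70ad5b80aa938752a40a872613b36499c834ac9ea490d11b7648998442e02206c3cfb34e7992e3add69c7218db65a6911032dd39884f0ba304599182ac969470a09b61048b8022983906c187b20c39b051ac828c6c105a80429190124c0084c083a204193010a880842c001920008000031dac08cf1fb906fa1337ac043c90b9db910ea4b373094b87245bc00cd98026b00cb46e099c35cca384630d7b0600d7b804ba3ba5ae08ac90b15c80ca9b8852e412886d53c3669a4844b00b2490d51c7668a18543202a08c40fc350798113b1d71c921cdc65c69911331d418ae9cbb3065a1192b0199480149c93a4938122d8410801c7c20e3a3061b0830c8c145b80629991128c0886c0c3b20619b020ac81044c041a202088000200000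
noncomputable def offTab_0 : Nat := nat_lit 0x814100
noncomputable def nTab_0 : Nat := nat_lit 0x1e041
noncomputable def rootTab_0 : Nat := nat_lit 0x0

end Cfsg.Agent.Lib.Helper4.TCD.Sz8pL
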