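namespace Cfsg.Agent.Lib.Helper4.TCD.Sz8pX13

noncomputable def Atab_0 : Nat := nat_lit 0x301004000406050b874722a9e2e874a81400ac9d2a16c2401100
noncomputable def Btab_0 : Nat := nat_lit 0x942015204026308044410077e5052ec809d5c0072818294a304e42a09068c110a186b0e30001060ac08c20000821
noncomputable def Ptab_0 : Nat := nat_lit 0x8841639020e58187e01907613dc44d7cf1527460de65c44d7cc68a4da55760c4082d760c4082d760c4082d760c3041ca3c72821c83c5202142
noncomputable def RRtab_0 : Nat := nat_lit 0x4d369a0412082cb65b6596cb6cb2d96d965b2db2cb65b6596cb6cb2d96d965b2db2cb65b6596cb6cb2d96d965b2db2cb65b6596cb6cb28b28b28b28b28b28b28b28b28b28b28b28b28b28b28b28b28b28b28b28b28b28b28b28b28b28b65b2d96cb65b2d96cb65b2d96cb65b2cb2cb2cb2cb2cb6db6db2492ca2ca4d369a041208490482092090412412082482410490482092090412412082482410490482092090412412082482410490482092090418418418418418418418418418418418418418418418418418418418418418418418418418418412090482412090482412090482412090410410410410410492492000610610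
noncomputable def rBtab_0 : Nat := nat_lit 0xa3288a12808099a5c15c55150521445013c4e0ba148280500c02000
noncomputable def rLtab_0 : Nat := nat_lit 0x82082ff454a1021020820bfd15284084
noncomputable def nameTab_0 : Nat := nat_lit 0x0
noncomputable def col0_0 : Nat := nat_lit 0x0
noncomputable def col1_0 : Nat := nat_lit 0x0
noncomputable def col2_0 : Nat := nat_lit 0x0
noncomputable def col3_0 : Nat := nat_lit 0x0
noncomputable def finTab_0 : Nat := nat_lit 0xb2aa26
noncomputable def clsTab_0 : Nat := nat_lit 0x0

end Cfsg.Agent.Lib.Helper4.TCD.Sz8pX13
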