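import Mathlib
import Cfsg.Prelude.Def_SporCoxeter

/-! The unitary group U3(3) of order 6048 presented on an element `c` of order 7 and an element `d` of order 4 (generated). -/

namespace Cfsg.Agent.Lib.Helper4

namespace U33p

/-- the generators -/
inductive Gen
  | c
  | d
  deriving DecidableEq

abbrev c : FreeGroup Gen := FreeGroup.of Gen.c
abbrev d : FreeGroup Gen := FreeGroup.of Gen.d

/-- no Coxeter graph -/
def edges : List (Gen × ℕ × Gen) := []

/-- the relators -/
def extra : List (FreeGroup Gen) := [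
  c ^ 7,
  c * c * d * c⁻¹ * d * c * d⁻¹ * c * d * c⁻¹ * d,
  (c * c * c * d) ^ 3,
  c * c * d * d * c * c * d⁻¹ * d⁻¹ * c * c * d⁻¹ * d⁻¹ ]

end U33p

end Cfsg.Agent.Lib.Helper4
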