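namespace Cfsg.Agent.Lib.Helper4.TCD.U33pL

noncomputable def st4_0 : Nat := nat_lit 0xc4eb67ea1ba2e49620f7315a4c8c4a0ba20
noncomputable def st5_0 : Nat := nat_lit 0xa58fb66333d4435b892f9120e6ad4831460
noncomputable def st6_0 : Nat := nat_lit 0xacd967251b3c22f29ae45e154136411eb20
noncomputable def st7_0 : Nat := nat_lit 0xa082a6e368d163285cd95a6d59b9ec19c80
noncomputable def st8_0 : Nat := nat_lit 0xbe670abdcd661764a3678c8a62514218740
noncomputable def st9_0 : Nat := nat_lit 0x68752dc2e6ca978b5693895ee6212719040
noncomputable def levTab_0 : Nat := nat_lit 0xaa5a0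
noncomputable def betaTab_0 : Nat := nat_lit 0x460
noncomputable def nodeTab_0 : Nat := nat_lit 0x180689832a0d344262911c900864020000b866d40348c19869c326ddae6cd315505a38c4da42490118948455bd115c8cad6436252ada0d4d58952543919ca88cd42544020000d480450414b8da80e91872401861bba3c59ac2ac7746479a9c49206283106707b4139cedae4ec6925a2c29a412d4884213b5199a28a88244a11a908888020000
noncomputable def offTab_0 : Nat := nat_lit 0x37700
noncomputable def nTab_0 : Nat := nat_lit 0x237c
noncomputable def rootTab_0 : Nat := nat_lit 0x40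

end Cfsg.Agent.Lib.Helper4.TCD.U33pL
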