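namespace Cfsg.Agent.Lib.Helper4.TCD.U33pX7

noncomputable def Atab_0 : Nat := nat_lit 0xc040100010281c763d14808cd54226c2401100
noncomputable def Btab_0 : Nat := nat_lit 0xc0408b8407b0406a84059c6275260d0e202082000420000200
noncomputable def Ptab_0 : Nat := nat_lit 0x6041593820cf11618d4cd4c61494494441cd4cd4d42842894443821502040cf1d231230c202
noncomputable def RRtab_0 : Nat := nat_lit 0x4d369a04120825b25225225b25225224b24b24b24b24b24b2586516192c328b0c92492492492534da68104821b01b01201b01b01201001001001001001001141845008a0c2280000000000000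
noncomputable def rBtab_0 : Nat := nat_lit 0xc8c4c0bca48c766866625e5a563e26100200
noncomputable def rLtab_0 : Nat := nat_lit 0x2222ccb712222ccb71
noncomputable def nameTab_0 : Nat := nat_lit 0x0
noncomputable def col0_0 : Nat := nat_lit 0x0
noncomputable def col1_0 : Nat := nat_lit 0x0
noncomputable def col2_0 : Nat := nat_lit 0x0
noncomputable def col3_0 : Nat := nat_lit 0x0
noncomputable def finTab_0 : Nat := nat_lit 0x81e71a
noncomputable def clsTab_0 : Nat := nat_lit 0x0

end Cfsg.Agent.Lib.Helper4.TCD.U33pX7
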