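import Cfsg.Agent.Lib.Helper4.TC7
import Cfsg.Agent.Lib.Helper4.TCP_U35p
import Cfsg.Agent.Lib.Helper4.TCD_U35pB_D0

namespace Cfsg.Agent.Lib.Helper4.TCD.U35pB

open Cfsg.Agent.Lib.Helper4.TC

set_option maxRecDepth 100000

noncomputable def Atab (i : Nat) : Nat := rdw 18 262143 Atab_0 i
noncomputable def Btab (i : Nat) : Nat := rdw 25 33554431 Btab_0 i
noncomputable def Ptab (i : Nat) : Nat := rdw 9 511 Ptab_0 i
noncomputable def RRtab (i : Nat) : Nat := rdw 4 15 RRtab_0 i
noncomputable def rBtab (i : Nat) : Nat := rdw 9 511 rBtab_0 i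
noncomputable def rLtab (i : Nat) : Nat := rdw 5 31 rLtab_0 i
noncomputable def nameTab (i : Nat) : Nat := rdw 7 127 nameTab_0 i
noncomputable def col0 (i : Nat) : Nat := rdw 6 63 col0_0 i
noncomputable def col1 (i : Nat) : Nat := rdw 6 63 col1_0 i
noncomputable def col2 (i : Nat) : Nat := rdw 6 63 col2_0 i
noncomputable def col3 (i : Nat) : Nat := rdw 6 63 col3_0 i
noncomputable def finTab (i : Nat) : Nat := rdw 9 511 finTab_0 i
noncomputable def clsTab (i : Nat) : Nat := rdw 6 63 clsTab_0 i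
noncomputable def oparTab (i : Nat) : Nat := rdw 6 63 oparTab_0 i
noncomputable def olabTab (i : Nat) : Nat := rdw 2 3 olabTab_0 i
noncomputable def srcF (t : Nat) : Nat := Nat.land (Atab t) 127
noncomputable def tgtF (t : Nat) : Nat := Nat.land (Nat.shiftRight (Atab t) 7) 127
noncomputable def ltF (t : Nat) : Nat := Nat.shiftRight (Atab t) 14
noncomputable def rhoF (t : Nat) : Nat := Nat.land (Btab (Nat.sub t 85)) 31
noncomputable def rotF (t : Nat) : Nat := Nat.land (Nat.shiftRight (Btab (Nat.sub t 85)) 5) 31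
noncomputable def lenF (t : Nat) : Nat := Nat.land (Nat.shiftRight (Btab (Nat.sub t 85)) 10) 31
noncomputable def offF (t : Nat) : Nat := Nat.shiftRight (Btab (Nat.sub t 85)) 15
noncomputable def pfF (j : Nat) : Nat := Nat.shiftRight (Ptab j) 1
noncomputable def pdF (j : Nat) : Nat := Nat.land (Ptab j) 1
noncomputable def tblF (i x : Nat) : Nat := @Bool.rec (fun _ => Nat) (@Bool.rec (fun _ => Nat) (col0 i) (col1 i) (Nat.ble 1 x)) (@Bool.rec (fun _ => Nat) (col2 i) (col3 i) (Nat.ble 3 x)) (Nat.ble 2 x)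
noncomputable def finE (i x : Nat) : Nat := finTab (Nat.add (Nat.mul i 4) x)
noncomputable def finFF (i x : Nat) : Nat := Nat.shiftRight (finE i x) 1
noncomputable def finDF (i x : Nat) : Nat := Nat.land (finE i x) 1

noncomputable def D : Log :=
  { k := 4, inv := invE 4 PU35p.invR, nR := 26, rBase := rBtab, rLen := rLtab, RR := RRtab,
    M := 81, nB := 4, F := 219, src := srcF, lt := ltF, tgt := tgtF, rho := rhoF, rot := rotF,
    off := offF, len := lenF, pf := pfF, pd := pdF }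

noncomputable def T : Tab :=
  { N := 50, nameOf := nameTab, tbl := tblF, finF := finFF, finD := finDF, cls := clsTab }

def subs : List (List Nat) := [
  [0],
  [2, 0, 2] ]

def rw0 : List Nat := [0, 0, 0, 0, 0, 0, 0]
def rw1 : List Nat := [2, 2, 2, 2]
def rw2 : List Nat := [0, 2, 0, 2, 0, 2, 0, 2]
def rw3 : List Nat := [0, 2, 1, 2, 0, 2, 2, 1, 3, 0, 3, 1, 2, 2]
def rw4 : List Nat := [0, 2, 1, 2, 2, 0, 2, 1, 3, 0, 2, 2, 1, 3]
def rw5 : List Nat := [0, 3, 0, 3, 0, 3, 0, 3, 0, 3, 0, 3, 0, 3]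
def rw6 : List Nat := [0, 0, 2, 1, 1, 2, 2, 1, 2, 0, 2, 1, 2, 2, 1, 1, 2]
def realLit : List (List Nat) := [rw0, rw1, rw2, rw3, rw4, rw5, rw6]
noncomputable def actR0 (i : Nat) : Nat := col1 (col1 (col1 (col1 (col1 (col1 (col1 (i)))))))
theorem actR0_eq (i : Nat) : actR0 i = Tab.act T D rw0 i := rfl
noncomputable def actR1 (i : Nat) : Nat := col3 (col3 (col3 (col3 (i))))
theorem actR1_eq (i : Nat) : actR1 i = Tab.act T D rw1 i := rfl
noncomputable def actR2 (i : Nat) : Nat := col1 (col3 (col1 (col3 (col1 (col3 (col1 (col3 (i))))))))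
theorem actR2_eq (i : Nat) : actR2 i = Tab.act T D rw2 i := rfl
noncomputable def actR3 (i : Nat) : Nat := col1 (col3 (col0 (col3 (col1 (col3 (col3 (col0 (col2 (col1 (col2 (col0 (col3 (col3 (i))))))))))))))
theorem actR3_eq (i : Nat) : actR3 i = Tab.act T D rw3 i := rfl
noncomputable def actR4 (i : Nat) : Nat := col1 (col3 (col0 (col3 (col3 (col1 (col3 (col0 (col2 (col1 (col3 (col3 (col0 (col2 (i))))))))))))))
theorem actR4_eq (i : Nat) : actR4 i = Tab.act T D rw4 i := rfl
noncomputable def actR5 (i : Nat) : Nat := col1 (col2 (col1 (col2 (col1 (col2 (col1 (col2 (col1 (col2 (col1 (col2 (col1 (col2 (i))))))))))))))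
theorem actR5_eq (i : Nat) : actR5 i = Tab.act T D rw5 i := rfl
noncomputable def actR6 (i : Nat) : Nat := col1 (col1 (col3 (col0 (col0 (col3 (col3 (col0 (col3 (col1 (col3 (col0 (col3 (col3 (col0 (col0 (col3 (i)))))))))))))))))
theorem actR6_eq (i : Nat) : actR6 i = Tab.act T D rw6 i := rfl

end Cfsg.Agent.Lib.Helper4.TCD.U35pB
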