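namespace Cfsg.Agent.Lib.Helper4.TCD.U35pL

noncomputable def st4_0 : Nat := nat_lit 0x2d05d1dcefa502b5b87a4c65422f25b4520c41a6b90c148903945f3546bfecd836f57771f3921116e83f2f51725d07dd22f80194991b3daca9166338a99b3621788edd6255fc7a09919755342aba92f799682cee8727c21d7249f32b50c47c7beaf3401cc0c081b86ecf46b7b2fdc
noncomputable def st5_0 : Nat := nat_lit 0x244e47e2fb4f56d2ada985745b141f82eaa63fb3e89566aa4cd8b0336b0007f5bb61e56f7050f66142ee8716db0e9ab66130630ed67e2b8439ee0c7a5f4656b3ec80f9d8a5e650b1ae9b5f7390981883453c92417c8c11a1c6594f1ce4e4937892276ef18dd96693567e52d48220d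
noncomputable def st6_0 : Nat := nat_lit 0x129999b963d16b538dc11eb5214c66c52fec4570a267832184ff0baed05f86d1b28f474067a9cc33091d0af6d844a496b18c4b79f2824a7895291e8620ed3a91e680ad9ae5f8c0fdb739c51bc1cd68b1d5c849471fdc27936ba44fbbb74c7816fd6caaf98504de5b5cb892185acf8
noncomputable def st7_0 : Nat := nat_lit 0x1642d55c6002b3114ea4182e021e8ccb1ed9ba4a8d041a5cfb173b89ef9c561c0a3d1c46d37fc1441caab6fb887e44fe51b639b62c5333a5bc43bc610a929663da623b7505ec3b7964f5e58ea4fec06a5dd5dc24ab1e1297e45d60a6c9361256376e3a03efbf3694d473a0c8456d5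
noncomputable def st8_0 : Nat := nat_lit 0x2f35e7647c08fdbaeef73e8c103d0e9384a83b34a727156c8d017b9f685f30bbd0c5b56b31106b8dde595cbf446d638ef0c30d8daf8789810480507e6c8178fe32d0d2a305f6abc91da94bb227b385c52ca61749b6e69548b5bc067221d829382f2ae2586e49ed3d31523e06437bc
noncomputable def st9_0 : Nat := nat_lit 0x333b8a290bc440d49a0c23dbea348f64ad730f73b1bd2ee84dfb13e708ba728c907d1f1aaba0279a7a76520cafe2dca96df7e51754200b1e5b3884c829bbdb946a8ea87305f899982d7fb6be40b6c9d8b60cc684134380f4bcda982d702b127e72866769fa371dd400560fea978c8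
noncomputable def st10_0 : Nat := nat_lit 0x5d6e395f4ad0a41e3a29c0948ad92a350d065721f626c12bb49654dc46a925673f97ae1179fbb7d32234c208f21200679bd9238ed09bc3c0d78f972dbc8cf6a9f5aeb0305f91105a8cbab5a07414db5dfc87bfb73de71d072c32ac98fc566e9e08c454c87ea972b1cdcc1ec98340
noncomputable def levTab_0 : Nat := nat_lit 0x2a55a0
noncomputable def betaTab_0 : Nat := nat_lit 0x182f
noncomputable def nodeTab_0 : Nat := nat_lit 0x290de09809464048340201800f1501704801b00000274bf5a4df8cb77b542bd3281e5af9f0d3cf74a2bb244bd5d1ae8cf773473f9245dc5c40e09c56f493f7294bb512ed8d3a6b90ab5480fa5a9ad0a12e773f3322159552ec89976352bb136c38620bc0dee5f71f2f289f76539b8d7adb50bad399b65aeeb0dfcd76dc2b361b55be6a8aa7d3706a939dd44bafa08a7cf462a736d935bf598d364b890a5372925afc90db8c767f233add15d6488cbe436a9a1261505a6180d763f6f85f3934f5a6d792a0bb6879d4a0ae5a9970d8a376669b34ccd5a6b690d13394a993232c400060597ae6dd56b7f8b22c756d132a73d14b5a4a14cf4e892a628bd2b52491a4046dfa2275010b5048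1ae63e8d29e7498eb63c71b93369929a4ab8cb4c861c992ed8116724caa59e511ae26a05126e088b93c419c01ee8c8e52286b4e031d7c165578a75884b7c821b260ecb8066a782b98011d7406a928271b80b41a01ba5fb26b7c606fdba15e9a9df2a207889ebbb515d9a25ead5c7487bf9b0a1c9a2ee2c17706e2b7b4a1b9c1ddac976c955b5c14daa13fd2d926874773b0719990acae97646cbb1a58189b62c3087608be6fc0db79c50bad005c6692db85d69833b307cd8804abb73b59b80ab1f3d475429b1674a4efa29d85065427b31539d249b21fcc66ce5b99129ca4928e04868ce3c1351a3988b2b2c483f61c54d09b0a82457c06c75fb7c4f9b787ae9c3c6229dc630ea4db728a0388265bc334d98486ad7c3449019c61cc9bb362417b000017a660b9d335b28c2c6b215c44ca9bb8530ab2873413b93a992304a8602471891b266898b843141208b9cfb34a790303b18f1c5500db14a69aae32c0e988638bc604599e22ad681466b89b8144a38222c8e9091e47b43a39c8a1b1fc8c95f45a56029b9b12d4d8861e03c57619c240ac050495d41b33a0988002a6000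
noncomputable def offTab_0 : Nat := nat_lit 0x3ecfc00
noncomputable def nTab_0 : Nat := nat_lit 0x23efe
noncomputable def rootTab_0 : Nat := nat_lit 0x17af

end Cfsg.Agent.Lib.Helper4.TCD.U35pL
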