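import Cfsg.Agent.Lib.Helper4.TCD_U35pU1_Acc

namespace Cfsg.Agent.Lib.Helper4.TCD.U35pU1

open Cfsg.Agent.Lib.Helper4.TC

set_option maxRecDepth 100000
set_option Elab.async false

theorem c_zero : D.zeroOK = true := by decide +kernel
theorem c_base : allBelow D.baseOK 2 = true := by decide +kernel
theorem c_let : allBelow D.letOK 4 = true := by decide +kernel
theorem c_cls0 : T.cls 0 = 0 := by decide +kernel
theorem c_name0 : T.nameOf 0 = 0 := by decide +kernel
theorem c_tab : D.relTabOK 0 (baseRels 4 invLoc realLoc subs ++ (baseRels 4 invLoc realLoc subs).map (invWord D.inv)) = true := by decide +kernel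
theorem c_subs : subs.all (fun u => u.all (fun x => Nat.ble (Nat.succ x) 4)) = true := by decide +kernel
theorem c_names_0 : allRange D.nameOK 1 50991 = true := by decide +kernel
theorem c_cls_0 : allRange (T.clsOK D) 1 15000 = true := by decide +kernel
theorem c_cls_1 : allRange (T.clsOK D) 15001 15000 = true := by decide +kernel
theorem c_cls_2 : allRange (T.clsOK D) 30001 15000 = true := by decide +kernel
theorem c_cls_3 : allRange (T.clsOK D) 45001 5991 = true := by decide +kernel
theorem c_rep_0 : allRange (T.repOK D) 0 18000 = true := by decide +kernel
theorem c_rel_0 : allRange D.relOK 50994 2109 = true := by decide +kernel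
theorem c_rel_1 : allRange D.relOK 53103 1985 = true := by decide +kernel
theorem c_rel_2 : allRange D.relOK 55088 1863 = true := by decide +kernel
theorem c_rel_3 : allRange D.relOK 56951 1813 = true := by decide +kernel
theorem c_rel_4 : allRange D.relOK 58764 1764 = true := by decide +kernel
theorem c_rel_5 : allRange D.relOK 60528 1696 = true := by decide +kernel
theorem c_rel_6 : allRange D.relOK 62224 2007 = true := by decide +kernel
theorem c_rel_7 : allRange D.relOK 64231 2154 = true := by decide +kernel
theorem c_rel_8 : allRange D.relOK 66385 3564 = true := by decide +kernel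
theorem c_rel_9 : allRange D.relOK 69949 3342 = true := by decide +kernel
theorem c_rel_10 : allRange D.relOK 73291 2636 = true := by decide +kernel
theorem c_rel_11 : allRange D.relOK 75927 2654 = true := by decide +kernel
theorem c_rel_12 : allRange D.relOK 78581 2173 = true := by decide +kernel
theorem c_rel_13 : allRange D.relOK 80754 2217 = true := by decide +kernel
theorem c_rel_14 : allRange D.relOK 82971 1920 = true := by decide +kernel
theorem c_rel_15 : allRange D.relOK 84891 1800 = true := by decide +kernel
theorem c_rel_16 : allRange D.relOK 86691 1757 = true := by decide +kernel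
theorem c_rel_17 : allRange D.relOK 88448 1688 = true := by decide +kernel
theorem c_rel_18 : allRange D.relOK 90136 1487 = true := by decide +kernel
theorem c_rel_19 : allRange D.relOK 91623 1485 = true := by decide +kernel
theorem c_rel_20 : allRange D.relOK 93108 1330 = true := by decide +kernel
theorem c_rel_21 : allRange D.relOK 94438 1207 = true := by decide +kernel
theorem c_rel_22 : allRange D.relOK 95645 1193 = true := by decide +kernel
theorem c_rel_23 : allRange D.relOK 96838 998 = true := by decide +kernel
theorem c_rel_24 : allRange D.relOK 97836 3882 = true := by decide +kernel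
theorem c_rel_25 : allRange D.relOK 101718 4937 = true := by decide +kernel
theorem c_rel_26 : allRange D.relOK 106655 4914 = true := by decide +kernel
theorem c_rel_27 : allRange D.relOK 111569 4877 = true := by decide +kernel
theorem c_rel_28 : allRange D.relOK 116446 4814 = true := by decide +kernel
theorem c_rel_29 : allRange D.relOK 121260 4109 = true := by decide +kernel
theorem c_fin_0 : allGrid (T.finOK D) 0 3000 4 = true := by decide +kernel
theorem c_fin_1 : allGrid (T.finOK D) 3000 3000 4 = true := by decide +kernel
theorem c_fin_2 : allGrid (T.finOK D) 6000 3000 4 = true := by decide +kernel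
theorem c_fin_3 : allGrid (T.finOK D) 9000 3000 4 = true := by decide +kernel
theorem c_fin_4 : allGrid (T.finOK D) 12000 3000 4 = true := by decide +kernel
theorem c_fin_5 : allGrid (T.finOK D) 15000 3000 4 = true := by decide +kernel
theorem c_perm_0 : allGrid (T.permOK1 D) 0 7500 4 = true := by decide +kernel
theorem c_perm_1 : allGrid (T.permOK1 D) 7500 7500 4 = true := by decide +kernel
theorem c_perm_2 : allGrid (T.permOK1 D) 15000 3000 4 = true := by decide +kernel

end Cfsg.Agent.Lib.Helper4.TCD.U35pU1
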