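namespace Cfsg.Agent.Lib.Helper4.TCD.U35pX7

noncomputable def Atab_0 : Nat := nat_lit 0x301004000416050316c793b14808cd54226c2401100
noncomputable def Btab_0 : Nat := nat_lit 0xc4605dc302ac101350808988154630a909824328c3142000430881080000400
noncomputable def Ptab_0 : Nat := nat_lit 0x61275c4d93820cf29b15b11818d5525ca2511033c73554972894442902043821d431230a107202
noncomputable def RRtab_0 : Nat := nat_lit 0x4d369a0412082580d86586c064b01b0cb0d80ca28a28a28a28a28a28a28b0d96116c22c365845b08b0cb61141b2c32d84506cb2cb2cb2cb2db6db6c92492492492534da6810482112914114894022522822912806186186186186186186186520ca09141948328245048b0ca4114122c3290450410410410410492492000000000000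
noncomputable def rBtab_0 : Nat := nat_lit 0xac552a14c95439e4d6632f960ae55299449e3e18088280c0400400
noncomputable def rLtab_0 : Nat := nat_lit 0x108428b9ce410e1108428b9ce410e1
noncomputable def nameTab_0 : Nat := nat_lit 0x0
noncomputable def col0_0 : Nat := nat_lit 0x0
noncomputable def col1_0 : Nat := nat_lit 0x0
noncomputable def col2_0 : Nat := nat_lit 0x0
noncomputable def col3_0 : Nat := nat_lit 0x0
noncomputable def finTab_0 : Nat := nat_lit 0x92281e
noncomputable def clsTab_0 : Nat := nat_lit 0x0

end Cfsg.Agent.Lib.Helper4.TCD.U35pX7
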