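namespace Cfsg.Agent.Lib.Helper4.TCD.U42pA

noncomputable def Atab_0 : Nat := nat_lit 0x108200821bae3aee1aad3b2d0aad0aec1aec0a691a2819e73967192438e608261965382407a307620861371f069f369d061c365b05db04d9355725920456155534d405140392040f03d002cd028c328b02494085400711c712080106008520c420830043000080007000600050003baa3b692b282ae63aa33a622a2239e109a0295f391e08de089d385c281b07da37993758071806d726960653361235d105912550350f24ce048e344d240d33cc238c034b030a32c922883246220621c501840142210100c1308020404000
noncomputable def Btab_0 : Nat := nat_lit 0xb18806b08805a8442da6102ca0ac2e9e902c973c8491ac6e8a3d0484ac437f2c8376c42d74902c6d3d6f67ac8e6704205fbd045d902c5d04205c8420553c844fac8e4f04204d102c4c8420453d0f44842044042042102c39c62239042033ac8331902c2c2c432b84202b042023bcc423042022842020902c1ab043190c2813300e0bbc04062c8305842005042003102101104a008420000409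
noncomputable def Ptab_0 : Nat := nat_lit 0x780a0b795cc25ab952a53a39a09f9c4551b659bdc45c54ae575ab85bbf544649b048a6555a5251595ab952a59d9ea138308727333da65558b659bb56ada8b1a94d5758b750443a39a09f342c2f96414d5752a59d9e4baa4a3e9c455350443a3943a2429b3ba4514ea3429b3087273398972e2d353f4baab24e42a04b4847ae4c4036938c923741acaf46494c40972e8e908727943d474c4a3e342c2281167b1780238e353f4b483c98414644429b30871c18147315191d25319a433e348f221a7d191d8631393e3a3091353836938d2a831e7f7c80238e9087273336322e22212b241c181473100c08686c70137a1780238e2c2a841e7f147315191f822b281e1d272885201a167b17802183292482201a167b127108686c70117215191f1a1816121115127108686b0b796a06090d130f7705750e6f0466050b0f750e6f040e0a6a06090d1172100c08686b0b0f100c6d69026603076c70110c0a0802056a060265050661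
noncomputable def RRtab_0 : Nat := nat_lit 0x31338313381616232332320101101002021313020213130202131302021313021302130213021302130213131313131313131313131313131313131313333333333311117220272202505023233232010110102020313120203131202031312020313120312031203120312031203120202020202020202020202020202020202022222222220000
noncomputable def rBtab_0 : Nat := nat_lit 0x20d027f3e9ecf2692e92c8c441f8f476391b8d44a190380800
noncomputable def rLtab_0 : Nat := nat_lit 0xa210842832451144210850648a2
noncomputable def nameTab_0 : Nat := nat_lit 0x28b6a6ee5e27657185085532a4b2064b32b98d9da8e939f79284f416251086103040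
noncomputable def col0_0 : Nat := nat_lit 0x2caab9e8a659a48a38607d95dc59579475b6984ce35031244f2c92861c8143101080
noncomputable def col1_0 : Nat := nat_lit 0x2caab9e8a659a48a38607d95dc59579475b6984ce35031244f2c92861c8143101080
noncomputable def col2_0 : Nat := nat_lit 0x1b4116aa1ac89338c29d9e160dadca473e85892e55667a46488d77d21140200850c1
noncomputable def col3_0 : Nat := nat_lit 0x266e86567d048e2e578424f81ab2935d295446908aab5e37224e150c627087043005
noncomputable def finTab_0 : Nat := nat_lit 0x5158b6b7c05bc2be5c55bfc398403796c45dc6c7922f9736525045a49c3ba5444bb3aaab42a1399a3a319b388a298988111472732b938c8d278b9532157d7f18a849b0b159c1babc41a9ad4c3c9933947c17811a1e1c197e57c5bdbbae564dac22201b80b24fb4b5359d9f3e54af47a65a53b9b81d268724a04a3f9e483da746309025864e43a3a2281f8384212a858291342d8e16137b7a2e238f2c6b05cac812100d70096c710c6d6a07680308690604026766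
noncomputable def clsTab_0 : Nat := nat_lit 0x28adb5aa42c4d591c4662da38d963a526629c87e178c18928f51761d1e0004143085040
noncomputable def oparTab_0 : Nat := nat_lit 0x2aaa99e69659238a101e7175d655551449140f38e34c30b2892071861440c3081000
noncomputable def olabTab_0 : Nat := nat_lit 0x11145115144554115545440

end Cfsg.Agent.Lib.Helper4.TCD.U42pA
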