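import Mathlib
import Cfsg.Prelude.Def_SporCoxeter

/-!
A presentation of the group `U₄(2) ≅ S₄(3)` of order 25920 on two generators `a`, `b`:
`a² = b⁵ = (ab)⁹ = [a,b]³ = [a,bab]² = 1`
(written as a group presented by an empty Coxeter graph and a list of relators).
-/

namespace Cfsg.Agent.Lib.Helper4

namespace U42p

/-- the two generators -/
inductive Gen
  | a
  | b
  deriving DecidableEq

abbrev a : FreeGroup Gen := FreeGroup.of Gen.a
abbrev b : FreeGroup Gen := FreeGroup.of Gen.b

/-- no Coxeter graph -/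
def edges : List (Gen × ℕ × Gen) := []

/-- the relators -/
def extra : List (FreeGroup Gen) := [
  a ^ 2,
  b ^ 5,
  (a * b) ^ 9,
  (a⁻¹ * b⁻¹ * a * b) ^ 3,
  (a⁻¹ * (b * a * b)⁻¹ * a * (b * a * b)) ^ 2 ]

end U42p

end Cfsg.Agent.Lib.Helper4
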