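namespace Cfsg.Agent.Lib.Helper4.TCD.U42pL

noncomputable def st4_0 : Nat := nat_lit 0x2c8e29a89699e4aea84b71d79f69b5c365558441245324e34a80c3c81461d4602040
noncomputable def st5_0 : Nat := nat_lit 0x2caab9e8a659a48a38607d95dc59579475b6984ce35031244f2c92861c8143101080
noncomputable def st6_0 : Nat := nat_lit 0x229ac9e9a248eb86a95d7c44954536497165cb3a030a3da35b2061541d06020de040
noncomputable def st7_0 : Nat := nat_lit 0x2a922a27a6b86696c8d27c281730e64555670869d6c63d335151060b1ca25e0c4040
noncomputable def st8_0 : Nat := nat_lit 0x229ec8e58689a992aac464b09c38a5985df55d19e69b0d03534912603cc1481d4040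
noncomputable def st9_0 : Nat := nat_lit 0x2a862926ae5a23a6c9c859251c4117d85d954230b28e1db34679a2440d31603dd040
noncomputable def levTab_0 : Nat := nat_lit 0x1b251012
noncomputable def betaTab_0 : Nat := nat_lit 0x81140
noncomputable def nodeTab_0 : Nat := nat_lit 0xc80e9801400004a4175804c30157500a8400080000c90e0d0abf1c379c26ed659c8c5b6e496a83ac9611880e2f41a5a032aa05d4905a720a49c128b72505031f24f3a0206b038c6c99680828b884b74c82820ed89180002b008452306e530a0020e78acb10d7491aa9b34d69e886fcf4d09ab432e9a64af0c748c8a1bd0c3120664bed8279c84ec47dcac63724a6a03cca615880eaf25f5abaeab8094a45a725e4a4148c72907039f4123a9326c03cc90f16c092938a4c81084828f094189002b70844608688508980080000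
noncomputable def offTab_0 : Nat := nat_lit 0xa735680
noncomputable def nTab_0 : Nat := nat_lit 0xc682d
noncomputable def rootTab_0 : Nat := nat_lit 0x100

end Cfsg.Agent.Lib.Helper4.TCD.U42pL
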