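namespace Cfsg.Agent.Lib.Helper4.TCD.U42pX5

noncomputable def Atab_0 : Nat := nat_lit 0x6080800831e1015aa0240
noncomputable def Btab_0 : Nat := nat_lit 0x90404c420220100ef08060f7168410001080000421
noncomputable def Ptab_0 : Nat := nat_lit 0x1442adc21bced495633b52558ced495633b52558ced49882
noncomputable def RRtab_0 : Nat := nat_lit 0x4d369a0412080822cb0822cb0822cb0822cb08b08b08b08b08b08b2cb2cb2cb2cb2cb2cb2cb2cb2cb6db6db6c925b4d369a041208410659410659410659410659419419419419419419410410410410410410410410410492492480012
noncomputable def rBtab_0 : Nat := nat_lit 0xf4f0ece8c8b08c827e7c7874706c4c3410060200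
noncomputable def rLtab_0 : Nat := nat_lit 0x10842832451044210a0c91441
noncomputable def nameTab_0 : Nat := nat_lit 0x0
noncomputable def col0_0 : Nat := nat_lit 0x0
noncomputable def col1_0 : Nat := nat_lit 0x0
noncomputable def col2_0 : Nat := nat_lit 0x0
noncomputable def col3_0 : Nat := nat_lit 0x0
noncomputable def finTab_0 : Nat := nat_lit 0xb5250
noncomputable def clsTab_0 : Nat := nat_lit 0x0

end Cfsg.Agent.Lib.Helper4.TCD.U42pX5
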