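import Mathlib
import Cfsg.Prelude.Def_SporCoxeter

/-! The unitary group U5(2) of order 13685760 presented on generators `a`, `b`, `w` of a subgroup GU4(2) (satisfying the relators of `GU42p`) and an involution `u` (generated). -/

namespace Cfsg.Agent.Lib.Helper4

namespace U52p

/-- the generators -/
inductive Gen
  | a
  | b
  | w
  | u
  deriving DecidableEq

abbrev a : FreeGroup Gen := FreeGroup.of Gen.a
abbrev b : FreeGroup Gen := FreeGroup.of Gen.b
abbrev w : FreeGroup Gen := FreeGroup.of Gen.w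
abbrev u : FreeGroup Gen := FreeGroup.of Gen.u

/-- no Coxeter graph -/
def edges : List (Gen × ℕ × Gen) := []

/-- the relators -/
def extra : List (FreeGroup Gen) := [
  a ^ 2,
  b ^ 5,
  (a * b) ^ 9,
  (a⁻¹ * b⁻¹ * a * b) ^ 3,
  (a⁻¹ * b⁻¹ * a⁻¹ * b⁻¹ * a * b * a * b) ^ 2,
  w ^ 3,
  w⁻¹ * a⁻¹ * w * a,
  w⁻¹ * b⁻¹ * w * b,
  u ^ 2,
  (a * u) ^ 3,
  a * b * a * b * w * u * a * b * u ]

end U52p

end Cfsg.Agent.Lib.Helper4
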