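import Cfsg.Agent.Lib.Helper4.TCD_U52pB_Acc

namespace Cfsg.Agent.Lib.Helper4.TCD.U52pB

open Cfsg.Agent.Lib.Helper4.TC

set_option maxRecDepth 100000
set_option Elab.async false

theorem c_zero : D.zeroOK = true := by decide +kernel
theorem c_base : allBelow D.baseOK 4 = true := by decide +kernel
theorem c_let : allBelow D.letOK 8 = true := by decide +kernel
theorem c_cls0 : T.cls 0 = 0 := by decide +kernel
theorem c_name0 : T.nameOf 0 = 0 := by decide +kernel
theorem c_tab : D.relTabOK 0 (baseRels 8 PU52p.invR PU52p.P.real subs ++ (baseRels 8 PU52p.invR PU52p.P.real subs).map (invWord D.inv)) = true := by decide +kernel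
theorem c_real : PU52p.P.real = realLit := by decide +kernel
theorem c_subfix : subs.all (fun u => Nat.beq (Tab.act T D u 0) 0) = true := by decide +kernel
theorem c_subs : subs.all (fun u => u.all (fun x => Nat.ble (Nat.succ x) 8)) = true := by decide +kernel
theorem c_names_0 : allRange D.nameOK 1 44173 = true := by decide +kernel
theorem c_cls_0 : allRange (T.clsOK D) 1 15000 = true := by decide +kernel
theorem c_cls_1 : allRange (T.clsOK D) 15001 15000 = true := by decide +kernel
theorem c_cls_2 : allRange (T.clsOK D) 30001 14173 = true := by decide +kernel
theorem c_rep_0 : allRange (T.repOK D) 0 30000 = true := by decide +kernel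
theorem c_rep_1 : allRange (T.repOK D) 30000 3792 = true := by decide +kernel
theorem c_rel_0 : allRange D.relOK 44178 4001 = true := by decide +kernel
theorem c_rel_1 : allRange D.relOK 48179 3689 = true := by decide +kernel
theorem c_rel_2 : allRange D.relOK 51868 3556 = true := by decide +kernel
theorem c_rel_3 : allRange D.relOK 55424 3281 = true := by decide +kernel
theorem c_rel_4 : allRange D.relOK 58705 3382 = true := by decide +kernel
theorem c_rel_5 : allRange D.relOK 62087 3096 = true := by decide +kernel
theorem c_rel_6 : allRange D.relOK 65183 3465 = true := by decide +kernel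
theorem c_rel_7 : allRange D.relOK 68648 3065 = true := by decide +kernel
theorem c_rel_8 : allRange D.relOK 71713 2415 = true := by decide +kernel
theorem c_rel_9 : allRange D.relOK 74128 2641 = true := by decide +kernel
theorem c_rel_10 : allRange D.relOK 76769 2869 = true := by decide +kernel
theorem c_rel_11 : allRange D.relOK 79638 2731 = true := by decide +kernel
theorem c_rel_12 : allRange D.relOK 82369 2755 = true := by decide +kernel
theorem c_rel_13 : allRange D.relOK 85124 2842 = true := by decide +kernel
theorem c_rel_14 : allRange D.relOK 87966 2942 = true := by decide +kernel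
theorem c_rel_15 : allRange D.relOK 90908 2907 = true := by decide +kernel
theorem c_rel_16 : allRange D.relOK 93815 2907 = true := by decide +kernel
theorem c_rel_17 : allRange D.relOK 96722 2788 = true := by decide +kernel
theorem c_rel_18 : allRange D.relOK 99510 2825 = true := by decide +kernel
theorem c_rel_19 : allRange D.relOK 102335 2840 = true := by decide +kernel
theorem c_rel_20 : allRange D.relOK 105175 2792 = true := by decide +kernel
theorem c_rel_21 : allRange D.relOK 107967 2838 = true := by decide +kernel
theorem c_rel_22 : allRange D.relOK 110805 2860 = true := by decide +kernel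
theorem c_rel_23 : allRange D.relOK 113665 2812 = true := by decide +kernel
theorem c_rel_24 : allRange D.relOK 116477 2807 = true := by decide +kernel
theorem c_rel_25 : allRange D.relOK 119284 2780 = true := by decide +kernel
theorem c_rel_26 : allRange D.relOK 122064 2730 = true := by decide +kernel
theorem c_rel_27 : allRange D.relOK 124794 2738 = true := by decide +kernel
theorem c_rel_28 : allRange D.relOK 127532 2688 = true := by decide +kernel
theorem c_rel_29 : allRange D.relOK 130220 2677 = true := by decide +kernel
theorem c_rel_30 : allRange D.relOK 132897 2722 = true := by decide +kernel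
theorem c_rel_31 : allRange D.relOK 135619 2698 = true := by decide +kernel
theorem c_rel_32 : allRange D.relOK 138317 2619 = true := by decide +kernel
theorem c_rel_33 : allRange D.relOK 140936 2626 = true := by decide +kernel
theorem c_rel_34 : allRange D.relOK 143562 2564 = true := by decide +kernel
theorem c_rel_35 : allRange D.relOK 146126 2550 = true := by decide +kernel
theorem c_rel_36 : allRange D.relOK 148676 2497 = true := by decide +kernel
theorem c_rel_37 : allRange D.relOK 151173 2441 = true := by decide +kernel
theorem c_rel_38 : allRange D.relOK 153614 2479 = true := by decide +kernel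
theorem c_rel_39 : allRange D.relOK 156093 3405 = true := by decide +kernel
theorem c_rel_40 : allRange D.relOK 159498 4824 = true := by decide +kernel
theorem c_rel_41 : allRange D.relOK 164322 4852 = true := by decide +kernel
theorem c_rel_42 : allRange D.relOK 169174 4936 = true := by decide +kernel
theorem c_rel_43 : allRange D.relOK 174110 4968 = true := by decide +kernel
theorem c_rel_44 : allRange D.relOK 179078 4982 = true := by decide +kernel
theorem c_rel_45 : allRange D.relOK 184060 708 = true := by decide +kernel
theorem c_fin_0 : allGrid (T.finOK D) 0 1500 8 = true := by decide +kernel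
theorem c_fin_1 : allGrid (T.finOK D) 1500 1500 8 = true := by decide +kernel
theorem c_fin_2 : allGrid (T.finOK D) 3000 1500 8 = true := by decide +kernel
theorem c_fin_3 : allGrid (T.finOK D) 4500 1500 8 = true := by decide +kernel
theorem c_fin_4 : allGrid (T.finOK D) 6000 1500 8 = true := by decide +kernel
theorem c_fin_5 : allGrid (T.finOK D) 7500 1500 8 = true := by decide +kernel
theorem c_fin_6 : allGrid (T.finOK D) 9000 1500 8 = true := by decide +kernel
theorem c_fin_7 : allGrid (T.finOK D) 10500 1500 8 = true := by decide +kernel
theorem c_fin_8 : allGrid (T.finOK D) 12000 1500 8 = true := by decide +kernel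
theorem c_fin_9 : allGrid (T.finOK D) 13500 1500 8 = true := by decide +kernel
theorem c_fin_10 : allGrid (T.finOK D) 15000 1500 8 = true := by decide +kernel
theorem c_fin_11 : allGrid (T.finOK D) 16500 1500 8 = true := by decide +kernel
theorem c_fin_12 : allGrid (T.finOK D) 18000 1500 8 = true := by decide +kernel
theorem c_fin_13 : allGrid (T.finOK D) 19500 1500 8 = true := by decide +kernel
theorem c_fin_14 : allGrid (T.finOK D) 21000 1500 8 = true := by decide +kernel
theorem c_fin_15 : allGrid (T.finOK D) 22500 1500 8 = true := by decide +kernel
theorem c_fin_16 : allGrid (T.finOK D) 24000 1500 8 = true := by decide +kernel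
theorem c_fin_17 : allGrid (T.finOK D) 25500 1500 8 = true := by decide +kernel
theorem c_fin_18 : allGrid (T.finOK D) 27000 1500 8 = true := by decide +kernel
theorem c_fin_19 : allGrid (T.finOK D) 28500 1500 8 = true := by decide +kernel
theorem c_fin_20 : allGrid (T.finOK D) 30000 1500 8 = true := by decide +kernel
theorem c_fin_21 : allGrid (T.finOK D) 31500 1500 8 = true := by decide +kernel
theorem c_fin_22 : allGrid (T.finOK D) 33000 792 8 = true := by decide +kernel

end Cfsg.Agent.Lib.Helper4.TCD.U52pB
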