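namespace Cfsg.Agent.Lib.Helper4.TCD.U52pX11

noncomputable def Atab_0 : Nat := nat_lit 0x70060050040030020010000080484585a84980181787b2b70bb61b28b15a1496446552552448028262626062365450016b15a1491381271660550440330220010800
noncomputable def Btab_0 : Nat := nat_lit 0xc2604ef1812b84046d1010b0403eb100ea840369100c9c8142161cb7e6145e18506cc1319984f5ca009610404ae22920849444000f984738606cd1080304200a209c2083206984f10a008310400a21241900002416800841
noncomputable def Ptab_0 : Nat := nat_lit 0x488860d4696308131d2040a95f0206fe21b882a131546d3405e9a02f5898a3f1649f8978e9b3b7a65cbb1ce071164e07342c092221861a162c44a0216481094c99428141528b1015289428c220081ce20087860c0e28482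
noncomputable def RRtab_0 : Nat := nat_lit 0x6767767645455454232332320101101013135713713135713717171717171777774253425340514051555555020213130202131302021313020213130213021302130213021302131313131313131313131313131313131313133333333333111133733767677676454554542323323201011010620642020620642020606060606060666624352435041504154444442020313120203131202031312020313120312031203120312031203120202020202020202020202020202020202022222222220000622622
noncomputable def rBtab_0 : Nat := nat_lit 0xc66230980be5e2e970af54a9d469f4e231006e3499cc86230178b85a2c158a84b2290c7e3b1c0a0380a0280c00
noncomputable def rLtab_0 : Nat := nat_lit 0x10842108424984420e0c9144310842108424984420e0c91443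
noncomputable def nameTab_0 : Nat := nat_lit 0x0
noncomputable def col0_0 : Nat := nat_lit 0x0
noncomputable def col1_0 : Nat := nat_lit 0x0
noncomputable def col2_0 : Nat := nat_lit 0x0
noncomputable def col3_0 : Nat := nat_lit 0x0
noncomputable def col4_0 : Nat := nat_lit 0x0
noncomputable def col5_0 : Nat := nat_lit 0x0
noncomputable def col6_0 : Nat := nat_lit 0x0
noncomputable def col7_0 : Nat := nat_lit 0x0
noncomputable def finTab_0 : Nat := nat_lit 0xad529509d32548
noncomputable def clsTab_0 : Nat := nat_lit 0x0

end Cfsg.Agent.Lib.Helper4.TCD.U52pX11
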