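import Mathlib
import Cfsg.Prelude.Def_SporCoxeter

/-! The unitary group U6(2) of order 9196830720 presented on generators `a`, `b`, `w`, `u` of a subgroup U5(2) (satisfying the relators of `U52p`) and an element `v` of order 3 (generated). -/

namespace Cfsg.Agent.Lib.Helper4

namespace U62p

/-- the generators -/
inductive Gen
  | a
  | b
  | w
  | u
  | v
  deriving DecidableEq

abbrev a : FreeGroup Gen := FreeGroup.of Gen.a
abbrev b : FreeGroup Gen := FreeGroup.of Gen.b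
abbrev w : FreeGroup Gen := FreeGroup.of Gen.w
abbrev u : FreeGroup Gen := FreeGroup.of Gen.u
abbrev v : FreeGroup Gen := FreeGroup.of Gen.v

/-- no Coxeter graph -/
def edges : List (Gen × ℕ × Gen) := []

/-- the relators -/
def extra : List (FreeGroup Gen) := [
  a ^ 2,
  b ^ 5,
  (a * b) ^ 9,
  (a⁻¹ * b⁻¹ * a * b) ^ 3,
  (a⁻¹ * b⁻¹ * a⁻¹ * b⁻¹ * a * b * a * b) ^ 2,
  w ^ 3,
  w⁻¹ * a⁻¹ * w * a,
  w⁻¹ * b⁻¹ * w * b,
  u ^ 2,
  (a * u) ^ 3,
  a * b * a * b * w * u * a * b * u,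
  v ^ 3,
  a * b * a * b * a * b * w * u * b * a * v * b * a * b⁻¹ * v⁻¹ * a * b⁻¹,
  a * b * a * b * a * b * a * v * w * v * b * a * b⁻¹ * a * b⁻¹ * a * b * b,
  a * b * a * b * a * b * a * b⁻¹ * b⁻¹ * a * b⁻¹ * w * u * b * b * u * a * b⁻¹ * v * u * v * w⁻¹ * b * u * v⁻¹ * b⁻¹ * b⁻¹ ]

end U62p

end Cfsg.Agent.Lib.Helper4
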