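import Mathlib
import Cfsg.Prelude.Def_SporCoxeter

/-!
The group `Y₅₃₂` with the spider relation: eleven involutions forming the Coxeter graph with centre `a`
and arms `a – b – c – d – e – f`, `a – g – h – m`, `a – i – j` (all labels 3), subject to the Coxeter
relations and the single further relation `(a b c a g h a i j)^10 = 1`.
-/

namespace Cfsg.Agent.Lib.Helper4

namespace Y532

/-- the eleven generators -/
inductive Gen
  | a
  | b
  | c
  | d
  | e
  | f
  | g
  | h
  | m
  | i
  | j
  deriving DecidableEq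

abbrev a : FreeGroup Gen := FreeGroup.of Gen.a
abbrev b : FreeGroup Gen := FreeGroup.of Gen.b
abbrev c : FreeGroup Gen := FreeGroup.of Gen.c
abbrev d : FreeGroup Gen := FreeGroup.of Gen.d
abbrev e : FreeGroup Gen := FreeGroup.of Gen.e
abbrev f : FreeGroup Gen := FreeGroup.of Gen.f
abbrev g : FreeGroup Gen := FreeGroup.of Gen.g
abbrev h : FreeGroup Gen := FreeGroup.of Gen.h
abbrev m : FreeGroup Gen := FreeGroup.of Gen.m
abbrev i : FreeGroup Gen := FreeGroup.of Gen.i
abbrev j : FreeGroup Gen := FreeGroup.of Gen.j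

/-- the Coxeter graph -/
def edges : List (Gen × ℕ × Gen) :=
  [(.a, 3, .b), (.b, 3, .c), (.c, 3, .d), (.d, 3, .e), (.e, 3, .f), (.a, 3, .g), (.g, 3, .h), (.h, 3, .m),
    (.a, 3, .i), (.i, 3, .j)]

/-- the spider relator -/
def extra : List (FreeGroup Gen) := [
  (a * b * c * a * g * h * a * i * j) ^ 10 ]

end Y532

end Cfsg.Agent.Lib.Helper4
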