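import Mathlib
import Cfsg.Agent.Lib.Helper4.Y532Def
import Cfsg.Agent.Lib.Helper4.TC7

/-! The letter encoding of the presentation of Y532 (generated). -/

namespace Cfsg.Agent.Lib.Helper4.TC.PY532

set_option linter.unusedSimpArgs false
set_option linter.unusedTactic false
set_option linter.unreachableTactic false

open Cfsg.Spor Cfsg.Agent.Lib.Helper4 Cfsg.Agent.Lib.Helper4.Y532 Cfsg.Agent.Lib.Helper4.TC Cfsg.Agent.Lib.Helper4.TC.Log

def enc : Gen → ℕ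
  | .a => 0
  | .b => 1
  | .c => 2
  | .d => 3
  | .e => 4
  | .f => 5
  | .g => 6
  | .h => 7
  | .m => 8
  | .i => 9
  | .j => 10

def dec : ℕ → FreeGroup Gen
  | 0 => FreeGroup.of Gen.a
  | 1 => FreeGroup.of Gen.b
  | 2 => FreeGroup.of Gen.c
  | 3 => FreeGroup.of Gen.d
  | 4 => FreeGroup.of Gen.e
  | 5 => FreeGroup.of Gen.f
  | 6 => FreeGroup.of Gen.g
  | 7 => FreeGroup.of Gen.h
  | 8 => FreeGroup.of Gen.m
  | 9 => FreeGroup.of Gen.i
  | 10 => FreeGroup.of Gen.j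
  | _ => 1

def invR : ℕ → ℕ
  | l => l

def tri : List (ℕ × ℕ × ℕ) := [(0, 0, 1), (0, 1, 3), (0, 2, 2), (0, 3, 2), (0, 4, 2), (0, 5, 2), (0, 6, 3), (0, 7, 2), (0, 8, 2), (0, 9, 3), (0, 10, 2), (1, 1, 1), (1, 2, 3), (1, 3, 2), (1, 4, 2), (1, 5, 2), (1, 6, 2), (1, 7, 2), (1, 8, 2), (1, 9, 2), (1, 10, 2), (2, 2, 1), (2, 3, 3), (2, 4, 2), (2, 5, 2), (2, 6, 2), (2, 7, 2), (2, 8, 2), (2, 9, 2), (2, 10, 2), (3, 3, 1), (3, 4, 3), (3, 5, 2), (3, 6, 2), (3, 7, 2), (3, 8, 2), (3, 9, 2), (3, 10, 2), (4, 4, 1), (4, 5, 3), (4, 6, 2), (4, 7, 2), (4, 8, 2), (4, 9, 2), (4, 10, 2), (5, 5, 1), (5, 6, 2), (5, 7, 2), (5, 8, 2), (5, 9, 2), (5, 10, 2), (6, 6, 1), (6, 7, 3), (6, 8, 2), (6, 9, 2), (6, 10, 2), (7, 7, 1), (7, 8, 3), (7, 9, 2), (7, 10, 2), (8, 8, 1), (8, 9, 2), (8, 10, 2), (9, 9, 1), (9, 10, 3), (10, 10, 1)]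

def extraW : List (List ℕ) := [
  (List.replicate 10 [0, 1, 2, 0, 6, 7, 0, 9, 10]).flatten ]

def P : CoxEnc Gen :=
  { edges := Y532.edges, extra := Y532.extra, k := 11, enc := enc, dec := dec, invR := invR, tri := tri,
    extraW := extraW }

theorem valid : P.Valid where
  hnode := by
    intro x hx
    cases x <;> first | exact ⟨rfl, by decide, rfl⟩ | exact absurd hx (by decide)
  hsound := by decide +kernel
  hcomplete := by decide +kernel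
  hlen := rfl
  hextraW := by decide +kernel
  hinvk := rfl
  hsurj := by
    intro x
    cases x
    · exact ⟨0, by decide, rfl⟩
    · exact ⟨1, by decide, rfl⟩
    · exact ⟨2, by decide, rfl⟩
    · exact ⟨3, by decide, rfl⟩
    · exact ⟨4, by decide, rfl⟩
    · exact ⟨5, by decide, rfl⟩
    · exact ⟨6, by decide, rfl⟩
    · exact ⟨7, by decide, rfl⟩
    · exact ⟨8, by decide, rfl⟩
    · exact ⟨9, by decide, rfl⟩
    · exact ⟨10, by decide, rfl⟩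
  hdec := by
    intro l hl
    have hl : l < 11 := hl
    interval_cases l
    · exact Or.inl ⟨Gen.a, rfl, rfl⟩
    · exact Or.inl ⟨Gen.b, rfl, rfl⟩
    · exact Or.inl ⟨Gen.c, rfl, rfl⟩
    · exact Or.inl ⟨Gen.d, rfl, rfl⟩
    · exact Or.inl ⟨Gen.e, rfl, rfl⟩
    · exact Or.inl ⟨Gen.f, rfl, rfl⟩
    · exact Or.inl ⟨Gen.g, rfl, rfl⟩
    · exact Or.inl ⟨Gen.h, rfl, rfl⟩
    · exact Or.inl ⟨Gen.m, rfl, rfl⟩
    · exact Or.inl ⟨Gen.i, rfl, rfl⟩
    · exact Or.inl ⟨Gen.j, rfl, rfl⟩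
  hinvR := by
    intro l hl
    have hl : l < 11 := hl
    interval_cases l
    · exact ⟨by decide, Or.inr ⟨rfl, Gen.a, by decide, rfl⟩⟩
    · exact ⟨by decide, Or.inr ⟨rfl, Gen.b, by decide, rfl⟩⟩
    · exact ⟨by decide, Or.inr ⟨rfl, Gen.c, by decide, rfl⟩⟩
    · exact ⟨by decide, Or.inr ⟨rfl, Gen.d, by decide, rfl⟩⟩
    · exact ⟨by decide, Or.inr ⟨rfl, Gen.e, by decide, rfl⟩⟩
    · exact ⟨by decide, Or.inr ⟨rfl, Gen.f, by decide, rfl⟩⟩
    · exact ⟨by decide, Or.inr ⟨rfl, Gen.g, by decide, rfl⟩⟩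
    · exact ⟨by decide, Or.inr ⟨rfl, Gen.h, by decide, rfl⟩⟩
    · exact ⟨by decide, Or.inr ⟨rfl, Gen.m, by decide, rfl⟩⟩
    · exact ⟨by decide, Or.inr ⟨rfl, Gen.i, by decide, rfl⟩⟩
    · exact ⟨by decide, Or.inr ⟨rfl, Gen.j, by decide, rfl⟩⟩
  hextra := by
    intro Γ _ f hn i h h'
    have ha : (f Gen.a)⁻¹ = f Gen.a := inv_eq_of_mul_eq_one_right (hn _ (by decide))
    have hb : (f Gen.b)⁻¹ = f Gen.b := inv_eq_of_mul_eq_one_right (hn _ (by decide))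
    have hc : (f Gen.c)⁻¹ = f Gen.c := inv_eq_of_mul_eq_one_right (hn _ (by decide))
    have hd : (f Gen.d)⁻¹ = f Gen.d := inv_eq_of_mul_eq_one_right (hn _ (by decide))
    have he : (f Gen.e)⁻¹ = f Gen.e := inv_eq_of_mul_eq_one_right (hn _ (by decide))
    have hf : (f Gen.f)⁻¹ = f Gen.f := inv_eq_of_mul_eq_one_right (hn _ (by decide))
    have hg : (f Gen.g)⁻¹ = f Gen.g := inv_eq_of_mul_eq_one_right (hn _ (by decide))
    have hh : (f Gen.h)⁻¹ = f Gen.h := inv_eq_of_mul_eq_one_right (hn _ (by decide))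
    have hm : (f Gen.m)⁻¹ = f Gen.m := inv_eq_of_mul_eq_one_right (hn _ (by decide))
    have hi : (f Gen.i)⁻¹ = f Gen.i := inv_eq_of_mul_eq_one_right (hn _ (by decide))
    have hj : (f Gen.j)⁻¹ = f Gen.j := inv_eq_of_mul_eq_one_right (hn _ (by decide))
    have hi : i < 1 := h
    interval_cases i
    · show FreeGroup.lift f (Y532.extra[0]) = wordP (fun l => FreeGroup.lift f (dec l)) (extraW[0])
      simp only [Y532.extra, extraW, List.getElem_cons_zero, List.getElem_cons_succ, wordP_replicate_flatten,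
        wordP_append, wordP_cons, wordP_nil, dec, map_mul, map_pow, map_inv, FreeGroup.lift_apply_of, mul_one,
        ← inv_pow, mul_inv_rev, inv_inv, mul_assoc, ha, hb, hc, hd, he, hf, hg, hh, hm, hi, hj]

end Cfsg.Agent.Lib.Helper4.TC.PY532
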