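import Cfsg.Agent.Lib.Helper4.TC14
import Cfsg.Agent.Lib.Helper4.TCP_Y532
import Cfsg.Agent.Lib.Helper4.TCD_Y532R_D0
import Cfsg.Agent.Lib.Helper4.TCD_Y532R_D1

namespace Cfsg.Agent.Lib.Helper4.TCD.Y532R

open Cfsg.Agent.Lib.Helper4.TC

set_option maxRecDepth 100000

noncomputable def col0_s_0_2 (c : Nat) : Nat := @Bool.rec (fun _ => Nat) (col0_0) (col0_1) (Nat.ble 1 c)
noncomputable def col0_s_2_4 (c : Nat) : Nat := @Bool.rec (fun _ => Nat) (col0_2) (col0_3) (Nat.ble 3 c)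
noncomputable def col0_s_0_4 (c : Nat) : Nat := @Bool.rec (fun _ => Nat) (col0_s_0_2 c) (col0_s_2_4 c) (Nat.ble 2 c)
noncomputable def col0_s_4_6 (c : Nat) : Nat := @Bool.rec (fun _ => Nat) (col0_4) (col0_5) (Nat.ble 5 c)
noncomputable def col0_s_6_8 (c : Nat) : Nat := @Bool.rec (fun _ => Nat) (col0_6) (col0_7) (Nat.ble 7 c)
noncomputable def col0_s_4_8 (c : Nat) : Nat := @Bool.rec (fun _ => Nat) (col0_s_4_6 c) (col0_s_6_8 c) (Nat.ble 6 c)
noncomputable def col0_s_0_8 (c : Nat) : Nat := @Bool.rec (fun _ => Nat) (col0_s_0_4 c) (col0_s_4_8 c) (Nat.ble 4 c)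
noncomputable def col0_s_8_10 (c : Nat) : Nat := @Bool.rec (fun _ => Nat) (col0_8) (col0_9) (Nat.ble 9 c)
noncomputable def col0_s_10_12 (c : Nat) : Nat := @Bool.rec (fun _ => Nat) (col0_10) (col0_11) (Nat.ble 11 c)
noncomputable def col0_s_8_12 (c : Nat) : Nat := @Bool.rec (fun _ => Nat) (col0_s_8_10 c) (col0_s_10_12 c) (Nat.ble 10 c)
noncomputable def col0_s_12_14 (c : Nat) : Nat := @Bool.rec (fun _ => Nat) (col0_12) (col0_13) (Nat.ble 13 c)
noncomputable def col0_s_14_16 (c : Nat) : Nat := @Bool.rec (fun _ => Nat) (col0_14) (col0_15) (Nat.ble 15 c)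
noncomputable def col0_s_12_16 (c : Nat) : Nat := @Bool.rec (fun _ => Nat) (col0_s_12_14 c) (col0_s_14_16 c) (Nat.ble 14 c)
noncomputable def col0_s_8_16 (c : Nat) : Nat := @Bool.rec (fun _ => Nat) (col0_s_8_12 c) (col0_s_12_16 c) (Nat.ble 12 c)
noncomputable def col0_s_0_16 (c : Nat) : Nat := @Bool.rec (fun _ => Nat) (col0_s_0_8 c) (col0_s_8_16 c) (Nat.ble 8 c)
noncomputable def col0 (i : Nat) : Nat := rdw 16 65535 (col0_s_0_16 (Nat.shiftRight i 12)) (Nat.land i 4095)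
noncomputable def col1_s_0_2 (c : Nat) : Nat := @Bool.rec (fun _ => Nat) (col1_0) (col1_1) (Nat.ble 1 c)
noncomputable def col1_s_2_4 (c : Nat) : Nat := @Bool.rec (fun _ => Nat) (col1_2) (col1_3) (Nat.ble 3 c)
noncomputable def col1_s_0_4 (c : Nat) : Nat := @Bool.rec (fun _ => Nat) (col1_s_0_2 c) (col1_s_2_4 c) (Nat.ble 2 c)
noncomputable def col1_s_4_6 (c : Nat) : Nat := @Bool.rec (fun _ => Nat) (col1_4) (col1_5) (Nat.ble 5 c)
noncomputable def col1_s_6_8 (c : Nat) : Nat := @Bool.rec (fun _ => Nat) (col1_6) (col1_7) (Nat.ble 7 c)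
noncomputable def col1_s_4_8 (c : Nat) : Nat := @Bool.rec (fun _ => Nat) (col1_s_4_6 c) (col1_s_6_8 c) (Nat.ble 6 c)
noncomputable def col1_s_0_8 (c : Nat) : Nat := @Bool.rec (fun _ => Nat) (col1_s_0_4 c) (col1_s_4_8 c) (Nat.ble 4 c)
noncomputable def col1_s_8_10 (c : Nat) : Nat := @Bool.rec (fun _ => Nat) (col1_8) (col1_9) (Nat.ble 9 c)
noncomputable def col1_s_10_12 (c : Nat) : Nat := @Bool.rec (fun _ => Nat) (col1_10) (col1_11) (Nat.ble 11 c)
noncomputable def col1_s_8_12 (c : Nat) : Nat := @Bool.rec (fun _ => Nat) (col1_s_8_10 c) (col1_s_10_12 c) (Nat.ble 10 c)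
noncomputable def col1_s_12_14 (c : Nat) : Nat := @Bool.rec (fun _ => Nat) (col1_12) (col1_13) (Nat.ble 13 c)
noncomputable def col1_s_14_16 (c : Nat) : Nat := @Bool.rec (fun _ => Nat) (col1_14) (col1_15) (Nat.ble 15 c)
noncomputable def col1_s_12_16 (c : Nat) : Nat := @Bool.rec (fun _ => Nat) (col1_s_12_14 c) (col1_s_14_16 c) (Nat.ble 14 c)
noncomputable def col1_s_8_16 (c : Nat) : Nat := @Bool.rec (fun _ => Nat) (col1_s_8_12 c) (col1_s_12_16 c) (Nat.ble 12 c)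
noncomputable def col1_s_0_16 (c : Nat) : Nat := @Bool.rec (fun _ => Nat) (col1_s_0_8 c) (col1_s_8_16 c) (Nat.ble 8 c)
noncomputable def col1 (i : Nat) : Nat := rdw 16 65535 (col1_s_0_16 (Nat.shiftRight i 12)) (Nat.land i 4095)
noncomputable def col2_s_0_2 (c : Nat) : Nat := @Bool.rec (fun _ => Nat) (col2_0) (col2_1) (Nat.ble 1 c)
noncomputable def col2_s_2_4 (c : Nat) : Nat := @Bool.rec (fun _ => Nat) (col2_2) (col2_3) (Nat.ble 3 c)
noncomputable def col2_s_0_4 (c : Nat) : Nat := @Bool.rec (fun _ => Nat) (col2_s_0_2 c) (col2_s_2_4 c) (Nat.ble 2 c)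
noncomputable def col2_s_4_6 (c : Nat) : Nat := @Bool.rec (fun _ => Nat) (col2_4) (col2_5) (Nat.ble 5 c)
noncomputable def col2_s_6_8 (c : Nat) : Nat := @Bool.rec (fun _ => Nat) (col2_6) (col2_7) (Nat.ble 7 c)
noncomputable def col2_s_4_8 (c : Nat) : Nat := @Bool.rec (fun _ => Nat) (col2_s_4_6 c) (col2_s_6_8 c) (Nat.ble 6 c)
noncomputable def col2_s_0_8 (c : Nat) : Nat := @Bool.rec (fun _ => Nat) (col2_s_0_4 c) (col2_s_4_8 c) (Nat.ble 4 c)
noncomputable def col2_s_8_10 (c : Nat) : Nat := @Bool.rec (fun _ => Nat) (col2_8) (col2_9) (Nat.ble 9 c)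
noncomputable def col2_s_10_12 (c : Nat) : Nat := @Bool.rec (fun _ => Nat) (col2_10) (col2_11) (Nat.ble 11 c)
noncomputable def col2_s_8_12 (c : Nat) : Nat := @Bool.rec (fun _ => Nat) (col2_s_8_10 c) (col2_s_10_12 c) (Nat.ble 10 c)
noncomputable def col2_s_12_14 (c : Nat) : Nat := @Bool.rec (fun _ => Nat) (col2_12) (col2_13) (Nat.ble 13 c)
noncomputable def col2_s_14_16 (c : Nat) : Nat := @Bool.rec (fun _ => Nat) (col2_14) (col2_15) (Nat.ble 15 c)
noncomputable def col2_s_12_16 (c : Nat) : Nat := @Bool.rec (fun _ => Nat) (col2_s_12_14 c) (col2_s_14_16 c) (Nat.ble 14 c)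
noncomputable def col2_s_8_16 (c : Nat) : Nat := @Bool.rec (fun _ => Nat) (col2_s_8_12 c) (col2_s_12_16 c) (Nat.ble 12 c)
noncomputable def col2_s_0_16 (c : Nat) : Nat := @Bool.rec (fun _ => Nat) (col2_s_0_8 c) (col2_s_8_16 c) (Nat.ble 8 c)
noncomputable def col2 (i : Nat) : Nat := rdw 16 65535 (col2_s_0_16 (Nat.shiftRight i 12)) (Nat.land i 4095)
noncomputable def col3_s_0_2 (c : Nat) : Nat := @Bool.rec (fun _ => Nat) (col3_0) (col3_1) (Nat.ble 1 c)
noncomputable def col3_s_2_4 (c : Nat) : Nat := @Bool.rec (fun _ => Nat) (col3_2) (col3_3) (Nat.ble 3 c)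
noncomputable def col3_s_0_4 (c : Nat) : Nat := @Bool.rec (fun _ => Nat) (col3_s_0_2 c) (col3_s_2_4 c) (Nat.ble 2 c)
noncomputable def col3_s_4_6 (c : Nat) : Nat := @Bool.rec (fun _ => Nat) (col3_4) (col3_5) (Nat.ble 5 c)
noncomputable def col3_s_6_8 (c : Nat) : Nat := @Bool.rec (fun _ => Nat) (col3_6) (col3_7) (Nat.ble 7 c)
noncomputable def col3_s_4_8 (c : Nat) : Nat := @Bool.rec (fun _ => Nat) (col3_s_4_6 c) (col3_s_6_8 c) (Nat.ble 6 c)
noncomputable def col3_s_0_8 (c : Nat) : Nat := @Bool.rec (fun _ => Nat) (col3_s_0_4 c) (col3_s_4_8 c) (Nat.ble 4 c)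
noncomputable def col3_s_8_10 (c : Nat) : Nat := @Bool.rec (fun _ => Nat) (col3_8) (col3_9) (Nat.ble 9 c)
noncomputable def col3_s_10_12 (c : Nat) : Nat := @Bool.rec (fun _ => Nat) (col3_10) (col3_11) (Nat.ble 11 c)
noncomputable def col3_s_8_12 (c : Nat) : Nat := @Bool.rec (fun _ => Nat) (col3_s_8_10 c) (col3_s_10_12 c) (Nat.ble 10 c)
noncomputable def col3_s_12_14 (c : Nat) : Nat := @Bool.rec (fun _ => Nat) (col3_12) (col3_13) (Nat.ble 13 c)
noncomputable def col3_s_14_16 (c : Nat) : Nat := @Bool.rec (fun _ => Nat) (col3_14) (col3_15) (Nat.ble 15 c)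
noncomputable def col3_s_12_16 (c : Nat) : Nat := @Bool.rec (fun _ => Nat) (col3_s_12_14 c) (col3_s_14_16 c) (Nat.ble 14 c)
noncomputable def col3_s_8_16 (c : Nat) : Nat := @Bool.rec (fun _ => Nat) (col3_s_8_12 c) (col3_s_12_16 c) (Nat.ble 12 c)
noncomputable def col3_s_0_16 (c : Nat) : Nat := @Bool.rec (fun _ => Nat) (col3_s_0_8 c) (col3_s_8_16 c) (Nat.ble 8 c)
noncomputable def col3 (i : Nat) : Nat := rdw 16 65535 (col3_s_0_16 (Nat.shiftRight i 12)) (Nat.land i 4095)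
noncomputable def col4_s_0_2 (c : Nat) : Nat := @Bool.rec (fun _ => Nat) (col4_0) (col4_1) (Nat.ble 1 c)
noncomputable def col4_s_2_4 (c : Nat) : Nat := @Bool.rec (fun _ => Nat) (col4_2) (col4_3) (Nat.ble 3 c)
noncomputable def col4_s_0_4 (c : Nat) : Nat := @Bool.rec (fun _ => Nat) (col4_s_0_2 c) (col4_s_2_4 c) (Nat.ble 2 c)
noncomputable def col4_s_4_6 (c : Nat) : Nat := @Bool.rec (fun _ => Nat) (col4_4) (col4_5) (Nat.ble 5 c)
noncomputable def col4_s_6_8 (c : Nat) : Nat := @Bool.rec (fun _ => Nat) (col4_6) (col4_7) (Nat.ble 7 c)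
noncomputable def col4_s_4_8 (c : Nat) : Nat := @Bool.rec (fun _ => Nat) (col4_s_4_6 c) (col4_s_6_8 c) (Nat.ble 6 c)
noncomputable def col4_s_0_8 (c : Nat) : Nat := @Bool.rec (fun _ => Nat) (col4_s_0_4 c) (col4_s_4_8 c) (Nat.ble 4 c)
noncomputable def col4_s_8_10 (c : Nat) : Nat := @Bool.rec (fun _ => Nat) (col4_8) (col4_9) (Nat.ble 9 c)
noncomputable def col4_s_10_12 (c : Nat) : Nat := @Bool.rec (fun _ => Nat) (col4_10) (col4_11) (Nat.ble 11 c)
noncomputable def col4_s_8_12 (c : Nat) : Nat := @Bool.rec (fun _ => Nat) (col4_s_8_10 c) (col4_s_10_12 c) (Nat.ble 10 c)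
noncomputable def col4_s_12_14 (c : Nat) : Nat := @Bool.rec (fun _ => Nat) (col4_12) (col4_13) (Nat.ble 13 c)
noncomputable def col4_s_14_16 (c : Nat) : Nat := @Bool.rec (fun _ => Nat) (col4_14) (col4_15) (Nat.ble 15 c)
noncomputable def col4_s_12_16 (c : Nat) : Nat := @Bool.rec (fun _ => Nat) (col4_s_12_14 c) (col4_s_14_16 c) (Nat.ble 14 c)
noncomputable def col4_s_8_16 (c : Nat) : Nat := @Bool.rec (fun _ => Nat) (col4_s_8_12 c) (col4_s_12_16 c) (Nat.ble 12 c)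
noncomputable def col4_s_0_16 (c : Nat) : Nat := @Bool.rec (fun _ => Nat) (col4_s_0_8 c) (col4_s_8_16 c) (Nat.ble 8 c)
noncomputable def col4 (i : Nat) : Nat := rdw 16 65535 (col4_s_0_16 (Nat.shiftRight i 12)) (Nat.land i 4095)
noncomputable def col5_s_0_2 (c : Nat) : Nat := @Bool.rec (fun _ => Nat) (col5_0) (col5_1) (Nat.ble 1 c)
noncomputable def col5_s_2_4 (c : Nat) : Nat := @Bool.rec (fun _ => Nat) (col5_2) (col5_3) (Nat.ble 3 c)
noncomputable def col5_s_0_4 (c : Nat) : Nat := @Bool.rec (fun _ => Nat) (col5_s_0_2 c) (col5_s_2_4 c) (Nat.ble 2 c)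
noncomputable def col5_s_4_6 (c : Nat) : Nat := @Bool.rec (fun _ => Nat) (col5_4) (col5_5) (Nat.ble 5 c)
noncomputable def col5_s_6_8 (c : Nat) : Nat := @Bool.rec (fun _ => Nat) (col5_6) (col5_7) (Nat.ble 7 c)
noncomputable def col5_s_4_8 (c : Nat) : Nat := @Bool.rec (fun _ => Nat) (col5_s_4_6 c) (col5_s_6_8 c) (Nat.ble 6 c)
noncomputable def col5_s_0_8 (c : Nat) : Nat := @Bool.rec (fun _ => Nat) (col5_s_0_4 c) (col5_s_4_8 c) (Nat.ble 4 c)
noncomputable def col5_s_8_10 (c : Nat) : Nat := @Bool.rec (fun _ => Nat) (col5_8) (col5_9) (Nat.ble 9 c)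
noncomputable def col5_s_10_12 (c : Nat) : Nat := @Bool.rec (fun _ => Nat) (col5_10) (col5_11) (Nat.ble 11 c)
noncomputable def col5_s_8_12 (c : Nat) : Nat := @Bool.rec (fun _ => Nat) (col5_s_8_10 c) (col5_s_10_12 c) (Nat.ble 10 c)
noncomputable def col5_s_12_14 (c : Nat) : Nat := @Bool.rec (fun _ => Nat) (col5_12) (col5_13) (Nat.ble 13 c)
noncomputable def col5_s_14_16 (c : Nat) : Nat := @Bool.rec (fun _ => Nat) (col5_14) (col5_15) (Nat.ble 15 c)
noncomputable def col5_s_12_16 (c : Nat) : Nat := @Bool.rec (fun _ => Nat) (col5_s_12_14 c) (col5_s_14_16 c) (Nat.ble 14 c)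
noncomputable def col5_s_8_16 (c : Nat) : Nat := @Bool.rec (fun _ => Nat) (col5_s_8_12 c) (col5_s_12_16 c) (Nat.ble 12 c)
noncomputable def col5_s_0_16 (c : Nat) : Nat := @Bool.rec (fun _ => Nat) (col5_s_0_8 c) (col5_s_8_16 c) (Nat.ble 8 c)
noncomputable def col5 (i : Nat) : Nat := rdw 16 65535 (col5_s_0_16 (Nat.shiftRight i 12)) (Nat.land i 4095)
noncomputable def col6_s_0_2 (c : Nat) : Nat := @Bool.rec (fun _ => Nat) (col6_0) (col6_1) (Nat.ble 1 c)
noncomputable def col6_s_2_4 (c : Nat) : Nat := @Bool.rec (fun _ => Nat) (col6_2) (col6_3) (Nat.ble 3 c)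
noncomputable def col6_s_0_4 (c : Nat) : Nat := @Bool.rec (fun _ => Nat) (col6_s_0_2 c) (col6_s_2_4 c) (Nat.ble 2 c)
noncomputable def col6_s_4_6 (c : Nat) : Nat := @Bool.rec (fun _ => Nat) (col6_4) (col6_5) (Nat.ble 5 c)
noncomputable def col6_s_6_8 (c : Nat) : Nat := @Bool.rec (fun _ => Nat) (col6_6) (col6_7) (Nat.ble 7 c)
noncomputable def col6_s_4_8 (c : Nat) : Nat := @Bool.rec (fun _ => Nat) (col6_s_4_6 c) (col6_s_6_8 c) (Nat.ble 6 c)
noncomputable def col6_s_0_8 (c : Nat) : Nat := @Bool.rec (fun _ => Nat) (col6_s_0_4 c) (col6_s_4_8 c) (Nat.ble 4 c)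
noncomputable def col6_s_8_10 (c : Nat) : Nat := @Bool.rec (fun _ => Nat) (col6_8) (col6_9) (Nat.ble 9 c)
noncomputable def col6_s_10_12 (c : Nat) : Nat := @Bool.rec (fun _ => Nat) (col6_10) (col6_11) (Nat.ble 11 c)
noncomputable def col6_s_8_12 (c : Nat) : Nat := @Bool.rec (fun _ => Nat) (col6_s_8_10 c) (col6_s_10_12 c) (Nat.ble 10 c)
noncomputable def col6_s_12_14 (c : Nat) : Nat := @Bool.rec (fun _ => Nat) (col6_12) (col6_13) (Nat.ble 13 c)
noncomputable def col6_s_14_16 (c : Nat) : Nat := @Bool.rec (fun _ => Nat) (col6_14) (col6_15) (Nat.ble 15 c)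
noncomputable def col6_s_12_16 (c : Nat) : Nat := @Bool.rec (fun _ => Nat) (col6_s_12_14 c) (col6_s_14_16 c) (Nat.ble 14 c)
noncomputable def col6_s_8_16 (c : Nat) : Nat := @Bool.rec (fun _ => Nat) (col6_s_8_12 c) (col6_s_12_16 c) (Nat.ble 12 c)
noncomputable def col6_s_0_16 (c : Nat) : Nat := @Bool.rec (fun _ => Nat) (col6_s_0_8 c) (col6_s_8_16 c) (Nat.ble 8 c)
noncomputable def col6 (i : Nat) : Nat := rdw 16 65535 (col6_s_0_16 (Nat.shiftRight i 12)) (Nat.land i 4095)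
noncomputable def col7_s_0_2 (c : Nat) : Nat := @Bool.rec (fun _ => Nat) (col7_0) (col7_1) (Nat.ble 1 c)
noncomputable def col7_s_2_4 (c : Nat) : Nat := @Bool.rec (fun _ => Nat) (col7_2) (col7_3) (Nat.ble 3 c)
noncomputable def col7_s_0_4 (c : Nat) : Nat := @Bool.rec (fun _ => Nat) (col7_s_0_2 c) (col7_s_2_4 c) (Nat.ble 2 c)
noncomputable def col7_s_4_6 (c : Nat) : Nat := @Bool.rec (fun _ => Nat) (col7_4) (col7_5) (Nat.ble 5 c)
noncomputable def col7_s_6_8 (c : Nat) : Nat := @Bool.rec (fun _ => Nat) (col7_6) (col7_7) (Nat.ble 7 c)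
noncomputable def col7_s_4_8 (c : Nat) : Nat := @Bool.rec (fun _ => Nat) (col7_s_4_6 c) (col7_s_6_8 c) (Nat.ble 6 c)
noncomputable def col7_s_0_8 (c : Nat) : Nat := @Bool.rec (fun _ => Nat) (col7_s_0_4 c) (col7_s_4_8 c) (Nat.ble 4 c)
noncomputable def col7_s_8_10 (c : Nat) : Nat := @Bool.rec (fun _ => Nat) (col7_8) (col7_9) (Nat.ble 9 c)
noncomputable def col7_s_10_12 (c : Nat) : Nat := @Bool.rec (fun _ => Nat) (col7_10) (col7_11) (Nat.ble 11 c)
noncomputable def col7_s_8_12 (c : Nat) : Nat := @Bool.rec (fun _ => Nat) (col7_s_8_10 c) (col7_s_10_12 c) (Nat.ble 10 c)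
noncomputable def col7_s_12_14 (c : Nat) : Nat := @Bool.rec (fun _ => Nat) (col7_12) (col7_13) (Nat.ble 13 c)
noncomputable def col7_s_14_16 (c : Nat) : Nat := @Bool.rec (fun _ => Nat) (col7_14) (col7_15) (Nat.ble 15 c)
noncomputable def col7_s_12_16 (c : Nat) : Nat := @Bool.rec (fun _ => Nat) (col7_s_12_14 c) (col7_s_14_16 c) (Nat.ble 14 c)
noncomputable def col7_s_8_16 (c : Nat) : Nat := @Bool.rec (fun _ => Nat) (col7_s_8_12 c) (col7_s_12_16 c) (Nat.ble 12 c)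
noncomputable def col7_s_0_16 (c : Nat) : Nat := @Bool.rec (fun _ => Nat) (col7_s_0_8 c) (col7_s_8_16 c) (Nat.ble 8 c)
noncomputable def col7 (i : Nat) : Nat := rdw 16 65535 (col7_s_0_16 (Nat.shiftRight i 12)) (Nat.land i 4095)
noncomputable def col8_s_0_2 (c : Nat) : Nat := @Bool.rec (fun _ => Nat) (col8_0) (col8_1) (Nat.ble 1 c)
noncomputable def col8_s_2_4 (c : Nat) : Nat := @Bool.rec (fun _ => Nat) (col8_2) (col8_3) (Nat.ble 3 c)
noncomputable def col8_s_0_4 (c : Nat) : Nat := @Bool.rec (fun _ => Nat) (col8_s_0_2 c) (col8_s_2_4 c) (Nat.ble 2 c)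
noncomputable def col8_s_4_6 (c : Nat) : Nat := @Bool.rec (fun _ => Nat) (col8_4) (col8_5) (Nat.ble 5 c)
noncomputable def col8_s_6_8 (c : Nat) : Nat := @Bool.rec (fun _ => Nat) (col8_6) (col8_7) (Nat.ble 7 c)
noncomputable def col8_s_4_8 (c : Nat) : Nat := @Bool.rec (fun _ => Nat) (col8_s_4_6 c) (col8_s_6_8 c) (Nat.ble 6 c)
noncomputable def col8_s_0_8 (c : Nat) : Nat := @Bool.rec (fun _ => Nat) (col8_s_0_4 c) (col8_s_4_8 c) (Nat.ble 4 c)
noncomputable def col8_s_8_10 (c : Nat) : Nat := @Bool.rec (fun _ => Nat) (col8_8) (col8_9) (Nat.ble 9 c)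
noncomputable def col8_s_10_12 (c : Nat) : Nat := @Bool.rec (fun _ => Nat) (col8_10) (col8_11) (Nat.ble 11 c)
noncomputable def col8_s_8_12 (c : Nat) : Nat := @Bool.rec (fun _ => Nat) (col8_s_8_10 c) (col8_s_10_12 c) (Nat.ble 10 c)
noncomputable def col8_s_12_14 (c : Nat) : Nat := @Bool.rec (fun _ => Nat) (col8_12) (col8_13) (Nat.ble 13 c)
noncomputable def col8_s_14_16 (c : Nat) : Nat := @Bool.rec (fun _ => Nat) (col8_14) (col8_15) (Nat.ble 15 c)
noncomputable def col8_s_12_16 (c : Nat) : Nat := @Bool.rec (fun _ => Nat) (col8_s_12_14 c) (col8_s_14_16 c) (Nat.ble 14 c)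
noncomputable def col8_s_8_16 (c : Nat) : Nat := @Bool.rec (fun _ => Nat) (col8_s_8_12 c) (col8_s_12_16 c) (Nat.ble 12 c)
noncomputable def col8_s_0_16 (c : Nat) : Nat := @Bool.rec (fun _ => Nat) (col8_s_0_8 c) (col8_s_8_16 c) (Nat.ble 8 c)
noncomputable def col8 (i : Nat) : Nat := rdw 16 65535 (col8_s_0_16 (Nat.shiftRight i 12)) (Nat.land i 4095)
noncomputable def col9_s_0_2 (c : Nat) : Nat := @Bool.rec (fun _ => Nat) (col9_0) (col9_1) (Nat.ble 1 c)
noncomputable def col9_s_2_4 (c : Nat) : Nat := @Bool.rec (fun _ => Nat) (col9_2) (col9_3) (Nat.ble 3 c)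
noncomputable def col9_s_0_4 (c : Nat) : Nat := @Bool.rec (fun _ => Nat) (col9_s_0_2 c) (col9_s_2_4 c) (Nat.ble 2 c)
noncomputable def col9_s_4_6 (c : Nat) : Nat := @Bool.rec (fun _ => Nat) (col9_4) (col9_5) (Nat.ble 5 c)
noncomputable def col9_s_6_8 (c : Nat) : Nat := @Bool.rec (fun _ => Nat) (col9_6) (col9_7) (Nat.ble 7 c)
noncomputable def col9_s_4_8 (c : Nat) : Nat := @Bool.rec (fun _ => Nat) (col9_s_4_6 c) (col9_s_6_8 c) (Nat.ble 6 c)
noncomputable def col9_s_0_8 (c : Nat) : Nat := @Bool.rec (fun _ => Nat) (col9_s_0_4 c) (col9_s_4_8 c) (Nat.ble 4 c)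
noncomputable def col9_s_8_10 (c : Nat) : Nat := @Bool.rec (fun _ => Nat) (col9_8) (col9_9) (Nat.ble 9 c)
noncomputable def col9_s_10_12 (c : Nat) : Nat := @Bool.rec (fun _ => Nat) (col9_10) (col9_11) (Nat.ble 11 c)
noncomputable def col9_s_8_12 (c : Nat) : Nat := @Bool.rec (fun _ => Nat) (col9_s_8_10 c) (col9_s_10_12 c) (Nat.ble 10 c)
noncomputable def col9_s_12_14 (c : Nat) : Nat := @Bool.rec (fun _ => Nat) (col9_12) (col9_13) (Nat.ble 13 c)
noncomputable def col9_s_14_16 (c : Nat) : Nat := @Bool.rec (fun _ => Nat) (col9_14) (col9_15) (Nat.ble 15 c)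
noncomputable def col9_s_12_16 (c : Nat) : Nat := @Bool.rec (fun _ => Nat) (col9_s_12_14 c) (col9_s_14_16 c) (Nat.ble 14 c)
noncomputable def col9_s_8_16 (c : Nat) : Nat := @Bool.rec (fun _ => Nat) (col9_s_8_12 c) (col9_s_12_16 c) (Nat.ble 12 c)
noncomputable def col9_s_0_16 (c : Nat) : Nat := @Bool.rec (fun _ => Nat) (col9_s_0_8 c) (col9_s_8_16 c) (Nat.ble 8 c)
noncomputable def col9 (i : Nat) : Nat := rdw 16 65535 (col9_s_0_16 (Nat.shiftRight i 12)) (Nat.land i 4095)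
noncomputable def col10_s_0_2 (c : Nat) : Nat := @Bool.rec (fun _ => Nat) (col10_0) (col10_1) (Nat.ble 1 c)
noncomputable def col10_s_2_4 (c : Nat) : Nat := @Bool.rec (fun _ => Nat) (col10_2) (col10_3) (Nat.ble 3 c)
noncomputable def col10_s_0_4 (c : Nat) : Nat := @Bool.rec (fun _ => Nat) (col10_s_0_2 c) (col10_s_2_4 c) (Nat.ble 2 c)
noncomputable def col10_s_4_6 (c : Nat) : Nat := @Bool.rec (fun _ => Nat) (col10_4) (col10_5) (Nat.ble 5 c)
noncomputable def col10_s_6_8 (c : Nat) : Nat := @Bool.rec (fun _ => Nat) (col10_6) (col10_7) (Nat.ble 7 c)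
noncomputable def col10_s_4_8 (c : Nat) : Nat := @Bool.rec (fun _ => Nat) (col10_s_4_6 c) (col10_s_6_8 c) (Nat.ble 6 c)
noncomputable def col10_s_0_8 (c : Nat) : Nat := @Bool.rec (fun _ => Nat) (col10_s_0_4 c) (col10_s_4_8 c) (Nat.ble 4 c)
noncomputable def col10_s_8_10 (c : Nat) : Nat := @Bool.rec (fun _ => Nat) (col10_8) (col10_9) (Nat.ble 9 c)
noncomputable def col10_s_10_12 (c : Nat) : Nat := @Bool.rec (fun _ => Nat) (col10_10) (col10_11) (Nat.ble 11 c)
noncomputable def col10_s_8_12 (c : Nat) : Nat := @Bool.rec (fun _ => Nat) (col10_s_8_10 c) (col10_s_10_12 c) (Nat.ble 10 c)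
noncomputable def col10_s_12_14 (c : Nat) : Nat := @Bool.rec (fun _ => Nat) (col10_12) (col10_13) (Nat.ble 13 c)
noncomputable def col10_s_14_16 (c : Nat) : Nat := @Bool.rec (fun _ => Nat) (col10_14) (col10_15) (Nat.ble 15 c)
noncomputable def col10_s_12_16 (c : Nat) : Nat := @Bool.rec (fun _ => Nat) (col10_s_12_14 c) (col10_s_14_16 c) (Nat.ble 14 c)
noncomputable def col10_s_8_16 (c : Nat) : Nat := @Bool.rec (fun _ => Nat) (col10_s_8_12 c) (col10_s_12_16 c) (Nat.ble 12 c)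
noncomputable def col10_s_0_16 (c : Nat) : Nat := @Bool.rec (fun _ => Nat) (col10_s_0_8 c) (col10_s_8_16 c) (Nat.ble 8 c)
noncomputable def col10 (i : Nat) : Nat := rdw 16 65535 (col10_s_0_16 (Nat.shiftRight i 12)) (Nat.land i 4095)
noncomputable def tblF (i x : Nat) : Nat := @Bool.rec (fun _ => Nat) (@Bool.rec (fun _ => Nat) (@Bool.rec (fun _ => Nat) (col0 i) (col1 i) (Nat.ble 1 x)) (@Bool.rec (fun _ => Nat) (col2 i) (@Bool.rec (fun _ => Nat) (col3 i) (col4 i) (Nat.ble 4 x)) (Nat.ble 3 x)) (Nat.ble 2 x)) (@Bool.rec (fun _ => Nat) (@Bool.rec (fun _ => Nat) (col5 i) (@Bool.rec (fun _ => Nat) (col6 i) (col7 i) (Nat.ble 7 x)) (Nat.ble 6 x)) (@Bool.rec (fun _ => Nat) (col8 i) (@Bool.rec (fun _ => Nat) (col9 i) (col10 i) (Nat.ble 10 x)) (Nat.ble 9 x)) (Nat.ble 8 x)) (Nat.ble 5 x)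

noncomputable def D : Log :=
  { k := 11, inv := PY532.invR, nR := 0, rBase := fun _ => 0, rLen := fun _ => 0, RR := fun _ => 0,
    M := 0, nB := 0, F := 0, src := fun _ => 0, lt := fun _ => 0, tgt := fun _ => 0, rho := fun _ => 0, rot := fun _ => 0,
    off := fun _ => 0, len := fun _ => 0, pf := fun _ => 0, pd := fun _ => 0 }

noncomputable def T : Tab :=
  { N := 63342, nameOf := fun _ => 0, tbl := tblF, finF := fun _ _ => 0, finD := fun _ _ => 0, cls := fun _ => 0 }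

def rw0 : List Nat := [0, 0]
def rw1 : List Nat := [0, 1, 0, 1, 0, 1]
def rw2 : List Nat := [0, 2, 0, 2]
def rw3 : List Nat := [0, 3, 0, 3]
def rw4 : List Nat := [0, 4, 0, 4]
def rw5 : List Nat := [0, 5, 0, 5]
def rw6 : List Nat := [0, 6, 0, 6, 0, 6]
def rw7 : List Nat := [0, 7, 0, 7]
def rw8 : List Nat := [0, 8, 0, 8]
def rw9 : List Nat := [0, 9, 0, 9, 0, 9]
def rw10 : List Nat := [0, 10, 0, 10]
def rw11 : List Nat := [1, 1]
def rw12 : List Nat := [1, 2, 1, 2, 1, 2]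
def rw13 : List Nat := [1, 3, 1, 3]
def rw14 : List Nat := [1, 4, 1, 4]
def rw15 : List Nat := [1, 5, 1, 5]
def rw16 : List Nat := [1, 6, 1, 6]
def rw17 : List Nat := [1, 7, 1, 7]
def rw18 : List Nat := [1, 8, 1, 8]
def rw19 : List Nat := [1, 9, 1, 9]
def rw20 : List Nat := [1, 10, 1, 10]
def rw21 : List Nat := [2, 2]
def rw22 : List Nat := [2, 3, 2, 3, 2, 3]
def rw23 : List Nat := [2, 4, 2, 4]
def rw24 : List Nat := [2, 5, 2, 5]
def rw25 : List Nat := [2, 6, 2, 6]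
def rw26 : List Nat := [2, 7, 2, 7]
def rw27 : List Nat := [2, 8, 2, 8]
def rw28 : List Nat := [2, 9, 2, 9]
def rw29 : List Nat := [2, 10, 2, 10]
def rw30 : List Nat := [3, 3]
def rw31 : List Nat := [3, 4, 3, 4, 3, 4]
def rw32 : List Nat := [3, 5, 3, 5]
def rw33 : List Nat := [3, 6, 3, 6]
def rw34 : List Nat := [3, 7, 3, 7]
def rw35 : List Nat := [3, 8, 3, 8]
def rw36 : List Nat := [3, 9, 3, 9]
def rw37 : List Nat := [3, 10, 3, 10]
def rw38 : List Nat := [4, 4]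
def rw39 : List Nat := [4, 5, 4, 5, 4, 5]
def rw40 : List Nat := [4, 6, 4, 6]
def rw41 : List Nat := [4, 7, 4, 7]
def rw42 : List Nat := [4, 8, 4, 8]
def rw43 : List Nat := [4, 9, 4, 9]
def rw44 : List Nat := [4, 10, 4, 10]
def rw45 : List Nat := [5, 5]
def rw46 : List Nat := [5, 6, 5, 6]
def rw47 : List Nat := [5, 7, 5, 7]
def rw48 : List Nat := [5, 8, 5, 8]
def rw49 : List Nat := [5, 9, 5, 9]
def rw50 : List Nat := [5, 10, 5, 10]
def rw51 : List Nat := [6, 6]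
def rw52 : List Nat := [6, 7, 6, 7, 6, 7]
def rw53 : List Nat := [6, 8, 6, 8]
def rw54 : List Nat := [6, 9, 6, 9]
def rw55 : List Nat := [6, 10, 6, 10]
def rw56 : List Nat := [7, 7]
def rw57 : List Nat := [7, 8, 7, 8, 7, 8]
def rw58 : List Nat := [7, 9, 7, 9]
def rw59 : List Nat := [7, 10, 7, 10]
def rw60 : List Nat := [8, 8]
def rw61 : List Nat := [8, 9, 8, 9]
def rw62 : List Nat := [8, 10, 8, 10]
def rw63 : List Nat := [9, 9]
def rw64 : List Nat := [9, 10, 9, 10, 9, 10]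
def rw65 : List Nat := [10, 10]
def rw66 : List Nat := [0, 1, 2, 0, 6, 7, 0, 9, 10, 0, 1, 2, 0, 6, 7, 0, 9, 10, 0, 1, 2, 0, 6, 7, 0, 9, 10, 0, 1, 2, 0, 6, 7, 0, 9, 10, 0, 1, 2, 0, 6, 7, 0, 9, 10, 0, 1, 2, 0, 6, 7, 0, 9, 10, 0, 1, 2, 0, 6, 7, 0, 9, 10, 0, 1, 2, 0, 6, 7, 0, 9, 10, 0, 1, 2, 0, 6, 7, 0, 9, 10, 0, 1, 2, 0, 6, 7, 0, 9, 10]
def realLit : List (List Nat) := [rw0, rw1, rw2, rw3, rw4, rw5, rw6, rw7, rw8, rw9, rw10, rw11, rw12, rw13, rw14, rw15, rw16, rw17, rw18, rw19, rw20, rw21, rw22, rw23, rw24, rw25, rw26, rw27, rw28, rw29, rw30, rw31, rw32, rw33, rw34, rw35, rw36, rw37, rw38, rw39, rw40, rw41, rw42, rw43, rw44, rw45, rw46, rw47, rw48, rw49, rw50, rw51, rw52, rw53, rw54, rw55, rw56, rw57, rw58, rw59, rw60, rw61, rw62, rw63, rw64, rw65, rw66]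
noncomputable def actR0 (i : Nat) : Nat := col0 (col0 (i))
theorem actR0_eq (i : Nat) : actR0 i = Tab.act T D rw0 i := rfl
noncomputable def actR1 (i : Nat) : Nat := col0 (col1 (col0 (col1 (col0 (col1 (i))))))
theorem actR1_eq (i : Nat) : actR1 i = Tab.act T D rw1 i := rfl
noncomputable def actR2 (i : Nat) : Nat := col0 (col2 (col0 (col2 (i))))
theorem actR2_eq (i : Nat) : actR2 i = Tab.act T D rw2 i := rfl
noncomputable def actR3 (i : Nat) : Nat := col0 (col3 (col0 (col3 (i))))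
theorem actR3_eq (i : Nat) : actR3 i = Tab.act T D rw3 i := rfl
noncomputable def actR4 (i : Nat) : Nat := col0 (col4 (col0 (col4 (i))))
theorem actR4_eq (i : Nat) : actR4 i = Tab.act T D rw4 i := rfl
noncomputable def actR5 (i : Nat) : Nat := col0 (col5 (col0 (col5 (i))))
theorem actR5_eq (i : Nat) : actR5 i = Tab.act T D rw5 i := rfl
noncomputable def actR6 (i : Nat) : Nat := col0 (col6 (col0 (col6 (col0 (col6 (i))))))
theorem actR6_eq (i : Nat) : actR6 i = Tab.act T D rw6 i := rfl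
noncomputable def actR7 (i : Nat) : Nat := col0 (col7 (col0 (col7 (i))))
theorem actR7_eq (i : Nat) : actR7 i = Tab.act T D rw7 i := rfl
noncomputable def actR8 (i : Nat) : Nat := col0 (col8 (col0 (col8 (i))))
theorem actR8_eq (i : Nat) : actR8 i = Tab.act T D rw8 i := rfl
noncomputable def actR9 (i : Nat) : Nat := col0 (col9 (col0 (col9 (col0 (col9 (i))))))
theorem actR9_eq (i : Nat) : actR9 i = Tab.act T D rw9 i := rfl
noncomputable def actR10 (i : Nat) : Nat := col0 (col10 (col0 (col10 (i))))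
theorem actR10_eq (i : Nat) : actR10 i = Tab.act T D rw10 i := rfl
noncomputable def actR11 (i : Nat) : Nat := col1 (col1 (i))
theorem actR11_eq (i : Nat) : actR11 i = Tab.act T D rw11 i := rfl
noncomputable def actR12 (i : Nat) : Nat := col1 (col2 (col1 (col2 (col1 (col2 (i))))))
theorem actR12_eq (i : Nat) : actR12 i = Tab.act T D rw12 i := rfl
noncomputable def actR13 (i : Nat) : Nat := col1 (col3 (col1 (col3 (i))))
theorem actR13_eq (i : Nat) : actR13 i = Tab.act T D rw13 i := rfl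
noncomputable def actR14 (i : Nat) : Nat := col1 (col4 (col1 (col4 (i))))
theorem actR14_eq (i : Nat) : actR14 i = Tab.act T D rw14 i := rfl
noncomputable def actR15 (i : Nat) : Nat := col1 (col5 (col1 (col5 (i))))
theorem actR15_eq (i : Nat) : actR15 i = Tab.act T D rw15 i := rfl
noncomputable def actR16 (i : Nat) : Nat := col1 (col6 (col1 (col6 (i))))
theorem actR16_eq (i : Nat) : actR16 i = Tab.act T D rw16 i := rfl
noncomputable def actR17 (i : Nat) : Nat := col1 (col7 (col1 (col7 (i))))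
theorem actR17_eq (i : Nat) : actR17 i = Tab.act T D rw17 i := rfl
noncomputable def actR18 (i : Nat) : Nat := col1 (col8 (col1 (col8 (i))))
theorem actR18_eq (i : Nat) : actR18 i = Tab.act T D rw18 i := rfl
noncomputable def actR19 (i : Nat) : Nat := col1 (col9 (col1 (col9 (i))))
theorem actR19_eq (i : Nat) : actR19 i = Tab.act T D rw19 i := rfl
noncomputable def actR20 (i : Nat) : Nat := col1 (col10 (col1 (col10 (i))))
theorem actR20_eq (i : Nat) : actR20 i = Tab.act T D rw20 i := rfl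
noncomputable def actR21 (i : Nat) : Nat := col2 (col2 (i))
theorem actR21_eq (i : Nat) : actR21 i = Tab.act T D rw21 i := rfl
noncomputable def actR22 (i : Nat) : Nat := col2 (col3 (col2 (col3 (col2 (col3 (i))))))
theorem actR22_eq (i : Nat) : actR22 i = Tab.act T D rw22 i := rfl
noncomputable def actR23 (i : Nat) : Nat := col2 (col4 (col2 (col4 (i))))
theorem actR23_eq (i : Nat) : actR23 i = Tab.act T D rw23 i := rfl
noncomputable def actR24 (i : Nat) : Nat := col2 (col5 (col2 (col5 (i))))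
theorem actR24_eq (i : Nat) : actR24 i = Tab.act T D rw24 i := rfl
noncomputable def actR25 (i : Nat) : Nat := col2 (col6 (col2 (col6 (i))))
theorem actR25_eq (i : Nat) : actR25 i = Tab.act T D rw25 i := rfl
noncomputable def actR26 (i : Nat) : Nat := col2 (col7 (col2 (col7 (i))))
theorem actR26_eq (i : Nat) : actR26 i = Tab.act T D rw26 i := rfl
noncomputable def actR27 (i : Nat) : Nat := col2 (col8 (col2 (col8 (i))))
theorem actR27_eq (i : Nat) : actR27 i = Tab.act T D rw27 i := rfl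
noncomputable def actR28 (i : Nat) : Nat := col2 (col9 (col2 (col9 (i))))
theorem actR28_eq (i : Nat) : actR28 i = Tab.act T D rw28 i := rfl
noncomputable def actR29 (i : Nat) : Nat := col2 (col10 (col2 (col10 (i))))
theorem actR29_eq (i : Nat) : actR29 i = Tab.act T D rw29 i := rfl
noncomputable def actR30 (i : Nat) : Nat := col3 (col3 (i))
theorem actR30_eq (i : Nat) : actR30 i = Tab.act T D rw30 i := rfl
noncomputable def actR31 (i : Nat) : Nat := col3 (col4 (col3 (col4 (col3 (col4 (i))))))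
theorem actR31_eq (i : Nat) : actR31 i = Tab.act T D rw31 i := rfl
noncomputable def actR32 (i : Nat) : Nat := col3 (col5 (col3 (col5 (i))))
theorem actR32_eq (i : Nat) : actR32 i = Tab.act T D rw32 i := rfl
noncomputable def actR33 (i : Nat) : Nat := col3 (col6 (col3 (col6 (i))))
theorem actR33_eq (i : Nat) : actR33 i = Tab.act T D rw33 i := rfl
noncomputable def actR34 (i : Nat) : Nat := col3 (col7 (col3 (col7 (i))))
theorem actR34_eq (i : Nat) : actR34 i = Tab.act T D rw34 i := rfl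
noncomputable def actR35 (i : Nat) : Nat := col3 (col8 (col3 (col8 (i))))
theorem actR35_eq (i : Nat) : actR35 i = Tab.act T D rw35 i := rfl
noncomputable def actR36 (i : Nat) : Nat := col3 (col9 (col3 (col9 (i))))
theorem actR36_eq (i : Nat) : actR36 i = Tab.act T D rw36 i := rfl
noncomputable def actR37 (i : Nat) : Nat := col3 (col10 (col3 (col10 (i))))
theorem actR37_eq (i : Nat) : actR37 i = Tab.act T D rw37 i := rfl
noncomputable def actR38 (i : Nat) : Nat := col4 (col4 (i))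
theorem actR38_eq (i : Nat) : actR38 i = Tab.act T D rw38 i := rfl
noncomputable def actR39 (i : Nat) : Nat := col4 (col5 (col4 (col5 (col4 (col5 (i))))))
theorem actR39_eq (i : Nat) : actR39 i = Tab.act T D rw39 i := rfl
noncomputable def actR40 (i : Nat) : Nat := col4 (col6 (col4 (col6 (i))))
theorem actR40_eq (i : Nat) : actR40 i = Tab.act T D rw40 i := rfl
noncomputable def actR41 (i : Nat) : Nat := col4 (col7 (col4 (col7 (i))))
theorem actR41_eq (i : Nat) : actR41 i = Tab.act T D rw41 i := rfl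
noncomputable def actR42 (i : Nat) : Nat := col4 (col8 (col4 (col8 (i))))
theorem actR42_eq (i : Nat) : actR42 i = Tab.act T D rw42 i := rfl
noncomputable def actR43 (i : Nat) : Nat := col4 (col9 (col4 (col9 (i))))
theorem actR43_eq (i : Nat) : actR43 i = Tab.act T D rw43 i := rfl
noncomputable def actR44 (i : Nat) : Nat := col4 (col10 (col4 (col10 (i))))
theorem actR44_eq (i : Nat) : actR44 i = Tab.act T D rw44 i := rfl
noncomputable def actR45 (i : Nat) : Nat := col5 (col5 (i))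
theorem actR45_eq (i : Nat) : actR45 i = Tab.act T D rw45 i := rfl
noncomputable def actR46 (i : Nat) : Nat := col5 (col6 (col5 (col6 (i))))
theorem actR46_eq (i : Nat) : actR46 i = Tab.act T D rw46 i := rfl
noncomputable def actR47 (i : Nat) : Nat := col5 (col7 (col5 (col7 (i))))
theorem actR47_eq (i : Nat) : actR47 i = Tab.act T D rw47 i := rfl
noncomputable def actR48 (i : Nat) : Nat := col5 (col8 (col5 (col8 (i))))
theorem actR48_eq (i : Nat) : actR48 i = Tab.act T D rw48 i := rfl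
noncomputable def actR49 (i : Nat) : Nat := col5 (col9 (col5 (col9 (i))))
theorem actR49_eq (i : Nat) : actR49 i = Tab.act T D rw49 i := rfl
noncomputable def actR50 (i : Nat) : Nat := col5 (col10 (col5 (col10 (i))))
theorem actR50_eq (i : Nat) : actR50 i = Tab.act T D rw50 i := rfl
noncomputable def actR51 (i : Nat) : Nat := col6 (col6 (i))
theorem actR51_eq (i : Nat) : actR51 i = Tab.act T D rw51 i := rfl
noncomputable def actR52 (i : Nat) : Nat := col6 (col7 (col6 (col7 (col6 (col7 (i))))))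
theorem actR52_eq (i : Nat) : actR52 i = Tab.act T D rw52 i := rfl
noncomputable def actR53 (i : Nat) : Nat := col6 (col8 (col6 (col8 (i))))
theorem actR53_eq (i : Nat) : actR53 i = Tab.act T D rw53 i := rfl
noncomputable def actR54 (i : Nat) : Nat := col6 (col9 (col6 (col9 (i))))
theorem actR54_eq (i : Nat) : actR54 i = Tab.act T D rw54 i := rfl
noncomputable def actR55 (i : Nat) : Nat := col6 (col10 (col6 (col10 (i))))
theorem actR55_eq (i : Nat) : actR55 i = Tab.act T D rw55 i := rfl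
noncomputable def actR56 (i : Nat) : Nat := col7 (col7 (i))
theorem actR56_eq (i : Nat) : actR56 i = Tab.act T D rw56 i := rfl
noncomputable def actR57 (i : Nat) : Nat := col7 (col8 (col7 (col8 (col7 (col8 (i))))))
theorem actR57_eq (i : Nat) : actR57 i = Tab.act T D rw57 i := rfl
noncomputable def actR58 (i : Nat) : Nat := col7 (col9 (col7 (col9 (i))))
theorem actR58_eq (i : Nat) : actR58 i = Tab.act T D rw58 i := rfl
noncomputable def actR59 (i : Nat) : Nat := col7 (col10 (col7 (col10 (i))))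
theorem actR59_eq (i : Nat) : actR59 i = Tab.act T D rw59 i := rfl
noncomputable def actR60 (i : Nat) : Nat := col8 (col8 (i))
theorem actR60_eq (i : Nat) : actR60 i = Tab.act T D rw60 i := rfl
noncomputable def actR61 (i : Nat) : Nat := col8 (col9 (col8 (col9 (i))))
theorem actR61_eq (i : Nat) : actR61 i = Tab.act T D rw61 i := rfl
noncomputable def actR62 (i : Nat) : Nat := col8 (col10 (col8 (col10 (i))))
theorem actR62_eq (i : Nat) : actR62 i = Tab.act T D rw62 i := rfl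
noncomputable def actR63 (i : Nat) : Nat := col9 (col9 (i))
theorem actR63_eq (i : Nat) : actR63 i = Tab.act T D rw63 i := rfl
noncomputable def actR64 (i : Nat) : Nat := col9 (col10 (col9 (col10 (col9 (col10 (i))))))
theorem actR64_eq (i : Nat) : actR64 i = Tab.act T D rw64 i := rfl
noncomputable def actR65 (i : Nat) : Nat := col10 (col10 (i))
theorem actR65_eq (i : Nat) : actR65 i = Tab.act T D rw65 i := rfl
noncomputable def actR66 (i : Nat) : Nat := col0 (col1 (col2 (col0 (col6 (col7 (col0 (col9 (col10 (col0 (col1 (col2 (col0 (col6 (col7 (col0 (col9 (col10 (col0 (col1 (col2 (col0 (col6 (col7 (col0 (col9 (col10 (col0 (col1 (col2 (col0 (col6 (col7 (col0 (col9 (col10 (col0 (col1 (col2 (col0 (col6 (col7 (col0 (col9 (col10 (col0 (col1 (col2 (col0 (col6 (col7 (col0 (col9 (col10 (col0 (col1 (col2 (col0 (col6 (col7 (col0 (col9 (col10 (col0 (col1 (col2 (col0 (col6 (col7 (col0 (col9 (col10 (col0 (col1 (col2 (col0 (col6 (col7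 (col0 (col9 (col10 (col0 (col1 (col2 (col0 (col6 (col7 (col0 (col9 (col10 (i))))))))))))))))))))))))))))))))))))))))))))))))))))))))))))))))))))))))))))))))))))))))))
theorem actR66_eq (i : Nat) : actR66 i = Tab.act T D rw66 i := rfl
def wRel1 : List Nat := [5, 0, 1, 6, 9, 2, 7, 3, 0, 1, 6, 9, 2, 7, 3, 0, 1, 6, 9, 2, 7, 3, 0, 1, 6, 9, 2, 7, 3, 0, 1, 6, 9, 2, 7, 3, 0, 1, 6, 9, 2, 7, 3, 0, 1, 6, 9, 2, 7, 3, 0, 1, 6, 9, 2, 7, 3, 0, 1, 6, 9, 2, 7, 3]
noncomputable def actW_wRel1 (i : Nat) : Nat := col5 (col0 (col1 (col6 (col9 (col2 (col7 (col3 (col0 (col1 (col6 (col9 (col2 (col7 (col3 (col0 (col1 (col6 (col9 (col2 (col7 (col3 (col0 (col1 (col6 (col9 (col2 (col7 (col3 (col0 (col1 (col6 (col9 (col2 (col7 (col3 (col0 (col1 (col6 (col9 (col2 (col7 (col3 (col0 (col1 (col6 (col9 (col2 (col7 (col3 (col0 (col1 (col6 (col9 (col2 (col7 (col3 (col0 (col1 (col6 (col9 (col2 (col7 (col3 (i))))))))))))))))))))))))))))))))))))))))))))))))))))))))))))))))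
theorem actW_wRel1_eq (i : Nat) : actW_wRel1 i = Tab.act T D wRel1 i := rfl
def wRel2 : List Nat := [5, 0, 1, 9, 6, 2, 10, 3, 0, 1, 9, 6, 2, 10, 3, 0, 1, 9, 6, 2, 10, 3, 0, 1, 9, 6, 2, 10, 3, 0, 1, 9, 6, 2, 10, 3, 0, 1, 9, 6, 2, 10, 3, 0, 1, 9, 6, 2, 10, 3, 0, 1, 9, 6, 2, 10, 3, 0, 1, 9, 6, 2, 10, 3]
noncomputable def actW_wRel2 (i : Nat) : Nat := col5 (col0 (col1 (col9 (col6 (col2 (col10 (col3 (col0 (col1 (col9 (col6 (col2 (col10 (col3 (col0 (col1 (col9 (col6 (col2 (col10 (col3 (col0 (col1 (col9 (col6 (col2 (col10 (col3 (col0 (col1 (col9 (col6 (col2 (col10 (col3 (col0 (col1 (col9 (col6 (col2 (col10 (col3 (col0 (col1 (col9 (col6 (col2 (col10 (col3 (col0 (col1 (col9 (col6 (col2 (col10 (col3 (col0 (col1 (col9 (col6 (col2 (col10 (col3 (i))))))))))))))))))))))))))))))))))))))))))))))))))))))))))))))))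
theorem actW_wRel2_eq (i : Nat) : actW_wRel2 i = Tab.act T D wRel2 i := rfl
def wSp213 : List Nat := [0, 6, 7, 0, 1, 2, 0, 9, 10, 0, 6, 7, 0, 1, 2, 0, 9, 10, 0, 6, 7, 0, 1, 2, 0, 9, 10, 0, 6, 7, 0, 1, 2, 0, 9, 10, 0, 6, 7, 0, 1, 2, 0, 9, 10, 0, 6, 7, 0, 1, 2, 0, 9, 10, 0, 6, 7, 0, 1, 2, 0, 9, 10, 0, 6, 7, 0, 1, 2, 0, 9, 10, 0, 6, 7, 0, 1, 2, 0, 9, 10, 0, 6, 7, 0, 1, 2, 0, 9, 10]
noncomputable def actW_wSp213 (i : Nat) : Nat := col0 (col6 (col7 (col0 (col1 (col2 (col0 (col9 (col10 (col0 (col6 (col7 (col0 (col1 (col2 (col0 (col9 (col10 (col0 (col6 (col7 (col0 (col1 (col2 (col0 (col9 (col10 (col0 (col6 (col7 (col0 (col1 (col2 (col0 (col9 (col10 (col0 (col6 (col7 (col0 (col1 (col2 (col0 (col9 (col10 (col0 (col6 (col7 (col0 (col1 (col2 (col0 (col9 (col10 (col0 (col6 (col7 (col0 (col1 (col2 (col0 (col9 (col10 (col0 (col6 (col7 (col0 (col1 (col2 (col0 (col9 (col10 (col0 (col6 (col7 (col0 (col1 (col2 (col0 (col9 (col10 (col0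 (col6 (col7 (col0 (col1 (col2 (col0 (col9 (col10 (i))))))))))))))))))))))))))))))))))))))))))))))))))))))))))))))))))))))))))))))))))))))))))
theorem actW_wSp213_eq (i : Nat) : actW_wSp213 i = Tab.act T D wSp213 i := rfl
def wSp312 : List Nat := [0, 9, 10, 0, 1, 2, 0, 6, 7, 0, 9, 10, 0, 1, 2, 0, 6, 7, 0, 9, 10, 0, 1, 2, 0, 6, 7, 0, 9, 10, 0, 1, 2, 0, 6, 7, 0, 9, 10, 0, 1, 2, 0, 6, 7, 0, 9, 10, 0, 1, 2, 0, 6, 7, 0, 9, 10, 0, 1, 2, 0, 6, 7, 0, 9, 10, 0, 1, 2, 0, 6, 7, 0, 9, 10, 0, 1, 2, 0, 6, 7, 0, 9, 10, 0, 1, 2, 0, 6, 7]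
noncomputable def actW_wSp312 (i : Nat) : Nat := col0 (col9 (col10 (col0 (col1 (col2 (col0 (col6 (col7 (col0 (col9 (col10 (col0 (col1 (col2 (col0 (col6 (col7 (col0 (col9 (col10 (col0 (col1 (col2 (col0 (col6 (col7 (col0 (col9 (col10 (col0 (col1 (col2 (col0 (col6 (col7 (col0 (col9 (col10 (col0 (col1 (col2 (col0 (col6 (col7 (col0 (col9 (col10 (col0 (col1 (col2 (col0 (col6 (col7 (col0 (col9 (col10 (col0 (col1 (col2 (col0 (col6 (col7 (col0 (col9 (col10 (col0 (col1 (col2 (col0 (col6 (col7 (col0 (col9 (col10 (col0 (col1 (col2 (col0 (col6 (col7 (col0 (col9 (col10 (col0 (col1 (col2 (col0 (col6 (col7 (i))))))))))))))))))))))))))))))))))))))))))))))))))))))))))))))))))))))))))))))))))))))))))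
theorem actW_wSp312_eq (i : Nat) : actW_wSp312 i = Tab.act T D wSp312 i := rfl

end Cfsg.Agent.Lib.Helper4.TCD.Y532R
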