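import Cfsg.Agent.Lib.Helper4.TC11
import Cfsg.Agent.Lib.Helper4.TCD_Y532R_Acc
import Cfsg.Agent.Lib.Helper4.TCD_Y532L_D0
import Cfsg.Agent.Lib.Helper4.TCD_Y532L_D1
import Cfsg.Agent.Lib.Helper4.TCD_Y532L_D2
import Cfsg.Agent.Lib.Helper4.TCD_Y532L_D3
import Cfsg.Agent.Lib.Helper4.TCD_Y532L_D4

namespace Cfsg.Agent.Lib.Helper4.TCD.Y532L

open Cfsg.Agent.Lib.Helper4.TC Cfsg.Agent.Lib.Helper4.TCD.Y532R

set_option maxRecDepth 100000

noncomputable def st11_s_0_2 (c : Nat) : Nat := @Bool.rec (fun _ => Nat) (st11_0) (st11_1) (Nat.ble 1 c)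
noncomputable def st11_s_2_4 (c : Nat) : Nat := @Bool.rec (fun _ => Nat) (st11_2) (st11_3) (Nat.ble 3 c)
noncomputable def st11_s_0_4 (c : Nat) : Nat := @Bool.rec (fun _ => Nat) (st11_s_0_2 c) (st11_s_2_4 c) (Nat.ble 2 c)
noncomputable def st11_s_4_6 (c : Nat) : Nat := @Bool.rec (fun _ => Nat) (st11_4) (st11_5) (Nat.ble 5 c)
noncomputable def st11_s_6_8 (c : Nat) : Nat := @Bool.rec (fun _ => Nat) (st11_6) (st11_7) (Nat.ble 7 c)
noncomputable def st11_s_4_8 (c : Nat) : Nat := @Bool.rec (fun _ => Nat) (st11_s_4_6 c) (st11_s_6_8 c) (Nat.ble 6 c)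
noncomputable def st11_s_0_8 (c : Nat) : Nat := @Bool.rec (fun _ => Nat) (st11_s_0_4 c) (st11_s_4_8 c) (Nat.ble 4 c)
noncomputable def st11_s_8_10 (c : Nat) : Nat := @Bool.rec (fun _ => Nat) (st11_8) (st11_9) (Nat.ble 9 c)
noncomputable def st11_s_10_12 (c : Nat) : Nat := @Bool.rec (fun _ => Nat) (st11_10) (st11_11) (Nat.ble 11 c)
noncomputable def st11_s_8_12 (c : Nat) : Nat := @Bool.rec (fun _ => Nat) (st11_s_8_10 c) (st11_s_10_12 c) (Nat.ble 10 c)
noncomputable def st11_s_12_14 (c : Nat) : Nat := @Bool.rec (fun _ => Nat) (st11_12) (st11_13) (Nat.ble 13 c)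
noncomputable def st11_s_14_16 (c : Nat) : Nat := @Bool.rec (fun _ => Nat) (st11_14) (st11_15) (Nat.ble 15 c)
noncomputable def st11_s_12_16 (c : Nat) : Nat := @Bool.rec (fun _ => Nat) (st11_s_12_14 c) (st11_s_14_16 c) (Nat.ble 14 c)
noncomputable def st11_s_8_16 (c : Nat) : Nat := @Bool.rec (fun _ => Nat) (st11_s_8_12 c) (st11_s_12_16 c) (Nat.ble 12 c)
noncomputable def st11_s_0_16 (c : Nat) : Nat := @Bool.rec (fun _ => Nat) (st11_s_0_8 c) (st11_s_8_16 c) (Nat.ble 8 c)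
noncomputable def st11 (i : Nat) : Nat := rdw 16 65535 (st11_s_0_16 (Nat.shiftRight i 12)) (Nat.land i 4095)
noncomputable def st12_s_0_2 (c : Nat) : Nat := @Bool.rec (fun _ => Nat) (st12_0) (st12_1) (Nat.ble 1 c)
noncomputable def st12_s_2_4 (c : Nat) : Nat := @Bool.rec (fun _ => Nat) (st12_2) (st12_3) (Nat.ble 3 c)
noncomputable def st12_s_0_4 (c : Nat) : Nat := @Bool.rec (fun _ => Nat) (st12_s_0_2 c) (st12_s_2_4 c) (Nat.ble 2 c)
noncomputable def st12_s_4_6 (c : Nat) : Nat := @Bool.rec (fun _ => Nat) (st12_4) (st12_5) (Nat.ble 5 c)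
noncomputable def st12_s_6_8 (c : Nat) : Nat := @Bool.rec (fun _ => Nat) (st12_6) (st12_7) (Nat.ble 7 c)
noncomputable def st12_s_4_8 (c : Nat) : Nat := @Bool.rec (fun _ => Nat) (st12_s_4_6 c) (st12_s_6_8 c) (Nat.ble 6 c)
noncomputable def st12_s_0_8 (c : Nat) : Nat := @Bool.rec (fun _ => Nat) (st12_s_0_4 c) (st12_s_4_8 c) (Nat.ble 4 c)
noncomputable def st12_s_8_10 (c : Nat) : Nat := @Bool.rec (fun _ => Nat) (st12_8) (st12_9) (Nat.ble 9 c)
noncomputable def st12_s_10_12 (c : Nat) : Nat := @Bool.rec (fun _ => Nat) (st12_10) (st12_11) (Nat.ble 11 c)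
noncomputable def st12_s_8_12 (c : Nat) : Nat := @Bool.rec (fun _ => Nat) (st12_s_8_10 c) (st12_s_10_12 c) (Nat.ble 10 c)
noncomputable def st12_s_12_14 (c : Nat) : Nat := @Bool.rec (fun _ => Nat) (st12_12) (st12_13) (Nat.ble 13 c)
noncomputable def st12_s_14_16 (c : Nat) : Nat := @Bool.rec (fun _ => Nat) (st12_14) (st12_15) (Nat.ble 15 c)
noncomputable def st12_s_12_16 (c : Nat) : Nat := @Bool.rec (fun _ => Nat) (st12_s_12_14 c) (st12_s_14_16 c) (Nat.ble 14 c)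
noncomputable def st12_s_8_16 (c : Nat) : Nat := @Bool.rec (fun _ => Nat) (st12_s_8_12 c) (st12_s_12_16 c) (Nat.ble 12 c)
noncomputable def st12_s_0_16 (c : Nat) : Nat := @Bool.rec (fun _ => Nat) (st12_s_0_8 c) (st12_s_8_16 c) (Nat.ble 8 c)
noncomputable def st12 (i : Nat) : Nat := rdw 16 65535 (st12_s_0_16 (Nat.shiftRight i 12)) (Nat.land i 4095)
noncomputable def st13_s_0_2 (c : Nat) : Nat := @Bool.rec (fun _ => Nat) (st13_0) (st13_1) (Nat.ble 1 c)
noncomputable def st13_s_2_4 (c : Nat) : Nat := @Bool.rec (fun _ => Nat) (st13_2) (st13_3) (Nat.ble 3 c)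
noncomputable def st13_s_0_4 (c : Nat) : Nat := @Bool.rec (fun _ => Nat) (st13_s_0_2 c) (st13_s_2_4 c) (Nat.ble 2 c)
noncomputable def st13_s_4_6 (c : Nat) : Nat := @Bool.rec (fun _ => Nat) (st13_4) (st13_5) (Nat.ble 5 c)
noncomputable def st13_s_6_8 (c : Nat) : Nat := @Bool.rec (fun _ => Nat) (st13_6) (st13_7) (Nat.ble 7 c)
noncomputable def st13_s_4_8 (c : Nat) : Nat := @Bool.rec (fun _ => Nat) (st13_s_4_6 c) (st13_s_6_8 c) (Nat.ble 6 c)
noncomputable def st13_s_0_8 (c : Nat) : Nat := @Bool.rec (fun _ => Nat) (st13_s_0_4 c) (st13_s_4_8 c) (Nat.ble 4 c)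
noncomputable def st13_s_8_10 (c : Nat) : Nat := @Bool.rec (fun _ => Nat) (st13_8) (st13_9) (Nat.ble 9 c)
noncomputable def st13_s_10_12 (c : Nat) : Nat := @Bool.rec (fun _ => Nat) (st13_10) (st13_11) (Nat.ble 11 c)
noncomputable def st13_s_8_12 (c : Nat) : Nat := @Bool.rec (fun _ => Nat) (st13_s_8_10 c) (st13_s_10_12 c) (Nat.ble 10 c)
noncomputable def st13_s_12_14 (c : Nat) : Nat := @Bool.rec (fun _ => Nat) (st13_12) (st13_13) (Nat.ble 13 c)
noncomputable def st13_s_14_16 (c : Nat) : Nat := @Bool.rec (fun _ => Nat) (st13_14) (st13_15) (Nat.ble 15 c)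
noncomputable def st13_s_12_16 (c : Nat) : Nat := @Bool.rec (fun _ => Nat) (st13_s_12_14 c) (st13_s_14_16 c) (Nat.ble 14 c)
noncomputable def st13_s_8_16 (c : Nat) : Nat := @Bool.rec (fun _ => Nat) (st13_s_8_12 c) (st13_s_12_16 c) (Nat.ble 12 c)
noncomputable def st13_s_0_16 (c : Nat) : Nat := @Bool.rec (fun _ => Nat) (st13_s_0_8 c) (st13_s_8_16 c) (Nat.ble 8 c)
noncomputable def st13 (i : Nat) : Nat := rdw 16 65535 (st13_s_0_16 (Nat.shiftRight i 12)) (Nat.land i 4095)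
noncomputable def st14_s_0_2 (c : Nat) : Nat := @Bool.rec (fun _ => Nat) (st14_0) (st14_1) (Nat.ble 1 c)
noncomputable def st14_s_2_4 (c : Nat) : Nat := @Bool.rec (fun _ => Nat) (st14_2) (st14_3) (Nat.ble 3 c)
noncomputable def st14_s_0_4 (c : Nat) : Nat := @Bool.rec (fun _ => Nat) (st14_s_0_2 c) (st14_s_2_4 c) (Nat.ble 2 c)
noncomputable def st14_s_4_6 (c : Nat) : Nat := @Bool.rec (fun _ => Nat) (st14_4) (st14_5) (Nat.ble 5 c)
noncomputable def st14_s_6_8 (c : Nat) : Nat := @Bool.rec (fun _ => Nat) (st14_6) (st14_7) (Nat.ble 7 c)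
noncomputable def st14_s_4_8 (c : Nat) : Nat := @Bool.rec (fun _ => Nat) (st14_s_4_6 c) (st14_s_6_8 c) (Nat.ble 6 c)
noncomputable def st14_s_0_8 (c : Nat) : Nat := @Bool.rec (fun _ => Nat) (st14_s_0_4 c) (st14_s_4_8 c) (Nat.ble 4 c)
noncomputable def st14_s_8_10 (c : Nat) : Nat := @Bool.rec (fun _ => Nat) (st14_8) (st14_9) (Nat.ble 9 c)
noncomputable def st14_s_10_12 (c : Nat) : Nat := @Bool.rec (fun _ => Nat) (st14_10) (st14_11) (Nat.ble 11 c)
noncomputable def st14_s_8_12 (c : Nat) : Nat := @Bool.rec (fun _ => Nat) (st14_s_8_10 c) (st14_s_10_12 c) (Nat.ble 10 c)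
noncomputable def st14_s_12_14 (c : Nat) : Nat := @Bool.rec (fun _ => Nat) (st14_12) (st14_13) (Nat.ble 13 c)
noncomputable def st14_s_14_16 (c : Nat) : Nat := @Bool.rec (fun _ => Nat) (st14_14) (st14_15) (Nat.ble 15 c)
noncomputable def st14_s_12_16 (c : Nat) : Nat := @Bool.rec (fun _ => Nat) (st14_s_12_14 c) (st14_s_14_16 c) (Nat.ble 14 c)
noncomputable def st14_s_8_16 (c : Nat) : Nat := @Bool.rec (fun _ => Nat) (st14_s_8_12 c) (st14_s_12_16 c) (Nat.ble 12 c)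
noncomputable def st14_s_0_16 (c : Nat) : Nat := @Bool.rec (fun _ => Nat) (st14_s_0_8 c) (st14_s_8_16 c) (Nat.ble 8 c)
noncomputable def st14 (i : Nat) : Nat := rdw 16 65535 (st14_s_0_16 (Nat.shiftRight i 12)) (Nat.land i 4095)
noncomputable def st15_s_0_2 (c : Nat) : Nat := @Bool.rec (fun _ => Nat) (st15_0) (st15_1) (Nat.ble 1 c)
noncomputable def st15_s_2_4 (c : Nat) : Nat := @Bool.rec (fun _ => Nat) (st15_2) (st15_3) (Nat.ble 3 c)
noncomputable def st15_s_0_4 (c : Nat) : Nat := @Bool.rec (fun _ => Nat) (st15_s_0_2 c) (st15_s_2_4 c) (Nat.ble 2 c)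
noncomputable def st15_s_4_6 (c : Nat) : Nat := @Bool.rec (fun _ => Nat) (st15_4) (st15_5) (Nat.ble 5 c)
noncomputable def st15_s_6_8 (c : Nat) : Nat := @Bool.rec (fun _ => Nat) (st15_6) (st15_7) (Nat.ble 7 c)
noncomputable def st15_s_4_8 (c : Nat) : Nat := @Bool.rec (fun _ => Nat) (st15_s_4_6 c) (st15_s_6_8 c) (Nat.ble 6 c)
noncomputable def st15_s_0_8 (c : Nat) : Nat := @Bool.rec (fun _ => Nat) (st15_s_0_4 c) (st15_s_4_8 c) (Nat.ble 4 c)
noncomputable def st15_s_8_10 (c : Nat) : Nat := @Bool.rec (fun _ => Nat) (st15_8) (st15_9) (Nat.ble 9 c)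
noncomputable def st15_s_10_12 (c : Nat) : Nat := @Bool.rec (fun _ => Nat) (st15_10) (st15_11) (Nat.ble 11 c)
noncomputable def st15_s_8_12 (c : Nat) : Nat := @Bool.rec (fun _ => Nat) (st15_s_8_10 c) (st15_s_10_12 c) (Nat.ble 10 c)
noncomputable def st15_s_12_14 (c : Nat) : Nat := @Bool.rec (fun _ => Nat) (st15_12) (st15_13) (Nat.ble 13 c)
noncomputable def st15_s_14_16 (c : Nat) : Nat := @Bool.rec (fun _ => Nat) (st15_14) (st15_15) (Nat.ble 15 c)
noncomputable def st15_s_12_16 (c : Nat) : Nat := @Bool.rec (fun _ => Nat) (st15_s_12_14 c) (st15_s_14_16 c) (Nat.ble 14 c)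
noncomputable def st15_s_8_16 (c : Nat) : Nat := @Bool.rec (fun _ => Nat) (st15_s_8_12 c) (st15_s_12_16 c) (Nat.ble 12 c)
noncomputable def st15_s_0_16 (c : Nat) : Nat := @Bool.rec (fun _ => Nat) (st15_s_0_8 c) (st15_s_8_16 c) (Nat.ble 8 c)
noncomputable def st15 (i : Nat) : Nat := rdw 16 65535 (st15_s_0_16 (Nat.shiftRight i 12)) (Nat.land i 4095)
noncomputable def st16_s_0_2 (c : Nat) : Nat := @Bool.rec (fun _ => Nat) (st16_0) (st16_1) (Nat.ble 1 c)
noncomputable def st16_s_2_4 (c : Nat) : Nat := @Bool.rec (fun _ => Nat) (st16_2) (st16_3) (Nat.ble 3 c)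
noncomputable def st16_s_0_4 (c : Nat) : Nat := @Bool.rec (fun _ => Nat) (st16_s_0_2 c) (st16_s_2_4 c) (Nat.ble 2 c)
noncomputable def st16_s_4_6 (c : Nat) : Nat := @Bool.rec (fun _ => Nat) (st16_4) (st16_5) (Nat.ble 5 c)
noncomputable def st16_s_6_8 (c : Nat) : Nat := @Bool.rec (fun _ => Nat) (st16_6) (st16_7) (Nat.ble 7 c)
noncomputable def st16_s_4_8 (c : Nat) : Nat := @Bool.rec (fun _ => Nat) (st16_s_4_6 c) (st16_s_6_8 c) (Nat.ble 6 c)
noncomputable def st16_s_0_8 (c : Nat) : Nat := @Bool.rec (fun _ => Nat) (st16_s_0_4 c) (st16_s_4_8 c) (Nat.ble 4 c)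
noncomputable def st16_s_8_10 (c : Nat) : Nat := @Bool.rec (fun _ => Nat) (st16_8) (st16_9) (Nat.ble 9 c)
noncomputable def st16_s_10_12 (c : Nat) : Nat := @Bool.rec (fun _ => Nat) (st16_10) (st16_11) (Nat.ble 11 c)
noncomputable def st16_s_8_12 (c : Nat) : Nat := @Bool.rec (fun _ => Nat) (st16_s_8_10 c) (st16_s_10_12 c) (Nat.ble 10 c)
noncomputable def st16_s_12_14 (c : Nat) : Nat := @Bool.rec (fun _ => Nat) (st16_12) (st16_13) (Nat.ble 13 c)
noncomputable def st16_s_14_16 (c : Nat) : Nat := @Bool.rec (fun _ => Nat) (st16_14) (st16_15) (Nat.ble 15 c)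
noncomputable def st16_s_12_16 (c : Nat) : Nat := @Bool.rec (fun _ => Nat) (st16_s_12_14 c) (st16_s_14_16 c) (Nat.ble 14 c)
noncomputable def st16_s_8_16 (c : Nat) : Nat := @Bool.rec (fun _ => Nat) (st16_s_8_12 c) (st16_s_12_16 c) (Nat.ble 12 c)
noncomputable def st16_s_0_16 (c : Nat) : Nat := @Bool.rec (fun _ => Nat) (st16_s_0_8 c) (st16_s_8_16 c) (Nat.ble 8 c)
noncomputable def st16 (i : Nat) : Nat := rdw 16 65535 (st16_s_0_16 (Nat.shiftRight i 12)) (Nat.land i 4095)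
noncomputable def st17_s_0_2 (c : Nat) : Nat := @Bool.rec (fun _ => Nat) (st17_0) (st17_1) (Nat.ble 1 c)
noncomputable def st17_s_2_4 (c : Nat) : Nat := @Bool.rec (fun _ => Nat) (st17_2) (st17_3) (Nat.ble 3 c)
noncomputable def st17_s_0_4 (c : Nat) : Nat := @Bool.rec (fun _ => Nat) (st17_s_0_2 c) (st17_s_2_4 c) (Nat.ble 2 c)
noncomputable def st17_s_4_6 (c : Nat) : Nat := @Bool.rec (fun _ => Nat) (st17_4) (st17_5) (Nat.ble 5 c)
noncomputable def st17_s_6_8 (c : Nat) : Nat := @Bool.rec (fun _ => Nat) (st17_6) (st17_7) (Nat.ble 7 c)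
noncomputable def st17_s_4_8 (c : Nat) : Nat := @Bool.rec (fun _ => Nat) (st17_s_4_6 c) (st17_s_6_8 c) (Nat.ble 6 c)
noncomputable def st17_s_0_8 (c : Nat) : Nat := @Bool.rec (fun _ => Nat) (st17_s_0_4 c) (st17_s_4_8 c) (Nat.ble 4 c)
noncomputable def st17_s_8_10 (c : Nat) : Nat := @Bool.rec (fun _ => Nat) (st17_8) (st17_9) (Nat.ble 9 c)
noncomputable def st17_s_10_12 (c : Nat) : Nat := @Bool.rec (fun _ => Nat) (st17_10) (st17_11) (Nat.ble 11 c)
noncomputable def st17_s_8_12 (c : Nat) : Nat := @Bool.rec (fun _ => Nat) (st17_s_8_10 c) (st17_s_10_12 c) (Nat.ble 10 c)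
noncomputable def st17_s_12_14 (c : Nat) : Nat := @Bool.rec (fun _ => Nat) (st17_12) (st17_13) (Nat.ble 13 c)
noncomputable def st17_s_14_16 (c : Nat) : Nat := @Bool.rec (fun _ => Nat) (st17_14) (st17_15) (Nat.ble 15 c)
noncomputable def st17_s_12_16 (c : Nat) : Nat := @Bool.rec (fun _ => Nat) (st17_s_12_14 c) (st17_s_14_16 c) (Nat.ble 14 c)
noncomputable def st17_s_8_16 (c : Nat) : Nat := @Bool.rec (fun _ => Nat) (st17_s_8_12 c) (st17_s_12_16 c) (Nat.ble 12 c)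
noncomputable def st17_s_0_16 (c : Nat) : Nat := @Bool.rec (fun _ => Nat) (st17_s_0_8 c) (st17_s_8_16 c) (Nat.ble 8 c)
noncomputable def st17 (i : Nat) : Nat := rdw 16 65535 (st17_s_0_16 (Nat.shiftRight i 12)) (Nat.land i 4095)
noncomputable def st18_s_0_2 (c : Nat) : Nat := @Bool.rec (fun _ => Nat) (st18_0) (st18_1) (Nat.ble 1 c)
noncomputable def st18_s_2_4 (c : Nat) : Nat := @Bool.rec (fun _ => Nat) (st18_2) (st18_3) (Nat.ble 3 c)
noncomputable def st18_s_0_4 (c : Nat) : Nat := @Bool.rec (fun _ => Nat) (st18_s_0_2 c) (st18_s_2_4 c) (Nat.ble 2 c)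
noncomputable def st18_s_4_6 (c : Nat) : Nat := @Bool.rec (fun _ => Nat) (st18_4) (st18_5) (Nat.ble 5 c)
noncomputable def st18_s_6_8 (c : Nat) : Nat := @Bool.rec (fun _ => Nat) (st18_6) (st18_7) (Nat.ble 7 c)
noncomputable def st18_s_4_8 (c : Nat) : Nat := @Bool.rec (fun _ => Nat) (st18_s_4_6 c) (st18_s_6_8 c) (Nat.ble 6 c)
noncomputable def st18_s_0_8 (c : Nat) : Nat := @Bool.rec (fun _ => Nat) (st18_s_0_4 c) (st18_s_4_8 c) (Nat.ble 4 c)
noncomputable def st18_s_8_10 (c : Nat) : Nat := @Bool.rec (fun _ => Nat) (st18_8) (st18_9) (Nat.ble 9 c)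
noncomputable def st18_s_10_12 (c : Nat) : Nat := @Bool.rec (fun _ => Nat) (st18_10) (st18_11) (Nat.ble 11 c)
noncomputable def st18_s_8_12 (c : Nat) : Nat := @Bool.rec (fun _ => Nat) (st18_s_8_10 c) (st18_s_10_12 c) (Nat.ble 10 c)
noncomputable def st18_s_12_14 (c : Nat) : Nat := @Bool.rec (fun _ => Nat) (st18_12) (st18_13) (Nat.ble 13 c)
noncomputable def st18_s_14_16 (c : Nat) : Nat := @Bool.rec (fun _ => Nat) (st18_14) (st18_15) (Nat.ble 15 c)
noncomputable def st18_s_12_16 (c : Nat) : Nat := @Bool.rec (fun _ => Nat) (st18_s_12_14 c) (st18_s_14_16 c) (Nat.ble 14 c)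
noncomputable def st18_s_8_16 (c : Nat) : Nat := @Bool.rec (fun _ => Nat) (st18_s_8_12 c) (st18_s_12_16 c) (Nat.ble 12 c)
noncomputable def st18_s_0_16 (c : Nat) : Nat := @Bool.rec (fun _ => Nat) (st18_s_0_8 c) (st18_s_8_16 c) (Nat.ble 8 c)
noncomputable def st18 (i : Nat) : Nat := rdw 16 65535 (st18_s_0_16 (Nat.shiftRight i 12)) (Nat.land i 4095)
noncomputable def st19_s_0_2 (c : Nat) : Nat := @Bool.rec (fun _ => Nat) (st19_0) (st19_1) (Nat.ble 1 c)
noncomputable def st19_s_2_4 (c : Nat) : Nat := @Bool.rec (fun _ => Nat) (st19_2) (st19_3) (Nat.ble 3 c)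
noncomputable def st19_s_0_4 (c : Nat) : Nat := @Bool.rec (fun _ => Nat) (st19_s_0_2 c) (st19_s_2_4 c) (Nat.ble 2 c)
noncomputable def st19_s_4_6 (c : Nat) : Nat := @Bool.rec (fun _ => Nat) (st19_4) (st19_5) (Nat.ble 5 c)
noncomputable def st19_s_6_8 (c : Nat) : Nat := @Bool.rec (fun _ => Nat) (st19_6) (st19_7) (Nat.ble 7 c)
noncomputable def st19_s_4_8 (c : Nat) : Nat := @Bool.rec (fun _ => Nat) (st19_s_4_6 c) (st19_s_6_8 c) (Nat.ble 6 c)
noncomputable def st19_s_0_8 (c : Nat) : Nat := @Bool.rec (fun _ => Nat) (st19_s_0_4 c) (st19_s_4_8 c) (Nat.ble 4 c)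
noncomputable def st19_s_8_10 (c : Nat) : Nat := @Bool.rec (fun _ => Nat) (st19_8) (st19_9) (Nat.ble 9 c)
noncomputable def st19_s_10_12 (c : Nat) : Nat := @Bool.rec (fun _ => Nat) (st19_10) (st19_11) (Nat.ble 11 c)
noncomputable def st19_s_8_12 (c : Nat) : Nat := @Bool.rec (fun _ => Nat) (st19_s_8_10 c) (st19_s_10_12 c) (Nat.ble 10 c)
noncomputable def st19_s_12_14 (c : Nat) : Nat := @Bool.rec (fun _ => Nat) (st19_12) (st19_13) (Nat.ble 13 c)
noncomputable def st19_s_14_16 (c : Nat) : Nat := @Bool.rec (fun _ => Nat) (st19_14) (st19_15) (Nat.ble 15 c)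
noncomputable def st19_s_12_16 (c : Nat) : Nat := @Bool.rec (fun _ => Nat) (st19_s_12_14 c) (st19_s_14_16 c) (Nat.ble 14 c)
noncomputable def st19_s_8_16 (c : Nat) : Nat := @Bool.rec (fun _ => Nat) (st19_s_8_12 c) (st19_s_12_16 c) (Nat.ble 12 c)
noncomputable def st19_s_0_16 (c : Nat) : Nat := @Bool.rec (fun _ => Nat) (st19_s_0_8 c) (st19_s_8_16 c) (Nat.ble 8 c)
noncomputable def st19 (i : Nat) : Nat := rdw 16 65535 (st19_s_0_16 (Nat.shiftRight i 12)) (Nat.land i 4095)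
noncomputable def st20_s_0_2 (c : Nat) : Nat := @Bool.rec (fun _ => Nat) (st20_0) (st20_1) (Nat.ble 1 c)
noncomputable def st20_s_2_4 (c : Nat) : Nat := @Bool.rec (fun _ => Nat) (st20_2) (st20_3) (Nat.ble 3 c)
noncomputable def st20_s_0_4 (c : Nat) : Nat := @Bool.rec (fun _ => Nat) (st20_s_0_2 c) (st20_s_2_4 c) (Nat.ble 2 c)
noncomputable def st20_s_4_6 (c : Nat) : Nat := @Bool.rec (fun _ => Nat) (st20_4) (st20_5) (Nat.ble 5 c)
noncomputable def st20_s_6_8 (c : Nat) : Nat := @Bool.rec (fun _ => Nat) (st20_6) (st20_7) (Nat.ble 7 c)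
noncomputable def st20_s_4_8 (c : Nat) : Nat := @Bool.rec (fun _ => Nat) (st20_s_4_6 c) (st20_s_6_8 c) (Nat.ble 6 c)
noncomputable def st20_s_0_8 (c : Nat) : Nat := @Bool.rec (fun _ => Nat) (st20_s_0_4 c) (st20_s_4_8 c) (Nat.ble 4 c)
noncomputable def st20_s_8_10 (c : Nat) : Nat := @Bool.rec (fun _ => Nat) (st20_8) (st20_9) (Nat.ble 9 c)
noncomputable def st20_s_10_12 (c : Nat) : Nat := @Bool.rec (fun _ => Nat) (st20_10) (st20_11) (Nat.ble 11 c)
noncomputable def st20_s_8_12 (c : Nat) : Nat := @Bool.rec (fun _ => Nat) (st20_s_8_10 c) (st20_s_10_12 c) (Nat.ble 10 c)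
noncomputable def st20_s_12_14 (c : Nat) : Nat := @Bool.rec (fun _ => Nat) (st20_12) (st20_13) (Nat.ble 13 c)
noncomputable def st20_s_14_16 (c : Nat) : Nat := @Bool.rec (fun _ => Nat) (st20_14) (st20_15) (Nat.ble 15 c)
noncomputable def st20_s_12_16 (c : Nat) : Nat := @Bool.rec (fun _ => Nat) (st20_s_12_14 c) (st20_s_14_16 c) (Nat.ble 14 c)
noncomputable def st20_s_8_16 (c : Nat) : Nat := @Bool.rec (fun _ => Nat) (st20_s_8_12 c) (st20_s_12_16 c) (Nat.ble 12 c)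
noncomputable def st20_s_0_16 (c : Nat) : Nat := @Bool.rec (fun _ => Nat) (st20_s_0_8 c) (st20_s_8_16 c) (Nat.ble 8 c)
noncomputable def st20 (i : Nat) : Nat := rdw 16 65535 (st20_s_0_16 (Nat.shiftRight i 12)) (Nat.land i 4095)
noncomputable def st21_s_0_2 (c : Nat) : Nat := @Bool.rec (fun _ => Nat) (st21_0) (st21_1) (Nat.ble 1 c)
noncomputable def st21_s_2_4 (c : Nat) : Nat := @Bool.rec (fun _ => Nat) (st21_2) (st21_3) (Nat.ble 3 c)
noncomputable def st21_s_0_4 (c : Nat) : Nat := @Bool.rec (fun _ => Nat) (st21_s_0_2 c) (st21_s_2_4 c) (Nat.ble 2 c)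
noncomputable def st21_s_4_6 (c : Nat) : Nat := @Bool.rec (fun _ => Nat) (st21_4) (st21_5) (Nat.ble 5 c)
noncomputable def st21_s_6_8 (c : Nat) : Nat := @Bool.rec (fun _ => Nat) (st21_6) (st21_7) (Nat.ble 7 c)
noncomputable def st21_s_4_8 (c : Nat) : Nat := @Bool.rec (fun _ => Nat) (st21_s_4_6 c) (st21_s_6_8 c) (Nat.ble 6 c)
noncomputable def st21_s_0_8 (c : Nat) : Nat := @Bool.rec (fun _ => Nat) (st21_s_0_4 c) (st21_s_4_8 c) (Nat.ble 4 c)
noncomputable def st21_s_8_10 (c : Nat) : Nat := @Bool.rec (fun _ => Nat) (st21_8) (st21_9) (Nat.ble 9 c)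
noncomputable def st21_s_10_12 (c : Nat) : Nat := @Bool.rec (fun _ => Nat) (st21_10) (st21_11) (Nat.ble 11 c)
noncomputable def st21_s_8_12 (c : Nat) : Nat := @Bool.rec (fun _ => Nat) (st21_s_8_10 c) (st21_s_10_12 c) (Nat.ble 10 c)
noncomputable def st21_s_12_14 (c : Nat) : Nat := @Bool.rec (fun _ => Nat) (st21_12) (st21_13) (Nat.ble 13 c)
noncomputable def st21_s_14_16 (c : Nat) : Nat := @Bool.rec (fun _ => Nat) (st21_14) (st21_15) (Nat.ble 15 c)
noncomputable def st21_s_12_16 (c : Nat) : Nat := @Bool.rec (fun _ => Nat) (st21_s_12_14 c) (st21_s_14_16 c) (Nat.ble 14 c)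
noncomputable def st21_s_8_16 (c : Nat) : Nat := @Bool.rec (fun _ => Nat) (st21_s_8_12 c) (st21_s_12_16 c) (Nat.ble 12 c)
noncomputable def st21_s_0_16 (c : Nat) : Nat := @Bool.rec (fun _ => Nat) (st21_s_0_8 c) (st21_s_8_16 c) (Nat.ble 8 c)
noncomputable def st21 (i : Nat) : Nat := rdw 16 65535 (st21_s_0_16 (Nat.shiftRight i 12)) (Nat.land i 4095)
noncomputable def st22_s_0_2 (c : Nat) : Nat := @Bool.rec (fun _ => Nat) (st22_0) (st22_1) (Nat.ble 1 c)
noncomputable def st22_s_2_4 (c : Nat) : Nat := @Bool.rec (fun _ => Nat) (st22_2) (st22_3) (Nat.ble 3 c)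
noncomputable def st22_s_0_4 (c : Nat) : Nat := @Bool.rec (fun _ => Nat) (st22_s_0_2 c) (st22_s_2_4 c) (Nat.ble 2 c)
noncomputable def st22_s_4_6 (c : Nat) : Nat := @Bool.rec (fun _ => Nat) (st22_4) (st22_5) (Nat.ble 5 c)
noncomputable def st22_s_6_8 (c : Nat) : Nat := @Bool.rec (fun _ => Nat) (st22_6) (st22_7) (Nat.ble 7 c)
noncomputable def st22_s_4_8 (c : Nat) : Nat := @Bool.rec (fun _ => Nat) (st22_s_4_6 c) (st22_s_6_8 c) (Nat.ble 6 c)
noncomputable def st22_s_0_8 (c : Nat) : Nat := @Bool.rec (fun _ => Nat) (st22_s_0_4 c) (st22_s_4_8 c) (Nat.ble 4 c)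
noncomputable def st22_s_8_10 (c : Nat) : Nat := @Bool.rec (fun _ => Nat) (st22_8) (st22_9) (Nat.ble 9 c)
noncomputable def st22_s_10_12 (c : Nat) : Nat := @Bool.rec (fun _ => Nat) (st22_10) (st22_11) (Nat.ble 11 c)
noncomputable def st22_s_8_12 (c : Nat) : Nat := @Bool.rec (fun _ => Nat) (st22_s_8_10 c) (st22_s_10_12 c) (Nat.ble 10 c)
noncomputable def st22_s_12_14 (c : Nat) : Nat := @Bool.rec (fun _ => Nat) (st22_12) (st22_13) (Nat.ble 13 c)
noncomputable def st22_s_14_16 (c : Nat) : Nat := @Bool.rec (fun _ => Nat) (st22_14) (st22_15) (Nat.ble 15 c)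
noncomputable def st22_s_12_16 (c : Nat) : Nat := @Bool.rec (fun _ => Nat) (st22_s_12_14 c) (st22_s_14_16 c) (Nat.ble 14 c)
noncomputable def st22_s_8_16 (c : Nat) : Nat := @Bool.rec (fun _ => Nat) (st22_s_8_12 c) (st22_s_12_16 c) (Nat.ble 12 c)
noncomputable def st22_s_0_16 (c : Nat) : Nat := @Bool.rec (fun _ => Nat) (st22_s_0_8 c) (st22_s_8_16 c) (Nat.ble 8 c)
noncomputable def st22 (i : Nat) : Nat := rdw 16 65535 (st22_s_0_16 (Nat.shiftRight i 12)) (Nat.land i 4095)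
noncomputable def st23_s_0_2 (c : Nat) : Nat := @Bool.rec (fun _ => Nat) (st23_0) (st23_1) (Nat.ble 1 c)
noncomputable def st23_s_2_4 (c : Nat) : Nat := @Bool.rec (fun _ => Nat) (st23_2) (st23_3) (Nat.ble 3 c)
noncomputable def st23_s_0_4 (c : Nat) : Nat := @Bool.rec (fun _ => Nat) (st23_s_0_2 c) (st23_s_2_4 c) (Nat.ble 2 c)
noncomputable def st23_s_4_6 (c : Nat) : Nat := @Bool.rec (fun _ => Nat) (st23_4) (st23_5) (Nat.ble 5 c)
noncomputable def st23_s_6_8 (c : Nat) : Nat := @Bool.rec (fun _ => Nat) (st23_6) (st23_7) (Nat.ble 7 c)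
noncomputable def st23_s_4_8 (c : Nat) : Nat := @Bool.rec (fun _ => Nat) (st23_s_4_6 c) (st23_s_6_8 c) (Nat.ble 6 c)
noncomputable def st23_s_0_8 (c : Nat) : Nat := @Bool.rec (fun _ => Nat) (st23_s_0_4 c) (st23_s_4_8 c) (Nat.ble 4 c)
noncomputable def st23_s_8_10 (c : Nat) : Nat := @Bool.rec (fun _ => Nat) (st23_8) (st23_9) (Nat.ble 9 c)
noncomputable def st23_s_10_12 (c : Nat) : Nat := @Bool.rec (fun _ => Nat) (st23_10) (st23_11) (Nat.ble 11 c)
noncomputable def st23_s_8_12 (c : Nat) : Nat := @Bool.rec (fun _ => Nat) (st23_s_8_10 c) (st23_s_10_12 c) (Nat.ble 10 c)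
noncomputable def st23_s_12_14 (c : Nat) : Nat := @Bool.rec (fun _ => Nat) (st23_12) (st23_13) (Nat.ble 13 c)
noncomputable def st23_s_14_16 (c : Nat) : Nat := @Bool.rec (fun _ => Nat) (st23_14) (st23_15) (Nat.ble 15 c)
noncomputable def st23_s_12_16 (c : Nat) : Nat := @Bool.rec (fun _ => Nat) (st23_s_12_14 c) (st23_s_14_16 c) (Nat.ble 14 c)
noncomputable def st23_s_8_16 (c : Nat) : Nat := @Bool.rec (fun _ => Nat) (st23_s_8_12 c) (st23_s_12_16 c) (Nat.ble 12 c)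
noncomputable def st23_s_0_16 (c : Nat) : Nat := @Bool.rec (fun _ => Nat) (st23_s_0_8 c) (st23_s_8_16 c) (Nat.ble 8 c)
noncomputable def st23 (i : Nat) : Nat := rdw 16 65535 (st23_s_0_16 (Nat.shiftRight i 12)) (Nat.land i 4095)
noncomputable def st24_s_0_2 (c : Nat) : Nat := @Bool.rec (fun _ => Nat) (st24_0) (st24_1) (Nat.ble 1 c)
noncomputable def st24_s_2_4 (c : Nat) : Nat := @Bool.rec (fun _ => Nat) (st24_2) (st24_3) (Nat.ble 3 c)
noncomputable def st24_s_0_4 (c : Nat) : Nat := @Bool.rec (fun _ => Nat) (st24_s_0_2 c) (st24_s_2_4 c) (Nat.ble 2 c)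
noncomputable def st24_s_4_6 (c : Nat) : Nat := @Bool.rec (fun _ => Nat) (st24_4) (st24_5) (Nat.ble 5 c)
noncomputable def st24_s_6_8 (c : Nat) : Nat := @Bool.rec (fun _ => Nat) (st24_6) (st24_7) (Nat.ble 7 c)
noncomputable def st24_s_4_8 (c : Nat) : Nat := @Bool.rec (fun _ => Nat) (st24_s_4_6 c) (st24_s_6_8 c) (Nat.ble 6 c)
noncomputable def st24_s_0_8 (c : Nat) : Nat := @Bool.rec (fun _ => Nat) (st24_s_0_4 c) (st24_s_4_8 c) (Nat.ble 4 c)
noncomputable def st24_s_8_10 (c : Nat) : Nat := @Bool.rec (fun _ => Nat) (st24_8) (st24_9) (Nat.ble 9 c)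
noncomputable def st24_s_10_12 (c : Nat) : Nat := @Bool.rec (fun _ => Nat) (st24_10) (st24_11) (Nat.ble 11 c)
noncomputable def st24_s_8_12 (c : Nat) : Nat := @Bool.rec (fun _ => Nat) (st24_s_8_10 c) (st24_s_10_12 c) (Nat.ble 10 c)
noncomputable def st24_s_12_14 (c : Nat) : Nat := @Bool.rec (fun _ => Nat) (st24_12) (st24_13) (Nat.ble 13 c)
noncomputable def st24_s_14_16 (c : Nat) : Nat := @Bool.rec (fun _ => Nat) (st24_14) (st24_15) (Nat.ble 15 c)
noncomputable def st24_s_12_16 (c : Nat) : Nat := @Bool.rec (fun _ => Nat) (st24_s_12_14 c) (st24_s_14_16 c) (Nat.ble 14 c)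
noncomputable def st24_s_8_16 (c : Nat) : Nat := @Bool.rec (fun _ => Nat) (st24_s_8_12 c) (st24_s_12_16 c) (Nat.ble 12 c)
noncomputable def st24_s_0_16 (c : Nat) : Nat := @Bool.rec (fun _ => Nat) (st24_s_0_8 c) (st24_s_8_16 c) (Nat.ble 8 c)
noncomputable def st24 (i : Nat) : Nat := rdw 16 65535 (st24_s_0_16 (Nat.shiftRight i 12)) (Nat.land i 4095)
noncomputable def st25_s_0_2 (c : Nat) : Nat := @Bool.rec (fun _ => Nat) (st25_0) (st25_1) (Nat.ble 1 c)
noncomputable def st25_s_2_4 (c : Nat) : Nat := @Bool.rec (fun _ => Nat) (st25_2) (st25_3) (Nat.ble 3 c)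
noncomputable def st25_s_0_4 (c : Nat) : Nat := @Bool.rec (fun _ => Nat) (st25_s_0_2 c) (st25_s_2_4 c) (Nat.ble 2 c)
noncomputable def st25_s_4_6 (c : Nat) : Nat := @Bool.rec (fun _ => Nat) (st25_4) (st25_5) (Nat.ble 5 c)
noncomputable def st25_s_6_8 (c : Nat) : Nat := @Bool.rec (fun _ => Nat) (st25_6) (st25_7) (Nat.ble 7 c)
noncomputable def st25_s_4_8 (c : Nat) : Nat := @Bool.rec (fun _ => Nat) (st25_s_4_6 c) (st25_s_6_8 c) (Nat.ble 6 c)
noncomputable def st25_s_0_8 (c : Nat) : Nat := @Bool.rec (fun _ => Nat) (st25_s_0_4 c) (st25_s_4_8 c) (Nat.ble 4 c)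
noncomputable def st25_s_8_10 (c : Nat) : Nat := @Bool.rec (fun _ => Nat) (st25_8) (st25_9) (Nat.ble 9 c)
noncomputable def st25_s_10_12 (c : Nat) : Nat := @Bool.rec (fun _ => Nat) (st25_10) (st25_11) (Nat.ble 11 c)
noncomputable def st25_s_8_12 (c : Nat) : Nat := @Bool.rec (fun _ => Nat) (st25_s_8_10 c) (st25_s_10_12 c) (Nat.ble 10 c)
noncomputable def st25_s_12_14 (c : Nat) : Nat := @Bool.rec (fun _ => Nat) (st25_12) (st25_13) (Nat.ble 13 c)
noncomputable def st25_s_14_16 (c : Nat) : Nat := @Bool.rec (fun _ => Nat) (st25_14) (st25_15) (Nat.ble 15 c)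
noncomputable def st25_s_12_16 (c : Nat) : Nat := @Bool.rec (fun _ => Nat) (st25_s_12_14 c) (st25_s_14_16 c) (Nat.ble 14 c)
noncomputable def st25_s_8_16 (c : Nat) : Nat := @Bool.rec (fun _ => Nat) (st25_s_8_12 c) (st25_s_12_16 c) (Nat.ble 12 c)
noncomputable def st25_s_0_16 (c : Nat) : Nat := @Bool.rec (fun _ => Nat) (st25_s_0_8 c) (st25_s_8_16 c) (Nat.ble 8 c)
noncomputable def st25 (i : Nat) : Nat := rdw 16 65535 (st25_s_0_16 (Nat.shiftRight i 12)) (Nat.land i 4095)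
noncomputable def st26_s_0_2 (c : Nat) : Nat := @Bool.rec (fun _ => Nat) (st26_0) (st26_1) (Nat.ble 1 c)
noncomputable def st26_s_2_4 (c : Nat) : Nat := @Bool.rec (fun _ => Nat) (st26_2) (st26_3) (Nat.ble 3 c)
noncomputable def st26_s_0_4 (c : Nat) : Nat := @Bool.rec (fun _ => Nat) (st26_s_0_2 c) (st26_s_2_4 c) (Nat.ble 2 c)
noncomputable def st26_s_4_6 (c : Nat) : Nat := @Bool.rec (fun _ => Nat) (st26_4) (st26_5) (Nat.ble 5 c)
noncomputable def st26_s_6_8 (c : Nat) : Nat := @Bool.rec (fun _ => Nat) (st26_6) (st26_7) (Nat.ble 7 c)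
noncomputable def st26_s_4_8 (c : Nat) : Nat := @Bool.rec (fun _ => Nat) (st26_s_4_6 c) (st26_s_6_8 c) (Nat.ble 6 c)
noncomputable def st26_s_0_8 (c : Nat) : Nat := @Bool.rec (fun _ => Nat) (st26_s_0_4 c) (st26_s_4_8 c) (Nat.ble 4 c)
noncomputable def st26_s_8_10 (c : Nat) : Nat := @Bool.rec (fun _ => Nat) (st26_8) (st26_9) (Nat.ble 9 c)
noncomputable def st26_s_10_12 (c : Nat) : Nat := @Bool.rec (fun _ => Nat) (st26_10) (st26_11) (Nat.ble 11 c)
noncomputable def st26_s_8_12 (c : Nat) : Nat := @Bool.rec (fun _ => Nat) (st26_s_8_10 c) (st26_s_10_12 c) (Nat.ble 10 c)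
noncomputable def st26_s_12_14 (c : Nat) : Nat := @Bool.rec (fun _ => Nat) (st26_12) (st26_13) (Nat.ble 13 c)
noncomputable def st26_s_14_16 (c : Nat) : Nat := @Bool.rec (fun _ => Nat) (st26_14) (st26_15) (Nat.ble 15 c)
noncomputable def st26_s_12_16 (c : Nat) : Nat := @Bool.rec (fun _ => Nat) (st26_s_12_14 c) (st26_s_14_16 c) (Nat.ble 14 c)
noncomputable def st26_s_8_16 (c : Nat) : Nat := @Bool.rec (fun _ => Nat) (st26_s_8_12 c) (st26_s_12_16 c) (Nat.ble 12 c)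
noncomputable def st26_s_0_16 (c : Nat) : Nat := @Bool.rec (fun _ => Nat) (st26_s_0_8 c) (st26_s_8_16 c) (Nat.ble 8 c)
noncomputable def st26 (i : Nat) : Nat := rdw 16 65535 (st26_s_0_16 (Nat.shiftRight i 12)) (Nat.land i 4095)
noncomputable def st27_s_0_2 (c : Nat) : Nat := @Bool.rec (fun _ => Nat) (st27_0) (st27_1) (Nat.ble 1 c)
noncomputable def st27_s_2_4 (c : Nat) : Nat := @Bool.rec (fun _ => Nat) (st27_2) (st27_3) (Nat.ble 3 c)
noncomputable def st27_s_0_4 (c : Nat) : Nat := @Bool.rec (fun _ => Nat) (st27_s_0_2 c) (st27_s_2_4 c) (Nat.ble 2 c)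
noncomputable def st27_s_4_6 (c : Nat) : Nat := @Bool.rec (fun _ => Nat) (st27_4) (st27_5) (Nat.ble 5 c)
noncomputable def st27_s_6_8 (c : Nat) : Nat := @Bool.rec (fun _ => Nat) (st27_6) (st27_7) (Nat.ble 7 c)
noncomputable def st27_s_4_8 (c : Nat) : Nat := @Bool.rec (fun _ => Nat) (st27_s_4_6 c) (st27_s_6_8 c) (Nat.ble 6 c)
noncomputable def st27_s_0_8 (c : Nat) : Nat := @Bool.rec (fun _ => Nat) (st27_s_0_4 c) (st27_s_4_8 c) (Nat.ble 4 c)
noncomputable def st27_s_8_10 (c : Nat) : Nat := @Bool.rec (fun _ => Nat) (st27_8) (st27_9) (Nat.ble 9 c)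
noncomputable def st27_s_10_12 (c : Nat) : Nat := @Bool.rec (fun _ => Nat) (st27_10) (st27_11) (Nat.ble 11 c)
noncomputable def st27_s_8_12 (c : Nat) : Nat := @Bool.rec (fun _ => Nat) (st27_s_8_10 c) (st27_s_10_12 c) (Nat.ble 10 c)
noncomputable def st27_s_12_14 (c : Nat) : Nat := @Bool.rec (fun _ => Nat) (st27_12) (st27_13) (Nat.ble 13 c)
noncomputable def st27_s_14_16 (c : Nat) : Nat := @Bool.rec (fun _ => Nat) (st27_14) (st27_15) (Nat.ble 15 c)
noncomputable def st27_s_12_16 (c : Nat) : Nat := @Bool.rec (fun _ => Nat) (st27_s_12_14 c) (st27_s_14_16 c) (Nat.ble 14 c)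
noncomputable def st27_s_8_16 (c : Nat) : Nat := @Bool.rec (fun _ => Nat) (st27_s_8_12 c) (st27_s_12_16 c) (Nat.ble 12 c)
noncomputable def st27_s_0_16 (c : Nat) : Nat := @Bool.rec (fun _ => Nat) (st27_s_0_8 c) (st27_s_8_16 c) (Nat.ble 8 c)
noncomputable def st27 (i : Nat) : Nat := rdw 16 65535 (st27_s_0_16 (Nat.shiftRight i 12)) (Nat.land i 4095)
noncomputable def st28_s_0_2 (c : Nat) : Nat := @Bool.rec (fun _ => Nat) (st28_0) (st28_1) (Nat.ble 1 c)
noncomputable def st28_s_2_4 (c : Nat) : Nat := @Bool.rec (fun _ => Nat) (st28_2) (st28_3) (Nat.ble 3 c)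
noncomputable def st28_s_0_4 (c : Nat) : Nat := @Bool.rec (fun _ => Nat) (st28_s_0_2 c) (st28_s_2_4 c) (Nat.ble 2 c)
noncomputable def st28_s_4_6 (c : Nat) : Nat := @Bool.rec (fun _ => Nat) (st28_4) (st28_5) (Nat.ble 5 c)
noncomputable def st28_s_6_8 (c : Nat) : Nat := @Bool.rec (fun _ => Nat) (st28_6) (st28_7) (Nat.ble 7 c)
noncomputable def st28_s_4_8 (c : Nat) : Nat := @Bool.rec (fun _ => Nat) (st28_s_4_6 c) (st28_s_6_8 c) (Nat.ble 6 c)
noncomputable def st28_s_0_8 (c : Nat) : Nat := @Bool.rec (fun _ => Nat) (st28_s_0_4 c) (st28_s_4_8 c) (Nat.ble 4 c)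
noncomputable def st28_s_8_10 (c : Nat) : Nat := @Bool.rec (fun _ => Nat) (st28_8) (st28_9) (Nat.ble 9 c)
noncomputable def st28_s_10_12 (c : Nat) : Nat := @Bool.rec (fun _ => Nat) (st28_10) (st28_11) (Nat.ble 11 c)
noncomputable def st28_s_8_12 (c : Nat) : Nat := @Bool.rec (fun _ => Nat) (st28_s_8_10 c) (st28_s_10_12 c) (Nat.ble 10 c)
noncomputable def st28_s_12_14 (c : Nat) : Nat := @Bool.rec (fun _ => Nat) (st28_12) (st28_13) (Nat.ble 13 c)
noncomputable def st28_s_14_16 (c : Nat) : Nat := @Bool.rec (fun _ => Nat) (st28_14) (st28_15) (Nat.ble 15 c)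
noncomputable def st28_s_12_16 (c : Nat) : Nat := @Bool.rec (fun _ => Nat) (st28_s_12_14 c) (st28_s_14_16 c) (Nat.ble 14 c)
noncomputable def st28_s_8_16 (c : Nat) : Nat := @Bool.rec (fun _ => Nat) (st28_s_8_12 c) (st28_s_12_16 c) (Nat.ble 12 c)
noncomputable def st28_s_0_16 (c : Nat) : Nat := @Bool.rec (fun _ => Nat) (st28_s_0_8 c) (st28_s_8_16 c) (Nat.ble 8 c)
noncomputable def st28 (i : Nat) : Nat := rdw 16 65535 (st28_s_0_16 (Nat.shiftRight i 12)) (Nat.land i 4095)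
noncomputable def st29_s_0_2 (c : Nat) : Nat := @Bool.rec (fun _ => Nat) (st29_0) (st29_1) (Nat.ble 1 c)
noncomputable def st29_s_2_4 (c : Nat) : Nat := @Bool.rec (fun _ => Nat) (st29_2) (st29_3) (Nat.ble 3 c)
noncomputable def st29_s_0_4 (c : Nat) : Nat := @Bool.rec (fun _ => Nat) (st29_s_0_2 c) (st29_s_2_4 c) (Nat.ble 2 c)
noncomputable def st29_s_4_6 (c : Nat) : Nat := @Bool.rec (fun _ => Nat) (st29_4) (st29_5) (Nat.ble 5 c)
noncomputable def st29_s_6_8 (c : Nat) : Nat := @Bool.rec (fun _ => Nat) (st29_6) (st29_7) (Nat.ble 7 c)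
noncomputable def st29_s_4_8 (c : Nat) : Nat := @Bool.rec (fun _ => Nat) (st29_s_4_6 c) (st29_s_6_8 c) (Nat.ble 6 c)
noncomputable def st29_s_0_8 (c : Nat) : Nat := @Bool.rec (fun _ => Nat) (st29_s_0_4 c) (st29_s_4_8 c) (Nat.ble 4 c)
noncomputable def st29_s_8_10 (c : Nat) : Nat := @Bool.rec (fun _ => Nat) (st29_8) (st29_9) (Nat.ble 9 c)
noncomputable def st29_s_10_12 (c : Nat) : Nat := @Bool.rec (fun _ => Nat) (st29_10) (st29_11) (Nat.ble 11 c)
noncomputable def st29_s_8_12 (c : Nat) : Nat := @Bool.rec (fun _ => Nat) (st29_s_8_10 c) (st29_s_10_12 c) (Nat.ble 10 c)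
noncomputable def st29_s_12_14 (c : Nat) : Nat := @Bool.rec (fun _ => Nat) (st29_12) (st29_13) (Nat.ble 13 c)
noncomputable def st29_s_14_16 (c : Nat) : Nat := @Bool.rec (fun _ => Nat) (st29_14) (st29_15) (Nat.ble 15 c)
noncomputable def st29_s_12_16 (c : Nat) : Nat := @Bool.rec (fun _ => Nat) (st29_s_12_14 c) (st29_s_14_16 c) (Nat.ble 14 c)
noncomputable def st29_s_8_16 (c : Nat) : Nat := @Bool.rec (fun _ => Nat) (st29_s_8_12 c) (st29_s_12_16 c) (Nat.ble 12 c)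
noncomputable def st29_s_0_16 (c : Nat) : Nat := @Bool.rec (fun _ => Nat) (st29_s_0_8 c) (st29_s_8_16 c) (Nat.ble 8 c)
noncomputable def st29 (i : Nat) : Nat := rdw 16 65535 (st29_s_0_16 (Nat.shiftRight i 12)) (Nat.land i 4095)
noncomputable def st30_s_0_2 (c : Nat) : Nat := @Bool.rec (fun _ => Nat) (st30_0) (st30_1) (Nat.ble 1 c)
noncomputable def st30_s_2_4 (c : Nat) : Nat := @Bool.rec (fun _ => Nat) (st30_2) (st30_3) (Nat.ble 3 c)
noncomputable def st30_s_0_4 (c : Nat) : Nat := @Bool.rec (fun _ => Nat) (st30_s_0_2 c) (st30_s_2_4 c) (Nat.ble 2 c)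
noncomputable def st30_s_4_6 (c : Nat) : Nat := @Bool.rec (fun _ => Nat) (st30_4) (st30_5) (Nat.ble 5 c)
noncomputable def st30_s_6_8 (c : Nat) : Nat := @Bool.rec (fun _ => Nat) (st30_6) (st30_7) (Nat.ble 7 c)
noncomputable def st30_s_4_8 (c : Nat) : Nat := @Bool.rec (fun _ => Nat) (st30_s_4_6 c) (st30_s_6_8 c) (Nat.ble 6 c)
noncomputable def st30_s_0_8 (c : Nat) : Nat := @Bool.rec (fun _ => Nat) (st30_s_0_4 c) (st30_s_4_8 c) (Nat.ble 4 c)
noncomputable def st30_s_8_10 (c : Nat) : Nat := @Bool.rec (fun _ => Nat) (st30_8) (st30_9) (Nat.ble 9 c)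
noncomputable def st30_s_10_12 (c : Nat) : Nat := @Bool.rec (fun _ => Nat) (st30_10) (st30_11) (Nat.ble 11 c)
noncomputable def st30_s_8_12 (c : Nat) : Nat := @Bool.rec (fun _ => Nat) (st30_s_8_10 c) (st30_s_10_12 c) (Nat.ble 10 c)
noncomputable def st30_s_12_14 (c : Nat) : Nat := @Bool.rec (fun _ => Nat) (st30_12) (st30_13) (Nat.ble 13 c)
noncomputable def st30_s_14_16 (c : Nat) : Nat := @Bool.rec (fun _ => Nat) (st30_14) (st30_15) (Nat.ble 15 c)
noncomputable def st30_s_12_16 (c : Nat) : Nat := @Bool.rec (fun _ => Nat) (st30_s_12_14 c) (st30_s_14_16 c) (Nat.ble 14 c)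
noncomputable def st30_s_8_16 (c : Nat) : Nat := @Bool.rec (fun _ => Nat) (st30_s_8_12 c) (st30_s_12_16 c) (Nat.ble 12 c)
noncomputable def st30_s_0_16 (c : Nat) : Nat := @Bool.rec (fun _ => Nat) (st30_s_0_8 c) (st30_s_8_16 c) (Nat.ble 8 c)
noncomputable def st30 (i : Nat) : Nat := rdw 16 65535 (st30_s_0_16 (Nat.shiftRight i 12)) (Nat.land i 4095)
noncomputable def levTab (i : Nat) : Nat := rdw 4 15 levTab_0 i
noncomputable def betaTab (i : Nat) : Nat := rdw 16 65535 betaTab_0 i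
noncomputable def nodeTab_s_0_2 (c : Nat) : Nat := @Bool.rec (fun _ => Nat) (nodeTab_0) (nodeTab_1) (Nat.ble 1 c)
noncomputable def nodeTab_s_3_5 (c : Nat) : Nat := @Bool.rec (fun _ => Nat) (nodeTab_3) (nodeTab_4) (Nat.ble 4 c)
noncomputable def nodeTab_s_2_5 (c : Nat) : Nat := @Bool.rec (fun _ => Nat) (nodeTab_2) (nodeTab_s_3_5 c) (Nat.ble 3 c)
noncomputable def nodeTab_s_0_5 (c : Nat) : Nat := @Bool.rec (fun _ => Nat) (nodeTab_s_0_2 c) (nodeTab_s_2_5 c) (Nat.ble 2 c)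
noncomputable def nodeTab_s_6_8 (c : Nat) : Nat := @Bool.rec (fun _ => Nat) (nodeTab_6) (nodeTab_7) (Nat.ble 7 c)
noncomputable def nodeTab_s_5_8 (c : Nat) : Nat := @Bool.rec (fun _ => Nat) (nodeTab_5) (nodeTab_s_6_8 c) (Nat.ble 6 c)
noncomputable def nodeTab_s_9_11 (c : Nat) : Nat := @Bool.rec (fun _ => Nat) (nodeTab_9) (nodeTab_10) (Nat.ble 10 c)
noncomputable def nodeTab_s_8_11 (c : Nat) : Nat := @Bool.rec (fun _ => Nat) (nodeTab_8) (nodeTab_s_9_11 c) (Nat.ble 9 c)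
noncomputable def nodeTab_s_5_11 (c : Nat) : Nat := @Bool.rec (fun _ => Nat) (nodeTab_s_5_8 c) (nodeTab_s_8_11 c) (Nat.ble 8 c)
noncomputable def nodeTab_s_0_11 (c : Nat) : Nat := @Bool.rec (fun _ => Nat) (nodeTab_s_0_5 c) (nodeTab_s_5_11 c) (Nat.ble 5 c)
noncomputable def nodeTab_s_12_14 (c : Nat) : Nat := @Bool.rec (fun _ => Nat) (nodeTab_12) (nodeTab_13) (Nat.ble 13 c)
noncomputable def nodeTab_s_11_14 (c : Nat) : Nat := @Bool.rec (fun _ => Nat) (nodeTab_11) (nodeTab_s_12_14 c) (Nat.ble 12 c)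
noncomputable def nodeTab_s_15_17 (c : Nat) : Nat := @Bool.rec (fun _ => Nat) (nodeTab_15) (nodeTab_16) (Nat.ble 16 c)
noncomputable def nodeTab_s_14_17 (c : Nat) : Nat := @Bool.rec (fun _ => Nat) (nodeTab_14) (nodeTab_s_15_17 c) (Nat.ble 15 c)
noncomputable def nodeTab_s_11_17 (c : Nat) : Nat := @Bool.rec (fun _ => Nat) (nodeTab_s_11_14 c) (nodeTab_s_14_17 c) (Nat.ble 14 c)
noncomputable def nodeTab_s_18_20 (c : Nat) : Nat := @Bool.rec (fun _ => Nat) (nodeTab_18) (nodeTab_19) (Nat.ble 19 c)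
noncomputable def nodeTab_s_17_20 (c : Nat) : Nat := @Bool.rec (fun _ => Nat) (nodeTab_17) (nodeTab_s_18_20 c) (Nat.ble 18 c)
noncomputable def nodeTab_s_21_23 (c : Nat) : Nat := @Bool.rec (fun _ => Nat) (nodeTab_21) (nodeTab_22) (Nat.ble 22 c)
noncomputable def nodeTab_s_20_23 (c : Nat) : Nat := @Bool.rec (fun _ => Nat) (nodeTab_20) (nodeTab_s_21_23 c) (Nat.ble 21 c)
noncomputable def nodeTab_s_17_23 (c : Nat) : Nat := @Bool.rec (fun _ => Nat) (nodeTab_s_17_20 c) (nodeTab_s_20_23 c) (Nat.ble 20 c)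
noncomputable def nodeTab_s_11_23 (c : Nat) : Nat := @Bool.rec (fun _ => Nat) (nodeTab_s_11_17 c) (nodeTab_s_17_23 c) (Nat.ble 17 c)
noncomputable def nodeTab_s_0_23 (c : Nat) : Nat := @Bool.rec (fun _ => Nat) (nodeTab_s_0_11 c) (nodeTab_s_11_23 c) (Nat.ble 11 c)
noncomputable def nodeTab_s_24_26 (c : Nat) : Nat := @Bool.rec (fun _ => Nat) (nodeTab_24) (nodeTab_25) (Nat.ble 25 c)
noncomputable def nodeTab_s_23_26 (c : Nat) : Nat := @Bool.rec (fun _ => Nat) (nodeTab_23) (nodeTab_s_24_26 c) (Nat.ble 24 c)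
noncomputable def nodeTab_s_27_29 (c : Nat) : Nat := @Bool.rec (fun _ => Nat) (nodeTab_27) (nodeTab_28) (Nat.ble 28 c)
noncomputable def nodeTab_s_26_29 (c : Nat) : Nat := @Bool.rec (fun _ => Nat) (nodeTab_26) (nodeTab_s_27_29 c) (Nat.ble 27 c)
noncomputable def nodeTab_s_23_29 (c : Nat) : Nat := @Bool.rec (fun _ => Nat) (nodeTab_s_23_26 c) (nodeTab_s_26_29 c) (Nat.ble 26 c)
noncomputable def nodeTab_s_30_32 (c : Nat) : Nat := @Bool.rec (fun _ => Nat) (nodeTab_30) (nodeTab_31) (Nat.ble 31 c)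
noncomputable def nodeTab_s_29_32 (c : Nat) : Nat := @Bool.rec (fun _ => Nat) (nodeTab_29) (nodeTab_s_30_32 c) (Nat.ble 30 c)
noncomputable def nodeTab_s_33_35 (c : Nat) : Nat := @Bool.rec (fun _ => Nat) (nodeTab_33) (nodeTab_34) (Nat.ble 34 c)
noncomputable def nodeTab_s_32_35 (c : Nat) : Nat := @Bool.rec (fun _ => Nat) (nodeTab_32) (nodeTab_s_33_35 c) (Nat.ble 33 c)
noncomputable def nodeTab_s_29_35 (c : Nat) : Nat := @Bool.rec (fun _ => Nat) (nodeTab_s_29_32 c) (nodeTab_s_32_35 c) (Nat.ble 32 c)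
noncomputable def nodeTab_s_23_35 (c : Nat) : Nat := @Bool.rec (fun _ => Nat) (nodeTab_s_23_29 c) (nodeTab_s_29_35 c) (Nat.ble 29 c)
noncomputable def nodeTab_s_36_38 (c : Nat) : Nat := @Bool.rec (fun _ => Nat) (nodeTab_36) (nodeTab_37) (Nat.ble 37 c)
noncomputable def nodeTab_s_35_38 (c : Nat) : Nat := @Bool.rec (fun _ => Nat) (nodeTab_35) (nodeTab_s_36_38 c) (Nat.ble 36 c)
noncomputable def nodeTab_s_39_41 (c : Nat) : Nat := @Bool.rec (fun _ => Nat) (nodeTab_39) (nodeTab_40) (Nat.ble 40 c)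
noncomputable def nodeTab_s_38_41 (c : Nat) : Nat := @Bool.rec (fun _ => Nat) (nodeTab_38) (nodeTab_s_39_41 c) (Nat.ble 39 c)
noncomputable def nodeTab_s_35_41 (c : Nat) : Nat := @Bool.rec (fun _ => Nat) (nodeTab_s_35_38 c) (nodeTab_s_38_41 c) (Nat.ble 38 c)
noncomputable def nodeTab_s_42_44 (c : Nat) : Nat := @Bool.rec (fun _ => Nat) (nodeTab_42) (nodeTab_43) (Nat.ble 43 c)
noncomputable def nodeTab_s_41_44 (c : Nat) : Nat := @Bool.rec (fun _ => Nat) (nodeTab_41) (nodeTab_s_42_44 c) (Nat.ble 42 c)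
noncomputable def nodeTab_s_45_47 (c : Nat) : Nat := @Bool.rec (fun _ => Nat) (nodeTab_45) (nodeTab_46) (Nat.ble 46 c)
noncomputable def nodeTab_s_44_47 (c : Nat) : Nat := @Bool.rec (fun _ => Nat) (nodeTab_44) (nodeTab_s_45_47 c) (Nat.ble 45 c)
noncomputable def nodeTab_s_41_47 (c : Nat) : Nat := @Bool.rec (fun _ => Nat) (nodeTab_s_41_44 c) (nodeTab_s_44_47 c) (Nat.ble 44 c)
noncomputable def nodeTab_s_35_47 (c : Nat) : Nat := @Bool.rec (fun _ => Nat) (nodeTab_s_35_41 c) (nodeTab_s_41_47 c) (Nat.ble 41 c)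
noncomputable def nodeTab_s_23_47 (c : Nat) : Nat := @Bool.rec (fun _ => Nat) (nodeTab_s_23_35 c) (nodeTab_s_35_47 c) (Nat.ble 35 c)
noncomputable def nodeTab_s_0_47 (c : Nat) : Nat := @Bool.rec (fun _ => Nat) (nodeTab_s_0_23 c) (nodeTab_s_23_47 c) (Nat.ble 23 c)
noncomputable def nodeTab (i : Nat) : Nat := rdw 40 1099511627775 (nodeTab_s_0_47 (Nat.shiftRight i 11)) (Nat.land i 2047)
noncomputable def offTab (i : Nat) : Nat := rdw 17 131071 offTab_0 i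
noncomputable def nTab (i : Nat) : Nat := rdw 16 65535 nTab_0 i
noncomputable def rootTab (i : Nat) : Nat := rdw 16 65535 rootTab_0 i
noncomputable def tabF (i p : Nat) : Nat := @Bool.rec (fun _ => Nat) (@Bool.rec (fun _ => Nat) (@Bool.rec (fun _ => Nat) (@Bool.rec (fun _ => Nat) (col0 p) (@Bool.rec (fun _ => Nat) (col1 p) (col2 p) (Nat.ble 2 i)) (Nat.ble 1 i)) (@Bool.rec (fun _ => Nat) (@Bool.rec (fun _ => Nat) (col3 p) (col4 p) (Nat.ble 4 i)) (@Bool.rec (fun _ => Nat) (col5 p) (col6 p) (Nat.ble 6 i)) (Nat.ble 5 i)) (Nat.ble 3 i)) (@Bool.rec (fun _ => Nat) (@Bool.rec (fun _ => Nat) (@Bool.rec (fun _ => Nat) (col7 p) (col8 p) (Nat.ble 8 i)) (@Bool.rec (fun _ => Nat) (col9 p) (col10 p) (Nat.ble 10 i)) (Nat.ble 9 i)) (@Bool.rec (fun _ => Nat) (@Bool.rec (fun _ => Nat) (st11 p) (st12 p) (Nat.ble 12 i)) (@Bool.rec (fun _ => Nat) (st13 p) (st14 p) (Nat.ble 14 i)) (Nat.ble 13 i)) (Nat.ble 11 i)) (Nat.ble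 7 i)) (@Bool.rec (fun _ => Nat) (@Bool.rec (fun _ => Nat) (@Bool.rec (fun _ => Nat) (@Bool.rec (fun _ => Nat) (st15 p) (st16 p) (Nat.ble 16 i)) (@Bool.rec (fun _ => Nat) (st17 p) (st18 p) (Nat.ble 18 i)) (Nat.ble 17 i)) (@Bool.rec (fun _ => Nat) (@Bool.rec (fun _ => Nat) (st19 p) (st20 p) (Nat.ble 20 i)) (@Bool.rec (fun _ => Nat) (st21 p) (st22 p) (Nat.ble 22 i)) (Nat.ble 21 i)) (Nat.ble 19 i)) (@Bool.rec (fun _ => Nat) (@Bool.rec (fun _ => Nat) (@Bool.rec (fun _ => Nat) (st23 p) (st24 p) (Nat.ble 24 i)) (@Bool.rec (fun _ => Nat) (st25 p) (st26 p) (Nat.ble 26 i)) (Nat.ble 25 i)) (@Bool.rec (fun _ => Nat) (@Bool.rec (fun _ => Nat) (st27 p) (st28 p) (Nat.ble 28 i)) (@Bool.rec (fun _ => Nat) (st29 p) (st30 p) (Nat.ble 30 i)) (Nat.ble 29 i)) (Nat.ble 27 i)) (Nat.ble 23 i)) (Nat.ble 15 i)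
def wAF : Nat → List Nat
  | 11 => [7, 6, 0, 9, 7, 1, 0, 6, 4, 3, 2, 1, 0, 9, 10, 7, 6, 2, 1, 0, 9, 8, 7, 6, 0, 1, 2, 3, 4]
  | 12 => [11]
  | 13 => [7, 4, 12, 0, 6, 11, 2, 3, 4]
  | 14 => [13]
  | 15 => [13, 11, 13, 11, 14, 11, 13, 11]
  | 16 => [15]
  | 17 => [16, 16, 13, 13, 12, 14]
  | 18 => [17]
  | 19 => [15, 18, 18, 15, 15, 15]
  | 20 => [19]
  | 21 => [11, 19, 19, 17, 15, 11, 18, 15, 18, 20, 17]
  | 22 => [21]
  | 23 => [15, 22, 18, 15, 12, 22, 16, 18, 20, 21, 21, 19, 19, 21]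
  | 24 => [23]
  | 25 => [20, 21, 20, 23, 23, 23]
  | 26 => [25]
  | 27 => [15, 22, 19, 23, 26, 23, 23, 23]
  | 28 => [27]
  | 29 => [13, 13, 13, 4, 0, 25, 24, 19, 15, 27, 19, 19, 24, 28, 24, 26, 28]
  | 30 => [28, 14, 28, 11, 4, 0, 26, 18, 22, 15, 11, 26, 19, 16, 17, 25, 21, 26, 23, 23, 26, 29, 25, 29]
  | _ => []
def wBF : Nat → List Nat
  | 11 => [8, 5, 4, 3, 2, 1, 0, 9, 6, 7, 0, 6, 1, 0, 9, 10, 7, 0, 6, 2, 1, 0, 9, 8, 7, 6, 0, 1, 2, 3, 4]
  | 12 => []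
  | 13 => [11, 11, 4, 2, 11, 6, 0, 11, 4]
  | 14 => []
  | 15 => [12, 14, 11, 11, 13, 11, 13, 13, 11]
  | 16 => []
  | 17 => [13, 15, 12, 14, 16, 14, 11]
  | 18 => []
  | 19 => [17, 17, 17, 15, 17, 15, 17]
  | 20 => []
  | 21 => [14, 15, 18, 18, 18, 13]
  | 22 => []
  | 23 => [19, 19, 17, 20, 12]
  | 24 => []
  | 25 => [22, 23, 19, 19, 19]
  | 26 => []
  | 27 => [25, 24, 15]
  | 28 => []
  | 29 => [8, 13, 13, 13, 4]
  | 30 => [4, 7, 2, 15, 11, 4]
  | _ => []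
noncomputable def ptF (j idx : Nat) : Nat := Nat.land (nodeTab (Nat.add (offTab j) idx)) 65535
noncomputable def parF (j idx : Nat) : Nat := Nat.land (Nat.shiftRight (nodeTab (Nat.add (offTab j) idx)) 16) 65535
noncomputable def giF (j idx : Nat) : Nat := Nat.land (Nat.shiftRight (nodeTab (Nat.add (offTab j) idx)) 32) 31
noncomputable def depF (j idx : Nat) : Nat := Nat.shiftRight (nodeTab (Nat.add (offTab j) idx)) 37

noncomputable def S : Sgs :=
  { N := 63342, k := 11, m := 31, tab := tabF, wA := wAF, wB := wBF, lev := levTab, r := 9, beta := betaTab,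
    n := nTab, root := rootTab, pt := ptF, par := parF, gi := giF, dep := depF }

noncomputable def chk11 (p : Nat) : Bool := band (Nat.ble (Nat.succ (st11 p)) 63342) (Nat.beq (col7 (col6 (col0 (col9 (col7 (col1 (col0 (col6 (col4 (col3 (col2 (col1 (col0 (col9 (col10 (col7 (col6 (col2 (col1 (col0 (col9 (col8 (col7 (col6 (col0 (col1 (col2 (col3 (col4 (st11 p)))))))))))))))))))))))))))))) (col8 (col5 (col4 (col3 (col2 (col1 (col0 (col9 (col6 (col7 (col0 (col6 (col1 (col0 (col9 (col10 (col7 (col0 (col6 (col2 (col1 (col0 (col9 (col8 (col7 (col6 (col0 (col1 (col2 (col3 (col4 p))))))))))))))))))))))))))))))))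
theorem chk11_eq (p : Nat) : chk11 p = Sgs.permOK S 11 p := rfl
noncomputable def chk12 (p : Nat) : Bool := band (Nat.ble (Nat.succ (st12 p)) 63342) (Nat.beq (st11 (st12 p)) p)
theorem chk12_eq (p : Nat) : chk12 p = Sgs.permOK S 12 p := rfl
noncomputable def chk13 (p : Nat) : Bool := band (Nat.ble (Nat.succ (st13 p)) 63342) (Nat.beq (col7 (col4 (st12 (col0 (col6 (st11 (col2 (col3 (col4 (st13 p)))))))))) (st11 (st11 (col4 (col2 (st11 (col6 (col0 (st11 (col4 p))))))))))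
theorem chk13_eq (p : Nat) : chk13 p = Sgs.permOK S 13 p := rfl
noncomputable def chk14 (p : Nat) : Bool := band (Nat.ble (Nat.succ (st14 p)) 63342) (Nat.beq (st13 (st14 p)) p)
theorem chk14_eq (p : Nat) : chk14 p = Sgs.permOK S 14 p := rfl
noncomputable def chk15 (p : Nat) : Bool := band (Nat.ble (Nat.succ (st15 p)) 63342) (Nat.beq (st13 (st11 (st13 (st11 (st14 (st11 (st13 (st11 (st15 p))))))))) (st12 (st14 (st11 (st11 (st13 (st11 (st13 (st13 (st11 p))))))))))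
theorem chk15_eq (p : Nat) : chk15 p = Sgs.permOK S 15 p := rfl
noncomputable def chk16 (p : Nat) : Bool := band (Nat.ble (Nat.succ (st16 p)) 63342) (Nat.beq (st15 (st16 p)) p)
theorem chk16_eq (p : Nat) : chk16 p = Sgs.permOK S 16 p := rfl
noncomputable def chk17 (p : Nat) : Bool := band (Nat.ble (Nat.succ (st17 p)) 63342) (Nat.beq (st16 (st16 (st13 (st13 (st12 (st14 (st17 p))))))) (st13 (st15 (st12 (st14 (st16 (st14 (st11 p))))))))
theorem chk17_eq (p : Nat) : chk17 p = Sgs.permOK S 17 p := rfl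
noncomputable def chk18 (p : Nat) : Bool := band (Nat.ble (Nat.succ (st18 p)) 63342) (Nat.beq (st17 (st18 p)) p)
theorem chk18_eq (p : Nat) : chk18 p = Sgs.permOK S 18 p := rfl
noncomputable def chk19 (p : Nat) : Bool := band (Nat.ble (Nat.succ (st19 p)) 63342) (Nat.beq (st15 (st18 (st18 (st15 (st15 (st15 (st19 p))))))) (st17 (st17 (st17 (st15 (st17 (st15 (st17 p))))))))
theorem chk19_eq (p : Nat) : chk19 p = Sgs.permOK S 19 p := rfl
noncomputable def chk20 (p : Nat) : Bool := band (Nat.ble (Nat.succ (st20 p)) 63342) (Nat.beq (st19 (st20 p)) p)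
theorem chk20_eq (p : Nat) : chk20 p = Sgs.permOK S 20 p := rfl
noncomputable def chk21 (p : Nat) : Bool := band (Nat.ble (Nat.succ (st21 p)) 63342) (Nat.beq (st11 (st19 (st19 (st17 (st15 (st11 (st18 (st15 (st18 (st20 (st17 (st21 p)))))))))))) (st14 (st15 (st18 (st18 (st18 (st13 p)))))))
theorem chk21_eq (p : Nat) : chk21 p = Sgs.permOK S 21 p := rfl
noncomputable def chk22 (p : Nat) : Bool := band (Nat.ble (Nat.succ (st22 p)) 63342) (Nat.beq (st21 (st22 p)) p)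
theorem chk22_eq (p : Nat) : chk22 p = Sgs.permOK S 22 p := rfl
noncomputable def chk23 (p : Nat) : Bool := band (Nat.ble (Nat.succ (st23 p)) 63342) (Nat.beq (st15 (st22 (st18 (st15 (st12 (st22 (st16 (st18 (st20 (st21 (st21 (st19 (st19 (st21 (st23 p))))))))))))))) (st19 (st19 (st17 (st20 (st12 p))))))
theorem chk23_eq (p : Nat) : chk23 p = Sgs.permOK S 23 p := rfl
noncomputable def chk24 (p : Nat) : Bool := band (Nat.ble (Nat.succ (st24 p)) 63342) (Nat.beq (st23 (st24 p)) p)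
theorem chk24_eq (p : Nat) : chk24 p = Sgs.permOK S 24 p := rfl
noncomputable def chk25 (p : Nat) : Bool := band (Nat.ble (Nat.succ (st25 p)) 63342) (Nat.beq (st20 (st21 (st20 (st23 (st23 (st23 (st25 p))))))) (st22 (st23 (st19 (st19 (st19 p))))))
theorem chk25_eq (p : Nat) : chk25 p = Sgs.permOK S 25 p := rfl
noncomputable def chk26 (p : Nat) : Bool := band (Nat.ble (Nat.succ (st26 p)) 63342) (Nat.beq (st25 (st26 p)) p)
theorem chk26_eq (p : Nat) : chk26 p = Sgs.permOK S 26 p := rfl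
noncomputable def chk27 (p : Nat) : Bool := band (Nat.ble (Nat.succ (st27 p)) 63342) (Nat.beq (st15 (st22 (st19 (st23 (st26 (st23 (st23 (st23 (st27 p))))))))) (st25 (st24 (st15 p))))
theorem chk27_eq (p : Nat) : chk27 p = Sgs.permOK S 27 p := rfl
noncomputable def chk28 (p : Nat) : Bool := band (Nat.ble (Nat.succ (st28 p)) 63342) (Nat.beq (st27 (st28 p)) p)
theorem chk28_eq (p : Nat) : chk28 p = Sgs.permOK S 28 p := rfl
noncomputable def chk29 (p : Nat) : Bool := band (Nat.ble (Nat.succ (st29 p)) 63342) (Nat.beq (st13 (st13 (st13 (col4 (col0 (st25 (st24 (st19 (st15 (st27 (st19 (st19 (st24 (st28 (st24 (st26 (st28 (st29 p)))))))))))))))))) (col8 (st13 (st13 (st13 (col4 p))))))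
theorem chk29_eq (p : Nat) : chk29 p = Sgs.permOK S 29 p := rfl
noncomputable def chk30 (p : Nat) : Bool := band (Nat.ble (Nat.succ (st30 p)) 63342) (Nat.beq (st28 (st14 (st28 (st11 (col4 (col0 (st26 (st18 (st22 (st15 (st11 (st26 (st19 (st16 (st17 (st25 (st21 (st26 (st23 (st23 (st26 (st29 (st25 (st29 (st30 p))))))))))))))))))))))))) (col4 (col7 (col2 (st15 (st11 (col4 p)))))))
theorem chk30_eq (p : Nat) : chk30 p = Sgs.permOK S 30 p := rfl

end Cfsg.Agent.Lib.Helper4.TCD.Y532L
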