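import Cfsg.Agent.Lib.Helper4.TCD_Y532L_Acc

namespace Cfsg.Agent.Lib.Helper4.TCD.Y532L

open Cfsg.Agent.Lib.Helper4.TC Cfsg.Agent.Lib.Helper4.TCD.Y532R

set_option maxRecDepth 100000
set_option Elab.async false

theorem c_words : allRange S.wordsOK 11 20 = true := by decide +kernel
theorem c_fix : allGrid S.fixOK 0 31 9 = true := by decide +kernel
theorem c_root : allBelow (fun j => Nat.ble (Nat.succ (S.root j)) (S.n j)) 9 = true := by decide +kernel
theorem c_n0 : S.n 0 = 63342 := by decide +kernel
theorem c_n1 : S.n 1 = 28160 := by decide +kernel
theorem c_n2 : S.n 2 = 3159 := by decide +kernel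
theorem c_n3 : S.n 3 = 288 := by decide +kernel
theorem c_n4 : S.n 4 = 35 := by decide +kernel
theorem c_n5 : S.n 5 = 12 := by decide +kernel
theorem c_n6 : S.n 6 = 3 := by decide +kernel
theorem c_n7 : S.n 7 = 2 := by decide +kernel
theorem c_n8 : S.n 8 = 2 := by decide +kernel
theorem c_p11_0 : allRange chk11 0 952 = true := by decide +kernel
theorem c_p11_1 : allRange chk11 952 952 = true := by decide +kernel
theorem c_p11_2 : allRange chk11 1904 952 = true := by decide +kernel
theorem c_p11_3 : allRange chk11 2856 952 = true := by decide +kernel
theorem c_p11_4 : allRange chk11 3808 952 = true := by decide +kernel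
theorem c_p11_5 : allRange chk11 4760 952 = true := by decide +kernel
theorem c_p11_6 : allRange chk11 5712 952 = true := by decide +kernel
theorem c_p11_7 : allRange chk11 6664 952 = true := by decide +kernel
theorem c_p11_8 : allRange chk11 7616 952 = true := by decide +kernel
theorem c_p11_9 : allRange chk11 8568 952 = true := by decide +kernel
theorem c_p11_10 : allRange chk11 9520 952 = true := by decide +kernel
theorem c_p11_11 : allRange chk11 10472 952 = true := by decide +kernel
theorem c_p11_12 : allRange chk11 11424 952 = true := by decide +kernel
theorem c_p11_13 : allRange chk11 12376 952 = true := by decide +kernel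
theorem c_p11_14 : allRange chk11 13328 952 = true := by decide +kernel
theorem c_p11_15 : allRange chk11 14280 952 = true := by decide +kernel
theorem c_p11_16 : allRange chk11 15232 952 = true := by decide +kernel
theorem c_p11_17 : allRange chk11 16184 952 = true := by decide +kernel
theorem c_p11_18 : allRange chk11 17136 952 = true := by decide +kernel
theorem c_p11_19 : allRange chk11 18088 952 = true := by decide +kernel
theorem c_p11_20 : allRange chk11 19040 952 = true := by decide +kernel
theorem c_p11_21 : allRange chk11 19992 952 = true := by decide +kernel
theorem c_p11_22 : allRange chk11 20944 952 = true := by decide +kernel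
theorem c_p11_23 : allRange chk11 21896 952 = true := by decide +kernel
theorem c_p11_24 : allRange chk11 22848 952 = true := by decide +kernel
theorem c_p11_25 : allRange chk11 23800 952 = true := by decide +kernel
theorem c_p11_26 : allRange chk11 24752 952 = true := by decide +kernel
theorem c_p11_27 : allRange chk11 25704 952 = true := by decide +kernel
theorem c_p11_28 : allRange chk11 26656 952 = true := by decide +kernel
theorem c_p11_29 : allRange chk11 27608 952 = true := by decide +kernel
theorem c_p11_30 : allRange chk11 28560 952 = true := by decide +kernel
theorem c_p11_31 : allRange chk11 29512 952 = true := by decide +kernel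
theorem c_p11_32 : allRange chk11 30464 952 = true := by decide +kernel
theorem c_p11_33 : allRange chk11 31416 952 = true := by decide +kernel
theorem c_p11_34 : allRange chk11 32368 952 = true := by decide +kernel
theorem c_p11_35 : allRange chk11 33320 952 = true := by decide +kernel
theorem c_p11_36 : allRange chk11 34272 952 = true := by decide +kernel
theorem c_p11_37 : allRange chk11 35224 952 = true := by decide +kernel
theorem c_p11_38 : allRange chk11 36176 952 = true := by decide +kernel
theorem c_p11_39 : allRange chk11 37128 952 = true := by decide +kernel
theorem c_p11_40 : allRange chk11 38080 952 = true := by decide +kernel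
theorem c_p11_41 : allRange chk11 39032 952 = true := by decide +kernel
theorem c_p11_42 : allRange chk11 39984 952 = true := by decide +kernel
theorem c_p11_43 : allRange chk11 40936 952 = true := by decide +kernel
theorem c_p11_44 : allRange chk11 41888 952 = true := by decide +kernel
theorem c_p11_45 : allRange chk11 42840 952 = true := by decide +kernel
theorem c_p11_46 : allRange chk11 43792 952 = true := by decide +kernel
theorem c_p11_47 : allRange chk11 44744 952 = true := by decide +kernel
theorem c_p11_48 : allRange chk11 45696 952 = true := by decide +kernel
theorem c_p11_49 : allRange chk11 46648 952 = true := by decide +kernel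

end Cfsg.Agent.Lib.Helper4.TCD.Y532L
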