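import Cfsg.Agent.Lib.Helper4.TCD_Y532L_Acc

namespace Cfsg.Agent.Lib.Helper4.TCD.Y532L

open Cfsg.Agent.Lib.Helper4.TC Cfsg.Agent.Lib.Helper4.TCD.Y532R

set_option maxRecDepth 100000
set_option Elab.async false

theorem c_p11_50 : allRange chk11 47600 952 = true := by decide +kernel
theorem c_p11_51 : allRange chk11 48552 952 = true := by decide +kernel
theorem c_p11_52 : allRange chk11 49504 952 = true := by decide +kernel
theorem c_p11_53 : allRange chk11 50456 952 = true := by decide +kernel
theorem c_p11_54 : allRange chk11 51408 952 = true := by decide +kernel
theorem c_p11_55 : allRange chk11 52360 952 = true := by decide +kernel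
theorem c_p11_56 : allRange chk11 53312 952 = true := by decide +kernel
theorem c_p11_57 : allRange chk11 54264 952 = true := by decide +kernel
theorem c_p11_58 : allRange chk11 55216 952 = true := by decide +kernel
theorem c_p11_59 : allRange chk11 56168 952 = true := by decide +kernel
theorem c_p11_60 : allRange chk11 57120 952 = true := by decide +kernel
theorem c_p11_61 : allRange chk11 58072 952 = true := by decide +kernel
theorem c_p11_62 : allRange chk11 59024 952 = true := by decide +kernel
theorem c_p11_63 : allRange chk11 59976 952 = true := by decide +kernel
theorem c_p11_64 : allRange chk11 60928 952 = true := by decide +kernel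
theorem c_p11_65 : allRange chk11 61880 952 = true := by decide +kernel
theorem c_p11_66 : allRange chk11 62832 510 = true := by decide +kernel
theorem c_p12_0 : allRange chk12 0 15000 = true := by decide +kernel
theorem c_p12_1 : allRange chk12 15000 15000 = true := by decide +kernel
theorem c_p12_2 : allRange chk12 30000 15000 = true := by decide +kernel
theorem c_p12_3 : allRange chk12 45000 15000 = true := by decide +kernel
theorem c_p12_4 : allRange chk12 60000 3342 = true := by decide +kernel
theorem c_p13_0 : allRange chk13 0 2857 = true := by decide +kernel
theorem c_p13_1 : allRange chk13 2857 2857 = true := by decide +kernel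
theorem c_p13_2 : allRange chk13 5714 2857 = true := by decide +kernel
theorem c_p13_3 : allRange chk13 8571 2857 = true := by decide +kernel
theorem c_p13_4 : allRange chk13 11428 2857 = true := by decide +kernel
theorem c_p13_5 : allRange chk13 14285 2857 = true := by decide +kernel
theorem c_p13_6 : allRange chk13 17142 2857 = true := by decide +kernel
theorem c_p13_7 : allRange chk13 19999 2857 = true := by decide +kernel
theorem c_p13_8 : allRange chk13 22856 2857 = true := by decide +kernel
theorem c_p13_9 : allRange chk13 25713 2857 = true := by decide +kernel
theorem c_p13_10 : allRange chk13 28570 2857 = true := by decide +kernel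
theorem c_p13_11 : allRange chk13 31427 2857 = true := by decide +kernel
theorem c_p13_12 : allRange chk13 34284 2857 = true := by decide +kernel
theorem c_p13_13 : allRange chk13 37141 2857 = true := by decide +kernel
theorem c_p13_14 : allRange chk13 39998 2857 = true := by decide +kernel
theorem c_p13_15 : allRange chk13 42855 2857 = true := by decide +kernel
theorem c_p13_16 : allRange chk13 45712 2857 = true := by decide +kernel
theorem c_p13_17 : allRange chk13 48569 2857 = true := by decide +kernel
theorem c_p13_18 : allRange chk13 51426 2857 = true := by decide +kernel
theorem c_p13_19 : allRange chk13 54283 2857 = true := by decide +kernel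
theorem c_p13_20 : allRange chk13 57140 2857 = true := by decide +kernel
theorem c_p13_21 : allRange chk13 59997 2857 = true := by decide +kernel
theorem c_p13_22 : allRange chk13 62854 488 = true := by decide +kernel
theorem c_p14_0 : allRange chk14 0 15000 = true := by decide +kernel
theorem c_p14_1 : allRange chk14 15000 15000 = true := by decide +kernel
theorem c_p14_2 : allRange chk14 30000 15000 = true := by decide +kernel
theorem c_p14_3 : allRange chk14 45000 15000 = true := by decide +kernel
theorem c_p14_4 : allRange chk14 60000 3342 = true := by decide +kernel
theorem c_p15_0 : allRange chk15 0 3000 = true := by decide +kernel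
theorem c_p15_1 : allRange chk15 3000 3000 = true := by decide +kernel

end Cfsg.Agent.Lib.Helper4.TCD.Y532L
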