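import Cfsg.Agent.Lib.Helper4.TCD_Y532L_Acc

namespace Cfsg.Agent.Lib.Helper4.TCD.Y532L

open Cfsg.Agent.Lib.Helper4.TC Cfsg.Agent.Lib.Helper4.TCD.Y532R

set_option maxRecDepth 100000
set_option Elab.async false

theorem c_p15_2 : allRange chk15 6000 3000 = true := by decide +kernel
theorem c_p15_3 : allRange chk15 9000 3000 = true := by decide +kernel
theorem c_p15_4 : allRange chk15 12000 3000 = true := by decide +kernel
theorem c_p15_5 : allRange chk15 15000 3000 = true := by decide +kernel
theorem c_p15_6 : allRange chk15 18000 3000 = true := by decide +kernel
theorem c_p15_7 : allRange chk15 21000 3000 = true := by decide +kernel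
theorem c_p15_8 : allRange chk15 24000 3000 = true := by decide +kernel
theorem c_p15_9 : allRange chk15 27000 3000 = true := by decide +kernel
theorem c_p15_10 : allRange chk15 30000 3000 = true := by decide +kernel
theorem c_p15_11 : allRange chk15 33000 3000 = true := by decide +kernel
theorem c_p15_12 : allRange chk15 36000 3000 = true := by decide +kernel
theorem c_p15_13 : allRange chk15 39000 3000 = true := by decide +kernel
theorem c_p15_14 : allRange chk15 42000 3000 = true := by decide +kernel
theorem c_p15_15 : allRange chk15 45000 3000 = true := by decide +kernel
theorem c_p15_16 : allRange chk15 48000 3000 = true := by decide +kernel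
theorem c_p15_17 : allRange chk15 51000 3000 = true := by decide +kernel
theorem c_p15_18 : allRange chk15 54000 3000 = true := by decide +kernel
theorem c_p15_19 : allRange chk15 57000 3000 = true := by decide +kernel
theorem c_p15_20 : allRange chk15 60000 3000 = true := by decide +kernel
theorem c_p15_21 : allRange chk15 63000 342 = true := by decide +kernel
theorem c_p16_0 : allRange chk16 0 15000 = true := by decide +kernel
theorem c_p16_1 : allRange chk16 15000 15000 = true := by decide +kernel
theorem c_p16_2 : allRange chk16 30000 15000 = true := by decide +kernel
theorem c_p16_3 : allRange chk16 45000 15000 = true := by decide +kernel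
theorem c_p16_4 : allRange chk16 60000 3342 = true := by decide +kernel
theorem c_p17_0 : allRange chk17 0 3750 = true := by decide +kernel
theorem c_p17_1 : allRange chk17 3750 3750 = true := by decide +kernel
theorem c_p17_2 : allRange chk17 7500 3750 = true := by decide +kernel
theorem c_p17_3 : allRange chk17 11250 3750 = true := by decide +kernel
theorem c_p17_4 : allRange chk17 15000 3750 = true := by decide +kernel
theorem c_p17_5 : allRange chk17 18750 3750 = true := by decide +kernel
theorem c_p17_6 : allRange chk17 22500 3750 = true := by decide +kernel
theorem c_p17_7 : allRange chk17 26250 3750 = true := by decide +kernel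
theorem c_p17_8 : allRange chk17 30000 3750 = true := by decide +kernel
theorem c_p17_9 : allRange chk17 33750 3750 = true := by decide +kernel
theorem c_p17_10 : allRange chk17 37500 3750 = true := by decide +kernel
theorem c_p17_11 : allRange chk17 41250 3750 = true := by decide +kernel
theorem c_p17_12 : allRange chk17 45000 3750 = true := by decide +kernel
theorem c_p17_13 : allRange chk17 48750 3750 = true := by decide +kernel
theorem c_p17_14 : allRange chk17 52500 3750 = true := by decide +kernel
theorem c_p17_15 : allRange chk17 56250 3750 = true := by decide +kernel
theorem c_p17_16 : allRange chk17 60000 3342 = true := by decide +kernel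
theorem c_p18_0 : allRange chk18 0 15000 = true := by decide +kernel
theorem c_p18_1 : allRange chk18 15000 15000 = true := by decide +kernel
theorem c_p18_2 : allRange chk18 30000 15000 = true := by decide +kernel
theorem c_p18_3 : allRange chk18 45000 15000 = true := by decide +kernel
theorem c_p18_4 : allRange chk18 60000 3342 = true := by decide +kernel
theorem c_p19_0 : allRange chk19 0 3750 = true := by decide +kernel
theorem c_p19_1 : allRange chk19 3750 3750 = true := by decide +kernel
theorem c_p19_2 : allRange chk19 7500 3750 = true := by decide +kernel
theorem c_p19_3 : allRange chk19 11250 3750 = true := by decide +kernel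
theorem c_p19_4 : allRange chk19 15000 3750 = true := by decide +kernel

end Cfsg.Agent.Lib.Helper4.TCD.Y532L
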