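import Cfsg.Agent.Lib.Helper4.TCD_Y532L_Acc

namespace Cfsg.Agent.Lib.Helper4.TCD.Y532L

open Cfsg.Agent.Lib.Helper4.TC Cfsg.Agent.Lib.Helper4.TCD.Y532R

set_option maxRecDepth 100000
set_option Elab.async false

theorem c_p19_5 : allRange chk19 18750 3750 = true := by decide +kernel
theorem c_p19_6 : allRange chk19 22500 3750 = true := by decide +kernel
theorem c_p19_7 : allRange chk19 26250 3750 = true := by decide +kernel
theorem c_p19_8 : allRange chk19 30000 3750 = true := by decide +kernel
theorem c_p19_9 : allRange chk19 33750 3750 = true := by decide +kernel
theorem c_p19_10 : allRange chk19 37500 3750 = true := by decide +kernel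
theorem c_p19_11 : allRange chk19 41250 3750 = true := by decide +kernel
theorem c_p19_12 : allRange chk19 45000 3750 = true := by decide +kernel
theorem c_p19_13 : allRange chk19 48750 3750 = true := by decide +kernel
theorem c_p19_14 : allRange chk19 52500 3750 = true := by decide +kernel
theorem c_p19_15 : allRange chk19 56250 3750 = true := by decide +kernel
theorem c_p19_16 : allRange chk19 60000 3342 = true := by decide +kernel
theorem c_p20_0 : allRange chk20 0 15000 = true := by decide +kernel
theorem c_p20_1 : allRange chk20 15000 15000 = true := by decide +kernel
theorem c_p20_2 : allRange chk20 30000 15000 = true := by decide +kernel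
theorem c_p20_3 : allRange chk20 45000 15000 = true := by decide +kernel
theorem c_p20_4 : allRange chk20 60000 3342 = true := by decide +kernel
theorem c_p21_0 : allRange chk21 0 3000 = true := by decide +kernel
theorem c_p21_1 : allRange chk21 3000 3000 = true := by decide +kernel
theorem c_p21_2 : allRange chk21 6000 3000 = true := by decide +kernel
theorem c_p21_3 : allRange chk21 9000 3000 = true := by decide +kernel
theorem c_p21_4 : allRange chk21 12000 3000 = true := by decide +kernel
theorem c_p21_5 : allRange chk21 15000 3000 = true := by decide +kernel
theorem c_p21_6 : allRange chk21 18000 3000 = true := by decide +kernel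
theorem c_p21_7 : allRange chk21 21000 3000 = true := by decide +kernel
theorem c_p21_8 : allRange chk21 24000 3000 = true := by decide +kernel
theorem c_p21_9 : allRange chk21 27000 3000 = true := by decide +kernel
theorem c_p21_10 : allRange chk21 30000 3000 = true := by decide +kernel
theorem c_p21_11 : allRange chk21 33000 3000 = true := by decide +kernel
theorem c_p21_12 : allRange chk21 36000 3000 = true := by decide +kernel
theorem c_p21_13 : allRange chk21 39000 3000 = true := by decide +kernel
theorem c_p21_14 : allRange chk21 42000 3000 = true := by decide +kernel
theorem c_p21_15 : allRange chk21 45000 3000 = true := by decide +kernel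
theorem c_p21_16 : allRange chk21 48000 3000 = true := by decide +kernel
theorem c_p21_17 : allRange chk21 51000 3000 = true := by decide +kernel
theorem c_p21_18 : allRange chk21 54000 3000 = true := by decide +kernel
theorem c_p21_19 : allRange chk21 57000 3000 = true := by decide +kernel
theorem c_p21_20 : allRange chk21 60000 3000 = true := by decide +kernel
theorem c_p21_21 : allRange chk21 63000 342 = true := by decide +kernel
theorem c_p22_0 : allRange chk22 0 15000 = true := by decide +kernel
theorem c_p22_1 : allRange chk22 15000 15000 = true := by decide +kernel
theorem c_p22_2 : allRange chk22 30000 15000 = true := by decide +kernel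
theorem c_p22_3 : allRange chk22 45000 15000 = true := by decide +kernel
theorem c_p22_4 : allRange chk22 60000 3342 = true := by decide +kernel
theorem c_p23_0 : allRange chk23 0 2727 = true := by decide +kernel
theorem c_p23_1 : allRange chk23 2727 2727 = true := by decide +kernel
theorem c_p23_2 : allRange chk23 5454 2727 = true := by decide +kernel
theorem c_p23_3 : allRange chk23 8181 2727 = true := by decide +kernel
theorem c_p23_4 : allRange chk23 10908 2727 = true := by decide +kernel
theorem c_p23_5 : allRange chk23 13635 2727 = true := by decide +kernel
theorem c_p23_6 : allRange chk23 16362 2727 = true := by decide +kernel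
theorem c_p23_7 : allRange chk23 19089 2727 = true := by decide +kernel

end Cfsg.Agent.Lib.Helper4.TCD.Y532L
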