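import Cfsg.Agent.Lib.Helper4.TCD_Y532L_Acc

namespace Cfsg.Agent.Lib.Helper4.TCD.Y532L

open Cfsg.Agent.Lib.Helper4.TC Cfsg.Agent.Lib.Helper4.TCD.Y532R

set_option maxRecDepth 100000
set_option Elab.async false

theorem c_p23_8 : allRange chk23 21816 2727 = true := by decide +kernel
theorem c_p23_9 : allRange chk23 24543 2727 = true := by decide +kernel
theorem c_p23_10 : allRange chk23 27270 2727 = true := by decide +kernel
theorem c_p23_11 : allRange chk23 29997 2727 = true := by decide +kernel
theorem c_p23_12 : allRange chk23 32724 2727 = true := by decide +kernel
theorem c_p23_13 : allRange chk23 35451 2727 = true := by decide +kernel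
theorem c_p23_14 : allRange chk23 38178 2727 = true := by decide +kernel
theorem c_p23_15 : allRange chk23 40905 2727 = true := by decide +kernel
theorem c_p23_16 : allRange chk23 43632 2727 = true := by decide +kernel
theorem c_p23_17 : allRange chk23 46359 2727 = true := by decide +kernel
theorem c_p23_18 : allRange chk23 49086 2727 = true := by decide +kernel
theorem c_p23_19 : allRange chk23 51813 2727 = true := by decide +kernel
theorem c_p23_20 : allRange chk23 54540 2727 = true := by decide +kernel
theorem c_p23_21 : allRange chk23 57267 2727 = true := by decide +kernel
theorem c_p23_22 : allRange chk23 59994 2727 = true := by decide +kernel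
theorem c_p23_23 : allRange chk23 62721 621 = true := by decide +kernel
theorem c_p24_0 : allRange chk24 0 15000 = true := by decide +kernel
theorem c_p24_1 : allRange chk24 15000 15000 = true := by decide +kernel
theorem c_p24_2 : allRange chk24 30000 15000 = true := by decide +kernel
theorem c_p24_3 : allRange chk24 45000 15000 = true := by decide +kernel
theorem c_p24_4 : allRange chk24 60000 3342 = true := by decide +kernel
theorem c_p25_0 : allRange chk25 0 4285 = true := by decide +kernel
theorem c_p25_1 : allRange chk25 4285 4285 = true := by decide +kernel
theorem c_p25_2 : allRange chk25 8570 4285 = true := by decide +kernel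
theorem c_p25_3 : allRange chk25 12855 4285 = true := by decide +kernel
theorem c_p25_4 : allRange chk25 17140 4285 = true := by decide +kernel
theorem c_p25_5 : allRange chk25 21425 4285 = true := by decide +kernel
theorem c_p25_6 : allRange chk25 25710 4285 = true := by decide +kernel
theorem c_p25_7 : allRange chk25 29995 4285 = true := by decide +kernel
theorem c_p25_8 : allRange chk25 34280 4285 = true := by decide +kernel
theorem c_p25_9 : allRange chk25 38565 4285 = true := by decide +kernel
theorem c_p25_10 : allRange chk25 42850 4285 = true := by decide +kernel
theorem c_p25_11 : allRange chk25 47135 4285 = true := by decide +kernel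
theorem c_p25_12 : allRange chk25 51420 4285 = true := by decide +kernel
theorem c_p25_13 : allRange chk25 55705 4285 = true := by decide +kernel
theorem c_p25_14 : allRange chk25 59990 3352 = true := by decide +kernel
theorem c_p26_0 : allRange chk26 0 15000 = true := by decide +kernel
theorem c_p26_1 : allRange chk26 15000 15000 = true := by decide +kernel
theorem c_p26_2 : allRange chk26 30000 15000 = true := by decide +kernel
theorem c_p26_3 : allRange chk26 45000 15000 = true := by decide +kernel
theorem c_p26_4 : allRange chk26 60000 3342 = true := by decide +kernel
theorem c_p27_0 : allRange chk27 0 4285 = true := by decide +kernel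
theorem c_p27_1 : allRange chk27 4285 4285 = true := by decide +kernel
theorem c_p27_2 : allRange chk27 8570 4285 = true := by decide +kernel
theorem c_p27_3 : allRange chk27 12855 4285 = true := by decide +kernel
theorem c_p27_4 : allRange chk27 17140 4285 = true := by decide +kernel
theorem c_p27_5 : allRange chk27 21425 4285 = true := by decide +kernel
theorem c_p27_6 : allRange chk27 25710 4285 = true := by decide +kernel
theorem c_p27_7 : allRange chk27 29995 4285 = true := by decide +kernel
theorem c_p27_8 : allRange chk27 34280 4285 = true := by decide +kernel
theorem c_p27_9 : allRange chk27 38565 4285 = true := by decide +kernel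
theorem c_p27_10 : allRange chk27 42850 4285 = true := by decide +kernel

end Cfsg.Agent.Lib.Helper4.TCD.Y532L
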