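import Cfsg.Agent.Lib.Helper4.TCD_Y532L_Acc

namespace Cfsg.Agent.Lib.Helper4.TCD.Y532L

open Cfsg.Agent.Lib.Helper4.TC Cfsg.Agent.Lib.Helper4.TCD.Y532R

set_option maxRecDepth 100000
set_option Elab.async false

theorem c_p27_11 : allRange chk27 47135 4285 = true := by decide +kernel
theorem c_p27_12 : allRange chk27 51420 4285 = true := by decide +kernel
theorem c_p27_13 : allRange chk27 55705 4285 = true := by decide +kernel
theorem c_p27_14 : allRange chk27 59990 3352 = true := by decide +kernel
theorem c_p28_0 : allRange chk28 0 15000 = true := by decide +kernel
theorem c_p28_1 : allRange chk28 15000 15000 = true := by decide +kernel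
theorem c_p28_2 : allRange chk28 30000 15000 = true := by decide +kernel
theorem c_p28_3 : allRange chk28 45000 15000 = true := by decide +kernel
theorem c_p28_4 : allRange chk28 60000 3342 = true := by decide +kernel
theorem c_p29_0 : allRange chk29 0 2400 = true := by decide +kernel
theorem c_p29_1 : allRange chk29 2400 2400 = true := by decide +kernel
theorem c_p29_2 : allRange chk29 4800 2400 = true := by decide +kernel
theorem c_p29_3 : allRange chk29 7200 2400 = true := by decide +kernel
theorem c_p29_4 : allRange chk29 9600 2400 = true := by decide +kernel
theorem c_p29_5 : allRange chk29 12000 2400 = true := by decide +kernel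
theorem c_p29_6 : allRange chk29 14400 2400 = true := by decide +kernel
theorem c_p29_7 : allRange chk29 16800 2400 = true := by decide +kernel
theorem c_p29_8 : allRange chk29 19200 2400 = true := by decide +kernel
theorem c_p29_9 : allRange chk29 21600 2400 = true := by decide +kernel
theorem c_p29_10 : allRange chk29 24000 2400 = true := by decide +kernel
theorem c_p29_11 : allRange chk29 26400 2400 = true := by decide +kernel
theorem c_p29_12 : allRange chk29 28800 2400 = true := by decide +kernel
theorem c_p29_13 : allRange chk29 31200 2400 = true := by decide +kernel
theorem c_p29_14 : allRange chk29 33600 2400 = true := by decide +kernel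
theorem c_p29_15 : allRange chk29 36000 2400 = true := by decide +kernel
theorem c_p29_16 : allRange chk29 38400 2400 = true := by decide +kernel
theorem c_p29_17 : allRange chk29 40800 2400 = true := by decide +kernel
theorem c_p29_18 : allRange chk29 43200 2400 = true := by decide +kernel
theorem c_p29_19 : allRange chk29 45600 2400 = true := by decide +kernel
theorem c_p29_20 : allRange chk29 48000 2400 = true := by decide +kernel
theorem c_p29_21 : allRange chk29 50400 2400 = true := by decide +kernel
theorem c_p29_22 : allRange chk29 52800 2400 = true := by decide +kernel
theorem c_p29_23 : allRange chk29 55200 2400 = true := by decide +kernel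
theorem c_p29_24 : allRange chk29 57600 2400 = true := by decide +kernel
theorem c_p29_25 : allRange chk29 60000 2400 = true := by decide +kernel
theorem c_p29_26 : allRange chk29 62400 942 = true := by decide +kernel
theorem c_p30_0 : allRange chk30 0 1818 = true := by decide +kernel
theorem c_p30_1 : allRange chk30 1818 1818 = true := by decide +kernel
theorem c_p30_2 : allRange chk30 3636 1818 = true := by decide +kernel
theorem c_p30_3 : allRange chk30 5454 1818 = true := by decide +kernel
theorem c_p30_4 : allRange chk30 7272 1818 = true := by decide +kernel
theorem c_p30_5 : allRange chk30 9090 1818 = true := by decide +kernel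
theorem c_p30_6 : allRange chk30 10908 1818 = true := by decide +kernel
theorem c_p30_7 : allRange chk30 12726 1818 = true := by decide +kernel
theorem c_p30_8 : allRange chk30 14544 1818 = true := by decide +kernel
theorem c_p30_9 : allRange chk30 16362 1818 = true := by decide +kernel
theorem c_p30_10 : allRange chk30 18180 1818 = true := by decide +kernel
theorem c_p30_11 : allRange chk30 19998 1818 = true := by decide +kernel
theorem c_p30_12 : allRange chk30 21816 1818 = true := by decide +kernel
theorem c_p30_13 : allRange chk30 23634 1818 = true := by decide +kernel
theorem c_p30_14 : allRange chk30 25452 1818 = true := by decide +kernel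

end Cfsg.Agent.Lib.Helper4.TCD.Y532L
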