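import Cfsg.Agent.Lib.Helper4.TCD_Y532L_Acc

namespace Cfsg.Agent.Lib.Helper4.TCD.Y532L

open Cfsg.Agent.Lib.Helper4.TC Cfsg.Agent.Lib.Helper4.TCD.Y532R

set_option maxRecDepth 100000
set_option Elab.async false

theorem c_p30_15 : allRange chk30 27270 1818 = true := by decide +kernel
theorem c_p30_16 : allRange chk30 29088 1818 = true := by decide +kernel
theorem c_p30_17 : allRange chk30 30906 1818 = true := by decide +kernel
theorem c_p30_18 : allRange chk30 32724 1818 = true := by decide +kernel
theorem c_p30_19 : allRange chk30 34542 1818 = true := by decide +kernel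
theorem c_p30_20 : allRange chk30 36360 1818 = true := by decide +kernel
theorem c_p30_21 : allRange chk30 38178 1818 = true := by decide +kernel
theorem c_p30_22 : allRange chk30 39996 1818 = true := by decide +kernel
theorem c_p30_23 : allRange chk30 41814 1818 = true := by decide +kernel
theorem c_p30_24 : allRange chk30 43632 1818 = true := by decide +kernel
theorem c_p30_25 : allRange chk30 45450 1818 = true := by decide +kernel
theorem c_p30_26 : allRange chk30 47268 1818 = true := by decide +kernel
theorem c_p30_27 : allRange chk30 49086 1818 = true := by decide +kernel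
theorem c_p30_28 : allRange chk30 50904 1818 = true := by decide +kernel
theorem c_p30_29 : allRange chk30 52722 1818 = true := by decide +kernel
theorem c_p30_30 : allRange chk30 54540 1818 = true := by decide +kernel
theorem c_p30_31 : allRange chk30 56358 1818 = true := by decide +kernel
theorem c_p30_32 : allRange chk30 58176 1818 = true := by decide +kernel
theorem c_p30_33 : allRange chk30 59994 1818 = true := by decide +kernel
theorem c_p30_34 : allRange chk30 61812 1530 = true := by decide +kernel
theorem c_nd0_0 : allRange (S.nodeOK 0) 0 5000 = true := by decide +kernel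
theorem c_nd0_1 : allRange (S.nodeOK 0) 5000 5000 = true := by decide +kernel
theorem c_nd0_2 : allRange (S.nodeOK 0) 10000 5000 = true := by decide +kernel
theorem c_nd0_3 : allRange (S.nodeOK 0) 15000 5000 = true := by decide +kernel
theorem c_nd0_4 : allRange (S.nodeOK 0) 20000 5000 = true := by decide +kernel
theorem c_nd0_5 : allRange (S.nodeOK 0) 25000 5000 = true := by decide +kernel
theorem c_nd0_6 : allRange (S.nodeOK 0) 30000 5000 = true := by decide +kernel
theorem c_nd0_7 : allRange (S.nodeOK 0) 35000 5000 = true := by decide +kernel
theorem c_nd0_8 : allRange (S.nodeOK 0) 40000 5000 = true := by decide +kernel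
theorem c_nd0_9 : allRange (S.nodeOK 0) 45000 5000 = true := by decide +kernel
theorem c_nd0_10 : allRange (S.nodeOK 0) 50000 5000 = true := by decide +kernel
theorem c_nd0_11 : allRange (S.nodeOK 0) 55000 5000 = true := by decide +kernel
theorem c_nd0_12 : allRange (S.nodeOK 0) 60000 3342 = true := by decide +kernel
theorem c_nd1_0 : allRange (S.nodeOK 1) 0 5000 = true := by decide +kernel
theorem c_nd1_1 : allRange (S.nodeOK 1) 5000 5000 = true := by decide +kernel
theorem c_nd1_2 : allRange (S.nodeOK 1) 10000 5000 = true := by decide +kernel
theorem c_nd1_3 : allRange (S.nodeOK 1) 15000 5000 = true := by decide +kernel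
theorem c_nd1_4 : allRange (S.nodeOK 1) 20000 5000 = true := by decide +kernel
theorem c_nd1_5 : allRange (S.nodeOK 1) 25000 3160 = true := by decide +kernel
theorem c_nd2_0 : allRange (S.nodeOK 2) 0 3159 = true := by decide +kernel
theorem c_nd3_0 : allRange (S.nodeOK 3) 0 288 = true := by decide +kernel
theorem c_nd4_0 : allRange (S.nodeOK 4) 0 35 = true := by decide +kernel
theorem c_nd5_0 : allRange (S.nodeOK 5) 0 12 = true := by decide +kernel
theorem c_nd6_0 : allRange (S.nodeOK 6) 0 3 = true := by decide +kernel
theorem c_nd7_0 : allRange (S.nodeOK 7) 0 2 = true := by decide +kernel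
theorem c_nd8_0 : allRange (S.nodeOK 8) 0 2 = true := by decide +kernel

end Cfsg.Agent.Lib.Helper4.TCD.Y532L
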