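import Cfsg.Agent.Lib.Helper4.TCD_Y532L_C0
import Cfsg.Agent.Lib.Helper4.TCD_Y532L_C1
import Cfsg.Agent.Lib.Helper4.TCD_Y532L_C2
import Cfsg.Agent.Lib.Helper4.TCD_Y532L_C3
import Cfsg.Agent.Lib.Helper4.TCD_Y532L_C4
import Cfsg.Agent.Lib.Helper4.TCD_Y532L_C5
import Cfsg.Agent.Lib.Helper4.TCD_Y532L_C6
import Cfsg.Agent.Lib.Helper4.TC13

namespace Cfsg.Agent.Lib.Helper4.TCD.Y532L

open Cfsg.Agent.Lib.Helper4.TC Cfsg.Agent.Lib.Helper4.TCD.Y532R

theorem h_p11_p0 : ∀ p, 0 ≤ p → p < 38080 → chk11 p = true :=
  (range_glue (range_of_allRange c_p11_0) (range_glue (range_of_allRange c_p11_1) (range_glue (range_of_allRange c_p11_2) (range_glue (range_of_allRange c_p11_3) (range_glue (range_of_allRange c_p11_4) (range_glue (range_of_allRange c_p11_5) (range_glue (range_of_allRange c_p11_6) (range_glue (range_of_allRange c_p11_7) (range_glue (range_of_allRange c_p11_8) (range_glue (range_of_allRange c_p11_9) (range_glue (range_of_allRange c_p11_10) (range_glue (range_of_allRange c_p11_11) (range_glue (range_of_allRange c_p11_12) (range_glue (range_of_allRange c_p11_13) (range_glue (range_of_allRange c_p11_14)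 (range_glue (range_of_allRange c_p11_15) (range_glue (range_of_allRange c_p11_16) (range_glue (range_of_allRange c_p11_17) (range_glue (range_of_allRange c_p11_18) (range_glue (range_of_allRange c_p11_19) (range_glue (range_of_allRange c_p11_20) (range_glue (range_of_allRange c_p11_21) (range_glue (range_of_allRange c_p11_22) (range_glue (range_of_allRange c_p11_23) (range_glue (range_of_allRange c_p11_24) (range_glue (range_of_allRange c_p11_25) (range_glue (range_of_allRange c_p11_26) (range_glue (range_of_allRange c_p11_27) (range_glue (range_of_allRange c_p11_28) (range_glue (range_of_allRange c_p11_29) (range_glue (range_of_allRange c_p11_30) (range_glue (range_of_allRange c_p11_31) (range_glue (range_of_allRange c_p11_32) (range_glue (range_of_allRange c_p11_33) (range_glue (range_of_allRange c_p11_34) (range_glue (range_of_allRange c_p11_35) (range_glue (range_of_allRange c_p11_36) (range_glue (range_of_allRange c_p11_37) (range_glue (range_of_allRange c_p11_38) (range_of_allRange c_p11_39))))))))))))))))))))))))))))))))))))))))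
theorem h_p11_p1 : ∀ p, 38080 ≤ p → p < 63342 → chk11 p = true :=
  (range_glue (range_of_allRange c_p11_40) (range_glue (range_of_allRange c_p11_41) (range_glue (range_of_allRange c_p11_42) (range_glue (range_of_allRange c_p11_43) (range_glue (range_of_allRange c_p11_44) (range_glue (range_of_allRange c_p11_45) (range_glue (range_of_allRange c_p11_46) (range_glue (range_of_allRange c_p11_47) (range_glue (range_of_allRange c_p11_48) (range_glue (range_of_allRange c_p11_49) (range_glue (range_of_allRange c_p11_50) (range_glue (range_of_allRange c_p11_51) (range_glue (range_of_allRange c_p11_52) (range_glue (range_of_allRange c_p11_53) (range_glue (range_of_allRange c_p11_54) (range_glue (range_of_allRange c_p11_55) (range_glue (range_of_allRange c_p11_56) (range_glue (range_of_allRange c_p11_57) (range_glue (range_of_allRange c_p11_58) (range_glue (range_of_allRange c_p11_59) (range_glue (range_of_allRange c_p11_60) (range_glue (range_of_allRange c_p11_61) (range_glue (range_of_allRange c_p11_62) (range_glue (range_of_allRange c_p11_63) (range_glue (range_of_allRange c_p11_64) (range_glue (range_of_allRange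 c_p11_65) (range_of_allRange c_p11_66)))))))))))))))))))))))))))
theorem h_p11 : ∀ p, 0 ≤ p → p < 63342 → chk11 p = true :=
  (range_glue h_p11_p0 h_p11_p1)
theorem h_p12 : ∀ p, 0 ≤ p → p < 63342 → chk12 p = true :=
  (range_glue (range_of_allRange c_p12_0) (range_glue (range_of_allRange c_p12_1) (range_glue (range_of_allRange c_p12_2) (range_glue (range_of_allRange c_p12_3) (range_of_allRange c_p12_4)))))
theorem h_p13 : ∀ p, 0 ≤ p → p < 63342 → chk13 p = true :=
  (range_glue (range_of_allRange c_p13_0) (range_glue (range_of_allRange c_p13_1) (range_glue (range_of_allRange c_p13_2) (range_glue (range_of_allRange c_p13_3) (range_glue (range_of_allRange c_p13_4) (range_glue (range_of_allRange c_p13_5) (range_glue (range_of_allRange c_p13_6) (range_glue (range_of_allRange c_p13_7) (range_glue (range_of_allRange c_p13_8) (range_glue (range_of_allRange c_p13_9) (range_glue (range_of_allRange c_p13_10) (range_glue (range_of_allRange c_p13_11) (range_glue (range_of_allRange c_p13_12) (range_glue (range_of_allRange c_p13_13) (range_glue (range_of_allRange c_p13_14) (range_glue (range_of_allRange c_p13_15)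 (range_glue (range_of_allRange c_p13_16) (range_glue (range_of_allRange c_p13_17) (range_glue (range_of_allRange c_p13_18) (range_glue (range_of_allRange c_p13_19) (range_glue (range_of_allRange c_p13_20) (range_glue (range_of_allRange c_p13_21) (range_of_allRange c_p13_22)))))))))))))))))))))))
theorem h_p14 : ∀ p, 0 ≤ p → p < 63342 → chk14 p = true :=
  (range_glue (range_of_allRange c_p14_0) (range_glue (range_of_allRange c_p14_1) (range_glue (range_of_allRange c_p14_2) (range_glue (range_of_allRange c_p14_3) (range_of_allRange c_p14_4)))))
theorem h_p15 : ∀ p, 0 ≤ p → p < 63342 → chk15 p = true :=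
  (range_glue (range_of_allRange c_p15_0) (range_glue (range_of_allRange c_p15_1) (range_glue (range_of_allRange c_p15_2) (range_glue (range_of_allRange c_p15_3) (range_glue (range_of_allRange c_p15_4) (range_glue (range_of_allRange c_p15_5) (range_glue (range_of_allRange c_p15_6) (range_glue (range_of_allRange c_p15_7) (range_glue (range_of_allRange c_p15_8) (range_glue (range_of_allRange c_p15_9) (range_glue (range_of_allRange c_p15_10) (range_glue (range_of_allRange c_p15_11) (range_glue (range_of_allRange c_p15_12) (range_glue (range_of_allRange c_p15_13) (range_glue (range_of_allRange c_p15_14) (range_glue (range_of_allRange c_p15_15) (range_glue (range_of_allRange c_p15_16) (range_glue (range_of_allRange c_p15_17) (range_glue (range_of_allRange c_p15_18) (range_glue (range_of_allRange c_p15_19) (range_glue (range_of_allRange c_p15_20) (range_of_allRange c_p15_21))))))))))))))))))))))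
theorem h_p16 : ∀ p, 0 ≤ p → p < 63342 → chk16 p = true :=
  (range_glue (range_of_allRange c_p16_0) (range_glue (range_of_allRange c_p16_1) (range_glue (range_of_allRange c_p16_2) (range_glue (range_of_allRange c_p16_3) (range_of_allRange c_p16_4)))))
theorem h_p17 : ∀ p, 0 ≤ p → p < 63342 → chk17 p = true :=
  (range_glue (range_of_allRange c_p17_0) (range_glue (range_of_allRange c_p17_1) (range_glue (range_of_allRange c_p17_2) (range_glue (range_of_allRange c_p17_3) (range_glue (range_of_allRange c_p17_4) (range_glue (range_of_allRange c_p17_5) (range_glue (range_of_allRange c_p17_6) (range_glue (range_of_allRange c_p17_7) (range_glue (range_of_allRange c_p17_8) (range_glue (range_of_allRange c_p17_9) (range_glue (range_of_allRange c_p17_10) (range_glue (range_of_allRange c_p17_11) (range_glue (range_of_allRange c_p17_12) (range_glue (range_of_allRange c_p17_13) (range_glue (range_of_allRange c_p17_14) (range_glue (range_of_allRange c_p17_15) (range_of_allRange c_p17_16)))))))))))))))))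
theorem h_p18 : ∀ p, 0 ≤ p → p < 63342 → chk18 p = true :=
  (range_glue (range_of_allRange c_p18_0) (range_glue (range_of_allRange c_p18_1) (range_glue (range_of_allRange c_p18_2) (range_glue (range_of_allRange c_p18_3) (range_of_allRange c_p18_4)))))
theorem h_p19 : ∀ p, 0 ≤ p → p < 63342 → chk19 p = true :=
  (range_glue (range_of_allRange c_p19_0) (range_glue (range_of_allRange c_p19_1) (range_glue (range_of_allRange c_p19_2) (range_glue (range_of_allRange c_p19_3) (range_glue (range_of_allRange c_p19_4) (range_glue (range_of_allRange c_p19_5) (range_glue (range_of_allRange c_p19_6) (range_glue (range_of_allRange c_p19_7) (range_glue (range_of_allRange c_p19_8) (range_glue (range_of_allRange c_p19_9) (range_glue (range_of_allRange c_p19_10) (range_glue (range_of_allRange c_p19_11) (range_glue (range_of_allRange c_p19_12) (range_glue (range_of_allRange c_p19_13) (range_glue (range_of_allRange c_p19_14) (range_glue (range_of_allRange c_p19_15) (range_of_allRange c_p19_16)))))))))))))))))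
theorem h_p20 : ∀ p, 0 ≤ p → p < 63342 → chk20 p = true :=
  (range_glue (range_of_allRange c_p20_0) (range_glue (range_of_allRange c_p20_1) (range_glue (range_of_allRange c_p20_2) (range_glue (range_of_allRange c_p20_3) (range_of_allRange c_p20_4)))))
theorem h_p21 : ∀ p, 0 ≤ p → p < 63342 → chk21 p = true :=
  (range_glue (range_of_allRange c_p21_0) (range_glue (range_of_allRange c_p21_1) (range_glue (range_of_allRange c_p21_2) (range_glue (range_of_allRange c_p21_3) (range_glue (range_of_allRange c_p21_4) (range_glue (range_of_allRange c_p21_5) (range_glue (range_of_allRange c_p21_6) (range_glue (range_of_allRange c_p21_7) (range_glue (range_of_allRange c_p21_8) (range_glue (range_of_allRange c_p21_9) (range_glue (range_of_allRange c_p21_10) (range_glue (range_of_allRange c_p21_11) (range_glue (range_of_allRange c_p21_12) (range_glue (range_of_allRange c_p21_13) (range_glue (range_of_allRange c_p21_14) (range_glue (range_of_allRange c_p21_15) (range_glue (range_of_allRange c_p21_16) (range_glue (range_of_allRange c_p21_17) (range_glue (range_of_allRange c_p21_18) (range_glue (range_of_allRange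 c_p21_19) (range_glue (range_of_allRange c_p21_20) (range_of_allRange c_p21_21))))))))))))))))))))))
theorem h_p22 : ∀ p, 0 ≤ p → p < 63342 → chk22 p = true :=
  (range_glue (range_of_allRange c_p22_0) (range_glue (range_of_allRange c_p22_1) (range_glue (range_of_allRange c_p22_2) (range_glue (range_of_allRange c_p22_3) (range_of_allRange c_p22_4)))))
theorem h_p23 : ∀ p, 0 ≤ p → p < 63342 → chk23 p = true :=
  (range_glue (range_of_allRange c_p23_0) (range_glue (range_of_allRange c_p23_1) (range_glue (range_of_allRange c_p23_2) (range_glue (range_of_allRange c_p23_3) (range_glue (range_of_allRange c_p23_4) (range_glue (range_of_allRange c_p23_5) (range_glue (range_of_allRange c_p23_6) (range_glue (range_of_allRange c_p23_7) (range_glue (range_of_allRange c_p23_8) (range_glue (range_of_allRange c_p23_9) (range_glue (range_of_allRange c_p23_10) (range_glue (range_of_allRange c_p23_11) (range_glue (range_of_allRange c_p23_12) (range_glue (range_of_allRange c_p23_13) (range_glue (range_of_allRange c_p23_14) (range_glue (range_of_allRange c_p23_15) (range_glue (range_of_allRange c_p23_16) (range_glue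 (range_of_allRange c_p23_17) (range_glue (range_of_allRange c_p23_18) (range_glue (range_of_allRange c_p23_19) (range_glue (range_of_allRange c_p23_20) (range_glue (range_of_allRange c_p23_21) (range_glue (range_of_allRange c_p23_22) (range_of_allRange c_p23_23))))))))))))))))))))))))
theorem h_p24 : ∀ p, 0 ≤ p → p < 63342 → chk24 p = true :=
  (range_glue (range_of_allRange c_p24_0) (range_glue (range_of_allRange c_p24_1) (range_glue (range_of_allRange c_p24_2) (range_glue (range_of_allRange c_p24_3) (range_of_allRange c_p24_4)))))
theorem h_p25 : ∀ p, 0 ≤ p → p < 63342 → chk25 p = true :=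
  (range_glue (range_of_allRange c_p25_0) (range_glue (range_of_allRange c_p25_1) (range_glue (range_of_allRange c_p25_2) (range_glue (range_of_allRange c_p25_3) (range_glue (range_of_allRange c_p25_4) (range_glue (range_of_allRange c_p25_5) (range_glue (range_of_allRange c_p25_6) (range_glue (range_of_allRange c_p25_7) (range_glue (range_of_allRange c_p25_8) (range_glue (range_of_allRange c_p25_9) (range_glue (range_of_allRange c_p25_10) (range_glue (range_of_allRange c_p25_11) (range_glue (range_of_allRange c_p25_12) (range_glue (range_of_allRange c_p25_13) (range_of_allRange c_p25_14)))))))))))))))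
theorem h_p26 : ∀ p, 0 ≤ p → p < 63342 → chk26 p = true :=
  (range_glue (range_of_allRange c_p26_0) (range_glue (range_of_allRange c_p26_1) (range_glue (range_of_allRange c_p26_2) (range_glue (range_of_allRange c_p26_3) (range_of_allRange c_p26_4)))))
theorem h_p27 : ∀ p, 0 ≤ p → p < 63342 → chk27 p = true :=
  (range_glue (range_of_allRange c_p27_0) (range_glue (range_of_allRange c_p27_1) (range_glue (range_of_allRange c_p27_2) (range_glue (range_of_allRange c_p27_3) (range_glue (range_of_allRange c_p27_4) (range_glue (range_of_allRange c_p27_5) (range_glue (range_of_allRange c_p27_6) (range_glue (range_of_allRange c_p27_7) (range_glue (range_of_allRange c_p27_8) (range_glue (range_of_allRange c_p27_9) (range_glue (range_of_allRange c_p27_10) (range_glue (range_of_allRange c_p27_11) (range_glue (range_of_allRange c_p27_12) (range_glue (range_of_allRange c_p27_13) (range_of_allRange c_p27_14)))))))))))))))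
theorem h_p28 : ∀ p, 0 ≤ p → p < 63342 → chk28 p = true :=
  (range_glue (range_of_allRange c_p28_0) (range_glue (range_of_allRange c_p28_1) (range_glue (range_of_allRange c_p28_2) (range_glue (range_of_allRange c_p28_3) (range_of_allRange c_p28_4)))))
theorem h_p29 : ∀ p, 0 ≤ p → p < 63342 → chk29 p = true :=
  (range_glue (range_of_allRange c_p29_0) (range_glue (range_of_allRange c_p29_1) (range_glue (range_of_allRange c_p29_2) (range_glue (range_of_allRange c_p29_3) (range_glue (range_of_allRange c_p29_4) (range_glue (range_of_allRange c_p29_5) (range_glue (range_of_allRange c_p29_6) (range_glue (range_of_allRange c_p29_7) (range_glue (range_of_allRange c_p29_8) (range_glue (range_of_allRange c_p29_9) (range_glue (range_of_allRange c_p29_10) (range_glue (range_of_allRange c_p29_11) (range_glue (range_of_allRange c_p29_12) (range_glue (range_of_allRange c_p29_13) (range_glue (range_of_allRange c_p29_14) (range_glue (range_of_allRange c_p29_15) (range_glue (range_of_allRange c_p29_16) (range_glue (range_of_allRange c_p29_17) (range_glue (range_of_allRange c_p29_18) (range_glue (range_of_allRange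 c_p29_19) (range_glue (range_of_allRange c_p29_20) (range_glue (range_of_allRange c_p29_21) (range_glue (range_of_allRange c_p29_22) (range_glue (range_of_allRange c_p29_23) (range_glue (range_of_allRange c_p29_24) (range_glue (range_of_allRange c_p29_25) (range_of_allRange c_p29_26)))))))))))))))))))))))))))
theorem h_p30 : ∀ p, 0 ≤ p → p < 63342 → chk30 p = true :=
  (range_glue (range_of_allRange c_p30_0) (range_glue (range_of_allRange c_p30_1) (range_glue (range_of_allRange c_p30_2) (range_glue (range_of_allRange c_p30_3) (range_glue (range_of_allRange c_p30_4) (range_glue (range_of_allRange c_p30_5) (range_glue (range_of_allRange c_p30_6) (range_glue (range_of_allRange c_p30_7) (range_glue (range_of_allRange c_p30_8) (range_glue (range_of_allRange c_p30_9) (range_glue (range_of_allRange c_p30_10) (range_glue (range_of_allRange c_p30_11) (range_glue (range_of_allRange c_p30_12) (range_glue (range_of_allRange c_p30_13) (range_glue (range_of_allRange c_p30_14) (range_glue (range_of_allRange c_p30_15) (range_glue (range_of_allRange c_p30_16) (range_glue (range_of_allRange c_p30_17) (range_glue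 (range_of_allRange c_p30_18) (range_glue (range_of_allRange c_p30_19) (range_glue (range_of_allRange c_p30_20) (range_glue (range_of_allRange c_p30_21) (range_glue (range_of_allRange c_p30_22) (range_glue (range_of_allRange c_p30_23) (range_glue (range_of_allRange c_p30_24) (range_glue (range_of_allRange c_p30_25) (range_glue (range_of_allRange c_p30_26) (range_glue (range_of_allRange c_p30_27) (range_glue (range_of_allRange c_p30_28) (range_glue (range_of_allRange c_p30_29) (range_glue (range_of_allRange c_p30_30) (range_glue (range_of_allRange c_p30_31) (range_glue (range_of_allRange c_p30_32) (range_glue (range_of_allRange c_p30_33) (range_of_allRange c_p30_34)))))))))))))))))))))))))))))))))))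
theorem h_nd0 : ∀ idx, 0 ≤ idx → idx < 63342 → S.nodeOK 0 idx = true :=
  (range_glue (range_of_allRange c_nd0_0) (range_glue (range_of_allRange c_nd0_1) (range_glue (range_of_allRange c_nd0_2) (range_glue (range_of_allRange c_nd0_3) (range_glue (range_of_allRange c_nd0_4) (range_glue (range_of_allRange c_nd0_5) (range_glue (range_of_allRange c_nd0_6) (range_glue (range_of_allRange c_nd0_7) (range_glue (range_of_allRange c_nd0_8) (range_glue (range_of_allRange c_nd0_9) (range_glue (range_of_allRange c_nd0_10) (range_glue (range_of_allRange c_nd0_11) (range_of_allRange c_nd0_12)))))))))))))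
theorem h_nd1 : ∀ idx, 0 ≤ idx → idx < 28160 → S.nodeOK 1 idx = true :=
  (range_glue (range_of_allRange c_nd1_0) (range_glue (range_of_allRange c_nd1_1) (range_glue (range_of_allRange c_nd1_2) (range_glue (range_of_allRange c_nd1_3) (range_glue (range_of_allRange c_nd1_4) (range_of_allRange c_nd1_5))))))
theorem h_nd2 : ∀ idx, 0 ≤ idx → idx < 3159 → S.nodeOK 2 idx = true :=
  (range_of_allRange c_nd2_0)
theorem h_nd3 : ∀ idx, 0 ≤ idx → idx < 288 → S.nodeOK 3 idx = true :=
  (range_of_allRange c_nd3_0)
theorem h_nd4 : ∀ idx, 0 ≤ idx → idx < 35 → S.nodeOK 4 idx = true :=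
  (range_of_allRange c_nd4_0)
theorem h_nd5 : ∀ idx, 0 ≤ idx → idx < 12 → S.nodeOK 5 idx = true :=
  (range_of_allRange c_nd5_0)
theorem h_nd6 : ∀ idx, 0 ≤ idx → idx < 3 → S.nodeOK 6 idx = true :=
  (range_of_allRange c_nd6_0)
theorem h_nd7 : ∀ idx, 0 ≤ idx → idx < 2 → S.nodeOK 7 idx = true :=
  (range_of_allRange c_nd7_0)
theorem h_nd8 : ∀ idx, 0 ≤ idx → idx < 2 → S.nodeOK 8 idx = true :=
  (range_of_allRange c_nd8_0)

theorem ok : S.OK where
  hkm := by decide
  hperm := by
    intro i p h1 h2 hp
    have h1 : 11 ≤ i := h1
    have h2 : i < 31 := h2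
    have hp : p < 63342 := hp
    interval_cases i
    · rw [← chk11_eq]; exact h_p11 p (Nat.zero_le _) hp
    · rw [← chk12_eq]; exact h_p12 p (Nat.zero_le _) hp
    · rw [← chk13_eq]; exact h_p13 p (Nat.zero_le _) hp
    · rw [← chk14_eq]; exact h_p14 p (Nat.zero_le _) hp
    · rw [← chk15_eq]; exact h_p15 p (Nat.zero_le _) hp
    · rw [← chk16_eq]; exact h_p16 p (Nat.zero_le _) hp
    · rw [← chk17_eq]; exact h_p17 p (Nat.zero_le _) hp
    · rw [← chk18_eq]; exact h_p18 p (Nat.zero_le _) hp
    · rw [← chk19_eq]; exact h_p19 p (Nat.zero_le _) hp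
    · rw [← chk20_eq]; exact h_p20 p (Nat.zero_le _) hp
    · rw [← chk21_eq]; exact h_p21 p (Nat.zero_le _) hp
    · rw [← chk22_eq]; exact h_p22 p (Nat.zero_le _) hp
    · rw [← chk23_eq]; exact h_p23 p (Nat.zero_le _) hp
    · rw [← chk24_eq]; exact h_p24 p (Nat.zero_le _) hp
    · rw [← chk25_eq]; exact h_p25 p (Nat.zero_le _) hp
    · rw [← chk26_eq]; exact h_p26 p (Nat.zero_le _) hp
    · rw [← chk27_eq]; exact h_p27 p (Nat.zero_le _) hp
    · rw [← chk28_eq]; exact h_p28 p (Nat.zero_le _) hp
    · rw [← chk29_eq]; exact h_p29 p (Nat.zero_le _) hp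
    · rw [← chk30_eq]; exact h_p30 p (Nat.zero_le _) hp
  hwords := fun i h1 h2 => range_of_allRange c_words i h1 h2
  hfix := fun i t hi ht => range_of_allGrid c_fix i (Nat.zero_le _) (by have h : i < 31 := hi; omega) t ht
  hroot := fun j hj => ble_succ (allBelow_eq_true.1 c_root j hj)
  hnode := by
    intro j idx hj hidx
    have hj : j < 9 := hj
    interval_cases j
    · rw [c_n0] at hidx; exact h_nd0 idx (Nat.zero_le _) hidx
    · rw [c_n1] at hidx; exact h_nd1 idx (Nat.zero_le _) hidx
    · rw [c_n2] at hidx; exact h_nd2 idx (Nat.zero_le _) hidx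
    · rw [c_n3] at hidx; exact h_nd3 idx (Nat.zero_le _) hidx
    · rw [c_n4] at hidx; exact h_nd4 idx (Nat.zero_le _) hidx
    · rw [c_n5] at hidx; exact h_nd5 idx (Nat.zero_le _) hidx
    · rw [c_n6] at hidx; exact h_nd6 idx (Nat.zero_le _) hidx
    · rw [c_n7] at hidx; exact h_nd7 idx (Nat.zero_le _) hidx
    · rw [c_n8] at hidx; exact h_nd8 idx (Nat.zero_le _) hidx

theorem htab0 : ∀ i, i < S.k → ∀ p, p < S.N → S.tab i p = T.tbl p (D.inv i) := by
  intro i hi p _
  have hi : i < 11 := hi
  interval_cases i <;> rfl

theorem prod_eq : S.prodFrom S.r 0 = 8178940946586009600 := by decide +kernel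

end Cfsg.Agent.Lib.Helper4.TCD.Y532L
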