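import Cfsg.Agent.Lib.Helper4.TCD_Y532R_Acc

namespace Cfsg.Agent.Lib.Helper4.TCD.Y532R

open Cfsg.Agent.Lib.Helper4.TC

set_option maxRecDepth 100000
set_option Elab.async false

theorem c_let : allBelow D.letOK 11 = true := by decide +kernel
theorem c_real : PY532.P.real = realLit := by decide +kernel
theorem c_perm_0 : allGrid (T.permOK1 D) 0 2727 11 = true := by decide +kernel
theorem c_perm_1 : allGrid (T.permOK1 D) 2727 2727 11 = true := by decide +kernel
theorem c_perm_2 : allGrid (T.permOK1 D) 5454 2727 11 = true := by decide +kernel
theorem c_perm_3 : allGrid (T.permOK1 D) 8181 2727 11 = true := by decide +kernel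
theorem c_perm_4 : allGrid (T.permOK1 D) 10908 2727 11 = true := by decide +kernel
theorem c_perm_5 : allGrid (T.permOK1 D) 13635 2727 11 = true := by decide +kernel
theorem c_perm_6 : allGrid (T.permOK1 D) 16362 2727 11 = true := by decide +kernel
theorem c_perm_7 : allGrid (T.permOK1 D) 19089 2727 11 = true := by decide +kernel
theorem c_perm_8 : allGrid (T.permOK1 D) 21816 2727 11 = true := by decide +kernel
theorem c_perm_9 : allGrid (T.permOK1 D) 24543 2727 11 = true := by decide +kernel
theorem c_perm_10 : allGrid (T.permOK1 D) 27270 2727 11 = true := by decide +kernel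
theorem c_perm_11 : allGrid (T.permOK1 D) 29997 2727 11 = true := by decide +kernel
theorem c_perm_12 : allGrid (T.permOK1 D) 32724 2727 11 = true := by decide +kernel
theorem c_perm_13 : allGrid (T.permOK1 D) 35451 2727 11 = true := by decide +kernel
theorem c_perm_14 : allGrid (T.permOK1 D) 38178 2727 11 = true := by decide +kernel
theorem c_perm_15 : allGrid (T.permOK1 D) 40905 2727 11 = true := by decide +kernel
theorem c_perm_16 : allGrid (T.permOK1 D) 43632 2727 11 = true := by decide +kernel
theorem c_perm_17 : allGrid (T.permOK1 D) 46359 2727 11 = true := by decide +kernel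
theorem c_perm_18 : allGrid (T.permOK1 D) 49086 2727 11 = true := by decide +kernel
theorem c_perm_19 : allGrid (T.permOK1 D) 51813 2727 11 = true := by decide +kernel
theorem c_perm_20 : allGrid (T.permOK1 D) 54540 2727 11 = true := by decide +kernel
theorem c_perm_21 : allGrid (T.permOK1 D) 57267 2727 11 = true := by decide +kernel
theorem c_perm_22 : allGrid (T.permOK1 D) 59994 2727 11 = true := by decide +kernel
theorem c_perm_23 : allGrid (T.permOK1 D) 62721 621 11 = true := by decide +kernel
theorem c_act0_0 : allRange (fun i => Nat.beq (actR0 i) i) 0 30000 = true := by decide +kernel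
theorem c_act0_1 : allRange (fun i => Nat.beq (actR0 i) i) 30000 30000 = true := by decide +kernel
theorem c_act0_2 : allRange (fun i => Nat.beq (actR0 i) i) 60000 3342 = true := by decide +kernel
theorem c_act1_0 : allRange (fun i => Nat.beq (actR1 i) i) 0 10000 = true := by decide +kernel
theorem c_act1_1 : allRange (fun i => Nat.beq (actR1 i) i) 10000 10000 = true := by decide +kernel
theorem c_act1_2 : allRange (fun i => Nat.beq (actR1 i) i) 20000 10000 = true := by decide +kernel
theorem c_act1_3 : allRange (fun i => Nat.beq (actR1 i) i) 30000 10000 = true := by decide +kernel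
theorem c_act1_4 : allRange (fun i => Nat.beq (actR1 i) i) 40000 10000 = true := by decide +kernel
theorem c_act1_5 : allRange (fun i => Nat.beq (actR1 i) i) 50000 10000 = true := by decide +kernel
theorem c_act1_6 : allRange (fun i => Nat.beq (actR1 i) i) 60000 3342 = true := by decide +kernel
theorem c_act2_0 : allRange (fun i => Nat.beq (actR2 i) i) 0 15000 = true := by decide +kernel
theorem c_act2_1 : allRange (fun i => Nat.beq (actR2 i) i) 15000 15000 = true := by decide +kernel
theorem c_act2_2 : allRange (fun i => Nat.beq (actR2 i) i) 30000 15000 = true := by decide +kernel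
theorem c_act2_3 : allRange (fun i => Nat.beq (actR2 i) i) 45000 15000 = true := by decide +kernel
theorem c_act2_4 : allRange (fun i => Nat.beq (actR2 i) i) 60000 3342 = true := by decide +kernel
theorem c_act3_0 : allRange (fun i => Nat.beq (actR3 i) i) 0 15000 = true := by decide +kernel
theorem c_act3_1 : allRange (fun i => Nat.beq (actR3 i) i) 15000 15000 = true := by decide +kernel
theorem c_act3_2 : allRange (fun i => Nat.beq (actR3 i) i) 30000 15000 = true := by decide +kernel
theorem c_act3_3 : allRange (fun i => Nat.beq (actR3 i) i) 45000 15000 = true := by decide +kernel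
theorem c_act3_4 : allRange (fun i => Nat.beq (actR3 i) i) 60000 3342 = true := by decide +kernel
theorem c_act4_0 : allRange (fun i => Nat.beq (actR4 i) i) 0 15000 = true := by decide +kernel
theorem c_act4_1 : allRange (fun i => Nat.beq (actR4 i) i) 15000 15000 = true := by decide +kernel
theorem c_act4_2 : allRange (fun i => Nat.beq (actR4 i) i) 30000 15000 = true := by decide +kernel
theorem c_act4_3 : allRange (fun i => Nat.beq (actR4 i) i) 45000 15000 = true := by decide +kernel
theorem c_act4_4 : allRange (fun i => Nat.beq (actR4 i) i) 60000 3342 = true := by decide +kernel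
theorem c_act5_0 : allRange (fun i => Nat.beq (actR5 i) i) 0 15000 = true := by decide +kernel
theorem c_act5_1 : allRange (fun i => Nat.beq (actR5 i) i) 15000 15000 = true := by decide +kernel
theorem c_act5_2 : allRange (fun i => Nat.beq (actR5 i) i) 30000 15000 = true := by decide +kernel
theorem c_act5_3 : allRange (fun i => Nat.beq (actR5 i) i) 45000 15000 = true := by decide +kernel
theorem c_act5_4 : allRange (fun i => Nat.beq (actR5 i) i) 60000 3342 = true := by decide +kernel
theorem c_act6_0 : allRange (fun i => Nat.beq (actR6 i) i) 0 10000 = true := by decide +kernel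

end Cfsg.Agent.Lib.Helper4.TCD.Y532R
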