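import Cfsg.Agent.Lib.Helper4.TCD_Y532R_Acc

namespace Cfsg.Agent.Lib.Helper4.TCD.Y532R

open Cfsg.Agent.Lib.Helper4.TC

set_option maxRecDepth 100000
set_option Elab.async false

theorem c_w_wRel2_33 : allRange (fun i => Nat.beq (actW_wRel2 i) i) 30921 937 = true := by decide +kernel
theorem c_w_wRel2_34 : allRange (fun i => Nat.beq (actW_wRel2 i) i) 31858 937 = true := by decide +kernel
theorem c_w_wRel2_35 : allRange (fun i => Nat.beq (actW_wRel2 i) i) 32795 937 = true := by decide +kernel
theorem c_w_wRel2_36 : allRange (fun i => Nat.beq (actW_wRel2 i) i) 33732 937 = true := by decide +kernel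
theorem c_w_wRel2_37 : allRange (fun i => Nat.beq (actW_wRel2 i) i) 34669 937 = true := by decide +kernel
theorem c_w_wRel2_38 : allRange (fun i => Nat.beq (actW_wRel2 i) i) 35606 937 = true := by decide +kernel
theorem c_w_wRel2_39 : allRange (fun i => Nat.beq (actW_wRel2 i) i) 36543 937 = true := by decide +kernel
theorem c_w_wRel2_40 : allRange (fun i => Nat.beq (actW_wRel2 i) i) 37480 937 = true := by decide +kernel
theorem c_w_wRel2_41 : allRange (fun i => Nat.beq (actW_wRel2 i) i) 38417 937 = true := by decide +kernel
theorem c_w_wRel2_42 : allRange (fun i => Nat.beq (actW_wRel2 i) i) 39354 937 = true := by decide +kernel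
theorem c_w_wRel2_43 : allRange (fun i => Nat.beq (actW_wRel2 i) i) 40291 937 = true := by decide +kernel
theorem c_w_wRel2_44 : allRange (fun i => Nat.beq (actW_wRel2 i) i) 41228 937 = true := by decide +kernel
theorem c_w_wRel2_45 : allRange (fun i => Nat.beq (actW_wRel2 i) i) 42165 937 = true := by decide +kernel
theorem c_w_wRel2_46 : allRange (fun i => Nat.beq (actW_wRel2 i) i) 43102 937 = true := by decide +kernel
theorem c_w_wRel2_47 : allRange (fun i => Nat.beq (actW_wRel2 i) i) 44039 937 = true := by decide +kernel
theorem c_w_wRel2_48 : allRange (fun i => Nat.beq (actW_wRel2 i) i) 44976 937 = true := by decide +kernel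
theorem c_w_wRel2_49 : allRange (fun i => Nat.beq (actW_wRel2 i) i) 45913 937 = true := by decide +kernel
theorem c_w_wRel2_50 : allRange (fun i => Nat.beq (actW_wRel2 i) i) 46850 937 = true := by decide +kernel
theorem c_w_wRel2_51 : allRange (fun i => Nat.beq (actW_wRel2 i) i) 47787 937 = true := by decide +kernel
theorem c_w_wRel2_52 : allRange (fun i => Nat.beq (actW_wRel2 i) i) 48724 937 = true := by decide +kernel
theorem c_w_wRel2_53 : allRange (fun i => Nat.beq (actW_wRel2 i) i) 49661 937 = true := by decide +kernel
theorem c_w_wRel2_54 : allRange (fun i => Nat.beq (actW_wRel2 i) i) 50598 937 = true := by decide +kernel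
theorem c_w_wRel2_55 : allRange (fun i => Nat.beq (actW_wRel2 i) i) 51535 937 = true := by decide +kernel
theorem c_w_wRel2_56 : allRange (fun i => Nat.beq (actW_wRel2 i) i) 52472 937 = true := by decide +kernel
theorem c_w_wRel2_57 : allRange (fun i => Nat.beq (actW_wRel2 i) i) 53409 937 = true := by decide +kernel
theorem c_w_wRel2_58 : allRange (fun i => Nat.beq (actW_wRel2 i) i) 54346 937 = true := by decide +kernel
theorem c_w_wRel2_59 : allRange (fun i => Nat.beq (actW_wRel2 i) i) 55283 937 = true := by decide +kernel
theorem c_w_wRel2_60 : allRange (fun i => Nat.beq (actW_wRel2 i) i) 56220 937 = true := by decide +kernel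
theorem c_w_wRel2_61 : allRange (fun i => Nat.beq (actW_wRel2 i) i) 57157 937 = true := by decide +kernel
theorem c_w_wRel2_62 : allRange (fun i => Nat.beq (actW_wRel2 i) i) 58094 937 = true := by decide +kernel
theorem c_w_wRel2_63 : allRange (fun i => Nat.beq (actW_wRel2 i) i) 59031 937 = true := by decide +kernel
theorem c_w_wRel2_64 : allRange (fun i => Nat.beq (actW_wRel2 i) i) 59968 937 = true := by decide +kernel
theorem c_w_wRel2_65 : allRange (fun i => Nat.beq (actW_wRel2 i) i) 60905 937 = true := by decide +kernel
theorem c_w_wRel2_66 : allRange (fun i => Nat.beq (actW_wRel2 i) i) 61842 937 = true := by decide +kernel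
theorem c_w_wRel2_67 : allRange (fun i => Nat.beq (actW_wRel2 i) i) 62779 563 = true := by decide +kernel
theorem c_w_wSp213_0 : allRange (fun i => Nat.beq (actW_wSp213 i) i) 0 666 = true := by decide +kernel
theorem c_w_wSp213_1 : allRange (fun i => Nat.beq (actW_wSp213 i) i) 666 666 = true := by decide +kernel
theorem c_w_wSp213_2 : allRange (fun i => Nat.beq (actW_wSp213 i) i) 1332 666 = true := by decide +kernel
theorem c_w_wSp213_3 : allRange (fun i => Nat.beq (actW_wSp213 i) i) 1998 666 = true := by decide +kernel
theorem c_w_wSp213_4 : allRange (fun i => Nat.beq (actW_wSp213 i) i) 2664 666 = true := by decide +kernel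
theorem c_w_wSp213_5 : allRange (fun i => Nat.beq (actW_wSp213 i) i) 3330 666 = true := by decide +kernel
theorem c_w_wSp213_6 : allRange (fun i => Nat.beq (actW_wSp213 i) i) 3996 666 = true := by decide +kernel
theorem c_w_wSp213_7 : allRange (fun i => Nat.beq (actW_wSp213 i) i) 4662 666 = true := by decide +kernel
theorem c_w_wSp213_8 : allRange (fun i => Nat.beq (actW_wSp213 i) i) 5328 666 = true := by decide +kernel
theorem c_w_wSp213_9 : allRange (fun i => Nat.beq (actW_wSp213 i) i) 5994 666 = true := by decide +kernel
theorem c_w_wSp213_10 : allRange (fun i => Nat.beq (actW_wSp213 i) i) 6660 666 = true := by decide +kernel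
theorem c_w_wSp213_11 : allRange (fun i => Nat.beq (actW_wSp213 i) i) 7326 666 = true := by decide +kernel
theorem c_w_wSp213_12 : allRange (fun i => Nat.beq (actW_wSp213 i) i) 7992 666 = true := by decide +kernel
theorem c_w_wSp213_13 : allRange (fun i => Nat.beq (actW_wSp213 i) i) 8658 666 = true := by decide +kernel
theorem c_w_wSp213_14 : allRange (fun i => Nat.beq (actW_wSp213 i) i) 9324 666 = true := by decide +kernel

end Cfsg.Agent.Lib.Helper4.TCD.Y532R
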