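import Cfsg.Agent.Lib.Helper4.TCD_Y532R_Acc

namespace Cfsg.Agent.Lib.Helper4.TCD.Y532R

open Cfsg.Agent.Lib.Helper4.TC

set_option maxRecDepth 100000
set_option Elab.async false

theorem c_w_wSp213_15 : allRange (fun i => Nat.beq (actW_wSp213 i) i) 9990 666 = true := by decide +kernel
theorem c_w_wSp213_16 : allRange (fun i => Nat.beq (actW_wSp213 i) i) 10656 666 = true := by decide +kernel
theorem c_w_wSp213_17 : allRange (fun i => Nat.beq (actW_wSp213 i) i) 11322 666 = true := by decide +kernel
theorem c_w_wSp213_18 : allRange (fun i => Nat.beq (actW_wSp213 i) i) 11988 666 = true := by decide +kernel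
theorem c_w_wSp213_19 : allRange (fun i => Nat.beq (actW_wSp213 i) i) 12654 666 = true := by decide +kernel
theorem c_w_wSp213_20 : allRange (fun i => Nat.beq (actW_wSp213 i) i) 13320 666 = true := by decide +kernel
theorem c_w_wSp213_21 : allRange (fun i => Nat.beq (actW_wSp213 i) i) 13986 666 = true := by decide +kernel
theorem c_w_wSp213_22 : allRange (fun i => Nat.beq (actW_wSp213 i) i) 14652 666 = true := by decide +kernel
theorem c_w_wSp213_23 : allRange (fun i => Nat.beq (actW_wSp213 i) i) 15318 666 = true := by decide +kernel
theorem c_w_wSp213_24 : allRange (fun i => Nat.beq (actW_wSp213 i) i) 15984 666 = true := by decide +kernel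
theorem c_w_wSp213_25 : allRange (fun i => Nat.beq (actW_wSp213 i) i) 16650 666 = true := by decide +kernel
theorem c_w_wSp213_26 : allRange (fun i => Nat.beq (actW_wSp213 i) i) 17316 666 = true := by decide +kernel
theorem c_w_wSp213_27 : allRange (fun i => Nat.beq (actW_wSp213 i) i) 17982 666 = true := by decide +kernel
theorem c_w_wSp213_28 : allRange (fun i => Nat.beq (actW_wSp213 i) i) 18648 666 = true := by decide +kernel
theorem c_w_wSp213_29 : allRange (fun i => Nat.beq (actW_wSp213 i) i) 19314 666 = true := by decide +kernel
theorem c_w_wSp213_30 : allRange (fun i => Nat.beq (actW_wSp213 i) i) 19980 666 = true := by decide +kernel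
theorem c_w_wSp213_31 : allRange (fun i => Nat.beq (actW_wSp213 i) i) 20646 666 = true := by decide +kernel
theorem c_w_wSp213_32 : allRange (fun i => Nat.beq (actW_wSp213 i) i) 21312 666 = true := by decide +kernel
theorem c_w_wSp213_33 : allRange (fun i => Nat.beq (actW_wSp213 i) i) 21978 666 = true := by decide +kernel
theorem c_w_wSp213_34 : allRange (fun i => Nat.beq (actW_wSp213 i) i) 22644 666 = true := by decide +kernel
theorem c_w_wSp213_35 : allRange (fun i => Nat.beq (actW_wSp213 i) i) 23310 666 = true := by decide +kernel
theorem c_w_wSp213_36 : allRange (fun i => Nat.beq (actW_wSp213 i) i) 23976 666 = true := by decide +kernel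
theorem c_w_wSp213_37 : allRange (fun i => Nat.beq (actW_wSp213 i) i) 24642 666 = true := by decide +kernel
theorem c_w_wSp213_38 : allRange (fun i => Nat.beq (actW_wSp213 i) i) 25308 666 = true := by decide +kernel
theorem c_w_wSp213_39 : allRange (fun i => Nat.beq (actW_wSp213 i) i) 25974 666 = true := by decide +kernel
theorem c_w_wSp213_40 : allRange (fun i => Nat.beq (actW_wSp213 i) i) 26640 666 = true := by decide +kernel
theorem c_w_wSp213_41 : allRange (fun i => Nat.beq (actW_wSp213 i) i) 27306 666 = true := by decide +kernel
theorem c_w_wSp213_42 : allRange (fun i => Nat.beq (actW_wSp213 i) i) 27972 666 = true := by decide +kernel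
theorem c_w_wSp213_43 : allRange (fun i => Nat.beq (actW_wSp213 i) i) 28638 666 = true := by decide +kernel
theorem c_w_wSp213_44 : allRange (fun i => Nat.beq (actW_wSp213 i) i) 29304 666 = true := by decide +kernel
theorem c_w_wSp213_45 : allRange (fun i => Nat.beq (actW_wSp213 i) i) 29970 666 = true := by decide +kernel
theorem c_w_wSp213_46 : allRange (fun i => Nat.beq (actW_wSp213 i) i) 30636 666 = true := by decide +kernel
theorem c_w_wSp213_47 : allRange (fun i => Nat.beq (actW_wSp213 i) i) 31302 666 = true := by decide +kernel
theorem c_w_wSp213_48 : allRange (fun i => Nat.beq (actW_wSp213 i) i) 31968 666 = true := by decide +kernel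
theorem c_w_wSp213_49 : allRange (fun i => Nat.beq (actW_wSp213 i) i) 32634 666 = true := by decide +kernel
theorem c_w_wSp213_50 : allRange (fun i => Nat.beq (actW_wSp213 i) i) 33300 666 = true := by decide +kernel
theorem c_w_wSp213_51 : allRange (fun i => Nat.beq (actW_wSp213 i) i) 33966 666 = true := by decide +kernel
theorem c_w_wSp213_52 : allRange (fun i => Nat.beq (actW_wSp213 i) i) 34632 666 = true := by decide +kernel
theorem c_w_wSp213_53 : allRange (fun i => Nat.beq (actW_wSp213 i) i) 35298 666 = true := by decide +kernel
theorem c_w_wSp213_54 : allRange (fun i => Nat.beq (actW_wSp213 i) i) 35964 666 = true := by decide +kernel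
theorem c_w_wSp213_55 : allRange (fun i => Nat.beq (actW_wSp213 i) i) 36630 666 = true := by decide +kernel
theorem c_w_wSp213_56 : allRange (fun i => Nat.beq (actW_wSp213 i) i) 37296 666 = true := by decide +kernel
theorem c_w_wSp213_57 : allRange (fun i => Nat.beq (actW_wSp213 i) i) 37962 666 = true := by decide +kernel
theorem c_w_wSp213_58 : allRange (fun i => Nat.beq (actW_wSp213 i) i) 38628 666 = true := by decide +kernel
theorem c_w_wSp213_59 : allRange (fun i => Nat.beq (actW_wSp213 i) i) 39294 666 = true := by decide +kernel
theorem c_w_wSp213_60 : allRange (fun i => Nat.beq (actW_wSp213 i) i) 39960 666 = true := by decide +kernel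
theorem c_w_wSp213_61 : allRange (fun i => Nat.beq (actW_wSp213 i) i) 40626 666 = true := by decide +kernel
theorem c_w_wSp213_62 : allRange (fun i => Nat.beq (actW_wSp213 i) i) 41292 666 = true := by decide +kernel
theorem c_w_wSp213_63 : allRange (fun i => Nat.beq (actW_wSp213 i) i) 41958 666 = true := by decide +kernel
theorem c_w_wSp213_64 : allRange (fun i => Nat.beq (actW_wSp213 i) i) 42624 666 = true := by decide +kernel

end Cfsg.Agent.Lib.Helper4.TCD.Y532R
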