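import Cfsg.Agent.Lib.Helper4.TCD_Y532R_Acc

namespace Cfsg.Agent.Lib.Helper4.TCD.Y532R

open Cfsg.Agent.Lib.Helper4.TC

set_option maxRecDepth 100000
set_option Elab.async false

theorem c_w_wSp213_65 : allRange (fun i => Nat.beq (actW_wSp213 i) i) 43290 666 = true := by decide +kernel
theorem c_w_wSp213_66 : allRange (fun i => Nat.beq (actW_wSp213 i) i) 43956 666 = true := by decide +kernel
theorem c_w_wSp213_67 : allRange (fun i => Nat.beq (actW_wSp213 i) i) 44622 666 = true := by decide +kernel
theorem c_w_wSp213_68 : allRange (fun i => Nat.beq (actW_wSp213 i) i) 45288 666 = true := by decide +kernel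
theorem c_w_wSp213_69 : allRange (fun i => Nat.beq (actW_wSp213 i) i) 45954 666 = true := by decide +kernel
theorem c_w_wSp213_70 : allRange (fun i => Nat.beq (actW_wSp213 i) i) 46620 666 = true := by decide +kernel
theorem c_w_wSp213_71 : allRange (fun i => Nat.beq (actW_wSp213 i) i) 47286 666 = true := by decide +kernel
theorem c_w_wSp213_72 : allRange (fun i => Nat.beq (actW_wSp213 i) i) 47952 666 = true := by decide +kernel
theorem c_w_wSp213_73 : allRange (fun i => Nat.beq (actW_wSp213 i) i) 48618 666 = true := by decide +kernel
theorem c_w_wSp213_74 : allRange (fun i => Nat.beq (actW_wSp213 i) i) 49284 666 = true := by decide +kernel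
theorem c_w_wSp213_75 : allRange (fun i => Nat.beq (actW_wSp213 i) i) 49950 666 = true := by decide +kernel
theorem c_w_wSp213_76 : allRange (fun i => Nat.beq (actW_wSp213 i) i) 50616 666 = true := by decide +kernel
theorem c_w_wSp213_77 : allRange (fun i => Nat.beq (actW_wSp213 i) i) 51282 666 = true := by decide +kernel
theorem c_w_wSp213_78 : allRange (fun i => Nat.beq (actW_wSp213 i) i) 51948 666 = true := by decide +kernel
theorem c_w_wSp213_79 : allRange (fun i => Nat.beq (actW_wSp213 i) i) 52614 666 = true := by decide +kernel
theorem c_w_wSp213_80 : allRange (fun i => Nat.beq (actW_wSp213 i) i) 53280 666 = true := by decide +kernel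
theorem c_w_wSp213_81 : allRange (fun i => Nat.beq (actW_wSp213 i) i) 53946 666 = true := by decide +kernel
theorem c_w_wSp213_82 : allRange (fun i => Nat.beq (actW_wSp213 i) i) 54612 666 = true := by decide +kernel
theorem c_w_wSp213_83 : allRange (fun i => Nat.beq (actW_wSp213 i) i) 55278 666 = true := by decide +kernel
theorem c_w_wSp213_84 : allRange (fun i => Nat.beq (actW_wSp213 i) i) 55944 666 = true := by decide +kernel
theorem c_w_wSp213_85 : allRange (fun i => Nat.beq (actW_wSp213 i) i) 56610 666 = true := by decide +kernel
theorem c_w_wSp213_86 : allRange (fun i => Nat.beq (actW_wSp213 i) i) 57276 666 = true := by decide +kernel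
theorem c_w_wSp213_87 : allRange (fun i => Nat.beq (actW_wSp213 i) i) 57942 666 = true := by decide +kernel
theorem c_w_wSp213_88 : allRange (fun i => Nat.beq (actW_wSp213 i) i) 58608 666 = true := by decide +kernel
theorem c_w_wSp213_89 : allRange (fun i => Nat.beq (actW_wSp213 i) i) 59274 666 = true := by decide +kernel
theorem c_w_wSp213_90 : allRange (fun i => Nat.beq (actW_wSp213 i) i) 59940 666 = true := by decide +kernel
theorem c_w_wSp213_91 : allRange (fun i => Nat.beq (actW_wSp213 i) i) 60606 666 = true := by decide +kernel
theorem c_w_wSp213_92 : allRange (fun i => Nat.beq (actW_wSp213 i) i) 61272 666 = true := by decide +kernel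
theorem c_w_wSp213_93 : allRange (fun i => Nat.beq (actW_wSp213 i) i) 61938 666 = true := by decide +kernel
theorem c_w_wSp213_94 : allRange (fun i => Nat.beq (actW_wSp213 i) i) 62604 666 = true := by decide +kernel
theorem c_w_wSp213_95 : allRange (fun i => Nat.beq (actW_wSp213 i) i) 63270 72 = true := by decide +kernel
theorem c_w_wSp312_0 : allRange (fun i => Nat.beq (actW_wSp312 i) i) 0 666 = true := by decide +kernel
theorem c_w_wSp312_1 : allRange (fun i => Nat.beq (actW_wSp312 i) i) 666 666 = true := by decide +kernel
theorem c_w_wSp312_2 : allRange (fun i => Nat.beq (actW_wSp312 i) i) 1332 666 = true := by decide +kernel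
theorem c_w_wSp312_3 : allRange (fun i => Nat.beq (actW_wSp312 i) i) 1998 666 = true := by decide +kernel
theorem c_w_wSp312_4 : allRange (fun i => Nat.beq (actW_wSp312 i) i) 2664 666 = true := by decide +kernel
theorem c_w_wSp312_5 : allRange (fun i => Nat.beq (actW_wSp312 i) i) 3330 666 = true := by decide +kernel
theorem c_w_wSp312_6 : allRange (fun i => Nat.beq (actW_wSp312 i) i) 3996 666 = true := by decide +kernel
theorem c_w_wSp312_7 : allRange (fun i => Nat.beq (actW_wSp312 i) i) 4662 666 = true := by decide +kernel
theorem c_w_wSp312_8 : allRange (fun i => Nat.beq (actW_wSp312 i) i) 5328 666 = true := by decide +kernel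
theorem c_w_wSp312_9 : allRange (fun i => Nat.beq (actW_wSp312 i) i) 5994 666 = true := by decide +kernel
theorem c_w_wSp312_10 : allRange (fun i => Nat.beq (actW_wSp312 i) i) 6660 666 = true := by decide +kernel
theorem c_w_wSp312_11 : allRange (fun i => Nat.beq (actW_wSp312 i) i) 7326 666 = true := by decide +kernel
theorem c_w_wSp312_12 : allRange (fun i => Nat.beq (actW_wSp312 i) i) 7992 666 = true := by decide +kernel
theorem c_w_wSp312_13 : allRange (fun i => Nat.beq (actW_wSp312 i) i) 8658 666 = true := by decide +kernel
theorem c_w_wSp312_14 : allRange (fun i => Nat.beq (actW_wSp312 i) i) 9324 666 = true := by decide +kernel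
theorem c_w_wSp312_15 : allRange (fun i => Nat.beq (actW_wSp312 i) i) 9990 666 = true := by decide +kernel
theorem c_w_wSp312_16 : allRange (fun i => Nat.beq (actW_wSp312 i) i) 10656 666 = true := by decide +kernel
theorem c_w_wSp312_17 : allRange (fun i => Nat.beq (actW_wSp312 i) i) 11322 666 = true := by decide +kernel
theorem c_w_wSp312_18 : allRange (fun i => Nat.beq (actW_wSp312 i) i) 11988 666 = true := by decide +kernel

end Cfsg.Agent.Lib.Helper4.TCD.Y532R
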