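import Cfsg.Agent.Lib.Helper4.TCD_Y532R_Acc

namespace Cfsg.Agent.Lib.Helper4.TCD.Y532R

open Cfsg.Agent.Lib.Helper4.TC

set_option maxRecDepth 100000
set_option Elab.async false

theorem c_w_wSp312_19 : allRange (fun i => Nat.beq (actW_wSp312 i) i) 12654 666 = true := by decide +kernel
theorem c_w_wSp312_20 : allRange (fun i => Nat.beq (actW_wSp312 i) i) 13320 666 = true := by decide +kernel
theorem c_w_wSp312_21 : allRange (fun i => Nat.beq (actW_wSp312 i) i) 13986 666 = true := by decide +kernel
theorem c_w_wSp312_22 : allRange (fun i => Nat.beq (actW_wSp312 i) i) 14652 666 = true := by decide +kernel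
theorem c_w_wSp312_23 : allRange (fun i => Nat.beq (actW_wSp312 i) i) 15318 666 = true := by decide +kernel
theorem c_w_wSp312_24 : allRange (fun i => Nat.beq (actW_wSp312 i) i) 15984 666 = true := by decide +kernel
theorem c_w_wSp312_25 : allRange (fun i => Nat.beq (actW_wSp312 i) i) 16650 666 = true := by decide +kernel
theorem c_w_wSp312_26 : allRange (fun i => Nat.beq (actW_wSp312 i) i) 17316 666 = true := by decide +kernel
theorem c_w_wSp312_27 : allRange (fun i => Nat.beq (actW_wSp312 i) i) 17982 666 = true := by decide +kernel
theorem c_w_wSp312_28 : allRange (fun i => Nat.beq (actW_wSp312 i) i) 18648 666 = true := by decide +kernel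
theorem c_w_wSp312_29 : allRange (fun i => Nat.beq (actW_wSp312 i) i) 19314 666 = true := by decide +kernel
theorem c_w_wSp312_30 : allRange (fun i => Nat.beq (actW_wSp312 i) i) 19980 666 = true := by decide +kernel
theorem c_w_wSp312_31 : allRange (fun i => Nat.beq (actW_wSp312 i) i) 20646 666 = true := by decide +kernel
theorem c_w_wSp312_32 : allRange (fun i => Nat.beq (actW_wSp312 i) i) 21312 666 = true := by decide +kernel
theorem c_w_wSp312_33 : allRange (fun i => Nat.beq (actW_wSp312 i) i) 21978 666 = true := by decide +kernel
theorem c_w_wSp312_34 : allRange (fun i => Nat.beq (actW_wSp312 i) i) 22644 666 = true := by decide +kernel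
theorem c_w_wSp312_35 : allRange (fun i => Nat.beq (actW_wSp312 i) i) 23310 666 = true := by decide +kernel
theorem c_w_wSp312_36 : allRange (fun i => Nat.beq (actW_wSp312 i) i) 23976 666 = true := by decide +kernel
theorem c_w_wSp312_37 : allRange (fun i => Nat.beq (actW_wSp312 i) i) 24642 666 = true := by decide +kernel
theorem c_w_wSp312_38 : allRange (fun i => Nat.beq (actW_wSp312 i) i) 25308 666 = true := by decide +kernel
theorem c_w_wSp312_39 : allRange (fun i => Nat.beq (actW_wSp312 i) i) 25974 666 = true := by decide +kernel
theorem c_w_wSp312_40 : allRange (fun i => Nat.beq (actW_wSp312 i) i) 26640 666 = true := by decide +kernel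
theorem c_w_wSp312_41 : allRange (fun i => Nat.beq (actW_wSp312 i) i) 27306 666 = true := by decide +kernel
theorem c_w_wSp312_42 : allRange (fun i => Nat.beq (actW_wSp312 i) i) 27972 666 = true := by decide +kernel
theorem c_w_wSp312_43 : allRange (fun i => Nat.beq (actW_wSp312 i) i) 28638 666 = true := by decide +kernel
theorem c_w_wSp312_44 : allRange (fun i => Nat.beq (actW_wSp312 i) i) 29304 666 = true := by decide +kernel
theorem c_w_wSp312_45 : allRange (fun i => Nat.beq (actW_wSp312 i) i) 29970 666 = true := by decide +kernel
theorem c_w_wSp312_46 : allRange (fun i => Nat.beq (actW_wSp312 i) i) 30636 666 = true := by decide +kernel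
theorem c_w_wSp312_47 : allRange (fun i => Nat.beq (actW_wSp312 i) i) 31302 666 = true := by decide +kernel
theorem c_w_wSp312_48 : allRange (fun i => Nat.beq (actW_wSp312 i) i) 31968 666 = true := by decide +kernel
theorem c_w_wSp312_49 : allRange (fun i => Nat.beq (actW_wSp312 i) i) 32634 666 = true := by decide +kernel
theorem c_w_wSp312_50 : allRange (fun i => Nat.beq (actW_wSp312 i) i) 33300 666 = true := by decide +kernel
theorem c_w_wSp312_51 : allRange (fun i => Nat.beq (actW_wSp312 i) i) 33966 666 = true := by decide +kernel
theorem c_w_wSp312_52 : allRange (fun i => Nat.beq (actW_wSp312 i) i) 34632 666 = true := by decide +kernel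
theorem c_w_wSp312_53 : allRange (fun i => Nat.beq (actW_wSp312 i) i) 35298 666 = true := by decide +kernel
theorem c_w_wSp312_54 : allRange (fun i => Nat.beq (actW_wSp312 i) i) 35964 666 = true := by decide +kernel
theorem c_w_wSp312_55 : allRange (fun i => Nat.beq (actW_wSp312 i) i) 36630 666 = true := by decide +kernel
theorem c_w_wSp312_56 : allRange (fun i => Nat.beq (actW_wSp312 i) i) 37296 666 = true := by decide +kernel
theorem c_w_wSp312_57 : allRange (fun i => Nat.beq (actW_wSp312 i) i) 37962 666 = true := by decide +kernel
theorem c_w_wSp312_58 : allRange (fun i => Nat.beq (actW_wSp312 i) i) 38628 666 = true := by decide +kernel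
theorem c_w_wSp312_59 : allRange (fun i => Nat.beq (actW_wSp312 i) i) 39294 666 = true := by decide +kernel
theorem c_w_wSp312_60 : allRange (fun i => Nat.beq (actW_wSp312 i) i) 39960 666 = true := by decide +kernel
theorem c_w_wSp312_61 : allRange (fun i => Nat.beq (actW_wSp312 i) i) 40626 666 = true := by decide +kernel
theorem c_w_wSp312_62 : allRange (fun i => Nat.beq (actW_wSp312 i) i) 41292 666 = true := by decide +kernel
theorem c_w_wSp312_63 : allRange (fun i => Nat.beq (actW_wSp312 i) i) 41958 666 = true := by decide +kernel
theorem c_w_wSp312_64 : allRange (fun i => Nat.beq (actW_wSp312 i) i) 42624 666 = true := by decide +kernel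
theorem c_w_wSp312_65 : allRange (fun i => Nat.beq (actW_wSp312 i) i) 43290 666 = true := by decide +kernel
theorem c_w_wSp312_66 : allRange (fun i => Nat.beq (actW_wSp312 i) i) 43956 666 = true := by decide +kernel
theorem c_w_wSp312_67 : allRange (fun i => Nat.beq (actW_wSp312 i) i) 44622 666 = true := by decide +kernel
theorem c_w_wSp312_68 : allRange (fun i => Nat.beq (actW_wSp312 i) i) 45288 666 = true := by decide +kernel

end Cfsg.Agent.Lib.Helper4.TCD.Y532R
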