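import Cfsg.Agent.Lib.Helper4.TCD_Y532R_Acc

namespace Cfsg.Agent.Lib.Helper4.TCD.Y532R

open Cfsg.Agent.Lib.Helper4.TC

set_option maxRecDepth 100000
set_option Elab.async false

theorem c_w_wSp312_69 : allRange (fun i => Nat.beq (actW_wSp312 i) i) 45954 666 = true := by decide +kernel
theorem c_w_wSp312_70 : allRange (fun i => Nat.beq (actW_wSp312 i) i) 46620 666 = true := by decide +kernel
theorem c_w_wSp312_71 : allRange (fun i => Nat.beq (actW_wSp312 i) i) 47286 666 = true := by decide +kernel
theorem c_w_wSp312_72 : allRange (fun i => Nat.beq (actW_wSp312 i) i) 47952 666 = true := by decide +kernel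
theorem c_w_wSp312_73 : allRange (fun i => Nat.beq (actW_wSp312 i) i) 48618 666 = true := by decide +kernel
theorem c_w_wSp312_74 : allRange (fun i => Nat.beq (actW_wSp312 i) i) 49284 666 = true := by decide +kernel
theorem c_w_wSp312_75 : allRange (fun i => Nat.beq (actW_wSp312 i) i) 49950 666 = true := by decide +kernel
theorem c_w_wSp312_76 : allRange (fun i => Nat.beq (actW_wSp312 i) i) 50616 666 = true := by decide +kernel
theorem c_w_wSp312_77 : allRange (fun i => Nat.beq (actW_wSp312 i) i) 51282 666 = true := by decide +kernel
theorem c_w_wSp312_78 : allRange (fun i => Nat.beq (actW_wSp312 i) i) 51948 666 = true := by decide +kernel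
theorem c_w_wSp312_79 : allRange (fun i => Nat.beq (actW_wSp312 i) i) 52614 666 = true := by decide +kernel
theorem c_w_wSp312_80 : allRange (fun i => Nat.beq (actW_wSp312 i) i) 53280 666 = true := by decide +kernel
theorem c_w_wSp312_81 : allRange (fun i => Nat.beq (actW_wSp312 i) i) 53946 666 = true := by decide +kernel
theorem c_w_wSp312_82 : allRange (fun i => Nat.beq (actW_wSp312 i) i) 54612 666 = true := by decide +kernel
theorem c_w_wSp312_83 : allRange (fun i => Nat.beq (actW_wSp312 i) i) 55278 666 = true := by decide +kernel
theorem c_w_wSp312_84 : allRange (fun i => Nat.beq (actW_wSp312 i) i) 55944 666 = true := by decide +kernel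
theorem c_w_wSp312_85 : allRange (fun i => Nat.beq (actW_wSp312 i) i) 56610 666 = true := by decide +kernel
theorem c_w_wSp312_86 : allRange (fun i => Nat.beq (actW_wSp312 i) i) 57276 666 = true := by decide +kernel
theorem c_w_wSp312_87 : allRange (fun i => Nat.beq (actW_wSp312 i) i) 57942 666 = true := by decide +kernel
theorem c_w_wSp312_88 : allRange (fun i => Nat.beq (actW_wSp312 i) i) 58608 666 = true := by decide +kernel
theorem c_w_wSp312_89 : allRange (fun i => Nat.beq (actW_wSp312 i) i) 59274 666 = true := by decide +kernel
theorem c_w_wSp312_90 : allRange (fun i => Nat.beq (actW_wSp312 i) i) 59940 666 = true := by decide +kernel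
theorem c_w_wSp312_91 : allRange (fun i => Nat.beq (actW_wSp312 i) i) 60606 666 = true := by decide +kernel
theorem c_w_wSp312_92 : allRange (fun i => Nat.beq (actW_wSp312 i) i) 61272 666 = true := by decide +kernel
theorem c_w_wSp312_93 : allRange (fun i => Nat.beq (actW_wSp312 i) i) 61938 666 = true := by decide +kernel
theorem c_w_wSp312_94 : allRange (fun i => Nat.beq (actW_wSp312 i) i) 62604 666 = true := by decide +kernel
theorem c_w_wSp312_95 : allRange (fun i => Nat.beq (actW_wSp312 i) i) 63270 72 = true := by decide +kernel

end Cfsg.Agent.Lib.Helper4.TCD.Y532R
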