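import Cfsg.Agent.Lib.Helper4.TCD_Y532R_Acc

namespace Cfsg.Agent.Lib.Helper4.TCD.Y532R

open Cfsg.Agent.Lib.Helper4.TC

set_option maxRecDepth 100000
set_option Elab.async false

theorem c_act65_0 : allRange (fun i => Nat.beq (actR65 i) i) 0 30000 = true := by decide +kernel
theorem c_act65_1 : allRange (fun i => Nat.beq (actR65 i) i) 30000 30000 = true := by decide +kernel
theorem c_act65_2 : allRange (fun i => Nat.beq (actR65 i) i) 60000 3342 = true := by decide +kernel
theorem c_act66_0 : allRange (fun i => Nat.beq (actR66 i) i) 0 666 = true := by decide +kernel
theorem c_act66_1 : allRange (fun i => Nat.beq (actR66 i) i) 666 666 = true := by decide +kernel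
theorem c_act66_2 : allRange (fun i => Nat.beq (actR66 i) i) 1332 666 = true := by decide +kernel
theorem c_act66_3 : allRange (fun i => Nat.beq (actR66 i) i) 1998 666 = true := by decide +kernel
theorem c_act66_4 : allRange (fun i => Nat.beq (actR66 i) i) 2664 666 = true := by decide +kernel
theorem c_act66_5 : allRange (fun i => Nat.beq (actR66 i) i) 3330 666 = true := by decide +kernel
theorem c_act66_6 : allRange (fun i => Nat.beq (actR66 i) i) 3996 666 = true := by decide +kernel
theorem c_act66_7 : allRange (fun i => Nat.beq (actR66 i) i) 4662 666 = true := by decide +kernel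
theorem c_act66_8 : allRange (fun i => Nat.beq (actR66 i) i) 5328 666 = true := by decide +kernel
theorem c_act66_9 : allRange (fun i => Nat.beq (actR66 i) i) 5994 666 = true := by decide +kernel
theorem c_act66_10 : allRange (fun i => Nat.beq (actR66 i) i) 6660 666 = true := by decide +kernel
theorem c_act66_11 : allRange (fun i => Nat.beq (actR66 i) i) 7326 666 = true := by decide +kernel
theorem c_act66_12 : allRange (fun i => Nat.beq (actR66 i) i) 7992 666 = true := by decide +kernel
theorem c_act66_13 : allRange (fun i => Nat.beq (actR66 i) i) 8658 666 = true := by decide +kernel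
theorem c_act66_14 : allRange (fun i => Nat.beq (actR66 i) i) 9324 666 = true := by decide +kernel
theorem c_act66_15 : allRange (fun i => Nat.beq (actR66 i) i) 9990 666 = true := by decide +kernel
theorem c_act66_16 : allRange (fun i => Nat.beq (actR66 i) i) 10656 666 = true := by decide +kernel
theorem c_act66_17 : allRange (fun i => Nat.beq (actR66 i) i) 11322 666 = true := by decide +kernel
theorem c_act66_18 : allRange (fun i => Nat.beq (actR66 i) i) 11988 666 = true := by decide +kernel
theorem c_act66_19 : allRange (fun i => Nat.beq (actR66 i) i) 12654 666 = true := by decide +kernel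
theorem c_act66_20 : allRange (fun i => Nat.beq (actR66 i) i) 13320 666 = true := by decide +kernel
theorem c_act66_21 : allRange (fun i => Nat.beq (actR66 i) i) 13986 666 = true := by decide +kernel
theorem c_act66_22 : allRange (fun i => Nat.beq (actR66 i) i) 14652 666 = true := by decide +kernel
theorem c_act66_23 : allRange (fun i => Nat.beq (actR66 i) i) 15318 666 = true := by decide +kernel
theorem c_act66_24 : allRange (fun i => Nat.beq (actR66 i) i) 15984 666 = true := by decide +kernel
theorem c_act66_25 : allRange (fun i => Nat.beq (actR66 i) i) 16650 666 = true := by decide +kernel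
theorem c_act66_26 : allRange (fun i => Nat.beq (actR66 i) i) 17316 666 = true := by decide +kernel
theorem c_act66_27 : allRange (fun i => Nat.beq (actR66 i) i) 17982 666 = true := by decide +kernel
theorem c_act66_28 : allRange (fun i => Nat.beq (actR66 i) i) 18648 666 = true := by decide +kernel
theorem c_act66_29 : allRange (fun i => Nat.beq (actR66 i) i) 19314 666 = true := by decide +kernel
theorem c_act66_30 : allRange (fun i => Nat.beq (actR66 i) i) 19980 666 = true := by decide +kernel
theorem c_act66_31 : allRange (fun i => Nat.beq (actR66 i) i) 20646 666 = true := by decide +kernel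
theorem c_act66_32 : allRange (fun i => Nat.beq (actR66 i) i) 21312 666 = true := by decide +kernel
theorem c_act66_33 : allRange (fun i => Nat.beq (actR66 i) i) 21978 666 = true := by decide +kernel
theorem c_act66_34 : allRange (fun i => Nat.beq (actR66 i) i) 22644 666 = true := by decide +kernel
theorem c_act66_35 : allRange (fun i => Nat.beq (actR66 i) i) 23310 666 = true := by decide +kernel
theorem c_act66_36 : allRange (fun i => Nat.beq (actR66 i) i) 23976 666 = true := by decide +kernel
theorem c_act66_37 : allRange (fun i => Nat.beq (actR66 i) i) 24642 666 = true := by decide +kernel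
theorem c_act66_38 : allRange (fun i => Nat.beq (actR66 i) i) 25308 666 = true := by decide +kernel
theorem c_act66_39 : allRange (fun i => Nat.beq (actR66 i) i) 25974 666 = true := by decide +kernel
theorem c_act66_40 : allRange (fun i => Nat.beq (actR66 i) i) 26640 666 = true := by decide +kernel
theorem c_act66_41 : allRange (fun i => Nat.beq (actR66 i) i) 27306 666 = true := by decide +kernel
theorem c_act66_42 : allRange (fun i => Nat.beq (actR66 i) i) 27972 666 = true := by decide +kernel
theorem c_act66_43 : allRange (fun i => Nat.beq (actR66 i) i) 28638 666 = true := by decide +kernel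
theorem c_act66_44 : allRange (fun i => Nat.beq (actR66 i) i) 29304 666 = true := by decide +kernel
theorem c_act66_45 : allRange (fun i => Nat.beq (actR66 i) i) 29970 666 = true := by decide +kernel
theorem c_act66_46 : allRange (fun i => Nat.beq (actR66 i) i) 30636 666 = true := by decide +kernel

end Cfsg.Agent.Lib.Helper4.TCD.Y532R
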