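import Cfsg.Agent.Lib.Helper4.TCD_Y532R_Acc

namespace Cfsg.Agent.Lib.Helper4.TCD.Y532R

open Cfsg.Agent.Lib.Helper4.TC

set_option maxRecDepth 100000
set_option Elab.async false

theorem c_act66_47 : allRange (fun i => Nat.beq (actR66 i) i) 31302 666 = true := by decide +kernel
theorem c_act66_48 : allRange (fun i => Nat.beq (actR66 i) i) 31968 666 = true := by decide +kernel
theorem c_act66_49 : allRange (fun i => Nat.beq (actR66 i) i) 32634 666 = true := by decide +kernel
theorem c_act66_50 : allRange (fun i => Nat.beq (actR66 i) i) 33300 666 = true := by decide +kernel
theorem c_act66_51 : allRange (fun i => Nat.beq (actR66 i) i) 33966 666 = true := by decide +kernel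
theorem c_act66_52 : allRange (fun i => Nat.beq (actR66 i) i) 34632 666 = true := by decide +kernel
theorem c_act66_53 : allRange (fun i => Nat.beq (actR66 i) i) 35298 666 = true := by decide +kernel
theorem c_act66_54 : allRange (fun i => Nat.beq (actR66 i) i) 35964 666 = true := by decide +kernel
theorem c_act66_55 : allRange (fun i => Nat.beq (actR66 i) i) 36630 666 = true := by decide +kernel
theorem c_act66_56 : allRange (fun i => Nat.beq (actR66 i) i) 37296 666 = true := by decide +kernel
theorem c_act66_57 : allRange (fun i => Nat.beq (actR66 i) i) 37962 666 = true := by decide +kernel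
theorem c_act66_58 : allRange (fun i => Nat.beq (actR66 i) i) 38628 666 = true := by decide +kernel
theorem c_act66_59 : allRange (fun i => Nat.beq (actR66 i) i) 39294 666 = true := by decide +kernel
theorem c_act66_60 : allRange (fun i => Nat.beq (actR66 i) i) 39960 666 = true := by decide +kernel
theorem c_act66_61 : allRange (fun i => Nat.beq (actR66 i) i) 40626 666 = true := by decide +kernel
theorem c_act66_62 : allRange (fun i => Nat.beq (actR66 i) i) 41292 666 = true := by decide +kernel
theorem c_act66_63 : allRange (fun i => Nat.beq (actR66 i) i) 41958 666 = true := by decide +kernel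
theorem c_act66_64 : allRange (fun i => Nat.beq (actR66 i) i) 42624 666 = true := by decide +kernel
theorem c_act66_65 : allRange (fun i => Nat.beq (actR66 i) i) 43290 666 = true := by decide +kernel
theorem c_act66_66 : allRange (fun i => Nat.beq (actR66 i) i) 43956 666 = true := by decide +kernel
theorem c_act66_67 : allRange (fun i => Nat.beq (actR66 i) i) 44622 666 = true := by decide +kernel
theorem c_act66_68 : allRange (fun i => Nat.beq (actR66 i) i) 45288 666 = true := by decide +kernel
theorem c_act66_69 : allRange (fun i => Nat.beq (actR66 i) i) 45954 666 = true := by decide +kernel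
theorem c_act66_70 : allRange (fun i => Nat.beq (actR66 i) i) 46620 666 = true := by decide +kernel
theorem c_act66_71 : allRange (fun i => Nat.beq (actR66 i) i) 47286 666 = true := by decide +kernel
theorem c_act66_72 : allRange (fun i => Nat.beq (actR66 i) i) 47952 666 = true := by decide +kernel
theorem c_act66_73 : allRange (fun i => Nat.beq (actR66 i) i) 48618 666 = true := by decide +kernel
theorem c_act66_74 : allRange (fun i => Nat.beq (actR66 i) i) 49284 666 = true := by decide +kernel
theorem c_act66_75 : allRange (fun i => Nat.beq (actR66 i) i) 49950 666 = true := by decide +kernel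
theorem c_act66_76 : allRange (fun i => Nat.beq (actR66 i) i) 50616 666 = true := by decide +kernel
theorem c_act66_77 : allRange (fun i => Nat.beq (actR66 i) i) 51282 666 = true := by decide +kernel
theorem c_act66_78 : allRange (fun i => Nat.beq (actR66 i) i) 51948 666 = true := by decide +kernel
theorem c_act66_79 : allRange (fun i => Nat.beq (actR66 i) i) 52614 666 = true := by decide +kernel
theorem c_act66_80 : allRange (fun i => Nat.beq (actR66 i) i) 53280 666 = true := by decide +kernel
theorem c_act66_81 : allRange (fun i => Nat.beq (actR66 i) i) 53946 666 = true := by decide +kernel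
theorem c_act66_82 : allRange (fun i => Nat.beq (actR66 i) i) 54612 666 = true := by decide +kernel
theorem c_act66_83 : allRange (fun i => Nat.beq (actR66 i) i) 55278 666 = true := by decide +kernel
theorem c_act66_84 : allRange (fun i => Nat.beq (actR66 i) i) 55944 666 = true := by decide +kernel
theorem c_act66_85 : allRange (fun i => Nat.beq (actR66 i) i) 56610 666 = true := by decide +kernel
theorem c_act66_86 : allRange (fun i => Nat.beq (actR66 i) i) 57276 666 = true := by decide +kernel
theorem c_act66_87 : allRange (fun i => Nat.beq (actR66 i) i) 57942 666 = true := by decide +kernel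
theorem c_act66_88 : allRange (fun i => Nat.beq (actR66 i) i) 58608 666 = true := by decide +kernel
theorem c_act66_89 : allRange (fun i => Nat.beq (actR66 i) i) 59274 666 = true := by decide +kernel
theorem c_act66_90 : allRange (fun i => Nat.beq (actR66 i) i) 59940 666 = true := by decide +kernel
theorem c_act66_91 : allRange (fun i => Nat.beq (actR66 i) i) 60606 666 = true := by decide +kernel
theorem c_act66_92 : allRange (fun i => Nat.beq (actR66 i) i) 61272 666 = true := by decide +kernel
theorem c_act66_93 : allRange (fun i => Nat.beq (actR66 i) i) 61938 666 = true := by decide +kernel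
theorem c_act66_94 : allRange (fun i => Nat.beq (actR66 i) i) 62604 666 = true := by decide +kernel
theorem c_act66_95 : allRange (fun i => Nat.beq (actR66 i) i) 63270 72 = true := by decide +kernel
theorem c_w_wRel1_0 : allRange (fun i => Nat.beq (actW_wRel1 i) i) 0 937 = true := by decide +kernel

end Cfsg.Agent.Lib.Helper4.TCD.Y532R
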