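import Cfsg.Agent.Lib.Helper4.TCD_Y532R_Acc

namespace Cfsg.Agent.Lib.Helper4.TCD.Y532R

open Cfsg.Agent.Lib.Helper4.TC

set_option maxRecDepth 100000
set_option Elab.async false

theorem c_w_wRel1_1 : allRange (fun i => Nat.beq (actW_wRel1 i) i) 937 937 = true := by decide +kernel
theorem c_w_wRel1_2 : allRange (fun i => Nat.beq (actW_wRel1 i) i) 1874 937 = true := by decide +kernel
theorem c_w_wRel1_3 : allRange (fun i => Nat.beq (actW_wRel1 i) i) 2811 937 = true := by decide +kernel
theorem c_w_wRel1_4 : allRange (fun i => Nat.beq (actW_wRel1 i) i) 3748 937 = true := by decide +kernel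
theorem c_w_wRel1_5 : allRange (fun i => Nat.beq (actW_wRel1 i) i) 4685 937 = true := by decide +kernel
theorem c_w_wRel1_6 : allRange (fun i => Nat.beq (actW_wRel1 i) i) 5622 937 = true := by decide +kernel
theorem c_w_wRel1_7 : allRange (fun i => Nat.beq (actW_wRel1 i) i) 6559 937 = true := by decide +kernel
theorem c_w_wRel1_8 : allRange (fun i => Nat.beq (actW_wRel1 i) i) 7496 937 = true := by decide +kernel
theorem c_w_wRel1_9 : allRange (fun i => Nat.beq (actW_wRel1 i) i) 8433 937 = true := by decide +kernel
theorem c_w_wRel1_10 : allRange (fun i => Nat.beq (actW_wRel1 i) i) 9370 937 = true := by decide +kernel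
theorem c_w_wRel1_11 : allRange (fun i => Nat.beq (actW_wRel1 i) i) 10307 937 = true := by decide +kernel
theorem c_w_wRel1_12 : allRange (fun i => Nat.beq (actW_wRel1 i) i) 11244 937 = true := by decide +kernel
theorem c_w_wRel1_13 : allRange (fun i => Nat.beq (actW_wRel1 i) i) 12181 937 = true := by decide +kernel
theorem c_w_wRel1_14 : allRange (fun i => Nat.beq (actW_wRel1 i) i) 13118 937 = true := by decide +kernel
theorem c_w_wRel1_15 : allRange (fun i => Nat.beq (actW_wRel1 i) i) 14055 937 = true := by decide +kernel
theorem c_w_wRel1_16 : allRange (fun i => Nat.beq (actW_wRel1 i) i) 14992 937 = true := by decide +kernel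
theorem c_w_wRel1_17 : allRange (fun i => Nat.beq (actW_wRel1 i) i) 15929 937 = true := by decide +kernel
theorem c_w_wRel1_18 : allRange (fun i => Nat.beq (actW_wRel1 i) i) 16866 937 = true := by decide +kernel
theorem c_w_wRel1_19 : allRange (fun i => Nat.beq (actW_wRel1 i) i) 17803 937 = true := by decide +kernel
theorem c_w_wRel1_20 : allRange (fun i => Nat.beq (actW_wRel1 i) i) 18740 937 = true := by decide +kernel
theorem c_w_wRel1_21 : allRange (fun i => Nat.beq (actW_wRel1 i) i) 19677 937 = true := by decide +kernel
theorem c_w_wRel1_22 : allRange (fun i => Nat.beq (actW_wRel1 i) i) 20614 937 = true := by decide +kernel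
theorem c_w_wRel1_23 : allRange (fun i => Nat.beq (actW_wRel1 i) i) 21551 937 = true := by decide +kernel
theorem c_w_wRel1_24 : allRange (fun i => Nat.beq (actW_wRel1 i) i) 22488 937 = true := by decide +kernel
theorem c_w_wRel1_25 : allRange (fun i => Nat.beq (actW_wRel1 i) i) 23425 937 = true := by decide +kernel
theorem c_w_wRel1_26 : allRange (fun i => Nat.beq (actW_wRel1 i) i) 24362 937 = true := by decide +kernel
theorem c_w_wRel1_27 : allRange (fun i => Nat.beq (actW_wRel1 i) i) 25299 937 = true := by decide +kernel
theorem c_w_wRel1_28 : allRange (fun i => Nat.beq (actW_wRel1 i) i) 26236 937 = true := by decide +kernel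
theorem c_w_wRel1_29 : allRange (fun i => Nat.beq (actW_wRel1 i) i) 27173 937 = true := by decide +kernel
theorem c_w_wRel1_30 : allRange (fun i => Nat.beq (actW_wRel1 i) i) 28110 937 = true := by decide +kernel
theorem c_w_wRel1_31 : allRange (fun i => Nat.beq (actW_wRel1 i) i) 29047 937 = true := by decide +kernel
theorem c_w_wRel1_32 : allRange (fun i => Nat.beq (actW_wRel1 i) i) 29984 937 = true := by decide +kernel
theorem c_w_wRel1_33 : allRange (fun i => Nat.beq (actW_wRel1 i) i) 30921 937 = true := by decide +kernel
theorem c_w_wRel1_34 : allRange (fun i => Nat.beq (actW_wRel1 i) i) 31858 937 = true := by decide +kernel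
theorem c_w_wRel1_35 : allRange (fun i => Nat.beq (actW_wRel1 i) i) 32795 937 = true := by decide +kernel
theorem c_w_wRel1_36 : allRange (fun i => Nat.beq (actW_wRel1 i) i) 33732 937 = true := by decide +kernel
theorem c_w_wRel1_37 : allRange (fun i => Nat.beq (actW_wRel1 i) i) 34669 937 = true := by decide +kernel
theorem c_w_wRel1_38 : allRange (fun i => Nat.beq (actW_wRel1 i) i) 35606 937 = true := by decide +kernel
theorem c_w_wRel1_39 : allRange (fun i => Nat.beq (actW_wRel1 i) i) 36543 937 = true := by decide +kernel
theorem c_w_wRel1_40 : allRange (fun i => Nat.beq (actW_wRel1 i) i) 37480 937 = true := by decide +kernel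
theorem c_w_wRel1_41 : allRange (fun i => Nat.beq (actW_wRel1 i) i) 38417 937 = true := by decide +kernel
theorem c_w_wRel1_42 : allRange (fun i => Nat.beq (actW_wRel1 i) i) 39354 937 = true := by decide +kernel
theorem c_w_wRel1_43 : allRange (fun i => Nat.beq (actW_wRel1 i) i) 40291 937 = true := by decide +kernel
theorem c_w_wRel1_44 : allRange (fun i => Nat.beq (actW_wRel1 i) i) 41228 937 = true := by decide +kernel
theorem c_w_wRel1_45 : allRange (fun i => Nat.beq (actW_wRel1 i) i) 42165 937 = true := by decide +kernel
theorem c_w_wRel1_46 : allRange (fun i => Nat.beq (actW_wRel1 i) i) 43102 937 = true := by decide +kernel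
theorem c_w_wRel1_47 : allRange (fun i => Nat.beq (actW_wRel1 i) i) 44039 937 = true := by decide +kernel
theorem c_w_wRel1_48 : allRange (fun i => Nat.beq (actW_wRel1 i) i) 44976 937 = true := by decide +kernel
theorem c_w_wRel1_49 : allRange (fun i => Nat.beq (actW_wRel1 i) i) 45913 937 = true := by decide +kernel
theorem c_w_wRel1_50 : allRange (fun i => Nat.beq (actW_wRel1 i) i) 46850 937 = true := by decide +kernel

end Cfsg.Agent.Lib.Helper4.TCD.Y532R
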