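import Cfsg.Agent.Lib.Helper4.TCD_Y532R_Acc

namespace Cfsg.Agent.Lib.Helper4.TCD.Y532R

open Cfsg.Agent.Lib.Helper4.TC

set_option maxRecDepth 100000
set_option Elab.async false

theorem c_w_wRel1_51 : allRange (fun i => Nat.beq (actW_wRel1 i) i) 47787 937 = true := by decide +kernel
theorem c_w_wRel1_52 : allRange (fun i => Nat.beq (actW_wRel1 i) i) 48724 937 = true := by decide +kernel
theorem c_w_wRel1_53 : allRange (fun i => Nat.beq (actW_wRel1 i) i) 49661 937 = true := by decide +kernel
theorem c_w_wRel1_54 : allRange (fun i => Nat.beq (actW_wRel1 i) i) 50598 937 = true := by decide +kernel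
theorem c_w_wRel1_55 : allRange (fun i => Nat.beq (actW_wRel1 i) i) 51535 937 = true := by decide +kernel
theorem c_w_wRel1_56 : allRange (fun i => Nat.beq (actW_wRel1 i) i) 52472 937 = true := by decide +kernel
theorem c_w_wRel1_57 : allRange (fun i => Nat.beq (actW_wRel1 i) i) 53409 937 = true := by decide +kernel
theorem c_w_wRel1_58 : allRange (fun i => Nat.beq (actW_wRel1 i) i) 54346 937 = true := by decide +kernel
theorem c_w_wRel1_59 : allRange (fun i => Nat.beq (actW_wRel1 i) i) 55283 937 = true := by decide +kernel
theorem c_w_wRel1_60 : allRange (fun i => Nat.beq (actW_wRel1 i) i) 56220 937 = true := by decide +kernel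
theorem c_w_wRel1_61 : allRange (fun i => Nat.beq (actW_wRel1 i) i) 57157 937 = true := by decide +kernel
theorem c_w_wRel1_62 : allRange (fun i => Nat.beq (actW_wRel1 i) i) 58094 937 = true := by decide +kernel
theorem c_w_wRel1_63 : allRange (fun i => Nat.beq (actW_wRel1 i) i) 59031 937 = true := by decide +kernel
theorem c_w_wRel1_64 : allRange (fun i => Nat.beq (actW_wRel1 i) i) 59968 937 = true := by decide +kernel
theorem c_w_wRel1_65 : allRange (fun i => Nat.beq (actW_wRel1 i) i) 60905 937 = true := by decide +kernel
theorem c_w_wRel1_66 : allRange (fun i => Nat.beq (actW_wRel1 i) i) 61842 937 = true := by decide +kernel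
theorem c_w_wRel1_67 : allRange (fun i => Nat.beq (actW_wRel1 i) i) 62779 563 = true := by decide +kernel
theorem c_w_wRel2_0 : allRange (fun i => Nat.beq (actW_wRel2 i) i) 0 937 = true := by decide +kernel
theorem c_w_wRel2_1 : allRange (fun i => Nat.beq (actW_wRel2 i) i) 937 937 = true := by decide +kernel
theorem c_w_wRel2_2 : allRange (fun i => Nat.beq (actW_wRel2 i) i) 1874 937 = true := by decide +kernel
theorem c_w_wRel2_3 : allRange (fun i => Nat.beq (actW_wRel2 i) i) 2811 937 = true := by decide +kernel
theorem c_w_wRel2_4 : allRange (fun i => Nat.beq (actW_wRel2 i) i) 3748 937 = true := by decide +kernel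
theorem c_w_wRel2_5 : allRange (fun i => Nat.beq (actW_wRel2 i) i) 4685 937 = true := by decide +kernel
theorem c_w_wRel2_6 : allRange (fun i => Nat.beq (actW_wRel2 i) i) 5622 937 = true := by decide +kernel
theorem c_w_wRel2_7 : allRange (fun i => Nat.beq (actW_wRel2 i) i) 6559 937 = true := by decide +kernel
theorem c_w_wRel2_8 : allRange (fun i => Nat.beq (actW_wRel2 i) i) 7496 937 = true := by decide +kernel
theorem c_w_wRel2_9 : allRange (fun i => Nat.beq (actW_wRel2 i) i) 8433 937 = true := by decide +kernel
theorem c_w_wRel2_10 : allRange (fun i => Nat.beq (actW_wRel2 i) i) 9370 937 = true := by decide +kernel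
theorem c_w_wRel2_11 : allRange (fun i => Nat.beq (actW_wRel2 i) i) 10307 937 = true := by decide +kernel
theorem c_w_wRel2_12 : allRange (fun i => Nat.beq (actW_wRel2 i) i) 11244 937 = true := by decide +kernel
theorem c_w_wRel2_13 : allRange (fun i => Nat.beq (actW_wRel2 i) i) 12181 937 = true := by decide +kernel
theorem c_w_wRel2_14 : allRange (fun i => Nat.beq (actW_wRel2 i) i) 13118 937 = true := by decide +kernel
theorem c_w_wRel2_15 : allRange (fun i => Nat.beq (actW_wRel2 i) i) 14055 937 = true := by decide +kernel
theorem c_w_wRel2_16 : allRange (fun i => Nat.beq (actW_wRel2 i) i) 14992 937 = true := by decide +kernel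
theorem c_w_wRel2_17 : allRange (fun i => Nat.beq (actW_wRel2 i) i) 15929 937 = true := by decide +kernel
theorem c_w_wRel2_18 : allRange (fun i => Nat.beq (actW_wRel2 i) i) 16866 937 = true := by decide +kernel
theorem c_w_wRel2_19 : allRange (fun i => Nat.beq (actW_wRel2 i) i) 17803 937 = true := by decide +kernel
theorem c_w_wRel2_20 : allRange (fun i => Nat.beq (actW_wRel2 i) i) 18740 937 = true := by decide +kernel
theorem c_w_wRel2_21 : allRange (fun i => Nat.beq (actW_wRel2 i) i) 19677 937 = true := by decide +kernel
theorem c_w_wRel2_22 : allRange (fun i => Nat.beq (actW_wRel2 i) i) 20614 937 = true := by decide +kernel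
theorem c_w_wRel2_23 : allRange (fun i => Nat.beq (actW_wRel2 i) i) 21551 937 = true := by decide +kernel
theorem c_w_wRel2_24 : allRange (fun i => Nat.beq (actW_wRel2 i) i) 22488 937 = true := by decide +kernel
theorem c_w_wRel2_25 : allRange (fun i => Nat.beq (actW_wRel2 i) i) 23425 937 = true := by decide +kernel
theorem c_w_wRel2_26 : allRange (fun i => Nat.beq (actW_wRel2 i) i) 24362 937 = true := by decide +kernel
theorem c_w_wRel2_27 : allRange (fun i => Nat.beq (actW_wRel2 i) i) 25299 937 = true := by decide +kernel
theorem c_w_wRel2_28 : allRange (fun i => Nat.beq (actW_wRel2 i) i) 26236 937 = true := by decide +kernel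
theorem c_w_wRel2_29 : allRange (fun i => Nat.beq (actW_wRel2 i) i) 27173 937 = true := by decide +kernel
theorem c_w_wRel2_30 : allRange (fun i => Nat.beq (actW_wRel2 i) i) 28110 937 = true := by decide +kernel
theorem c_w_wRel2_31 : allRange (fun i => Nat.beq (actW_wRel2 i) i) 29047 937 = true := by decide +kernel
theorem c_w_wRel2_32 : allRange (fun i => Nat.beq (actW_wRel2 i) i) 29984 937 = true := by decide +kernel

end Cfsg.Agent.Lib.Helper4.TCD.Y532R
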