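import Cfsg.Agent.Lib.Helper4.TCD_Y532R_C0
import Cfsg.Agent.Lib.Helper4.TCD_Y532R_C1
import Cfsg.Agent.Lib.Helper4.TCD_Y532R_C2
import Cfsg.Agent.Lib.Helper4.TCD_Y532R_C3
import Cfsg.Agent.Lib.Helper4.TCD_Y532R_C4
import Cfsg.Agent.Lib.Helper4.TCD_Y532R_C5
import Cfsg.Agent.Lib.Helper4.TCD_Y532R_C6
import Cfsg.Agent.Lib.Helper4.TCD_Y532R_C7
import Cfsg.Agent.Lib.Helper4.TCD_Y532R_C8
import Cfsg.Agent.Lib.Helper4.TCD_Y532R_C9
import Cfsg.Agent.Lib.Helper4.TCD_Y532R_C10
import Cfsg.Agent.Lib.Helper4.TCD_Y532R_C11
import Cfsg.Agent.Lib.Helper4.TCD_Y532R_C12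
import Cfsg.Agent.Lib.Helper4.TCD_Y532R_C13
import Cfsg.Agent.Lib.Helper4.TCD_Y532R_C14

namespace Cfsg.Agent.Lib.Helper4.TCD.Y532R

open Cfsg.Agent.Lib.Helper4.TC

theorem h_perm : ∀ i, 0 ≤ i → i < 63342 → ∀ x, x < 11 → T.permOK1 D i x = true :=
  (range_glue (range_of_allGrid c_perm_0) (range_glue (range_of_allGrid c_perm_1) (range_glue (range_of_allGrid c_perm_2) (range_glue (range_of_allGrid c_perm_3) (range_glue (range_of_allGrid c_perm_4) (range_glue (range_of_allGrid c_perm_5) (range_glue (range_of_allGrid c_perm_6) (range_glue (range_of_allGrid c_perm_7) (range_glue (range_of_allGrid c_perm_8) (range_glue (range_of_allGrid c_perm_9) (range_glue (range_of_allGrid c_perm_10) (range_glue (range_of_allGrid c_perm_11) (range_glue (range_of_allGrid c_perm_12) (range_glue (range_of_allGrid c_perm_13) (range_glue (range_of_allGrid c_perm_14) (range_glue (range_of_allGrid c_perm_15) (range_glue (range_of_allGrid c_perm_16) (range_glue (range_of_allGrid c_perm_17) (range_glue (range_of_allGrid c_perm_18) (range_glue (range_of_allGrid c_perm_19) (range_glue (range_of_allGrid c_perm_20)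 (range_glue (range_of_allGrid c_perm_21) (range_glue (range_of_allGrid c_perm_22) (range_of_allGrid c_perm_23))))))))))))))))))))))))
theorem h_act0 : ∀ i, 0 ≤ i → i < 63342 → Nat.beq (actR0 i) i = true :=
  (range_glue (range_of_allRange c_act0_0) (range_glue (range_of_allRange c_act0_1) (range_of_allRange c_act0_2)))
theorem h_act1 : ∀ i, 0 ≤ i → i < 63342 → Nat.beq (actR1 i) i = true :=
  (range_glue (range_of_allRange c_act1_0) (range_glue (range_of_allRange c_act1_1) (range_glue (range_of_allRange c_act1_2) (range_glue (range_of_allRange c_act1_3) (range_glue (range_of_allRange c_act1_4) (range_glue (range_of_allRange c_act1_5) (range_of_allRange c_act1_6)))))))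
theorem h_act2 : ∀ i, 0 ≤ i → i < 63342 → Nat.beq (actR2 i) i = true :=
  (range_glue (range_of_allRange c_act2_0) (range_glue (range_of_allRange c_act2_1) (range_glue (range_of_allRange c_act2_2) (range_glue (range_of_allRange c_act2_3) (range_of_allRange c_act2_4)))))
theorem h_act3 : ∀ i, 0 ≤ i → i < 63342 → Nat.beq (actR3 i) i = true :=
  (range_glue (range_of_allRange c_act3_0) (range_glue (range_of_allRange c_act3_1) (range_glue (range_of_allRange c_act3_2) (range_glue (range_of_allRange c_act3_3) (range_of_allRange c_act3_4)))))
theorem h_act4 : ∀ i, 0 ≤ i → i < 63342 → Nat.beq (actR4 i) i = true :=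
  (range_glue (range_of_allRange c_act4_0) (range_glue (range_of_allRange c_act4_1) (range_glue (range_of_allRange c_act4_2) (range_glue (range_of_allRange c_act4_3) (range_of_allRange c_act4_4)))))
theorem h_act5 : ∀ i, 0 ≤ i → i < 63342 → Nat.beq (actR5 i) i = true :=
  (range_glue (range_of_allRange c_act5_0) (range_glue (range_of_allRange c_act5_1) (range_glue (range_of_allRange c_act5_2) (range_glue (range_of_allRange c_act5_3) (range_of_allRange c_act5_4)))))
theorem h_act6 : ∀ i, 0 ≤ i → i < 63342 → Nat.beq (actR6 i) i = true :=
  (range_glue (range_of_allRange c_act6_0) (range_glue (range_of_allRange c_act6_1) (range_glue (range_of_allRange c_act6_2) (range_glue (range_of_allRange c_act6_3) (range_glue (range_of_allRange c_act6_4) (range_glue (range_of_allRange c_act6_5) (range_of_allRange c_act6_6)))))))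
theorem h_act7 : ∀ i, 0 ≤ i → i < 63342 → Nat.beq (actR7 i) i = true :=
  (range_glue (range_of_allRange c_act7_0) (range_glue (range_of_allRange c_act7_1) (range_glue (range_of_allRange c_act7_2) (range_glue (range_of_allRange c_act7_3) (range_of_allRange c_act7_4)))))
theorem h_act8 : ∀ i, 0 ≤ i → i < 63342 → Nat.beq (actR8 i) i = true :=
  (range_glue (range_of_allRange c_act8_0) (range_glue (range_of_allRange c_act8_1) (range_glue (range_of_allRange c_act8_2) (range_glue (range_of_allRange c_act8_3) (range_of_allRange c_act8_4)))))
theorem h_act9 : ∀ i, 0 ≤ i → i < 63342 → Nat.beq (actR9 i) i = true :=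
  (range_glue (range_of_allRange c_act9_0) (range_glue (range_of_allRange c_act9_1) (range_glue (range_of_allRange c_act9_2) (range_glue (range_of_allRange c_act9_3) (range_glue (range_of_allRange c_act9_4) (range_glue (range_of_allRange c_act9_5) (range_of_allRange c_act9_6)))))))
theorem h_act10 : ∀ i, 0 ≤ i → i < 63342 → Nat.beq (actR10 i) i = true :=
  (range_glue (range_of_allRange c_act10_0) (range_glue (range_of_allRange c_act10_1) (range_glue (range_of_allRange c_act10_2) (range_glue (range_of_allRange c_act10_3) (range_of_allRange c_act10_4)))))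
theorem h_act11 : ∀ i, 0 ≤ i → i < 63342 → Nat.beq (actR11 i) i = true :=
  (range_glue (range_of_allRange c_act11_0) (range_glue (range_of_allRange c_act11_1) (range_of_allRange c_act11_2)))
theorem h_act12 : ∀ i, 0 ≤ i → i < 63342 → Nat.beq (actR12 i) i = true :=
  (range_glue (range_of_allRange c_act12_0) (range_glue (range_of_allRange c_act12_1) (range_glue (range_of_allRange c_act12_2) (range_glue (range_of_allRange c_act12_3) (range_glue (range_of_allRange c_act12_4) (range_glue (range_of_allRange c_act12_5) (range_of_allRange c_act12_6)))))))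
theorem h_act13 : ∀ i, 0 ≤ i → i < 63342 → Nat.beq (actR13 i) i = true :=
  (range_glue (range_of_allRange c_act13_0) (range_glue (range_of_allRange c_act13_1) (range_glue (range_of_allRange c_act13_2) (range_glue (range_of_allRange c_act13_3) (range_of_allRange c_act13_4)))))
theorem h_act14 : ∀ i, 0 ≤ i → i < 63342 → Nat.beq (actR14 i) i = true :=
  (range_glue (range_of_allRange c_act14_0) (range_glue (range_of_allRange c_act14_1) (range_glue (range_of_allRange c_act14_2) (range_glue (range_of_allRange c_act14_3) (range_of_allRange c_act14_4)))))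
theorem h_act15 : ∀ i, 0 ≤ i → i < 63342 → Nat.beq (actR15 i) i = true :=
  (range_glue (range_of_allRange c_act15_0) (range_glue (range_of_allRange c_act15_1) (range_glue (range_of_allRange c_act15_2) (range_glue (range_of_allRange c_act15_3) (range_of_allRange c_act15_4)))))
theorem h_act16 : ∀ i, 0 ≤ i → i < 63342 → Nat.beq (actR16 i) i = true :=
  (range_glue (range_of_allRange c_act16_0) (range_glue (range_of_allRange c_act16_1) (range_glue (range_of_allRange c_act16_2) (range_glue (range_of_allRange c_act16_3) (range_of_allRange c_act16_4)))))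
theorem h_act17 : ∀ i, 0 ≤ i → i < 63342 → Nat.beq (actR17 i) i = true :=
  (range_glue (range_of_allRange c_act17_0) (range_glue (range_of_allRange c_act17_1) (range_glue (range_of_allRange c_act17_2) (range_glue (range_of_allRange c_act17_3) (range_of_allRange c_act17_4)))))
theorem h_act18 : ∀ i, 0 ≤ i → i < 63342 → Nat.beq (actR18 i) i = true :=
  (range_glue (range_of_allRange c_act18_0) (range_glue (range_of_allRange c_act18_1) (range_glue (range_of_allRange c_act18_2) (range_glue (range_of_allRange c_act18_3) (range_of_allRange c_act18_4)))))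
theorem h_act19 : ∀ i, 0 ≤ i → i < 63342 → Nat.beq (actR19 i) i = true :=
  (range_glue (range_of_allRange c_act19_0) (range_glue (range_of_allRange c_act19_1) (range_glue (range_of_allRange c_act19_2) (range_glue (range_of_allRange c_act19_3) (range_of_allRange c_act19_4)))))
theorem h_act20 : ∀ i, 0 ≤ i → i < 63342 → Nat.beq (actR20 i) i = true :=
  (range_glue (range_of_allRange c_act20_0) (range_glue (range_of_allRange c_act20_1) (range_glue (range_of_allRange c_act20_2) (range_glue (range_of_allRange c_act20_3) (range_of_allRange c_act20_4)))))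
theorem h_act21 : ∀ i, 0 ≤ i → i < 63342 → Nat.beq (actR21 i) i = true :=
  (range_glue (range_of_allRange c_act21_0) (range_glue (range_of_allRange c_act21_1) (range_of_allRange c_act21_2)))
theorem h_act22 : ∀ i, 0 ≤ i → i < 63342 → Nat.beq (actR22 i) i = true :=
  (range_glue (range_of_allRange c_act22_0) (range_glue (range_of_allRange c_act22_1) (range_glue (range_of_allRange c_act22_2) (range_glue (range_of_allRange c_act22_3) (range_glue (range_of_allRange c_act22_4) (range_glue (range_of_allRange c_act22_5) (range_of_allRange c_act22_6)))))))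
theorem h_act23 : ∀ i, 0 ≤ i → i < 63342 → Nat.beq (actR23 i) i = true :=
  (range_glue (range_of_allRange c_act23_0) (range_glue (range_of_allRange c_act23_1) (range_glue (range_of_allRange c_act23_2) (range_glue (range_of_allRange c_act23_3) (range_of_allRange c_act23_4)))))
theorem h_act24 : ∀ i, 0 ≤ i → i < 63342 → Nat.beq (actR24 i) i = true :=
  (range_glue (range_of_allRange c_act24_0) (range_glue (range_of_allRange c_act24_1) (range_glue (range_of_allRange c_act24_2) (range_glue (range_of_allRange c_act24_3) (range_of_allRange c_act24_4)))))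
theorem h_act25 : ∀ i, 0 ≤ i → i < 63342 → Nat.beq (actR25 i) i = true :=
  (range_glue (range_of_allRange c_act25_0) (range_glue (range_of_allRange c_act25_1) (range_glue (range_of_allRange c_act25_2) (range_glue (range_of_allRange c_act25_3) (range_of_allRange c_act25_4)))))
theorem h_act26 : ∀ i, 0 ≤ i → i < 63342 → Nat.beq (actR26 i) i = true :=
  (range_glue (range_of_allRange c_act26_0) (range_glue (range_of_allRange c_act26_1) (range_glue (range_of_allRange c_act26_2) (range_glue (range_of_allRange c_act26_3) (range_of_allRange c_act26_4)))))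
theorem h_act27 : ∀ i, 0 ≤ i → i < 63342 → Nat.beq (actR27 i) i = true :=
  (range_glue (range_of_allRange c_act27_0) (range_glue (range_of_allRange c_act27_1) (range_glue (range_of_allRange c_act27_2) (range_glue (range_of_allRange c_act27_3) (range_of_allRange c_act27_4)))))
theorem h_act28 : ∀ i, 0 ≤ i → i < 63342 → Nat.beq (actR28 i) i = true :=
  (range_glue (range_of_allRange c_act28_0) (range_glue (range_of_allRange c_act28_1) (range_glue (range_of_allRange c_act28_2) (range_glue (range_of_allRange c_act28_3) (range_of_allRange c_act28_4)))))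
theorem h_act29 : ∀ i, 0 ≤ i → i < 63342 → Nat.beq (actR29 i) i = true :=
  (range_glue (range_of_allRange c_act29_0) (range_glue (range_of_allRange c_act29_1) (range_glue (range_of_allRange c_act29_2) (range_glue (range_of_allRange c_act29_3) (range_of_allRange c_act29_4)))))
theorem h_act30 : ∀ i, 0 ≤ i → i < 63342 → Nat.beq (actR30 i) i = true :=
  (range_glue (range_of_allRange c_act30_0) (range_glue (range_of_allRange c_act30_1) (range_of_allRange c_act30_2)))
theorem h_act31 : ∀ i, 0 ≤ i → i < 63342 → Nat.beq (actR31 i) i = true :=
  (range_glue (range_of_allRange c_act31_0) (range_glue (range_of_allRange c_act31_1) (range_glue (range_of_allRange c_act31_2) (range_glue (range_of_allRange c_act31_3) (range_glue (range_of_allRange c_act31_4) (range_glue (range_of_allRange c_act31_5) (range_of_allRange c_act31_6)))))))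
theorem h_act32 : ∀ i, 0 ≤ i → i < 63342 → Nat.beq (actR32 i) i = true :=
  (range_glue (range_of_allRange c_act32_0) (range_glue (range_of_allRange c_act32_1) (range_glue (range_of_allRange c_act32_2) (range_glue (range_of_allRange c_act32_3) (range_of_allRange c_act32_4)))))
theorem h_act33 : ∀ i, 0 ≤ i → i < 63342 → Nat.beq (actR33 i) i = true :=
  (range_glue (range_of_allRange c_act33_0) (range_glue (range_of_allRange c_act33_1) (range_glue (range_of_allRange c_act33_2) (range_glue (range_of_allRange c_act33_3) (range_of_allRange c_act33_4)))))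
theorem h_act34 : ∀ i, 0 ≤ i → i < 63342 → Nat.beq (actR34 i) i = true :=
  (range_glue (range_of_allRange c_act34_0) (range_glue (range_of_allRange c_act34_1) (range_glue (range_of_allRange c_act34_2) (range_glue (range_of_allRange c_act34_3) (range_of_allRange c_act34_4)))))
theorem h_act35 : ∀ i, 0 ≤ i → i < 63342 → Nat.beq (actR35 i) i = true :=
  (range_glue (range_of_allRange c_act35_0) (range_glue (range_of_allRange c_act35_1) (range_glue (range_of_allRange c_act35_2) (range_glue (range_of_allRange c_act35_3) (range_of_allRange c_act35_4)))))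
theorem h_act36 : ∀ i, 0 ≤ i → i < 63342 → Nat.beq (actR36 i) i = true :=
  (range_glue (range_of_allRange c_act36_0) (range_glue (range_of_allRange c_act36_1) (range_glue (range_of_allRange c_act36_2) (range_glue (range_of_allRange c_act36_3) (range_of_allRange c_act36_4)))))
theorem h_act37 : ∀ i, 0 ≤ i → i < 63342 → Nat.beq (actR37 i) i = true :=
  (range_glue (range_of_allRange c_act37_0) (range_glue (range_of_allRange c_act37_1) (range_glue (range_of_allRange c_act37_2) (range_glue (range_of_allRange c_act37_3) (range_of_allRange c_act37_4)))))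
theorem h_act38 : ∀ i, 0 ≤ i → i < 63342 → Nat.beq (actR38 i) i = true :=
  (range_glue (range_of_allRange c_act38_0) (range_glue (range_of_allRange c_act38_1) (range_of_allRange c_act38_2)))
theorem h_act39 : ∀ i, 0 ≤ i → i < 63342 → Nat.beq (actR39 i) i = true :=
  (range_glue (range_of_allRange c_act39_0) (range_glue (range_of_allRange c_act39_1) (range_glue (range_of_allRange c_act39_2) (range_glue (range_of_allRange c_act39_3) (range_glue (range_of_allRange c_act39_4) (range_glue (range_of_allRange c_act39_5) (range_of_allRange c_act39_6)))))))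
theorem h_act40 : ∀ i, 0 ≤ i → i < 63342 → Nat.beq (actR40 i) i = true :=
  (range_glue (range_of_allRange c_act40_0) (range_glue (range_of_allRange c_act40_1) (range_glue (range_of_allRange c_act40_2) (range_glue (range_of_allRange c_act40_3) (range_of_allRange c_act40_4)))))
theorem h_act41 : ∀ i, 0 ≤ i → i < 63342 → Nat.beq (actR41 i) i = true :=
  (range_glue (range_of_allRange c_act41_0) (range_glue (range_of_allRange c_act41_1) (range_glue (range_of_allRange c_act41_2) (range_glue (range_of_allRange c_act41_3) (range_of_allRange c_act41_4)))))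
theorem h_act42 : ∀ i, 0 ≤ i → i < 63342 → Nat.beq (actR42 i) i = true :=
  (range_glue (range_of_allRange c_act42_0) (range_glue (range_of_allRange c_act42_1) (range_glue (range_of_allRange c_act42_2) (range_glue (range_of_allRange c_act42_3) (range_of_allRange c_act42_4)))))
theorem h_act43 : ∀ i, 0 ≤ i → i < 63342 → Nat.beq (actR43 i) i = true :=
  (range_glue (range_of_allRange c_act43_0) (range_glue (range_of_allRange c_act43_1) (range_glue (range_of_allRange c_act43_2) (range_glue (range_of_allRange c_act43_3) (range_of_allRange c_act43_4)))))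
theorem h_act44 : ∀ i, 0 ≤ i → i < 63342 → Nat.beq (actR44 i) i = true :=
  (range_glue (range_of_allRange c_act44_0) (range_glue (range_of_allRange c_act44_1) (range_glue (range_of_allRange c_act44_2) (range_glue (range_of_allRange c_act44_3) (range_of_allRange c_act44_4)))))
theorem h_act45 : ∀ i, 0 ≤ i → i < 63342 → Nat.beq (actR45 i) i = true :=
  (range_glue (range_of_allRange c_act45_0) (range_glue (range_of_allRange c_act45_1) (range_of_allRange c_act45_2)))
theorem h_act46 : ∀ i, 0 ≤ i → i < 63342 → Nat.beq (actR46 i) i = true :=
  (range_glue (range_of_allRange c_act46_0) (range_glue (range_of_allRange c_act46_1) (range_glue (range_of_allRange c_act46_2) (range_glue (range_of_allRange c_act46_3) (range_of_allRange c_act46_4)))))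
theorem h_act47 : ∀ i, 0 ≤ i → i < 63342 → Nat.beq (actR47 i) i = true :=
  (range_glue (range_of_allRange c_act47_0) (range_glue (range_of_allRange c_act47_1) (range_glue (range_of_allRange c_act47_2) (range_glue (range_of_allRange c_act47_3) (range_of_allRange c_act47_4)))))
theorem h_act48 : ∀ i, 0 ≤ i → i < 63342 → Nat.beq (actR48 i) i = true :=
  (range_glue (range_of_allRange c_act48_0) (range_glue (range_of_allRange c_act48_1) (range_glue (range_of_allRange c_act48_2) (range_glue (range_of_allRange c_act48_3) (range_of_allRange c_act48_4)))))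
theorem h_act49 : ∀ i, 0 ≤ i → i < 63342 → Nat.beq (actR49 i) i = true :=
  (range_glue (range_of_allRange c_act49_0) (range_glue (range_of_allRange c_act49_1) (range_glue (range_of_allRange c_act49_2) (range_glue (range_of_allRange c_act49_3) (range_of_allRange c_act49_4)))))
theorem h_act50 : ∀ i, 0 ≤ i → i < 63342 → Nat.beq (actR50 i) i = true :=
  (range_glue (range_of_allRange c_act50_0) (range_glue (range_of_allRange c_act50_1) (range_glue (range_of_allRange c_act50_2) (range_glue (range_of_allRange c_act50_3) (range_of_allRange c_act50_4)))))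
theorem h_act51 : ∀ i, 0 ≤ i → i < 63342 → Nat.beq (actR51 i) i = true :=
  (range_glue (range_of_allRange c_act51_0) (range_glue (range_of_allRange c_act51_1) (range_of_allRange c_act51_2)))
theorem h_act52 : ∀ i, 0 ≤ i → i < 63342 → Nat.beq (actR52 i) i = true :=
  (range_glue (range_of_allRange c_act52_0) (range_glue (range_of_allRange c_act52_1) (range_glue (range_of_allRange c_act52_2) (range_glue (range_of_allRange c_act52_3) (range_glue (range_of_allRange c_act52_4) (range_glue (range_of_allRange c_act52_5) (range_of_allRange c_act52_6)))))))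
theorem h_act53 : ∀ i, 0 ≤ i → i < 63342 → Nat.beq (actR53 i) i = true :=
  (range_glue (range_of_allRange c_act53_0) (range_glue (range_of_allRange c_act53_1) (range_glue (range_of_allRange c_act53_2) (range_glue (range_of_allRange c_act53_3) (range_of_allRange c_act53_4)))))
theorem h_act54 : ∀ i, 0 ≤ i → i < 63342 → Nat.beq (actR54 i) i = true :=
  (range_glue (range_of_allRange c_act54_0) (range_glue (range_of_allRange c_act54_1) (range_glue (range_of_allRange c_act54_2) (range_glue (range_of_allRange c_act54_3) (range_of_allRange c_act54_4)))))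
theorem h_act55 : ∀ i, 0 ≤ i → i < 63342 → Nat.beq (actR55 i) i = true :=
  (range_glue (range_of_allRange c_act55_0) (range_glue (range_of_allRange c_act55_1) (range_glue (range_of_allRange c_act55_2) (range_glue (range_of_allRange c_act55_3) (range_of_allRange c_act55_4)))))
theorem h_act56 : ∀ i, 0 ≤ i → i < 63342 → Nat.beq (actR56 i) i = true :=
  (range_glue (range_of_allRange c_act56_0) (range_glue (range_of_allRange c_act56_1) (range_of_allRange c_act56_2)))
theorem h_act57 : ∀ i, 0 ≤ i → i < 63342 → Nat.beq (actR57 i) i = true :=
  (range_glue (range_of_allRange c_act57_0) (range_glue (range_of_allRange c_act57_1) (range_glue (range_of_allRange c_act57_2) (range_glue (range_of_allRange c_act57_3) (range_glue (range_of_allRange c_act57_4) (range_glue (range_of_allRange c_act57_5) (range_of_allRange c_act57_6)))))))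
theorem h_act58 : ∀ i, 0 ≤ i → i < 63342 → Nat.beq (actR58 i) i = true :=
  (range_glue (range_of_allRange c_act58_0) (range_glue (range_of_allRange c_act58_1) (range_glue (range_of_allRange c_act58_2) (range_glue (range_of_allRange c_act58_3) (range_of_allRange c_act58_4)))))
theorem h_act59 : ∀ i, 0 ≤ i → i < 63342 → Nat.beq (actR59 i) i = true :=
  (range_glue (range_of_allRange c_act59_0) (range_glue (range_of_allRange c_act59_1) (range_glue (range_of_allRange c_act59_2) (range_glue (range_of_allRange c_act59_3) (range_of_allRange c_act59_4)))))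
theorem h_act60 : ∀ i, 0 ≤ i → i < 63342 → Nat.beq (actR60 i) i = true :=
  (range_glue (range_of_allRange c_act60_0) (range_glue (range_of_allRange c_act60_1) (range_of_allRange c_act60_2)))
theorem h_act61 : ∀ i, 0 ≤ i → i < 63342 → Nat.beq (actR61 i) i = true :=
  (range_glue (range_of_allRange c_act61_0) (range_glue (range_of_allRange c_act61_1) (range_glue (range_of_allRange c_act61_2) (range_glue (range_of_allRange c_act61_3) (range_of_allRange c_act61_4)))))
theorem h_act62 : ∀ i, 0 ≤ i → i < 63342 → Nat.beq (actR62 i) i = true :=
  (range_glue (range_of_allRange c_act62_0) (range_glue (range_of_allRange c_act62_1) (range_glue (range_of_allRange c_act62_2) (range_glue (range_of_allRange c_act62_3) (range_of_allRange c_act62_4)))))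
theorem h_act63 : ∀ i, 0 ≤ i → i < 63342 → Nat.beq (actR63 i) i = true :=
  (range_glue (range_of_allRange c_act63_0) (range_glue (range_of_allRange c_act63_1) (range_of_allRange c_act63_2)))
theorem h_act64 : ∀ i, 0 ≤ i → i < 63342 → Nat.beq (actR64 i) i = true :=
  (range_glue (range_of_allRange c_act64_0) (range_glue (range_of_allRange c_act64_1) (range_glue (range_of_allRange c_act64_2) (range_glue (range_of_allRange c_act64_3) (range_glue (range_of_allRange c_act64_4) (range_glue (range_of_allRange c_act64_5) (range_of_allRange c_act64_6)))))))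
theorem h_act65 : ∀ i, 0 ≤ i → i < 63342 → Nat.beq (actR65 i) i = true :=
  (range_glue (range_of_allRange c_act65_0) (range_glue (range_of_allRange c_act65_1) (range_of_allRange c_act65_2)))
theorem h_act66_p0 : ∀ i, 0 ≤ i → i < 26640 → Nat.beq (actR66 i) i = true :=
  (range_glue (range_of_allRange c_act66_0) (range_glue (range_of_allRange c_act66_1) (range_glue (range_of_allRange c_act66_2) (range_glue (range_of_allRange c_act66_3) (range_glue (range_of_allRange c_act66_4) (range_glue (range_of_allRange c_act66_5) (range_glue (range_of_allRange c_act66_6) (range_glue (range_of_allRange c_act66_7) (range_glue (range_of_allRange c_act66_8) (range_glue (range_of_allRange c_act66_9) (range_glue (range_of_allRange c_act66_10) (range_glue (range_of_allRange c_act66_11) (range_glue (range_of_allRange c_act66_12) (range_glue (range_of_allRange c_act66_13) (range_glue (range_of_allRange c_act66_14) (range_glue (range_of_allRange c_act66_15) (range_glue (range_of_allRange c_act66_16) (range_glue (range_of_allRange c_act66_17) (range_glue (range_of_allRange c_act66_18) (range_glue (range_of_allRange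 c_act66_19) (range_glue (range_of_allRange c_act66_20) (range_glue (range_of_allRange c_act66_21) (range_glue (range_of_allRange c_act66_22) (range_glue (range_of_allRange c_act66_23) (range_glue (range_of_allRange c_act66_24) (range_glue (range_of_allRange c_act66_25) (range_glue (range_of_allRange c_act66_26) (range_glue (range_of_allRange c_act66_27) (range_glue (range_of_allRange c_act66_28) (range_glue (range_of_allRange c_act66_29) (range_glue (range_of_allRange c_act66_30) (range_glue (range_of_allRange c_act66_31) (range_glue (range_of_allRange c_act66_32) (range_glue (range_of_allRange c_act66_33) (range_glue (range_of_allRange c_act66_34) (range_glue (range_of_allRange c_act66_35) (range_glue (range_of_allRange c_act66_36) (range_glue (range_of_allRange c_act66_37) (range_glue (range_of_allRange c_act66_38) (range_of_allRange c_act66_39))))))))))))))))))))))))))))))))))))))))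
theorem h_act66_p1 : ∀ i, 26640 ≤ i → i < 53280 → Nat.beq (actR66 i) i = true :=
  (range_glue (range_of_allRange c_act66_40) (range_glue (range_of_allRange c_act66_41) (range_glue (range_of_allRange c_act66_42) (range_glue (range_of_allRange c_act66_43) (range_glue (range_of_allRange c_act66_44) (range_glue (range_of_allRange c_act66_45) (range_glue (range_of_allRange c_act66_46) (range_glue (range_of_allRange c_act66_47) (range_glue (range_of_allRange c_act66_48) (range_glue (range_of_allRange c_act66_49) (range_glue (range_of_allRange c_act66_50) (range_glue (range_of_allRange c_act66_51) (range_glue (range_of_allRange c_act66_52) (range_glue (range_of_allRange c_act66_53) (range_glue (range_of_allRange c_act66_54) (range_glue (range_of_allRange c_act66_55) (range_glue (range_of_allRange c_act66_56) (range_glue (range_of_allRange c_act66_57) (range_glue (range_of_allRange c_act66_58) (range_glue (range_of_allRange c_act66_59) (range_glue (range_of_allRange c_act66_60) (range_glue (range_of_allRange c_act66_61) (range_glue (range_of_allRange c_act66_62) (range_glue (range_of_allRange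 c_act66_63) (range_glue (range_of_allRange c_act66_64) (range_glue (range_of_allRange c_act66_65) (range_glue (range_of_allRange c_act66_66) (range_glue (range_of_allRange c_act66_67) (range_glue (range_of_allRange c_act66_68) (range_glue (range_of_allRange c_act66_69) (range_glue (range_of_allRange c_act66_70) (range_glue (range_of_allRange c_act66_71) (range_glue (range_of_allRange c_act66_72) (range_glue (range_of_allRange c_act66_73) (range_glue (range_of_allRange c_act66_74) (range_glue (range_of_allRange c_act66_75) (range_glue (range_of_allRange c_act66_76) (range_glue (range_of_allRange c_act66_77) (range_glue (range_of_allRange c_act66_78) (range_of_allRange c_act66_79))))))))))))))))))))))))))))))))))))))))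
theorem h_act66_p2 : ∀ i, 53280 ≤ i → i < 63342 → Nat.beq (actR66 i) i = true :=
  (range_glue (range_of_allRange c_act66_80) (range_glue (range_of_allRange c_act66_81) (range_glue (range_of_allRange c_act66_82) (range_glue (range_of_allRange c_act66_83) (range_glue (range_of_allRange c_act66_84) (range_glue (range_of_allRange c_act66_85) (range_glue (range_of_allRange c_act66_86) (range_glue (range_of_allRange c_act66_87) (range_glue (range_of_allRange c_act66_88) (range_glue (range_of_allRange c_act66_89) (range_glue (range_of_allRange c_act66_90) (range_glue (range_of_allRange c_act66_91) (range_glue (range_of_allRange c_act66_92) (range_glue (range_of_allRange c_act66_93) (range_glue (range_of_allRange c_act66_94) (range_of_allRange c_act66_95))))))))))))))))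
theorem h_act66 : ∀ i, 0 ≤ i → i < 63342 → Nat.beq (actR66 i) i = true :=
  (range_glue h_act66_p0 (range_glue h_act66_p1 h_act66_p2))
theorem h_w0_wRel1_p0 : ∀ i, 0 ≤ i → i < 37480 → Nat.beq (actW_wRel1 i) i = true :=
  (range_glue (range_of_allRange c_w_wRel1_0) (range_glue (range_of_allRange c_w_wRel1_1) (range_glue (range_of_allRange c_w_wRel1_2) (range_glue (range_of_allRange c_w_wRel1_3) (range_glue (range_of_allRange c_w_wRel1_4) (range_glue (range_of_allRange c_w_wRel1_5) (range_glue (range_of_allRange c_w_wRel1_6) (range_glue (range_of_allRange c_w_wRel1_7) (range_glue (range_of_allRange c_w_wRel1_8) (range_glue (range_of_allRange c_w_wRel1_9) (range_glue (range_of_allRange c_w_wRel1_10) (range_glue (range_of_allRange c_w_wRel1_11) (range_glue (range_of_allRange c_w_wRel1_12) (range_glue (range_of_allRange c_w_wRel1_13) (range_glue (range_of_allRange c_w_wRel1_14) (range_glue (range_of_allRange c_w_wRel1_15) (range_glue (range_of_allRange c_w_wRel1_16) (range_glue (range_of_allRange c_w_wRel1_17) (range_glue (range_of_allRange c_w_wRel1_18) (range_glue (range_of_allRange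 c_w_wRel1_19) (range_glue (range_of_allRange c_w_wRel1_20) (range_glue (range_of_allRange c_w_wRel1_21) (range_glue (range_of_allRange c_w_wRel1_22) (range_glue (range_of_allRange c_w_wRel1_23) (range_glue (range_of_allRange c_w_wRel1_24) (range_glue (range_of_allRange c_w_wRel1_25) (range_glue (range_of_allRange c_w_wRel1_26) (range_glue (range_of_allRange c_w_wRel1_27) (range_glue (range_of_allRange c_w_wRel1_28) (range_glue (range_of_allRange c_w_wRel1_29) (range_glue (range_of_allRange c_w_wRel1_30) (range_glue (range_of_allRange c_w_wRel1_31) (range_glue (range_of_allRange c_w_wRel1_32) (range_glue (range_of_allRange c_w_wRel1_33) (range_glue (range_of_allRange c_w_wRel1_34) (range_glue (range_of_allRange c_w_wRel1_35) (range_glue (range_of_allRange c_w_wRel1_36) (range_glue (range_of_allRange c_w_wRel1_37) (range_glue (range_of_allRange c_w_wRel1_38) (range_of_allRange c_w_wRel1_39))))))))))))))))))))))))))))))))))))))))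
theorem h_w0_wRel1_p1 : ∀ i, 37480 ≤ i → i < 63342 → Nat.beq (actW_wRel1 i) i = true :=
  (range_glue (range_of_allRange c_w_wRel1_40) (range_glue (range_of_allRange c_w_wRel1_41) (range_glue (range_of_allRange c_w_wRel1_42) (range_glue (range_of_allRange c_w_wRel1_43) (range_glue (range_of_allRange c_w_wRel1_44) (range_glue (range_of_allRange c_w_wRel1_45) (range_glue (range_of_allRange c_w_wRel1_46) (range_glue (range_of_allRange c_w_wRel1_47) (range_glue (range_of_allRange c_w_wRel1_48) (range_glue (range_of_allRange c_w_wRel1_49) (range_glue (range_of_allRange c_w_wRel1_50) (range_glue (range_of_allRange c_w_wRel1_51) (range_glue (range_of_allRange c_w_wRel1_52) (range_glue (range_of_allRange c_w_wRel1_53) (range_glue (range_of_allRange c_w_wRel1_54) (range_glue (range_of_allRange c_w_wRel1_55) (range_glue (range_of_allRange c_w_wRel1_56) (range_glue (range_of_allRange c_w_wRel1_57) (range_glue (range_of_allRange c_w_wRel1_58) (range_glue (range_of_allRange c_w_wRel1_59) (range_glue (range_of_allRange c_w_wRel1_60) (range_glue (range_of_allRange c_w_wRel1_61) (range_glue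 (range_of_allRange c_w_wRel1_62) (range_glue (range_of_allRange c_w_wRel1_63) (range_glue (range_of_allRange c_w_wRel1_64) (range_glue (range_of_allRange c_w_wRel1_65) (range_glue (range_of_allRange c_w_wRel1_66) (range_of_allRange c_w_wRel1_67))))))))))))))))))))))))))))
theorem h_w0_wRel1 : ∀ i, 0 ≤ i → i < 63342 → Nat.beq (actW_wRel1 i) i = true :=
  (range_glue h_w0_wRel1_p0 h_w0_wRel1_p1)
theorem h_w0_wRel2_p0 : ∀ i, 0 ≤ i → i < 37480 → Nat.beq (actW_wRel2 i) i = true :=
  (range_glue (range_of_allRange c_w_wRel2_0) (range_glue (range_of_allRange c_w_wRel2_1) (range_glue (range_of_allRange c_w_wRel2_2) (range_glue (range_of_allRange c_w_wRel2_3) (range_glue (range_of_allRange c_w_wRel2_4) (range_glue (range_of_allRange c_w_wRel2_5) (range_glue (range_of_allRange c_w_wRel2_6) (range_glue (range_of_allRange c_w_wRel2_7) (range_glue (range_of_allRange c_w_wRel2_8) (range_glue (range_of_allRange c_w_wRel2_9) (range_glue (range_of_allRange c_w_wRel2_10) (range_glue (range_of_allRange c_w_wRel2_11) (range_glue (range_of_allRange c_w_wRel2_12) (range_glue (range_of_allRange c_w_wRel2_13)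 (range_glue (range_of_allRange c_w_wRel2_14) (range_glue (range_of_allRange c_w_wRel2_15) (range_glue (range_of_allRange c_w_wRel2_16) (range_glue (range_of_allRange c_w_wRel2_17) (range_glue (range_of_allRange c_w_wRel2_18) (range_glue (range_of_allRange c_w_wRel2_19) (range_glue (range_of_allRange c_w_wRel2_20) (range_glue (range_of_allRange c_w_wRel2_21) (range_glue (range_of_allRange c_w_wRel2_22) (range_glue (range_of_allRange c_w_wRel2_23) (range_glue (range_of_allRange c_w_wRel2_24) (range_glue (range_of_allRange c_w_wRel2_25) (range_glue (range_of_allRange c_w_wRel2_26) (range_glue (range_of_allRange c_w_wRel2_27) (range_glue (range_of_allRange c_w_wRel2_28) (range_glue (range_of_allRange c_w_wRel2_29) (range_glue (range_of_allRange c_w_wRel2_30) (range_glue (range_of_allRange c_w_wRel2_31) (range_glue (range_of_allRange c_w_wRel2_32) (range_glue (range_of_allRange c_w_wRel2_33) (range_glue (range_of_allRange c_w_wRel2_34) (range_glue (range_of_allRange c_w_wRel2_35) (range_glue (range_of_allRange c_w_wRel2_36) (range_glue (range_of_allRange c_w_wRel2_37) (range_glue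 (range_of_allRange c_w_wRel2_38) (range_of_allRange c_w_wRel2_39))))))))))))))))))))))))))))))))))))))))
theorem h_w0_wRel2_p1 : ∀ i, 37480 ≤ i → i < 63342 → Nat.beq (actW_wRel2 i) i = true :=
  (range_glue (range_of_allRange c_w_wRel2_40) (range_glue (range_of_allRange c_w_wRel2_41) (range_glue (range_of_allRange c_w_wRel2_42) (range_glue (range_of_allRange c_w_wRel2_43) (range_glue (range_of_allRange c_w_wRel2_44) (range_glue (range_of_allRange c_w_wRel2_45) (range_glue (range_of_allRange c_w_wRel2_46) (range_glue (range_of_allRange c_w_wRel2_47) (range_glue (range_of_allRange c_w_wRel2_48) (range_glue (range_of_allRange c_w_wRel2_49) (range_glue (range_of_allRange c_w_wRel2_50) (range_glue (range_of_allRange c_w_wRel2_51) (range_glue (range_of_allRange c_w_wRel2_52) (range_glue (range_of_allRange c_w_wRel2_53) (range_glue (range_of_allRange c_w_wRel2_54) (range_glue (range_of_allRange c_w_wRel2_55) (range_glue (range_of_allRange c_w_wRel2_56) (range_glue (range_of_allRange c_w_wRel2_57) (range_glue (range_of_allRange c_w_wRel2_58) (range_glue (range_of_allRange c_w_wRel2_59)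 (range_glue (range_of_allRange c_w_wRel2_60) (range_glue (range_of_allRange c_w_wRel2_61) (range_glue (range_of_allRange c_w_wRel2_62) (range_glue (range_of_allRange c_w_wRel2_63) (range_glue (range_of_allRange c_w_wRel2_64) (range_glue (range_of_allRange c_w_wRel2_65) (range_glue (range_of_allRange c_w_wRel2_66) (range_of_allRange c_w_wRel2_67))))))))))))))))))))))))))))
theorem h_w0_wRel2 : ∀ i, 0 ≤ i → i < 63342 → Nat.beq (actW_wRel2 i) i = true :=
  (range_glue h_w0_wRel2_p0 h_w0_wRel2_p1)
theorem h_w0_wSp213_p0 : ∀ i, 0 ≤ i → i < 26640 → Nat.beq (actW_wSp213 i) i = true :=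
  (range_glue (range_of_allRange c_w_wSp213_0) (range_glue (range_of_allRange c_w_wSp213_1) (range_glue (range_of_allRange c_w_wSp213_2) (range_glue (range_of_allRange c_w_wSp213_3) (range_glue (range_of_allRange c_w_wSp213_4) (range_glue (range_of_allRange c_w_wSp213_5) (range_glue (range_of_allRange c_w_wSp213_6) (range_glue (range_of_allRange c_w_wSp213_7) (range_glue (range_of_allRange c_w_wSp213_8) (range_glue (range_of_allRange c_w_wSp213_9) (range_glue (range_of_allRange c_w_wSp213_10) (range_glue (range_of_allRange c_w_wSp213_11) (range_glue (range_of_allRange c_w_wSp213_12) (range_glue (range_of_allRange c_w_wSp213_13) (range_glue (range_of_allRange c_w_wSp213_14) (range_glue (range_of_allRange c_w_wSp213_15) (range_glue (range_of_allRange c_w_wSp213_16) (range_glue (range_of_allRange c_w_wSp213_17) (range_glue (range_of_allRange c_w_wSp213_18) (range_glue (range_of_allRange c_w_wSp213_19) (range_glue (range_of_allRange c_w_wSp213_20) (range_glue (range_of_allRange c_w_wSp213_21) (range_glue (range_of_allRange c_w_wSp213_22) (range_glue (range_of_allRange c_w_wSp213_23)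 (range_glue (range_of_allRange c_w_wSp213_24) (range_glue (range_of_allRange c_w_wSp213_25) (range_glue (range_of_allRange c_w_wSp213_26) (range_glue (range_of_allRange c_w_wSp213_27) (range_glue (range_of_allRange c_w_wSp213_28) (range_glue (range_of_allRange c_w_wSp213_29) (range_glue (range_of_allRange c_w_wSp213_30) (range_glue (range_of_allRange c_w_wSp213_31) (range_glue (range_of_allRange c_w_wSp213_32) (range_glue (range_of_allRange c_w_wSp213_33) (range_glue (range_of_allRange c_w_wSp213_34) (range_glue (range_of_allRange c_w_wSp213_35) (range_glue (range_of_allRange c_w_wSp213_36) (range_glue (range_of_allRange c_w_wSp213_37) (range_glue (range_of_allRange c_w_wSp213_38) (range_of_allRange c_w_wSp213_39))))))))))))))))))))))))))))))))))))))))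
theorem h_w0_wSp213_p1 : ∀ i, 26640 ≤ i → i < 53280 → Nat.beq (actW_wSp213 i) i = true :=
  (range_glue (range_of_allRange c_w_wSp213_40) (range_glue (range_of_allRange c_w_wSp213_41) (range_glue (range_of_allRange c_w_wSp213_42) (range_glue (range_of_allRange c_w_wSp213_43) (range_glue (range_of_allRange c_w_wSp213_44) (range_glue (range_of_allRange c_w_wSp213_45) (range_glue (range_of_allRange c_w_wSp213_46) (range_glue (range_of_allRange c_w_wSp213_47) (range_glue (range_of_allRange c_w_wSp213_48) (range_glue (range_of_allRange c_w_wSp213_49) (range_glue (range_of_allRange c_w_wSp213_50) (range_glue (range_of_allRange c_w_wSp213_51) (range_glue (range_of_allRange c_w_wSp213_52) (range_glue (range_of_allRange c_w_wSp213_53) (range_glue (range_of_allRange c_w_wSp213_54) (range_glue (range_of_allRange c_w_wSp213_55) (range_glue (range_of_allRange c_w_wSp213_56) (range_glue (range_of_allRange c_w_wSp213_57) (range_glue (range_of_allRange c_w_wSp213_58) (range_glue (range_of_allRange c_w_wSp213_59) (range_glue (range_of_allRange c_w_wSp213_60) (range_glue (range_of_allRange c_w_wSp213_61)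 (range_glue (range_of_allRange c_w_wSp213_62) (range_glue (range_of_allRange c_w_wSp213_63) (range_glue (range_of_allRange c_w_wSp213_64) (range_glue (range_of_allRange c_w_wSp213_65) (range_glue (range_of_allRange c_w_wSp213_66) (range_glue (range_of_allRange c_w_wSp213_67) (range_glue (range_of_allRange c_w_wSp213_68) (range_glue (range_of_allRange c_w_wSp213_69) (range_glue (range_of_allRange c_w_wSp213_70) (range_glue (range_of_allRange c_w_wSp213_71) (range_glue (range_of_allRange c_w_wSp213_72) (range_glue (range_of_allRange c_w_wSp213_73) (range_glue (range_of_allRange c_w_wSp213_74) (range_glue (range_of_allRange c_w_wSp213_75) (range_glue (range_of_allRange c_w_wSp213_76) (range_glue (range_of_allRange c_w_wSp213_77) (range_glue (range_of_allRange c_w_wSp213_78) (range_of_allRange c_w_wSp213_79))))))))))))))))))))))))))))))))))))))))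
theorem h_w0_wSp213_p2 : ∀ i, 53280 ≤ i → i < 63342 → Nat.beq (actW_wSp213 i) i = true :=
  (range_glue (range_of_allRange c_w_wSp213_80) (range_glue (range_of_allRange c_w_wSp213_81) (range_glue (range_of_allRange c_w_wSp213_82) (range_glue (range_of_allRange c_w_wSp213_83) (range_glue (range_of_allRange c_w_wSp213_84) (range_glue (range_of_allRange c_w_wSp213_85) (range_glue (range_of_allRange c_w_wSp213_86) (range_glue (range_of_allRange c_w_wSp213_87) (range_glue (range_of_allRange c_w_wSp213_88) (range_glue (range_of_allRange c_w_wSp213_89) (range_glue (range_of_allRange c_w_wSp213_90) (range_glue (range_of_allRange c_w_wSp213_91) (range_glue (range_of_allRange c_w_wSp213_92) (range_glue (range_of_allRange c_w_wSp213_93) (range_glue (range_of_allRange c_w_wSp213_94) (range_of_allRange c_w_wSp213_95))))))))))))))))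
theorem h_w0_wSp213 : ∀ i, 0 ≤ i → i < 63342 → Nat.beq (actW_wSp213 i) i = true :=
  (range_glue h_w0_wSp213_p0 (range_glue h_w0_wSp213_p1 h_w0_wSp213_p2))
theorem h_w0_wSp312_p0 : ∀ i, 0 ≤ i → i < 26640 → Nat.beq (actW_wSp312 i) i = true :=
  (range_glue (range_of_allRange c_w_wSp312_0) (range_glue (range_of_allRange c_w_wSp312_1) (range_glue (range_of_allRange c_w_wSp312_2) (range_glue (range_of_allRange c_w_wSp312_3) (range_glue (range_of_allRange c_w_wSp312_4) (range_glue (range_of_allRange c_w_wSp312_5) (range_glue (range_of_allRange c_w_wSp312_6) (range_glue (range_of_allRange c_w_wSp312_7) (range_glue (range_of_allRange c_w_wSp312_8) (range_glue (range_of_allRange c_w_wSp312_9) (range_glue (range_of_allRange c_w_wSp312_10) (range_glue (range_of_allRange c_w_wSp312_11) (range_glue (range_of_allRange c_w_wSp312_12) (range_glue (range_of_allRange c_w_wSp312_13) (range_glue (range_of_allRange c_w_wSp312_14) (range_glue (range_of_allRange c_w_wSp312_15) (range_glue (range_of_allRange c_w_wSp312_16) (range_glue (range_of_allRange c_w_wSp312_17) (range_glue (range_of_allRange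 c_w_wSp312_18) (range_glue (range_of_allRange c_w_wSp312_19) (range_glue (range_of_allRange c_w_wSp312_20) (range_glue (range_of_allRange c_w_wSp312_21) (range_glue (range_of_allRange c_w_wSp312_22) (range_glue (range_of_allRange c_w_wSp312_23) (range_glue (range_of_allRange c_w_wSp312_24) (range_glue (range_of_allRange c_w_wSp312_25) (range_glue (range_of_allRange c_w_wSp312_26) (range_glue (range_of_allRange c_w_wSp312_27) (range_glue (range_of_allRange c_w_wSp312_28) (range_glue (range_of_allRange c_w_wSp312_29) (range_glue (range_of_allRange c_w_wSp312_30) (range_glue (range_of_allRange c_w_wSp312_31) (range_glue (range_of_allRange c_w_wSp312_32) (range_glue (range_of_allRange c_w_wSp312_33) (range_glue (range_of_allRange c_w_wSp312_34) (range_glue (range_of_allRange c_w_wSp312_35) (range_glue (range_of_allRange c_w_wSp312_36) (range_glue (range_of_allRange c_w_wSp312_37) (range_glue (range_of_allRange c_w_wSp312_38) (range_of_allRange c_w_wSp312_39))))))))))))))))))))))))))))))))))))))))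
theorem h_w0_wSp312_p1 : ∀ i, 26640 ≤ i → i < 53280 → Nat.beq (actW_wSp312 i) i = true :=
  (range_glue (range_of_allRange c_w_wSp312_40) (range_glue (range_of_allRange c_w_wSp312_41) (range_glue (range_of_allRange c_w_wSp312_42) (range_glue (range_of_allRange c_w_wSp312_43) (range_glue (range_of_allRange c_w_wSp312_44) (range_glue (range_of_allRange c_w_wSp312_45) (range_glue (range_of_allRange c_w_wSp312_46) (range_glue (range_of_allRange c_w_wSp312_47) (range_glue (range_of_allRange c_w_wSp312_48) (range_glue (range_of_allRange c_w_wSp312_49) (range_glue (range_of_allRange c_w_wSp312_50) (range_glue (range_of_allRange c_w_wSp312_51) (range_glue (range_of_allRange c_w_wSp312_52) (range_glue (range_of_allRange c_w_wSp312_53) (range_glue (range_of_allRange c_w_wSp312_54) (range_glue (range_of_allRange c_w_wSp312_55) (range_glue (range_of_allRange c_w_wSp312_56) (range_glue (range_of_allRange c_w_wSp312_57) (range_glue (range_of_allRange c_w_wSp312_58) (range_glue (range_of_allRange c_w_wSp312_59) (range_glue (range_of_allRange c_w_wSp312_60) (range_glue (range_of_allRange c_w_wSp312_61)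 (range_glue (range_of_allRange c_w_wSp312_62) (range_glue (range_of_allRange c_w_wSp312_63) (range_glue (range_of_allRange c_w_wSp312_64) (range_glue (range_of_allRange c_w_wSp312_65) (range_glue (range_of_allRange c_w_wSp312_66) (range_glue (range_of_allRange c_w_wSp312_67) (range_glue (range_of_allRange c_w_wSp312_68) (range_glue (range_of_allRange c_w_wSp312_69) (range_glue (range_of_allRange c_w_wSp312_70) (range_glue (range_of_allRange c_w_wSp312_71) (range_glue (range_of_allRange c_w_wSp312_72) (range_glue (range_of_allRange c_w_wSp312_73) (range_glue (range_of_allRange c_w_wSp312_74) (range_glue (range_of_allRange c_w_wSp312_75) (range_glue (range_of_allRange c_w_wSp312_76) (range_glue (range_of_allRange c_w_wSp312_77) (range_glue (range_of_allRange c_w_wSp312_78) (range_of_allRange c_w_wSp312_79))))))))))))))))))))))))))))))))))))))))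
theorem h_w0_wSp312_p2 : ∀ i, 53280 ≤ i → i < 63342 → Nat.beq (actW_wSp312 i) i = true :=
  (range_glue (range_of_allRange c_w_wSp312_80) (range_glue (range_of_allRange c_w_wSp312_81) (range_glue (range_of_allRange c_w_wSp312_82) (range_glue (range_of_allRange c_w_wSp312_83) (range_glue (range_of_allRange c_w_wSp312_84) (range_glue (range_of_allRange c_w_wSp312_85) (range_glue (range_of_allRange c_w_wSp312_86) (range_glue (range_of_allRange c_w_wSp312_87) (range_glue (range_of_allRange c_w_wSp312_88) (range_glue (range_of_allRange c_w_wSp312_89) (range_glue (range_of_allRange c_w_wSp312_90) (range_glue (range_of_allRange c_w_wSp312_91) (range_glue (range_of_allRange c_w_wSp312_92) (range_glue (range_of_allRange c_w_wSp312_93) (range_glue (range_of_allRange c_w_wSp312_94) (range_of_allRange c_w_wSp312_95))))))))))))))))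
theorem h_w0_wSp312 : ∀ i, 0 ≤ i → i < 63342 → Nat.beq (actW_wSp312 i) i = true :=
  (range_glue h_w0_wSp312_p0 (range_glue h_w0_wSp312_p1 h_w0_wSp312_p2))

theorem h_act : ∀ L ∈ PY532.P.real, ∀ i, i < T.N → Tab.relActOK T D L i = true := by
  rw [c_real]
  intro L hL
  simp only [realLit, List.mem_cons, List.not_mem_nil, or_false] at hL
  rcases hL with rfl | rfl | rfl | rfl | rfl | rfl | rfl | rfl | rfl | rfl | rfl | rfl | rfl | rfl | rfl | rfl | rfl | rfl | rfl | rfl | rfl | rfl | rfl | rfl | rfl | rfl | rfl | rfl | rfl | rfl | rfl | rfl | rfl | rfl | rfl | rfl | rfl | rfl | rfl | rfl | rfl | rfl | rfl | rfl | rfl | rfl | rfl | rfl | rfl | rfl | rfl | rfl | rfl | rfl | rfl | rfl | rfl | rfl | rfl | rfl | rfl | rfl | rfl | rfl | rfl | rfl | rfl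
  · intro i hi
    rw [Tab.relActOK, ← actR0_eq]
    exact h_act0 i (Nat.zero_le _) hi
  · intro i hi
    rw [Tab.relActOK, ← actR1_eq]
    exact h_act1 i (Nat.zero_le _) hi
  · intro i hi
    rw [Tab.relActOK, ← actR2_eq]
    exact h_act2 i (Nat.zero_le _) hi
  · intro i hi
    rw [Tab.relActOK, ← actR3_eq]
    exact h_act3 i (Nat.zero_le _) hi
  · intro i hi
    rw [Tab.relActOK, ← actR4_eq]
    exact h_act4 i (Nat.zero_le _) hi
  · intro i hi
    rw [Tab.relActOK, ← actR5_eq]
    exact h_act5 i (Nat.zero_le _) hi
  · intro i hi
    rw [Tab.relActOK, ← actR6_eq]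
    exact h_act6 i (Nat.zero_le _) hi
  · intro i hi
    rw [Tab.relActOK, ← actR7_eq]
    exact h_act7 i (Nat.zero_le _) hi
  · intro i hi
    rw [Tab.relActOK, ← actR8_eq]
    exact h_act8 i (Nat.zero_le _) hi
  · intro i hi
    rw [Tab.relActOK, ← actR9_eq]
    exact h_act9 i (Nat.zero_le _) hi
  · intro i hi
    rw [Tab.relActOK, ← actR10_eq]
    exact h_act10 i (Nat.zero_le _) hi
  · intro i hi
    rw [Tab.relActOK, ← actR11_eq]
    exact h_act11 i (Nat.zero_le _) hi
  · intro i hi
    rw [Tab.relActOK, ← actR12_eq]
    exact h_act12 i (Nat.zero_le _) hi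
  · intro i hi
    rw [Tab.relActOK, ← actR13_eq]
    exact h_act13 i (Nat.zero_le _) hi
  · intro i hi
    rw [Tab.relActOK, ← actR14_eq]
    exact h_act14 i (Nat.zero_le _) hi
  · intro i hi
    rw [Tab.relActOK, ← actR15_eq]
    exact h_act15 i (Nat.zero_le _) hi
  · intro i hi
    rw [Tab.relActOK, ← actR16_eq]
    exact h_act16 i (Nat.zero_le _) hi
  · intro i hi
    rw [Tab.relActOK, ← actR17_eq]
    exact h_act17 i (Nat.zero_le _) hi
  · intro i hi
    rw [Tab.relActOK, ← actR18_eq]
    exact h_act18 i (Nat.zero_le _) hi
  · intro i hi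
    rw [Tab.relActOK, ← actR19_eq]
    exact h_act19 i (Nat.zero_le _) hi
  · intro i hi
    rw [Tab.relActOK, ← actR20_eq]
    exact h_act20 i (Nat.zero_le _) hi
  · intro i hi
    rw [Tab.relActOK, ← actR21_eq]
    exact h_act21 i (Nat.zero_le _) hi
  · intro i hi
    rw [Tab.relActOK, ← actR22_eq]
    exact h_act22 i (Nat.zero_le _) hi
  · intro i hi
    rw [Tab.relActOK, ← actR23_eq]
    exact h_act23 i (Nat.zero_le _) hi
  · intro i hi
    rw [Tab.relActOK, ← actR24_eq]
    exact h_act24 i (Nat.zero_le _) hi
  · intro i hi
    rw [Tab.relActOK, ← actR25_eq]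
    exact h_act25 i (Nat.zero_le _) hi
  · intro i hi
    rw [Tab.relActOK, ← actR26_eq]
    exact h_act26 i (Nat.zero_le _) hi
  · intro i hi
    rw [Tab.relActOK, ← actR27_eq]
    exact h_act27 i (Nat.zero_le _) hi
  · intro i hi
    rw [Tab.relActOK, ← actR28_eq]
    exact h_act28 i (Nat.zero_le _) hi
  · intro i hi
    rw [Tab.relActOK, ← actR29_eq]
    exact h_act29 i (Nat.zero_le _) hi
  · intro i hi
    rw [Tab.relActOK, ← actR30_eq]
    exact h_act30 i (Nat.zero_le _) hi
  · intro i hi
    rw [Tab.relActOK, ← actR31_eq]
    exact h_act31 i (Nat.zero_le _) hi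
  · intro i hi
    rw [Tab.relActOK, ← actR32_eq]
    exact h_act32 i (Nat.zero_le _) hi
  · intro i hi
    rw [Tab.relActOK, ← actR33_eq]
    exact h_act33 i (Nat.zero_le _) hi
  · intro i hi
    rw [Tab.relActOK, ← actR34_eq]
    exact h_act34 i (Nat.zero_le _) hi
  · intro i hi
    rw [Tab.relActOK, ← actR35_eq]
    exact h_act35 i (Nat.zero_le _) hi
  · intro i hi
    rw [Tab.relActOK, ← actR36_eq]
    exact h_act36 i (Nat.zero_le _) hi
  · intro i hi
    rw [Tab.relActOK, ← actR37_eq]
    exact h_act37 i (Nat.zero_le _) hi
  · intro i hi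
    rw [Tab.relActOK, ← actR38_eq]
    exact h_act38 i (Nat.zero_le _) hi
  · intro i hi
    rw [Tab.relActOK, ← actR39_eq]
    exact h_act39 i (Nat.zero_le _) hi
  · intro i hi
    rw [Tab.relActOK, ← actR40_eq]
    exact h_act40 i (Nat.zero_le _) hi
  · intro i hi
    rw [Tab.relActOK, ← actR41_eq]
    exact h_act41 i (Nat.zero_le _) hi
  · intro i hi
    rw [Tab.relActOK, ← actR42_eq]
    exact h_act42 i (Nat.zero_le _) hi
  · intro i hi
    rw [Tab.relActOK, ← actR43_eq]
    exact h_act43 i (Nat.zero_le _) hi
  · intro i hi
    rw [Tab.relActOK, ← actR44_eq]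
    exact h_act44 i (Nat.zero_le _) hi
  · intro i hi
    rw [Tab.relActOK, ← actR45_eq]
    exact h_act45 i (Nat.zero_le _) hi
  · intro i hi
    rw [Tab.relActOK, ← actR46_eq]
    exact h_act46 i (Nat.zero_le _) hi
  · intro i hi
    rw [Tab.relActOK, ← actR47_eq]
    exact h_act47 i (Nat.zero_le _) hi
  · intro i hi
    rw [Tab.relActOK, ← actR48_eq]
    exact h_act48 i (Nat.zero_le _) hi
  · intro i hi
    rw [Tab.relActOK, ← actR49_eq]
    exact h_act49 i (Nat.zero_le _) hi
  · intro i hi
    rw [Tab.relActOK, ← actR50_eq]
    exact h_act50 i (Nat.zero_le _) hi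
  · intro i hi
    rw [Tab.relActOK, ← actR51_eq]
    exact h_act51 i (Nat.zero_le _) hi
  · intro i hi
    rw [Tab.relActOK, ← actR52_eq]
    exact h_act52 i (Nat.zero_le _) hi
  · intro i hi
    rw [Tab.relActOK, ← actR53_eq]
    exact h_act53 i (Nat.zero_le _) hi
  · intro i hi
    rw [Tab.relActOK, ← actR54_eq]
    exact h_act54 i (Nat.zero_le _) hi
  · intro i hi
    rw [Tab.relActOK, ← actR55_eq]
    exact h_act55 i (Nat.zero_le _) hi
  · intro i hi
    rw [Tab.relActOK, ← actR56_eq]
    exact h_act56 i (Nat.zero_le _) hi
  · intro i hi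
    rw [Tab.relActOK, ← actR57_eq]
    exact h_act57 i (Nat.zero_le _) hi
  · intro i hi
    rw [Tab.relActOK, ← actR58_eq]
    exact h_act58 i (Nat.zero_le _) hi
  · intro i hi
    rw [Tab.relActOK, ← actR59_eq]
    exact h_act59 i (Nat.zero_le _) hi
  · intro i hi
    rw [Tab.relActOK, ← actR60_eq]
    exact h_act60 i (Nat.zero_le _) hi
  · intro i hi
    rw [Tab.relActOK, ← actR61_eq]
    exact h_act61 i (Nat.zero_le _) hi
  · intro i hi
    rw [Tab.relActOK, ← actR62_eq]
    exact h_act62 i (Nat.zero_le _) hi
  · intro i hi
    rw [Tab.relActOK, ← actR63_eq]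
    exact h_act63 i (Nat.zero_le _) hi
  · intro i hi
    rw [Tab.relActOK, ← actR64_eq]
    exact h_act64 i (Nat.zero_le _) hi
  · intro i hi
    rw [Tab.relActOK, ← actR65_eq]
    exact h_act65 i (Nat.zero_le _) hi
  · intro i hi
    rw [Tab.relActOK, ← actR66_eq]
    exact h_act66 i (Nat.zero_le _) hi

theorem h_w_wRel1 : ∀ i, i < T.N → Tab.relActOK T D wRel1 i = true := by
  intro i hi
  rw [Tab.relActOK, ← actW_wRel1_eq]
  exact h_w0_wRel1 i (Nat.zero_le _) hi

theorem h_w_wRel2 : ∀ i, i < T.N → Tab.relActOK T D wRel2 i = true := by
  intro i hi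
  rw [Tab.relActOK, ← actW_wRel2_eq]
  exact h_w0_wRel2 i (Nat.zero_le _) hi

theorem h_w_wSp213 : ∀ i, i < T.N → Tab.relActOK T D wSp213 i = true := by
  intro i hi
  rw [Tab.relActOK, ← actW_wSp213_eq]
  exact h_w0_wSp213 i (Nat.zero_le _) hi

theorem h_w_wSp312 : ∀ i, i < T.N → Tab.relActOK T D wSp312 i = true := by
  intro i hi
  rw [Tab.relActOK, ← actW_wSp312_eq]
  exact h_w0_wSp312 i (Nat.zero_le _) hi

theorem prep : PRep PY532.P T D where
  hP := PY532.valid
  hk := rfl
  hinv := fun _ _ => rfl
  hperm := fun i x hi hx => h_perm i (Nat.zero_le _) hi x hx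
  hlet := fun x hx => allBelow_eq_true.1 c_let x hx
  hact := h_act

end Cfsg.Agent.Lib.Helper4.TCD.Y532R
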