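import Cfsg.Agent.Lib.Helper4.TCD_Y532U1_Acc

namespace Cfsg.Agent.Lib.Helper4.TCD.Y532U1

open Cfsg.Agent.Lib.Helper4.TC

set_option maxRecDepth 100000
set_option Elab.async false

theorem c_zero : D.zeroOK = true := by decide +kernel
theorem c_base : allBelow D.baseOK 20 = true := by decide +kernel
theorem c_let : allBelow D.letOK 11 = true := by decide +kernel
theorem c_cls0 : T.cls 0 = 0 := by decide +kernel
theorem c_name0 : T.nameOf 0 = 0 := by decide +kernel
theorem c_tab : D.relTabOK 0 (baseRels 11 invLoc realLoc subs ++ (baseRels 11 invLoc realLoc subs).map (invWord D.inv)) = true := by decide +kernel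
theorem c_subs : subs.all (fun u => u.all (fun x => Nat.ble (Nat.succ x) 11)) = true := by decide +kernel
theorem c_names_0 : allRange D.nameOK 1 1827 = true := by decide +kernel
theorem c_cls_0 : allRange (T.clsOK D) 1 1827 = true := by decide +kernel
theorem c_rep_0 : allRange (T.repOK D) 0 1 = true := by decide +kernel
theorem c_rel_0 : allRange D.relOK 1848 3074 = true := by decide +kernel
theorem c_fin_0 : allGrid (T.finOK D) 0 1 11 = true := by decide +kernel
theorem c_perm_0 : allGrid (T.permOK1 D) 0 1 11 = true := by decide +kernel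

end Cfsg.Agent.Lib.Helper4.TCD.Y532U1
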