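import Cfsg.Agent.Lib.Helper4.TCD_Y532U2_Acc

namespace Cfsg.Agent.Lib.Helper4.TCD.Y532U2

open Cfsg.Agent.Lib.Helper4.TC

set_option maxRecDepth 100000
set_option Elab.async false

theorem c_zero : D.zeroOK = true := by decide +kernel
theorem c_base : allBelow D.baseOK 18 = true := by decide +kernel
theorem c_let : allBelow D.letOK 10 = true := by decide +kernel
theorem c_cls0 : T.cls 0 = 0 := by decide +kernel
theorem c_name0 : T.nameOf 0 = 0 := by decide +kernel
theorem c_tab : D.relTabOK 0 (baseRels 10 invLoc realLoc subs ++ (baseRels 10 invLoc realLoc subs).map (invWord D.inv)) = true := by decide +kernel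
theorem c_subs : subs.all (fun u => u.all (fun x => Nat.ble (Nat.succ x) 10)) = true := by decide +kernel
theorem c_names_0 : allRange D.nameOK 1 60000 = true := by decide +kernel
theorem c_names_1 : allRange D.nameOK 60001 575 = true := by decide +kernel
theorem c_cls_0 : allRange (T.clsOK D) 1 15000 = true := by decide +kernel
theorem c_cls_1 : allRange (T.clsOK D) 15001 15000 = true := by decide +kernel
theorem c_cls_2 : allRange (T.clsOK D) 30001 15000 = true := by decide +kernel
theorem c_cls_3 : allRange (T.clsOK D) 45001 15000 = true := by decide +kernel
theorem c_cls_4 : allRange (T.clsOK D) 60001 575 = true := by decide +kernel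
theorem c_rep_0 : allRange (T.repOK D) 0 30000 = true := by decide +kernel
theorem c_rep_1 : allRange (T.repOK D) 30000 1671 = true := by decide +kernel
theorem c_rel_0 : allRange D.relOK 60594 3529 = true := by decide +kernel
theorem c_rel_1 : allRange D.relOK 64123 3526 = true := by decide +kernel
theorem c_rel_2 : allRange D.relOK 67649 3521 = true := by decide +kernel
theorem c_rel_3 : allRange D.relOK 71170 3510 = true := by decide +kernel
theorem c_rel_4 : allRange D.relOK 74680 3511 = true := by decide +kernel
theorem c_rel_5 : allRange D.relOK 78191 3505 = true := by decide +kernel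
theorem c_rel_6 : allRange D.relOK 81696 3500 = true := by decide +kernel
theorem c_rel_7 : allRange D.relOK 85196 3517 = true := by decide +kernel
theorem c_rel_8 : allRange D.relOK 88713 3503 = true := by decide +kernel
theorem c_rel_9 : allRange D.relOK 92216 3513 = true := by decide +kernel
theorem c_rel_10 : allRange D.relOK 95729 3497 = true := by decide +kernel
theorem c_rel_11 : allRange D.relOK 99226 3519 = true := by decide +kernel
theorem c_rel_12 : allRange D.relOK 102745 3509 = true := by decide +kernel
theorem c_rel_13 : allRange D.relOK 106254 3508 = true := by decide +kernel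
theorem c_rel_14 : allRange D.relOK 109762 3529 = true := by decide +kernel
theorem c_rel_15 : allRange D.relOK 113291 3489 = true := by decide +kernel
theorem c_rel_16 : allRange D.relOK 116780 3523 = true := by decide +kernel
theorem c_rel_17 : allRange D.relOK 120303 3516 = true := by decide +kernel
theorem c_rel_18 : allRange D.relOK 123819 3501 = true := by decide +kernel
theorem c_rel_19 : allRange D.relOK 127320 3513 = true := by decide +kernel
theorem c_rel_20 : allRange D.relOK 130833 3524 = true := by decide +kernel
theorem c_rel_21 : allRange D.relOK 134357 3509 = true := by decide +kernel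
theorem c_rel_22 : allRange D.relOK 137866 3492 = true := by decide +kernel
theorem c_rel_23 : allRange D.relOK 141358 3533 = true := by decide +kernel
theorem c_rel_24 : allRange D.relOK 144891 3497 = true := by decide +kernel
theorem c_rel_25 : allRange D.relOK 148388 3506 = true := by decide +kernel
theorem c_rel_26 : allRange D.relOK 151894 3510 = true := by decide +kernel
theorem c_rel_27 : allRange D.relOK 155404 3529 = true := by decide +kernel
theorem c_rel_28 : allRange D.relOK 158933 3511 = true := by decide +kernel
theorem c_rel_29 : allRange D.relOK 162444 3487 = true := by decide +kernel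
theorem c_rel_30 : allRange D.relOK 165931 3509 = true := by decide +kernel
theorem c_rel_31 : allRange D.relOK 169440 3500 = true := by decide +kernel
theorem c_rel_32 : allRange D.relOK 172940 3434 = true := by decide +kernel
theorem c_rel_33 : allRange D.relOK 176374 3564 = true := by decide +kernel
theorem c_rel_34 : allRange D.relOK 179938 3603 = true := by decide +kernel
theorem c_rel_35 : allRange D.relOK 183541 3454 = true := by decide +kernel
theorem c_rel_36 : allRange D.relOK 186995 3623 = true := by decide +kernel
theorem c_rel_37 : allRange D.relOK 190618 3398 = true := by decide +kernel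
theorem c_rel_38 : allRange D.relOK 194016 3476 = true := by decide +kernel
theorem c_rel_39 : allRange D.relOK 197492 3130 = true := by decide +kernel
theorem c_rel_40 : allRange D.relOK 200622 3158 = true := by decide +kernel
theorem c_rel_41 : allRange D.relOK 203780 3377 = true := by decide +kernel
theorem c_rel_42 : allRange D.relOK 207157 3428 = true := by decide +kernel
theorem c_rel_43 : allRange D.relOK 210585 3412 = true := by decide +kernel
theorem c_rel_44 : allRange D.relOK 213997 3475 = true := by decide +kernel
theorem c_rel_45 : allRange D.relOK 217472 3463 = true := by decide +kernel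
theorem c_rel_46 : allRange D.relOK 220935 3467 = true := by decide +kernel
theorem c_rel_47 : allRange D.relOK 224402 3483 = true := by decide +kernel
theorem c_rel_48 : allRange D.relOK 227885 3490 = true := by decide +kernel
theorem c_rel_49 : allRange D.relOK 231375 3511 = true := by decide +kernel
theorem c_rel_50 : allRange D.relOK 234886 3506 = true := by decide +kernel
theorem c_rel_51 : allRange D.relOK 238392 3491 = true := by decide +kernel
theorem c_rel_52 : allRange D.relOK 241883 3503 = true := by decide +kernel
theorem c_rel_53 : allRange D.relOK 245386 3486 = true := by decide +kernel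
theorem c_rel_54 : allRange D.relOK 248872 4398 = true := by decide +kernel
theorem c_rel_55 : allRange D.relOK 253270 4895 = true := by decide +kernel
theorem c_rel_56 : allRange D.relOK 258165 4864 = true := by decide +kernel
theorem c_rel_57 : allRange D.relOK 263029 4840 = true := by decide +kernel
theorem c_rel_58 : allRange D.relOK 267869 4860 = true := by decide +kernel
theorem c_rel_59 : allRange D.relOK 272729 4837 = true := by decide +kernel
theorem c_rel_60 : allRange D.relOK 277566 1185 = true := by decide +kernel
theorem c_fin_0 : allGrid (T.finOK D) 0 1200 10 = true := by decide +kernel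
theorem c_fin_1 : allGrid (T.finOK D) 1200 1200 10 = true := by decide +kernel
theorem c_fin_2 : allGrid (T.finOK D) 2400 1200 10 = true := by decide +kernel
theorem c_fin_3 : allGrid (T.finOK D) 3600 1200 10 = true := by decide +kernel
theorem c_fin_4 : allGrid (T.finOK D) 4800 1200 10 = true := by decide +kernel
theorem c_fin_5 : allGrid (T.finOK D) 6000 1200 10 = true := by decide +kernel
theorem c_fin_6 : allGrid (T.finOK D) 7200 1200 10 = true := by decide +kernel
theorem c_fin_7 : allGrid (T.finOK D) 8400 1200 10 = true := by decide +kernel
theorem c_fin_8 : allGrid (T.finOK D) 9600 1200 10 = true := by decide +kernel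
theorem c_fin_9 : allGrid (T.finOK D) 10800 1200 10 = true := by decide +kernel
theorem c_fin_10 : allGrid (T.finOK D) 12000 1200 10 = true := by decide +kernel
theorem c_fin_11 : allGrid (T.finOK D) 13200 1200 10 = true := by decide +kernel
theorem c_fin_12 : allGrid (T.finOK D) 14400 1200 10 = true := by decide +kernel

end Cfsg.Agent.Lib.Helper4.TCD.Y532U2
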