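import Cfsg.Agent.Lib.Helper4.TCD_Y532U2_Acc

namespace Cfsg.Agent.Lib.Helper4.TCD.Y532U2

open Cfsg.Agent.Lib.Helper4.TC

set_option maxRecDepth 100000
set_option Elab.async false

theorem c_fin_13 : allGrid (T.finOK D) 15600 1200 10 = true := by decide +kernel
theorem c_fin_14 : allGrid (T.finOK D) 16800 1200 10 = true := by decide +kernel
theorem c_fin_15 : allGrid (T.finOK D) 18000 1200 10 = true := by decide +kernel
theorem c_fin_16 : allGrid (T.finOK D) 19200 1200 10 = true := by decide +kernel
theorem c_fin_17 : allGrid (T.finOK D) 20400 1200 10 = true := by decide +kernel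
theorem c_fin_18 : allGrid (T.finOK D) 21600 1200 10 = true := by decide +kernel
theorem c_fin_19 : allGrid (T.finOK D) 22800 1200 10 = true := by decide +kernel
theorem c_fin_20 : allGrid (T.finOK D) 24000 1200 10 = true := by decide +kernel
theorem c_fin_21 : allGrid (T.finOK D) 25200 1200 10 = true := by decide +kernel
theorem c_fin_22 : allGrid (T.finOK D) 26400 1200 10 = true := by decide +kernel
theorem c_fin_23 : allGrid (T.finOK D) 27600 1200 10 = true := by decide +kernel
theorem c_fin_24 : allGrid (T.finOK D) 28800 1200 10 = true := by decide +kernel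
theorem c_fin_25 : allGrid (T.finOK D) 30000 1200 10 = true := by decide +kernel
theorem c_fin_26 : allGrid (T.finOK D) 31200 471 10 = true := by decide +kernel
theorem c_perm_0 : allGrid (T.permOK1 D) 0 3000 10 = true := by decide +kernel
theorem c_perm_1 : allGrid (T.permOK1 D) 3000 3000 10 = true := by decide +kernel
theorem c_perm_2 : allGrid (T.permOK1 D) 6000 3000 10 = true := by decide +kernel
theorem c_perm_3 : allGrid (T.permOK1 D) 9000 3000 10 = true := by decide +kernel
theorem c_perm_4 : allGrid (T.permOK1 D) 12000 3000 10 = true := by decide +kernel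
theorem c_perm_5 : allGrid (T.permOK1 D) 15000 3000 10 = true := by decide +kernel
theorem c_perm_6 : allGrid (T.permOK1 D) 18000 3000 10 = true := by decide +kernel
theorem c_perm_7 : allGrid (T.permOK1 D) 21000 3000 10 = true := by decide +kernel
theorem c_perm_8 : allGrid (T.permOK1 D) 24000 3000 10 = true := by decide +kernel
theorem c_perm_9 : allGrid (T.permOK1 D) 27000 3000 10 = true := by decide +kernel
theorem c_perm_10 : allGrid (T.permOK1 D) 30000 1671 10 = true := by decide +kernel

end Cfsg.Agent.Lib.Helper4.TCD.Y532U2
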