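import Cfsg.Agent.Lib.Helper4.TCD_Y532U3_Acc

namespace Cfsg.Agent.Lib.Helper4.TCD.Y532U3

open Cfsg.Agent.Lib.Helper4.TC

set_option maxRecDepth 100000
set_option Elab.async false

theorem c_zero : D.zeroOK = true := by decide +kernel
theorem c_base : allBelow D.baseOK 16 = true := by decide +kernel
theorem c_let : allBelow D.letOK 9 = true := by decide +kernel
theorem c_cls0 : T.cls 0 = 0 := by decide +kernel
theorem c_name0 : T.nameOf 0 = 0 := by decide +kernel
theorem c_tab : D.relTabOK 0 (baseRels 9 invLoc realLoc subs ++ (baseRels 9 invLoc realLoc subs).map (invWord D.inv)) = true := by decide +kernel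
theorem c_subs : subs.all (fun u => u.all (fun x => Nat.ble (Nat.succ x) 9)) = true := by decide +kernel
theorem c_names_0 : allRange D.nameOK 1 44568 = true := by decide +kernel
theorem c_cls_0 : allRange (T.clsOK D) 1 15000 = true := by decide +kernel
theorem c_cls_1 : allRange (T.clsOK D) 15001 15000 = true := by decide +kernel
theorem c_cls_2 : allRange (T.clsOK D) 30001 14568 = true := by decide +kernel
theorem c_rep_0 : allRange (T.repOK D) 0 28160 = true := by decide +kernel
theorem c_rel_0 : allRange D.relOK 44585 3493 = true := by decide +kernel
theorem c_rel_1 : allRange D.relOK 48078 3479 = true := by decide +kernel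
theorem c_rel_2 : allRange D.relOK 51557 3457 = true := by decide +kernel
theorem c_rel_3 : allRange D.relOK 55014 3456 = true := by decide +kernel
theorem c_rel_4 : allRange D.relOK 58470 3468 = true := by decide +kernel
theorem c_rel_5 : allRange D.relOK 61938 3485 = true := by decide +kernel
theorem c_rel_6 : allRange D.relOK 65423 3464 = true := by decide +kernel
theorem c_rel_7 : allRange D.relOK 68887 3482 = true := by decide +kernel
theorem c_rel_8 : allRange D.relOK 72369 3492 = true := by decide +kernel
theorem c_rel_9 : allRange D.relOK 75861 3476 = true := by decide +kernel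
theorem c_rel_10 : allRange D.relOK 79337 3503 = true := by decide +kernel
theorem c_rel_11 : allRange D.relOK 82840 3484 = true := by decide +kernel
theorem c_rel_12 : allRange D.relOK 86324 3504 = true := by decide +kernel
theorem c_rel_13 : allRange D.relOK 89828 3483 = true := by decide +kernel
theorem c_rel_14 : allRange D.relOK 93311 3498 = true := by decide +kernel
theorem c_rel_15 : allRange D.relOK 96809 3508 = true := by decide +kernel
theorem c_rel_16 : allRange D.relOK 100317 3503 = true := by decide +kernel
theorem c_rel_17 : allRange D.relOK 103820 3500 = true := by decide +kernel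
theorem c_rel_18 : allRange D.relOK 107320 3498 = true := by decide +kernel
theorem c_rel_19 : allRange D.relOK 110818 3501 = true := by decide +kernel
theorem c_rel_20 : allRange D.relOK 114319 3482 = true := by decide +kernel
theorem c_rel_21 : allRange D.relOK 117801 3460 = true := by decide +kernel
theorem c_rel_22 : allRange D.relOK 121261 3541 = true := by decide +kernel
theorem c_rel_23 : allRange D.relOK 124802 3573 = true := by decide +kernel
theorem c_rel_24 : allRange D.relOK 128375 3464 = true := by decide +kernel
theorem c_rel_25 : allRange D.relOK 131839 3160 = true := by decide +kernel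
theorem c_rel_26 : allRange D.relOK 134999 3264 = true := by decide +kernel
theorem c_rel_27 : allRange D.relOK 138263 3399 = true := by decide +kernel
theorem c_rel_28 : allRange D.relOK 141662 3439 = true := by decide +kernel
theorem c_rel_29 : allRange D.relOK 145101 3393 = true := by decide +kernel
theorem c_rel_30 : allRange D.relOK 148494 3489 = true := by decide +kernel
theorem c_rel_31 : allRange D.relOK 151983 3425 = true := by decide +kernel
theorem c_rel_32 : allRange D.relOK 155408 3395 = true := by decide +kernel
theorem c_rel_33 : allRange D.relOK 158803 3382 = true := by decide +kernel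
theorem c_rel_34 : allRange D.relOK 162185 3452 = true := by decide +kernel
theorem c_rel_35 : allRange D.relOK 165637 3463 = true := by decide +kernel
theorem c_rel_36 : allRange D.relOK 169100 3466 = true := by decide +kernel
theorem c_rel_37 : allRange D.relOK 172566 3449 = true := by decide +kernel
theorem c_rel_38 : allRange D.relOK 176015 3414 = true := by decide +kernel
theorem c_rel_39 : allRange D.relOK 179429 4181 = true := by decide +kernel
theorem c_rel_40 : allRange D.relOK 183610 4878 = true := by decide +kernel
theorem c_rel_41 : allRange D.relOK 188488 4890 = true := by decide +kernel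
theorem c_rel_42 : allRange D.relOK 193378 3843 = true := by decide +kernel
theorem c_fin_0 : allGrid (T.finOK D) 0 1333 9 = true := by decide +kernel
theorem c_fin_1 : allGrid (T.finOK D) 1333 1333 9 = true := by decide +kernel
theorem c_fin_2 : allGrid (T.finOK D) 2666 1333 9 = true := by decide +kernel
theorem c_fin_3 : allGrid (T.finOK D) 3999 1333 9 = true := by decide +kernel
theorem c_fin_4 : allGrid (T.finOK D) 5332 1333 9 = true := by decide +kernel
theorem c_fin_5 : allGrid (T.finOK D) 6665 1333 9 = true := by decide +kernel
theorem c_fin_6 : allGrid (T.finOK D) 7998 1333 9 = true := by decide +kernel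
theorem c_fin_7 : allGrid (T.finOK D) 9331 1333 9 = true := by decide +kernel
theorem c_fin_8 : allGrid (T.finOK D) 10664 1333 9 = true := by decide +kernel
theorem c_fin_9 : allGrid (T.finOK D) 11997 1333 9 = true := by decide +kernel
theorem c_fin_10 : allGrid (T.finOK D) 13330 1333 9 = true := by decide +kernel
theorem c_fin_11 : allGrid (T.finOK D) 14663 1333 9 = true := by decide +kernel
theorem c_fin_12 : allGrid (T.finOK D) 15996 1333 9 = true := by decide +kernel
theorem c_fin_13 : allGrid (T.finOK D) 17329 1333 9 = true := by decide +kernel
theorem c_fin_14 : allGrid (T.finOK D) 18662 1333 9 = true := by decide +kernel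
theorem c_fin_15 : allGrid (T.finOK D) 19995 1333 9 = true := by decide +kernel
theorem c_fin_16 : allGrid (T.finOK D) 21328 1333 9 = true := by decide +kernel
theorem c_fin_17 : allGrid (T.finOK D) 22661 1333 9 = true := by decide +kernel
theorem c_fin_18 : allGrid (T.finOK D) 23994 1333 9 = true := by decide +kernel
theorem c_fin_19 : allGrid (T.finOK D) 25327 1333 9 = true := by decide +kernel
theorem c_fin_20 : allGrid (T.finOK D) 26660 1333 9 = true := by decide +kernel
theorem c_fin_21 : allGrid (T.finOK D) 27993 167 9 = true := by decide +kernel
theorem c_perm_0 : allGrid (T.permOK1 D) 0 3333 9 = true := by decide +kernel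
theorem c_perm_1 : allGrid (T.permOK1 D) 3333 3333 9 = true := by decide +kernel

end Cfsg.Agent.Lib.Helper4.TCD.Y532U3
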