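import Cfsg.Agent.Lib.Helper4.TCD_Y532U3_Acc

namespace Cfsg.Agent.Lib.Helper4.TCD.Y532U3

open Cfsg.Agent.Lib.Helper4.TC

set_option maxRecDepth 100000
set_option Elab.async false

theorem c_perm_2 : allGrid (T.permOK1 D) 6666 3333 9 = true := by decide +kernel
theorem c_perm_3 : allGrid (T.permOK1 D) 9999 3333 9 = true := by decide +kernel
theorem c_perm_4 : allGrid (T.permOK1 D) 13332 3333 9 = true := by decide +kernel
theorem c_perm_5 : allGrid (T.permOK1 D) 16665 3333 9 = true := by decide +kernel
theorem c_perm_6 : allGrid (T.permOK1 D) 19998 3333 9 = true := by decide +kernel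
theorem c_perm_7 : allGrid (T.permOK1 D) 23331 3333 9 = true := by decide +kernel
theorem c_perm_8 : allGrid (T.permOK1 D) 26664 1496 9 = true := by decide +kernel

end Cfsg.Agent.Lib.Helper4.TCD.Y532U3
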