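namespace Cfsg.Agent.Lib.Helper4.TCD.Y532U6

noncomputable def Atab_0 : Nat := nat_lit 0x175a1eb42d683ad035a2e722ce439c83392e304c6058c071825ee3bdc57b86d725ac3b5854b02d6256a3ad455a82b525283a5034a029424e639cc52992521ca41948b189231142218c4b0812100b6057bc8e785ef03de57386e705ce039c56b48d689ad035a56308b6018c2ad635ac0b5954a22542528a948d29125243a068409080a10329c47384e7198c231826300c6214a229425280a511081210042106310c6118ca21104218842108a10902118420084a0010001800100000040007800e001a0030005800a001200200038004d6479c03172dea5b4c359969204e209407178e0c13d8272c6d5058a0ad20520093950629c84310a518c8300c411044101800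
noncomputable def Btab_0 : Nat := nat_lit 0xaab24ea1510a6b43694d09a3b41288c91a0b4327cd089cd40e6948598b2125cc8294d2064cd1391b44640d0e8eb42a34d138bb44628d0e87d41618c8984b222094877fd405f8d137cb445ecd0a78d415dcc8474d20dccc8271b211bd4836cd205acc9168d2419cd0c65b42190c9161d24180d085eb23974c8d5ad41d64d0257b23958c8c53d41d48d0250b245394904cb4312950348b2291cc8944d4050cc8a41b220fd5013cd214ecc8439b208dd48534d20cccc8231b44cc0d112eb438b4d0a2bb444a8d0e28b4289951024b4348cd0921b41080d131eb43874d0a1ad41464d0c17b4205550313b21048c820fd20438c8a0cb2242cc8808d21c1cc8e05b23410c8c02b4080841f0190780441d0090700041b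
noncomputable def Ptab_0 : Nat := nat_lit 0x1a41c6a34193f466351a4146a34818d469011a8c9fe33193ec66327c8cc64307a8c46630173845e31183dc6230798c460f174bc0622e738bc5ce5178b9c62f170a85a2c6b8b458d5168b1a629160999627168a9ae2b15354562a69b35a42b150998a27158a1a2291433c5228668a450246189452266489c4c225b88c4e266389448c11289040a11089448bf53af84a225e88c44bb59ae846220f08444b9118814a211028d3aa210880301b0f2943e1e518743c184a8643e1e5087c389f0e8713a1d0e0591e170e871361d0d264361a4ba452c1b0d254361a0a22c2a1b0c26432184b85c30144385432164985c2c910b85824810985c28103c8442a144684c28890a8481c6b0784c248538a1026124184c200c07840fe11081f422103d8441c0805838de0f071b41e0c041a4120d061bc1a0c36834186b06828d20b0519c160a3282c14063181c1608338241065048200c5f038240c6103818ba0703010aa0503810b605021640a042b81408022680c0a022980c0451018089e030112c0649229047a39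
noncomputable def RRtab_0 : Nat := nat_lit 0x2c0b02388e1b06c0a82a02008294a52108418c63108420842100000294a5214852148521084194651946519064190641906418c631144511445110441104410c4310c43108420942509425090240902408c2308c2308822088220882208421014050140501405010040100400c0300c0300c03008020080200401004010040100000795e5691a458d6348521380e0294a52108418c63108420842100000294a5290a4290a42108428ca328ca320c8320c8320c8318c63288a2288a22088220882188621886210842284a1284a12048120481184611846110441104411044108421280a0280a0280a02008020080180601806018060100401004008020080200802000000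
noncomputable def rBtab_0 : Nat := nat_lit 0xce6632990c66230980be5e2e970b4592b950a65127934984a2411886421f8f474381a8d06632188c05e2e168b0562a148a04c25118803e1d0d86430160a0481e0e058240c0400800
noncomputable def rLtab_0 : Nat := nat_lit 0x4924924928a6524524cb4d324924924928a6524524cb4d32
noncomputable def nameTab_0 : Nat := nat_lit 0x6b38bdab38bdd4941ac5a928398a418820
noncomputable def col0_0 : Nat := nat_lit 0x6b37c5ab3a4a3073dac5a0ea498a410c20
noncomputable def col1_0 : Nat := nat_lit 0x6b38b5e959ca307b5ca4b168398a418440
noncomputable def col2_0 : Nat := nat_lit 0x6b38bc2af73176a4db28a928398a418801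
noncomputable def col3_0 : Nat := nat_lit 0x6b19bdab494e307b14e5b528298e320820
noncomputable def col4_0 : Nat := nat_lit 0x6758bdab49c6507b9ab62547410a618820
noncomputable def col5_0 : Nat := nat_lit 0x6b38ad2f69ca2f839ac5a9262206728820
noncomputable def finTab_0 : Nat := nat_lit 0x22035874321508830d0670481401fcfc193e9f03117bd9e8f2780c05aee763a9e2e817399c8e215b8058d66a34854276532046c66209978ba1107d70b65a2ed641d582b852de6e3adb4d8143419cd36609584c010b1d7c24562a836a85fa9948a21007832a04f28d381c0ba6930960d25030154925d208e0b04c228c452210c1407a35088240048200d3f1f0f478059d90a74391c01c0c049b8d86a051a010663201cc4602f1700a062d160ac0302150a45027008984a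
noncomputable def clsTab_0 : Nat := nat_lit 0x6b38bdab0a3e6e945ac5a928398a418820

end Cfsg.Agent.Lib.Helper4.TCD.Y532U6
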