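namespace Cfsg.Agent.Lib.Helper4.TCD.Y532U7

noncomputable def Atab_0 : Nat := nat_lit 0x499299199099488188088477377177366266156355255055344244044333233422322122411111011400200100000d00c00b00a00900800700600398287076464453143032221310500
noncomputable def Btab_0 : Nat := nat_lit 0x189936ed455a687aed075192e8b434ca828f4891190dfd20bc68d72d16d9a219b46b068b57508a191d2b2320a813ac8662908ab2590a4a1ad0c299343b43846830642e08858090a80214
noncomputable def Ptab_0 : Nat := nat_lit 0x12b24c910a244992ae4c9552642991213c8901d2c7911c31e8d1e3a68f1d261c81e3208d18fc68c102c53b1629c8b1419b871621d8910e44880ccc3890cd438608b428708c428404a418508bc282560c1270609283467cd97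
noncomputable def RRtab_0 : Nat := nat_lit 0x4d4d2b2b191907074444333322221111000044443434343433332424242423232323232322221414141413131313121212121111040404040404030303030202020202020101010101010000c4c4a2a2818160604444333322221111000044444343434333334242424232323232323222224141414131313131212121211111404040404040303030302020202020201010101010100000
noncomputable def rBtab_0 : Nat := nat_lit 0x964a249208e46229108642200fc7a3a1c8dc6a33190bc5a2a138984a241188842200f8783a1c0d0642e14098441e0d060240e0400800
noncomputable def rLtab_0 : Nat := nat_lit 0x4924924a29949169b24924924a29949169b2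
noncomputable def nameTab_0 : Nat := nat_lit 0x9876543210
noncomputable def col0_0 : Nat := nat_lit 0x9867542310
noncomputable def col1_0 : Nat := nat_lit 0x9875634210
noncomputable def col2_0 : Nat := nat_lit 0x9786543120
noncomputable def col3_0 : Nat := nat_lit 0x8976543201
noncomputable def col4_0 : Nat := nat_lit 0x9874365210
noncomputable def finTab_0 : Nat := nat_lit 0x3013bd72d582446b54a54084e1e3664a90385c6892610c80f84bc14e9c080ed9a05641980308b962a04a1324
noncomputable def clsTab_0 : Nat := nat_lit 0x9876543210

end Cfsg.Agent.Lib.Helper4.TCD.Y532U7
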