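import Mathlib
import Cfsg.Prelude.Def_Balance
import Cfsg.Prelude.Def_ClassificationStages
import Cfsg.Agent.Lib.Helper7.BB1
import Cfsg.Agent.Lib.Helper7.BB2

/-!
# Farm TCL (S1775): unit U2: the B-property is invariant under isomorphism.
-/

set_option autoImplicit false

namespace Cfsg.Agent.Lib.Helper4.TCL

open Cfsg

/-- The `p`-layer is carried to the `p`-layer by an isomorphism. -/
theorem pLayer_map_equiv {A B : Type*} [Group A] [Group B] [Finite A] [Finite B] (p : ℕ)
    [hp : Fact p.Prime] (e : A ≃* B) : (pLayer p A).map e.toMonoidHom = pLayer p B := by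
  apply le_antisymm
  · rw [Subgroup.map_le_iff_le_comap]
    unfold pLayer
    apply sSup_le
    intro K hK
    rw [← Subgroup.map_le_iff_le_comap]
    exact le_sSup (Cfsg.Agent.Lib.Helper7.BB.isPComponent_map_equiv e hK)
  · unfold pLayer
    apply sSup_le
    intro K hK
    have h1 : IsPComponent p (K.map e.symm.toMonoidHom) :=
      Cfsg.Agent.Lib.Helper7.BB.isPComponent_map_equiv e.symm hK
    have h2 : K = (K.map e.symm.toMonoidHom).map e.toMonoidHom := by
      ext y
      constructor
      · intro hy
        exact ⟨e.symm y, ⟨y, hy, rfl⟩, by simp⟩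
      · rintro ⟨x, ⟨y, hy, rfl⟩, rfl⟩
        simpa using hy
    rw [h2]
    exact Subgroup.map_mono (le_sSup h1)

/-- U2: the B-property is invariant under isomorphism. -/
theorem U2 {X Y : Type*} [Group X] [Group Y] [Finite X] (e : X ≃* Y)
    (h : Cfsg.HasBProperty X) : Cfsg.HasBProperty Y := by
  have : Finite Y := Finite.of_equiv X e.toEquiv
  intro s hs
  have ht : orderOf (e.symm s) = 2 := by
    rw [MulEquiv.orderOf_eq]
    exact hs
  have hB := h (e.symm s) ht
  have hcent : (Subgroup.centralizer ({e.symm s} : Set X)).map e.toMonoidHom =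
      Subgroup.centralizer ({s} : Set Y) := by
    rw [Cfsg.Agent.Lib.Helper7.BB.centralizer_singleton_map_equiv e (e.symm s)]
    simp
  let e' : ↥(Subgroup.centralizer ({e.symm s} : Set X)) ≃* ↥(Subgroup.centralizer ({s} : Set Y)) :=
    (e.subgroupMap (Subgroup.centralizer ({e.symm s} : Set X))).trans
      (MulEquiv.subgroupCongr hcent)
  have hcomp : (Subgroup.centralizer ({s} : Set Y)).subtype.comp e'.toMonoidHom =
      e.toMonoidHom.comp (Subgroup.centralizer ({e.symm s} : Set X)).subtype := by
    ext x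
    rfl
  have hL := pLayer_map_equiv 2 e'
  have hO : (oddCore ↥(Subgroup.centralizer ({e.symm s} : Set X))).map e'.toMonoidHom =
      oddCore ↥(Subgroup.centralizer ({s} : Set Y)) :=
    Cfsg.Agent.Lib.Helper7.BB.pPrimeCore_map_equiv (p := 2) e'
  have hOY : (oddCore X).map e.toMonoidHom = oddCore Y :=
    Cfsg.Agent.Lib.Helper7.BB.pPrimeCore_map_equiv (p := 2) e
  rw [← hL, ← hO, ← Subgroup.map_commutator, Subgroup.map_map, hcomp, ← Subgroup.map_map, ← hOY]
  exact Subgroup.map_mono hB

end Cfsg.Agent.Lib.Helper4.TCL
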