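import Mathlib
import Cfsg.Agent.Lib.Helper7.THDefs

/-! S4057 farm (helper7), piece LA `exists_adapted_basis`. -/

set_option autoImplicit false

namespace Cfsg.Agent.Lib.Helper7.TH

section
variable {k : Type*} [Field k] {V : Type*} [AddCommGroup V] [Module k V]

/-- the flag built by successively adjoining `nx F` -/
noncomputable def h4_flag (nx : Submodule k V → V) : ℕ → Submodule k V
  | 0 => ⊥
  | (n + 1) => h4_flag nx n ⊔ Submodule.span k {nx (h4_flag nx n)}

theorem h4_flag_zero (nx : Submodule k V → V) : h4_flag nx 0 = ⊥ := rfl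

theorem h4_flag_succ (nx : Submodule k V → V) (n : ℕ) :
    h4_flag nx (n + 1) = h4_flag nx n ⊔ Submodule.span k {nx (h4_flag nx n)} := rfl

theorem h4_flag_finrank [FiniteDimensional k V] (nx : Submodule k V → V)
    (hnx : ∀ F, F ≠ ⊤ → nx F ∉ F) :
    ∀ n, n ≤ Module.finrank k V → Module.finrank k (h4_flag nx n) = n := by
  intro n
  induction n with
  | zero => intro _; rw [h4_flag_zero]; exact finrank_bot k V
  | succ n ih =>
    intro hn
    have ihn := ih (by omega)
    have hne : h4_flag nx n ≠ ⊤ := by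
      intro htop
      rw [htop, finrank_top] at ihn
      omega
    have hnot := hnx _ hne
    have hv0 : nx (h4_flag nx n) ≠ 0 := by
      intro h0; apply hnot; rw [h0]; exact Submodule.zero_mem _
    have hdisj : Disjoint (h4_flag nx n) (Submodule.span k {nx (h4_flag nx n)}) :=
      (Submodule.disjoint_span_singleton' hv0).mpr hnot
    have hsum := Submodule.finrank_sup_add_finrank_inf_eq (h4_flag nx n)
      (Submodule.span k {nx (h4_flag nx n)})
    rw [disjoint_iff.mp hdisj, finrank_bot, add_zero, ihn, finrank_span_singleton hv0] at hsum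
    rw [h4_flag_succ]; exact hsum

theorem h4_flag_repr {m : ℕ} (nx : Submodule k V → V) (b : Module.Basis (Fin m) k V)
    (hb : ∀ i : Fin m, b i = nx (h4_flag nx i)) :
    ∀ j, j ≤ m → ∀ w ∈ h4_flag nx j, ∀ i : Fin m, j ≤ (i : ℕ) → b.repr w i = 0 := by
  intro j
  induction j with
  | zero =>
    intro _ w hw i _
    rw [h4_flag_zero, Submodule.mem_bot] at hw
    rw [hw]; simp
  | succ j ih =>
    intro hj w hw i hi
    rw [h4_flag_succ, Submodule.mem_sup] at hw
    obtain ⟨w', hw', y, hy, rfl⟩ := hw
    rw [Submodule.mem_span_singleton] at hy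
    obtain ⟨c, rfl⟩ := hy
    have hbj : nx (h4_flag nx j) = b ⟨j, by omega⟩ := (hb ⟨j, by omega⟩).symm
    rw [map_add, Finsupp.add_apply, ih (by omega) w' hw' i (by omega), zero_add, hbj, map_smul,
      Finsupp.smul_apply, Module.Basis.repr_self, Finsupp.single_apply, if_neg, smul_zero]
    intro h
    rw [← h] at hi
    simp at hi

theorem h4_flag_le_span (nx : Submodule k V → V) : ∀ n, h4_flag nx n ≤
    Submodule.span k ((fun l => nx (h4_flag nx l)) '' {l | l < n}) := by
  intro n
  induction n with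
  | zero => rw [h4_flag_zero]; exact bot_le
  | succ n ih =>
    rw [h4_flag_succ]
    refine sup_le (ih.trans (Submodule.span_mono (Set.image_mono ?_))) ?_
    · intro l hl
      exact Nat.lt_succ_of_lt hl
    · rw [Submodule.span_singleton_le_iff_mem]
      exact Submodule.subset_span ⟨n, Nat.lt_succ_self n, rfl⟩

end

/-- LA: adapted basis -/
theorem h4dup_exists_adapted_basis {k : Type*} [Field k] {V : Type*} [AddCommGroup V] [Module k V]
    [FiniteDimensional k V] {G : Type*} [Monoid G] (ρ : G →* Module.End k V) (m : ℕ)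
    (hm : Module.finrank k V = m)
    (H : ∀ F : Submodule k V, F ≠ ⊤ → ∃ e, e ∉ F ∧ ∀ g, ρ g e - e ∈ F) :
    ∃ b : Module.Basis (Fin m) k V, ∀ (g : G) (i j : Fin m),
      (j < i → LinearMap.toMatrix b b (ρ g) i j = 0) ∧ LinearMap.toMatrix b b (ρ g) i i = 1 := by
  classical
  obtain ⟨nx, hnx⟩ : ∃ nx : Submodule k V → V,
      ∀ F, F ≠ ⊤ → nx F ∉ F ∧ ∀ g, ρ g (nx F) - nx F ∈ F := by
    refine ⟨fun F => if h : F ≠ ⊤ then Classical.choose (H F h) else 0, ?_⟩
    intro F hF
    simp only [dif_pos hF]
    exact Classical.choose_spec (H F hF)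
  have hfr := h4_flag_finrank nx (fun F hF => (hnx F hF).1)
  have htop : h4_flag nx m = ⊤ :=
    Submodule.eq_top_of_finrank_eq (by rw [hfr m (by rw [hm]), hm])
  have hspan : ⊤ ≤ Submodule.span k (Set.range (fun i : Fin m => nx (h4_flag nx i))) := by
    rw [← htop]
    refine (h4_flag_le_span nx m).trans (Submodule.span_mono ?_)
    rintro _ ⟨l, hl, rfl⟩
    exact ⟨⟨l, hl⟩, rfl⟩
  let b := basisOfTopLeSpanOfCardEqFinrank (fun i : Fin m => nx (h4_flag nx i)) hspan
    (by simp [hm])
  have hb : ∀ i : Fin m, b i = nx (h4_flag nx i) := by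
    intro i
    simp [b]
  refine ⟨b, ?_⟩
  have hentry : ∀ (g : G) (j i : Fin m), (j : ℕ) ≤ i →
      LinearMap.toMatrix b b (ρ g) i j = if j = i then 1 else 0 := by
    intro g j i hi
    have hjne : h4_flag nx j ≠ ⊤ := by
      intro h
      have := hfr j (by rw [hm]; exact j.2.le)
      rw [h, finrank_top, hm] at this
      exact absurd this j.2.ne'
    have hw := (hnx _ hjne).2 g
    rw [← hb j] at hw
    have hrepr := h4_flag_repr nx b hb j j.2.le _ hw
    have hdecomp : ρ g (b j) = (ρ g (b j) - b j) + b j := by abel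
    rw [LinearMap.toMatrix_apply, hdecomp, map_add, Finsupp.add_apply, hrepr i hi, zero_add,
      Module.Basis.repr_self, Finsupp.single_apply]
  intro g i j
  constructor
  · intro hji
    rw [hentry g j i hji.le, if_neg hji.ne]
  · rw [hentry g i i le_rfl, if_pos rfl]

end Cfsg.Agent.Lib.Helper7.TH
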