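import Mathlib
import Cfsg.Agent.Lib.Helper7.THDefs
import Cfsg.Agent.Lib.Helper7.THR1
import Cfsg.Agent.Lib.Helper4.THLA

/-! S4057 farm (helper7), piece REP `exists_unitriangular_rep`. -/

set_option autoImplicit false

namespace Cfsg.Agent.Lib.Helper7.TH

/-- module version -/
theorem h4_rep_of_module {p : ℕ} [Fact p.Prime] {P : Type*} [Monoid P] {W : Type*}
    [AddCommGroup W] [Module (ZMod p) W] [Finite W] (ρ : P →* Module.End (ZMod p) W) (m : ℕ)
    (hm : Nat.card W = p ^ m)
    (H : ∀ F : Submodule (ZMod p) W, F ≠ ⊤ → ∃ e, e ∉ F ∧ ∀ g, ρ g e - e ∈ F) :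
    ∃ r : P →* Matrix (Fin m) (Fin m) (ZMod p),
      (∀ (g : P) (i j : Fin m), j < i → r g i j = 0) ∧ (∀ (g : P) (i : Fin m), r g i i = 1) ∧
      (∀ g : P, r g = 1 ↔ ρ g = 1) := by
  classical
  have hp : p.Prime := Fact.out
  haveI i2 : Module.Finite (ZMod p) W := Module.Finite.of_finite
  have hfin : Module.finrank (ZMod p) W = m := by
    have h1 : Nat.card W = Nat.card (ZMod p) ^ Module.finrank (ZMod p) W :=
      Module.natCard_eq_pow_finrank (K := ZMod p) (V := W)
    rw [hm, Nat.card_zmod] at h1
    exact (Nat.pow_right_injective hp.two_le h1).symm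
  obtain ⟨b, hb⟩ := h4dup_exists_adapted_basis ρ m hfin H
  refine ⟨{ toFun := fun g => LinearMap.toMatrix b b (ρ g)
            map_one' := by rw [map_one]; exact LinearMap.toMatrix_one b
            map_mul' := fun g h => by rw [map_mul]; exact LinearMap.toMatrix_mul b _ _ }, ?_, ?_, ?_⟩
  · intro g i j hji
    exact (hb g i j).1 hji
  · intro g i
    exact (hb g i i).2
  · intro g
    show LinearMap.toMatrix b b (ρ g) = 1 ↔ ρ g = 1
    rw [← LinearMap.toMatrix_one b]
    exact (LinearMap.toMatrix b b).injective.eq_iff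

/-- REP -/
theorem h4dup_exists_unitriangular_rep {p : ℕ} [Fact p.Prime] {P : Type*} [Group P] [Finite P]
    (hP : IsPGroup p P) (E : Subgroup P) [E.Normal]
    (hEc : ∀ x ∈ E, ∀ y ∈ E, x * y = y * x) (hEp : ∀ x ∈ E, x ^ p = 1)
    (m : ℕ) (hm : Nat.card E = p ^ m) :
    ∃ r : P →* Matrix (Fin m) (Fin m) (ZMod p),
      (∀ (g : P) (i j : Fin m), j < i → r g i j = 0) ∧ (∀ (g : P) (i : Fin m), r g i i = 1) ∧
      (∀ g : P, r g = 1 ↔ ∀ x ∈ E, g * x = x * g) := by
  classical
  letI instC : CommGroup E :=
    { (inferInstance : Group E) with mul_comm := fun x y => Subtype.ext (hEc x x.2 y y.2) }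
  have hexp : ∀ w : Additive E, p • w = 0 := by
    intro w
    have h1 : (Additive.toMul w) ^ p = (1 : E) :=
      Subtype.ext (by simpa using hEp _ (Additive.toMul w).2)
    calc p • w = Additive.ofMul ((Additive.toMul w) ^ p) := rfl
      _ = 0 := by rw [h1]; rfl
  letI instM : Module (ZMod p) (Additive E) := AddCommGroup.zmodModule (n := p) hexp
  haveI : Finite (Additive E) := inferInstanceAs (Finite E)
  let φ : P → (Additive E →+ Additive E) := fun g =>
    MonoidHom.toAdditive ((MulAut.conjNormal g : MulAut E).toMonoidHom)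
  have hφ : ∀ g (w : Additive E), ((Additive.toMul (φ g w) : E) : P) =
      g * ((Additive.toMul w : E) : P) * g⁻¹ := by
    intro g w
    rfl
  let ρ : P →* Module.End (ZMod p) (Additive E) :=
    { toFun := fun g => AddMonoidHom.toZModLinearMap p (φ g)
      map_one' := by
        apply LinearMap.ext
        intro w
        show φ 1 w = w
        apply Additive.toMul.injective
        apply Subtype.ext
        rw [hφ]; simp
      map_mul' := fun g h => by
        apply LinearMap.ext
        intro w
        show φ (g * h) w = φ g (φ h w)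
        apply Additive.toMul.injective
        apply Subtype.ext
        rw [hφ, hφ, hφ]; group }
  have hρ : ∀ g (w : Additive E), ((Additive.toMul (ρ g w) : E) : P) =
      g * ((Additive.toMul w : E) : P) * g⁻¹ := fun g w => hφ g w
  have hcardW : Nat.card (Additive E) = p ^ m := hm
  obtain ⟨r, h1, h2, h3⟩ := h4_rep_of_module ρ m hcardW (by
    intro F hF
    -- the subgroup of P corresponding to F
    set F' : Subgroup P := (AddSubgroup.toSubgroup' F.toAddSubgroup).map E.subtype with hF'
    have hmem : ∀ x : E, (x : P) ∈ F' ↔ Additive.ofMul x ∈ F := by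
      intro x
      rw [hF', Subgroup.mem_map]
      constructor
      · rintro ⟨y, hy, hyx⟩
        have : y = x := Subtype.ext hyx
        rw [← this]
        exact hy
      · intro hx
        exact ⟨x, hx, rfl⟩
    have hle : F' ≤ E := Subgroup.map_subtype_le _
    have hne : F' ≠ E := by
      intro he
      apply hF
      rw [eq_top_iff]
      intro w _
      have h1 : ((Additive.toMul w : E) : P) ∈ F' := by rw [he]; exact (Additive.toMul w).2
      exact (hmem _).mp h1
    obtain ⟨e, heE, heF, hcen⟩ := exists_central_mod hP E F' (lt_of_le_of_ne hle hne)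
    refine ⟨Additive.ofMul (⟨e, heE⟩ : E), ?_, ?_⟩
    · intro h
      exact heF ((hmem ⟨e, heE⟩).mpr h)
    · intro g
      have h4 := hcen g
      have h5 : g * e * g⁻¹ * e⁻¹ ∈ E :=
        E.mul_mem (Subgroup.Normal.conj_mem inferInstance e heE g) (E.inv_mem heE)
      have h6 := (hmem ⟨_, h5⟩).mp h4
      have h7 : ρ g (Additive.ofMul (⟨e, heE⟩ : E)) - Additive.ofMul (⟨e, heE⟩ : E) =
          Additive.ofMul (⟨g * e * g⁻¹ * e⁻¹, h5⟩ : E) := by
        apply Additive.toMul.injective
        apply Subtype.ext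
        rw [toMul_sub, Subgroup.coe_div, hρ, div_eq_mul_inv]
        rfl
      rw [h7]; exact h6)
  refine ⟨r, h1, h2, ?_⟩
  intro g
  rw [h3 g]
  constructor
  · intro h x hx
    have h4 := hρ g (Additive.ofMul (⟨x, hx⟩ : E))
    rw [h] at h4
    have h5 : x = g * x * g⁻¹ := h4
    calc g * x = g * x * g⁻¹ * g := by group
      _ = x * g := by rw [← h5]
  · intro h
    apply LinearMap.ext
    intro w
    show ρ g w = w
    apply Additive.toMul.injective
    apply Subtype.ext
    rw [hρ, h _ (Additive.toMul w).2]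
    group

end Cfsg.Agent.Lib.Helper7.TH
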