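import Mathlib

/-! Counting lemmas for a family of subgroups whose conjugates partition `G \ {1}`. -/
set_option autoImplicit false

namespace Cfsg.Agent.Lib.Helper4.TICCount

variable {G : Type*} [Group G] {ι : Type*} {M : ι → Subgroup G}

/-- The conjugates of the `M i` partition `G \ {1}` (elementwise form). -/
structure Part (M : ι → Subgroup G) : Prop where
  cover : ∀ g : G, g ≠ 1 → ∃ i, ∃ x : G, x * g * x⁻¹ ∈ M i
  uniq : ∀ (i j : ι) (x g : G), g ≠ 1 → g ∈ M i → x * g * x⁻¹ ∈ M j →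
    i = j ∧ x ∈ Subgroup.normalizer (M i : Set G)

namespace Part

theorem uniq_type (P : Part M) {g : G} (hg : g ≠ 1) {i j : ι} {x y : G}
    (hx : x * g * x⁻¹ ∈ M i) (hy : y * g * y⁻¹ ∈ M j) : i = j := by
  have h1 : x * g * x⁻¹ ≠ 1 := by
    intro h
    apply hg
    have h0 : g = x⁻¹ * (x * g * x⁻¹) * x := by group
    rw [h0, h]; group
  have h2 : (y * x⁻¹) * (x * g * x⁻¹) * (y * x⁻¹)⁻¹ = y * g * y⁻¹ := by group
  exact (P.uniq i j (y * x⁻¹) (x * g * x⁻¹) h1 hx (h2 ▸ hy)).1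

theorem sum_typ [Fintype G] [DecidableEq G] (P : Part M) (i : ι) (F : G → ℕ)
    (hF : ∀ x g, F (x * g * x⁻¹) = F g) (s : Finset G)
    (hs : ∀ g, g ∈ s ↔ g ≠ 1 ∧ ∃ x : G, x * g * x⁻¹ ∈ M i)
    (t : Finset G) (ht : ∀ h, h ∈ t ↔ h ∈ M i ∧ h ≠ 1) :
    ∑ g ∈ s, F g = (Subgroup.normalizer (M i : Set G)).index * ∑ h ∈ t, F h := by
  classical
  set N := Subgroup.normalizer (M i : Set G) with hN
  let ψ : (G ⧸ N) × {h : M i // (h : G) ≠ 1} → G :=
    fun p => p.1.out * (p.2.1 : G) * (p.1.out)⁻¹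
  have hinj : Function.Injective ψ := by
    rintro ⟨c, ⟨h, hh⟩⟩ ⟨c', ⟨h', hh'⟩⟩ heq
    simp only [ψ] at heq
    have h3 : (c'.out⁻¹ * c.out) * (h : G) * (c'.out⁻¹ * c.out)⁻¹ = (h' : G) := by
      have h0 : (c'.out⁻¹ * c.out) * (h : G) * (c'.out⁻¹ * c.out)⁻¹
          = c'.out⁻¹ * (c.out * (h : G) * c.out⁻¹) * c'.out := by group
      rw [h0, heq]; group
    have h4 := (P.uniq i i _ _ hh h.2 (h3 ▸ h'.2)).2
    have h5 : c' = c := by
      rw [← QuotientGroup.out_eq' c', ← QuotientGroup.out_eq' c]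
      exact QuotientGroup.eq.2 h4
    subst h5
    have h6 : (h : G) = h' := by
      have h7 := h3
      simp only [inv_mul_cancel, one_mul, inv_one, mul_one] at h7
      exact h7
    have h8 : h = h' := Subtype.ext h6
    subst h8
    rfl
  have himg : s = Finset.image ψ Finset.univ := by
    ext g
    rw [hs, Finset.mem_image]
    constructor
    · rintro ⟨hg, x, hx⟩
      let c : G ⧸ N := ((x⁻¹ : G) : G ⧸ N)
      have hc : c.out⁻¹ * x⁻¹ ∈ N := by
        have h0 : ((c.out : G) : G ⧸ N) = ((x⁻¹ : G) : G ⧸ N) := QuotientGroup.out_eq' c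
        exact QuotientGroup.eq.1 h0
      have hmem : c.out⁻¹ * g * c.out ∈ M i := by
        have h0 : c.out⁻¹ * g * c.out
            = (c.out⁻¹ * x⁻¹) * (x * g * x⁻¹) * (c.out⁻¹ * x⁻¹)⁻¹ := by group
        rw [h0]
        exact (Subgroup.mem_normalizer_iff.1 hc _).1 hx
      have hne : c.out⁻¹ * g * c.out ≠ 1 := by
        intro h
        apply hg
        have h0 : g = c.out * (c.out⁻¹ * g * c.out) * c.out⁻¹ := by group
        rw [h0, h]; group
      refine ⟨(c, ⟨⟨_, hmem⟩, hne⟩), Finset.mem_univ _, ?_⟩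
      simp only [ψ]
      group
    · rintro ⟨⟨c, ⟨h, hh⟩⟩, -, rfl⟩
      simp only [ψ]
      constructor
      · intro h0
        apply hh
        have h1 : (h : G) = c.out⁻¹ * (c.out * (h : G) * c.out⁻¹) * c.out := by group
        rw [h1, h0]; group
      · refine ⟨c.out⁻¹, ?_⟩
        have h1 : c.out⁻¹ * (c.out * (h : G) * c.out⁻¹) * c.out⁻¹⁻¹ = (h : G) := by group
        rw [h1]
        exact h.2
  rw [himg, Finset.sum_image (fun a _ b _ hab => hinj hab)]
  have h1 : ∀ p : (G ⧸ N) × {h : M i // (h : G) ≠ 1}, F (ψ p) = F (p.2.1 : G) := by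
    intro p
    exact hF _ _
  simp_rw [h1]
  rw [← Finset.univ_product_univ, Finset.sum_product]
  simp only [Finset.sum_const, Finset.card_univ, smul_eq_mul]
  have h2 : Fintype.card (G ⧸ N) = N.index := by
    rw [Subgroup.index_eq_card, Nat.card_eq_fintype_card]
  rw [h2]
  congr 1
  symm
  refine Finset.sum_bij (fun h hh => (⟨⟨h, ((ht h).1 hh).1⟩, ((ht h).1 hh).2⟩ :
    {h : M i // (h : G) ≠ 1})) (fun _ _ => Finset.mem_univ _) ?_ ?_ (fun _ _ => rfl)
  · intro a ha b hb hab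
    have := congrArg (fun z : {h : M i // (h : G) ≠ 1} => (z.1 : G)) hab
    exact this
  · rintro ⟨⟨h, hm⟩, hne⟩ -
    exact ⟨h, (ht h).2 ⟨hm, hne⟩, rfl⟩

/-- Class-function count. -/
theorem sum_eq [Fintype G] [Fintype ι] [DecidableEq G] (P : Part M) (F : G → ℕ)
    (hF : ∀ x g, F (x * g * x⁻¹) = F g)
    (t : ι → Finset G) (ht : ∀ i h, h ∈ t i ↔ h ∈ M i ∧ h ≠ 1) :
    ∑ g : G, F g = F 1 + ∑ i, (Subgroup.normalizer (M i : Set G)).index * ∑ h ∈ t i, F h := by
  classical
  let s : ι → Finset G :=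
    fun i => Finset.univ.filter (fun g : G => g ≠ 1 ∧ ∃ x : G, x * g * x⁻¹ ∈ M i)
  have hs : ∀ i g, g ∈ s i ↔ g ≠ 1 ∧ ∃ x : G, x * g * x⁻¹ ∈ M i := by
    intro i g
    simp [s]
  have h1 : ∀ i, ∑ g ∈ s i, F g
      = (Subgroup.normalizer (M i : Set G)).index * ∑ h ∈ t i, F h :=
    fun i => P.sum_typ i F hF (s i) (hs i) (t i) (ht i)
  have h2 : (Finset.univ : Finset G).erase 1 = Finset.univ.biUnion s := by
    ext g
    simp only [Finset.mem_erase, Finset.mem_univ, and_true, Finset.mem_biUnion, true_and, hs]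
    constructor
    · intro hg
      obtain ⟨i, x, hx⟩ := P.cover g hg
      exact ⟨i, hg, x, hx⟩
    · rintro ⟨i, hg, -⟩
      exact hg
  have h3 : ((Finset.univ : Finset ι) : Set ι).PairwiseDisjoint s := by
    intro i _ j _ hij
    rw [Function.onFun, Finset.disjoint_left]
    intro g hgi hgj
    obtain ⟨hg, x, hx⟩ := (hs i g).1 hgi
    obtain ⟨-, y, hy⟩ := (hs j g).1 hgj
    exact hij (P.uniq_type hg hx hy)
  rw [← Finset.add_sum_erase _ _ (Finset.mem_univ (1 : G)), h2, Finset.sum_biUnion h3]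
  congr 1
  exact Finset.sum_congr rfl (fun i _ => h1 i)

/-- (E2 base) the class equation of the partition. -/
theorem card_eq [Finite G] [Fintype ι] (P : Part M) :
    Nat.card G = 1 + ∑ i, (Subgroup.normalizer (M i : Set G)).index * (Nat.card (M i) - 1) := by
  classical
  haveI := Fintype.ofFinite G
  let t : ι → Finset G := fun i => Finset.univ.filter (fun h : G => h ∈ M i ∧ h ≠ 1)
  have ht : ∀ i h, h ∈ t i ↔ h ∈ M i ∧ h ≠ 1 := by
    intro i h
    simp [t]
  have h1 := P.sum_eq (fun _ => 1) (fun _ _ => rfl) t ht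
  simp only [Finset.sum_const, Finset.card_univ, smul_eq_mul, mul_one] at h1
  rw [Nat.card_eq_fintype_card, h1]
  congr 1
  refine Finset.sum_congr rfl (fun i _ => ?_)
  congr 1
  have h2 : t i = (Finset.univ.filter (fun h : G => h ∈ M i)).erase 1 := by
    ext h
    simp [t, and_comm]
  rw [h2, Finset.card_erase_of_mem (by simp)]
  congr 1
  rw [Nat.card_eq_fintype_card, Fintype.card_subtype]

end Part

/-! ### Involutions -/

theorem mul_self_of_orderOf_two {a : G} (ha : orderOf a = 2) : a * a = 1 := by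
  have h1 : a ^ 2 = 1 := by rw [← ha]; exact pow_orderOf_eq_one a
  rwa [pow_two] at h1

theorem inv_eq_self_of_orderOf_two {a : G} (ha : orderOf a = 2) : a⁻¹ = a :=
  inv_eq_of_mul_eq_one_left (mul_self_of_orderOf_two ha)

/-- an involutory automorphism without fixed points inverts -/
theorem inverts_of_fpf {H : Subgroup G} [Finite H] {a : G} (ha : a * a = 1)
    (hn : ∀ x ∈ H, a * x * a⁻¹ ∈ H) (hf : ∀ x ∈ H, a * x = x * a → x = 1) :
    ∀ x ∈ H, a * x * a⁻¹ = x⁻¹ := by
  have hainv : a⁻¹ = a := inv_eq_of_mul_eq_one_left ha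
  let φ : H → H := fun x => ⟨(x : G)⁻¹ * (a * x * a⁻¹), H.mul_mem (H.inv_mem x.2) (hn x x.2)⟩
  have hinj : Function.Injective φ := by
    intro x y hxy
    have h1 : (x : G)⁻¹ * (a * x * a⁻¹) = (y : G)⁻¹ * (a * y * a⁻¹) := congrArg Subtype.val hxy
    have h3 : (x : G)⁻¹ * a * x = (y : G)⁻¹ * a * y := by
      have h0 := congrArg (· * a) h1
      simpa [mul_assoc] using h0
    have h2 : a * ((y : G) * (x : G)⁻¹) = ((y : G) * (x : G)⁻¹) * a := by
      calc a * ((y : G) * (x : G)⁻¹) = y * ((y : G)⁻¹ * a * y) * (x : G)⁻¹ := by group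
        _ = y * ((x : G)⁻¹ * a * x) * (x : G)⁻¹ := by rw [h3]
        _ = ((y : G) * (x : G)⁻¹) * a := by group
    have h4 := hf _ (H.mul_mem y.2 (H.inv_mem x.2)) h2
    rw [mul_inv_eq_one] at h4
    exact Subtype.ext h4.symm
  have hsurj : Function.Surjective φ := Finite.surjective_of_injective hinj
  intro x hx
  obtain ⟨y, hy⟩ := hsurj ⟨x, hx⟩
  have h1 : (y : G)⁻¹ * (a * y * a⁻¹) = x := congrArg Subtype.val hy
  rw [← h1]
  have e1 : a * ((y : G)⁻¹ * (a * y * a⁻¹)) * a⁻¹ = a * (y : G)⁻¹ * (a * y) * (a * a)⁻¹ := by group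
  have e2 : ((y : G)⁻¹ * (a * y * a⁻¹))⁻¹ = a * (y : G)⁻¹ * (a⁻¹ * y) := by group
  rw [e1, e2, ha, hainv]
  simp

theorem inverts_of_pair {a h : G} (ha : orderOf a = 2) (hah : orderOf (a⁻¹ * h) = 2) :
    a * h * a⁻¹ = h⁻¹ := by
  have haa := mul_self_of_orderOf_two ha
  have e := mul_self_of_orderOf_two hah
  calc a * h * a⁻¹ = (a * a) * (a⁻¹ * h * (a⁻¹ * h)) * h⁻¹ := by group
    _ = h⁻¹ := by rw [haa, e]; group

section Invol

variable [Fintype G]

/-- number of ways to write `g` as a product `a * b` of two involutions -/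
noncomputable def nPairs (g : G) : ℕ :=
  (Finset.univ.filter (fun a : G => orderOf a = 2 ∧ orderOf (a⁻¹ * g) = 2)).card

theorem nPairs_conj (x g : G) : nPairs (x * g * x⁻¹) = nPairs g := by
  unfold nPairs
  refine Finset.card_bij (fun a _ => x⁻¹ * a * x) ?_ ?_ ?_
  · intro a ha
    simp only [Finset.mem_filter, Finset.mem_univ, true_and] at ha ⊢
    constructor
    · have h0 : x⁻¹ * a * x = MulAut.conj x⁻¹ a := by simp
      rw [h0, MulEquiv.orderOf_eq]; exact ha.1
    · have h0 : (x⁻¹ * a * x)⁻¹ * g = MulAut.conj x⁻¹ (a⁻¹ * (x * g * x⁻¹)) := by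
        simp only [MulAut.conj_apply]; group
      rw [h0, MulEquiv.orderOf_eq]; exact ha.2
  · intro a _ b _ hab
    have h0 := congrArg (fun z => x * z * x⁻¹) hab
    simpa [mul_assoc] using h0
  · intro b hb
    simp only [Finset.mem_filter, Finset.mem_univ, true_and] at hb ⊢
    refine ⟨x * b * x⁻¹, ⟨?_, ?_⟩, by group⟩
    · have h0 : x * b * x⁻¹ = MulAut.conj x b := by simp
      rw [h0, MulEquiv.orderOf_eq]; exact hb.1
    · have h0 : (x * b * x⁻¹)⁻¹ * (x * g * x⁻¹) = MulAut.conj x (b⁻¹ * g) := by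
        simp only [MulAut.conj_apply]; group
      rw [h0, MulEquiv.orderOf_eq]; exact hb.2

theorem sum_nPairs : ∑ g : G, nPairs g =
    (Finset.univ.filter (fun a : G => orderOf a = 2)).card *
      (Finset.univ.filter (fun a : G => orderOf a = 2)).card := by
  set I := Finset.univ.filter (fun a : G => orderOf a = 2) with hI
  have h1 : ∀ g : G, nPairs g = ∑ a ∈ I, if orderOf (a⁻¹ * g) = 2 then 1 else 0 := by
    intro g
    unfold nPairs
    rw [Finset.card_eq_sum_ones, ← Finset.filter_filter, Finset.sum_filter]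
  simp_rw [h1]
  rw [Finset.sum_comm]
  have h2 : ∀ a : G, ∑ g : G, (if orderOf (a⁻¹ * g) = 2 then 1 else 0) = I.card := by
    intro a
    rw [← Finset.sum_filter, ← Finset.card_eq_sum_ones]
    refine Finset.card_bij (fun g _ => a⁻¹ * g) ?_ ?_ ?_
    · intro g hg
      simpa [hI] using hg
    · intro g _ g' _ h
      exact mul_left_cancel h
    · intro b hb
      refine ⟨a * b, ?_, by group⟩
      simpa [hI] using hb
  rw [Finset.sum_congr rfl (fun a _ => h2 a)]
  simp

theorem nPairs_one : nPairs (1 : G) = (Finset.univ.filter (fun a : G => orderOf a = 2)).card := by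
  unfold nPairs
  congr 1
  ext a
  simp [orderOf_inv]

theorem card_filter_mem (H : Subgroup G) [DecidablePred (· ∈ H)] :
    (Finset.univ.filter (fun x : G => x ∈ H)).card = Nat.card H := by
  rw [Nat.card_eq_fintype_card, Fintype.card_subtype]

theorem card_nontrivial (H : Subgroup G) (t : Finset G) (ht : ∀ h, h ∈ t ↔ h ∈ H ∧ h ≠ 1) :
    t.card = Nat.card H - 1 := by
  classical
  have h2 : t = (Finset.univ.filter (fun h : G => h ∈ H)).erase 1 := by
    ext h
    simp [ht, and_comm]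
  rw [h2, Finset.card_erase_of_mem (by simp), card_filter_mem]

/-- (odd component) -/
theorem sum_nPairs_odd (P : Part M) (j : ι) (hodd : Odd (Nat.card (M j)))
    (hfrob : ∀ n ∈ Subgroup.normalizer (M j : Set G), n ∉ M j →
      ∀ x ∈ M j, n * x = x * n → x = 1)
    (t : Finset G) (ht : ∀ h, h ∈ t ↔ h ∈ M j ∧ h ≠ 1) :
    ∑ h ∈ t, nPairs h = if 2 ∣ Nat.card (Subgroup.normalizer (M j : Set G)) then
      Nat.card (M j) * (Nat.card (M j) - 1) else 0 := by
  classical
  set L := Subgroup.normalizer (M j : Set G) with hL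
  set IL := Finset.univ.filter (fun a : G => a ∈ L ∧ orderOf a = 2) with hIL
  have hout : ∀ a ∈ L, orderOf a = 2 → a ∉ M j := by
    intro a _ ha hm
    have h1 : orderOf (⟨a, hm⟩ : M j) ∣ Nat.card (M j) := orderOf_dvd_natCard _
    rw [Subgroup.orderOf_mk, ha] at h1
    exact (Nat.not_even_iff_odd.2 hodd) (even_iff_two_dvd.2 h1)
  have hinvt : ∀ a ∈ L, orderOf a = 2 → ∀ x ∈ M j, a * x * a⁻¹ = x⁻¹ := by
    intro a haL ha
    apply inverts_of_fpf (mul_self_of_orderOf_two ha)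
    · intro x hx
      exact (Subgroup.mem_normalizer_iff.1 haL x).1 hx
    · intro x hx hc
      exact hfrob a haL (hout a haL ha) x hx hc
  have hA : ∀ h ∈ t, nPairs h = IL.card := by
    intro h hh
    obtain ⟨hm, hne⟩ := (ht h).1 hh
    unfold nPairs
    congr 1
    ext a
    simp only [Finset.mem_filter, Finset.mem_univ, true_and, hIL]
    constructor
    · rintro ⟨ha, hah⟩
      refine ⟨?_, ha⟩
      have h1 := inverts_of_pair ha hah
      exact (P.uniq j j a h hne hm (h1 ▸ (M j).inv_mem hm)).2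
    · rintro ⟨haL, ha⟩
      refine ⟨ha, ?_⟩
      have h1 := hinvt a haL ha h hm
      have hai := inv_eq_self_of_orderOf_two ha
      apply orderOf_eq_prime
      · rw [pow_two]
        calc a⁻¹ * h * (a⁻¹ * h) = (a * h * a⁻¹) * h := by rw [hai]; group
          _ = 1 := by rw [h1]; group
      · intro h2
        have h3 : h = a := by rw [inv_mul_eq_one] at h2; exact h2.symm
        exact hout a haL ha (h3 ▸ hm)
  rw [Finset.sum_congr rfl hA]
  simp only [Finset.sum_const, smul_eq_mul]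
  have htc : t.card = Nat.card (M j) - 1 := card_nontrivial (M j) t ht
  by_cases hte : t = ∅
  · have hm1 : Nat.card (M j) - 1 = 0 := by rw [← htc, hte]; rfl
    rw [hte, hm1]
    simp
  · obtain ⟨h0, hh0⟩ := Finset.nonempty_of_ne_empty hte
    obtain ⟨hm0, hne0⟩ := (ht h0).1 hh0
    by_cases h2 : 2 ∣ Nat.card L
    · rw [if_pos h2]
      obtain ⟨a, ha⟩ := exists_prime_orderOf_dvd_card' (G := L) 2 h2
      have haL : (a : G) ∈ L := a.2
      have ha2 : orderOf (a : G) = 2 := by rw [Subgroup.orderOf_coe]; exact ha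
      have hIL' : IL = Finset.image (fun x => (a : G) * x)
          (Finset.univ.filter (fun x : G => x ∈ M j)) := by
        ext b
        simp only [hIL, Finset.mem_filter, Finset.mem_univ, true_and, Finset.mem_image]
        constructor
        · rintro ⟨hbL, hb⟩
          refine ⟨(a : G)⁻¹ * b, ?_, by group⟩
          by_contra hnot
          have hcL : (a : G)⁻¹ * b ∈ L := L.mul_mem (L.inv_mem haL) hbL
          have h3 : ((a : G)⁻¹ * b) * h0 = h0 * ((a : G)⁻¹ * b) := by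
            have e1 := hinvt a haL ha2 h0 hm0
            have e2 := hinvt b hbL hb h0 hm0
            calc (a : G)⁻¹ * b * h0 = (a : G)⁻¹ * (b * h0 * b⁻¹) * b := by group
              _ = (a : G)⁻¹ * ((a : G) * h0 * (a : G)⁻¹) * b := by rw [e1, e2]
              _ = h0 * ((a : G)⁻¹ * b) := by group
          exact hne0 (hfrob _ hcL hnot h0 hm0 h3)
        · rintro ⟨x, hx, rfl⟩
          refine ⟨L.mul_mem haL (Subgroup.le_normalizer hx), ?_⟩
          apply orderOf_eq_prime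
          · rw [pow_two]
            have e1 := hinvt a haL ha2 x hx
            have hai := inv_eq_self_of_orderOf_two ha2
            calc (a : G) * x * ((a : G) * x) = ((a : G) * x * (a : G)⁻¹) * x := by rw [hai]; group
              _ = 1 := by rw [e1]; group
          · intro h3
            apply hout a haL ha2
            have h4 : (a : G) = x⁻¹ := eq_inv_of_mul_eq_one_left h3
            rw [h4]; exact (M j).inv_mem hx
      rw [hIL', Finset.card_image_of_injective _ (mul_right_injective _), htc, card_filter_mem,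
        mul_comm]
    · rw [if_neg h2]
      have h3 : IL = ∅ := by
        rw [Finset.eq_empty_iff_forall_notMem]
        intro a ha
        simp only [hIL, Finset.mem_filter, Finset.mem_univ, true_and] at ha
        apply h2
        have h1 : orderOf (⟨a, ha.1⟩ : L) ∣ Nat.card L := orderOf_dvd_natCard _
        rwa [Subgroup.orderOf_mk, ha.2] at h1
      rw [h3]; simp

/-- (even component) -/
theorem sum_nPairs_even (P : Part M) (i0 : ι)
    (hinv : ∀ a ∈ Subgroup.normalizer (M i0 : Set G), orderOf a = 2 →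
      a ∈ M i0 ∧ ∀ x ∈ M i0, a * x = x * a)
    (t : Finset G) (ht : ∀ h, h ∈ t ↔ h ∈ M i0 ∧ h ≠ 1)
    (J : Finset G) (hJ : ∀ a, a ∈ J ↔ a ∈ M i0 ∧ orderOf a = 2) :
    ∑ h ∈ t, nPairs h = J.card * (J.card - 1) := by
  classical
  have hJt : J ⊆ t := by
    intro a ha
    rw [hJ] at ha
    refine (ht a).2 ⟨ha.1, ?_⟩
    intro h1
    rw [h1, orderOf_one] at ha
    exact absurd ha.2 (by norm_num)
  have h1 : ∀ h ∈ t, nPairs h = if h ∈ J then J.card - 1 else 0 := by
    intro h hh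
    obtain ⟨hm, hne⟩ := (ht h).1 hh
    have key : ∀ a : G, (orderOf a = 2 ∧ orderOf (a⁻¹ * h) = 2) ↔ (h ∈ J ∧ a ∈ J.erase h) := by
      intro a
      constructor
      · rintro ⟨ha, hah⟩
        have e1 := inverts_of_pair ha hah
        have haL := (P.uniq i0 i0 a h hne hm (e1 ▸ (M i0).inv_mem hm)).2
        obtain ⟨haM, hac⟩ := hinv a haL ha
        have e2 : a * h = h * a := hac h hm
        have e3 : h⁻¹ = h := by
          rw [← e1, e2]; group
        have e4 : orderOf h = 2 := by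
          apply orderOf_eq_prime
          · rw [pow_two]
            have h0 := mul_inv_cancel h
            rwa [e3] at h0
          · exact hne
        have hhJ : h ∈ J := (hJ h).2 ⟨hm, e4⟩
        refine ⟨hhJ, Finset.mem_erase.2 ⟨?_, (hJ a).2 ⟨haM, ha⟩⟩⟩
        intro hah'
        rw [hah', inv_mul_cancel, orderOf_one] at hah
        exact absurd hah (by norm_num)
      · rintro ⟨hhJ, haJ⟩
        obtain ⟨hah, haJ'⟩ := Finset.mem_erase.1 haJ
        rw [hJ] at hhJ haJ'
        refine ⟨haJ'.2, ?_⟩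
        obtain ⟨-, hac⟩ := hinv a (Subgroup.le_normalizer haJ'.1) haJ'.2
        have e2 : a * h = h * a := hac h hm
        have hai := inv_eq_self_of_orderOf_two haJ'.2
        have ea := mul_self_of_orderOf_two haJ'.2
        have eh := mul_self_of_orderOf_two hhJ.2
        apply orderOf_eq_prime
        · rw [pow_two, hai]
          calc a * h * (a * h) = a * (h * a) * h := by group
            _ = a * (a * h) * h := by rw [e2]
            _ = (a * a) * (h * h) := by group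
            _ = 1 := by rw [ea, eh, one_mul]
        · intro h3
          apply hah
          rw [inv_mul_eq_one] at h3
          exact h3
    unfold nPairs
    split_ifs with hhJ
    · rw [← Finset.card_erase_of_mem hhJ]
      congr 1
      ext a
      simp only [Finset.mem_filter, Finset.mem_univ, true_and]
      rw [key a]
      exact ⟨fun h => h.2, fun h => ⟨hhJ, h⟩⟩
    · rw [Finset.card_eq_zero, Finset.eq_empty_iff_forall_notMem]
      intro a ha
      simp only [Finset.mem_filter, Finset.mem_univ, true_and] at ha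
      exact hhJ ((key a).1 ha).1
  rw [Finset.sum_congr rfl h1, ← Finset.sum_filter]
  have h2 : t.filter (fun h => h ∈ J) = J := by
    ext a
    simp only [Finset.mem_filter]
    exact ⟨fun h => h.2, fun h => ⟨hJt h, h⟩⟩
  rw [h2]
  simp

/-- the number of involutions -/
theorem invol_card [Fintype ι] (P : Part M) (i0 : ι)
    (hodd : ∀ j, j ≠ i0 → Odd (Nat.card (M j)))
    (J : Finset G) (hJ : ∀ a, a ∈ J ↔ a ∈ M i0 ∧ orderOf a = 2) :
    (Finset.univ.filter (fun a : G => orderOf a = 2)).card =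
      (Subgroup.normalizer (M i0 : Set G)).index * J.card := by
  classical
  let t : ι → Finset G := fun i => Finset.univ.filter (fun h : G => h ∈ M i ∧ h ≠ 1)
  have ht : ∀ i h, h ∈ t i ↔ h ∈ M i ∧ h ≠ 1 := by
    intro i h
    simp [t]
  have hF : ∀ x g : G, (if orderOf (x * g * x⁻¹) = 2 then 1 else 0 : ℕ)
      = if orderOf g = 2 then 1 else 0 := by
    intro x g
    have h0 : x * g * x⁻¹ = MulAut.conj x g := by simp
    rw [h0, MulEquiv.orderOf_eq]
  have h1 := P.sum_eq (fun g => if orderOf g = 2 then 1 else 0) hF t ht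
  rw [← Finset.sum_filter, ← Finset.card_eq_sum_ones] at h1
  rw [h1, orderOf_one, if_neg (by norm_num), zero_add, Finset.sum_eq_single i0]
  · congr 1
    rw [← Finset.sum_filter, ← Finset.card_eq_sum_ones]
    congr 1
    ext a
    simp only [Finset.mem_filter, ht, hJ]
    constructor
    · rintro ⟨⟨hm, -⟩, ha⟩
      exact ⟨hm, ha⟩
    · rintro ⟨hm, ha⟩
      refine ⟨⟨hm, ?_⟩, ha⟩
      intro h0
      rw [h0, orderOf_one] at ha
      exact absurd ha (by norm_num)
  · intro j _ hj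
    rw [← Finset.sum_filter, ← Finset.card_eq_sum_ones]
    have h3 : (t j).filter (fun g => orderOf g = 2) = ∅ := by
      rw [Finset.eq_empty_iff_forall_notMem]
      intro a ha
      simp only [Finset.mem_filter, ht] at ha
      have h4 : orderOf (⟨a, ha.1.1⟩ : M j) ∣ Nat.card (M j) := orderOf_dvd_natCard _
      rw [Subgroup.orderOf_mk, ha.2] at h4
      exact (Nat.not_even_iff_odd.2 (hodd j hj)) (even_iff_two_dvd.2 h4)
    rw [h3]
    simp
  · intro h0
    exact absurd (Finset.mem_univ i0) h0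

end Invol

/-- (E1 base) involution count. `i0` is the component of even order; the involutions of its
normalizer are central elements of it; the other components have odd order and their
normalizers act on them without fixed points. -/
theorem invol_count [Finite G] [Fintype ι] [DecidableEq ι] (P : Part M) (i0 : ι)
    (hinv : ∀ a ∈ Subgroup.normalizer (M i0 : Set G), orderOf a = 2 →
      a ∈ M i0 ∧ ∀ x ∈ M i0, a * x = x * a)
    (hodd : ∀ j, j ≠ i0 → Odd (Nat.card (M j)))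
    (hfrob : ∀ j, j ≠ i0 → ∀ n ∈ Subgroup.normalizer (M j : Set G), n ∉ M j →
      ∀ x ∈ M j, n * x = x * n → x = 1)
    (k I : ℕ) (hk : Nat.card {a : G // a ∈ M i0 ∧ orderOf a = 2} = k)
    (hI : Nat.card {a : G // orderOf a = 2} = I) :
    I = (Subgroup.normalizer (M i0 : Set G)).index * k ∧
    I * I = I + (Subgroup.normalizer (M i0 : Set G)).index * (k * (k - 1)) +
      ∑ j, if j ≠ i0 ∧ 2 ∣ Nat.card (Subgroup.normalizer (M j : Set G)) then
        (Subgroup.normalizer (M j : Set G)).index * (Nat.card (M j) * (Nat.card (M j) - 1))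
        else 0 := by
  classical
  haveI := Fintype.ofFinite G
  let J : Finset G := Finset.univ.filter (fun a : G => a ∈ M i0 ∧ orderOf a = 2)
  have hJ : ∀ a, a ∈ J ↔ a ∈ M i0 ∧ orderOf a = 2 := by
    intro a
    simp [J]
  have hJk : J.card = k := by
    rw [← hk, Nat.card_eq_fintype_card, Fintype.card_subtype]
  have hIc : (Finset.univ.filter (fun a : G => orderOf a = 2)).card = I := by
    rw [← hI, Nat.card_eq_fintype_card, Fintype.card_subtype]
  have h1 := invol_card P i0 hodd J hJ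
  rw [hIc, hJk] at h1
  refine ⟨h1, ?_⟩
  let t : ι → Finset G := fun i => Finset.univ.filter (fun h : G => h ∈ M i ∧ h ≠ 1)
  have ht : ∀ i h, h ∈ t i ↔ h ∈ M i ∧ h ≠ 1 := by
    intro i h
    simp [t]
  have h2 := P.sum_eq nPairs nPairs_conj t ht
  rw [sum_nPairs, nPairs_one, hIc] at h2
  rw [h2, add_assoc]
  congr 1
  rw [← Finset.add_sum_erase _ _ (Finset.mem_univ i0),
    ← Finset.add_sum_erase (Finset.univ : Finset ι) (fun j =>
      if j ≠ i0 ∧ 2 ∣ Nat.card (Subgroup.normalizer (M j : Set G)) then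
        (Subgroup.normalizer (M j : Set G)).index * (Nat.card (M j) * (Nat.card (M j) - 1))
        else 0) (Finset.mem_univ i0)]
  rw [sum_nPairs_even P i0 hinv (t i0) (ht i0) J hJ, hJk, if_neg (fun h => h.1 rfl), zero_add]
  congr 1
  refine Finset.sum_congr rfl (fun j hj => ?_)
  have hj' : j ≠ i0 := (Finset.mem_erase.1 hj).1
  rw [sum_nPairs_odd P j (hodd j hj') (hfrob j hj') (t j) (ht j)]
  by_cases h3 : 2 ∣ Nat.card (Subgroup.normalizer (M j : Set G))
  · rw [if_pos h3, if_pos ⟨hj', h3⟩]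
  · rw [if_neg h3, if_neg (fun h => h3 h.2), mul_zero]

theorem index_normalizer_rat [Finite G] (H : Subgroup G) :
    ((Subgroup.normalizer (H : Set G)).index : ℚ)
      = (Nat.card G : ℚ) / (Nat.card (Subgroup.normalizer (H : Set G)) : ℚ) := by
  have hN : (Nat.card (Subgroup.normalizer (H : Set G)) : ℚ) ≠ 0 :=
    Nat.cast_ne_zero.2 Nat.card_pos.ne'
  rw [eq_div_iff hN, ← Nat.cast_mul, mul_comm, Subgroup.card_mul_index]

/-- (E2) rational form of the class equation. -/
theorem Part.card_eq_rat [Finite G] [Fintype ι] (P : Part M) :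
    ∑ i, ((Nat.card (M i) : ℚ) - 1) / (Nat.card (Subgroup.normalizer (M i : Set G)) : ℚ)
      = 1 - 1 / (Nat.card G : ℚ) := by
  have h := P.card_eq
  have hG : (Nat.card G : ℚ) ≠ 0 := Nat.cast_ne_zero.2 Nat.card_pos.ne'
  have h1 : (Nat.card G : ℚ) = 1 + ∑ i, ((Nat.card G : ℚ) /
      (Nat.card (Subgroup.normalizer (M i : Set G)) : ℚ)) * ((Nat.card (M i) : ℚ) - 1) := by
    have h0 := congrArg (Nat.cast : ℕ → ℚ) h
    refine h0.trans ?_
    push_cast
    congr 1
    refine Finset.sum_congr rfl (fun i _ => ?_)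
    rw [index_normalizer_rat, Nat.cast_pred Nat.card_pos]
  have h2 : ∑ i, ((Nat.card (M i) : ℚ) - 1) / (Nat.card (Subgroup.normalizer (M i : Set G)) : ℚ)
      = (1 / (Nat.card G : ℚ)) * ∑ i, ((Nat.card G : ℚ) /
      (Nat.card (Subgroup.normalizer (M i : Set G)) : ℚ)) * ((Nat.card (M i) : ℚ) - 1) := by
    rw [Finset.mul_sum]
    refine Finset.sum_congr rfl (fun i _ => ?_)
    field_simp
  rw [h2]
  have h3 : ∑ i, ((Nat.card G : ℚ) /
      (Nat.card (Subgroup.normalizer (M i : Set G)) : ℚ)) * ((Nat.card (M i) : ℚ) - 1)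
      = (Nat.card G : ℚ) - 1 := by linarith
  rw [h3]
  field_simp

/-- (E1) rational form of the involution count. -/
theorem invol_count_rat [Finite G] [Fintype ι] [DecidableEq ι] (P : Part M) (i0 : ι)
    (hinv : ∀ a ∈ Subgroup.normalizer (M i0 : Set G), orderOf a = 2 →
      a ∈ M i0 ∧ ∀ x ∈ M i0, a * x = x * a)
    (hodd : ∀ j, j ≠ i0 → Odd (Nat.card (M j)))
    (hfrob : ∀ j, j ≠ i0 → ∀ n ∈ Subgroup.normalizer (M j : Set G), n ∉ M j →
      ∀ x ∈ M j, n * x = x * n → x = 1)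
    (k : ℕ) (hk : Nat.card {a : G // a ∈ M i0 ∧ orderOf a = 2} = k) :
    ∑ j, (if j ≠ i0 ∧ 2 ∣ Nat.card (Subgroup.normalizer (M j : Set G)) then
        ((Nat.card (M j) : ℚ) * ((Nat.card (M j) : ℚ) - 1)) /
          (Nat.card (Subgroup.normalizer (M j : Set G)) : ℚ) else 0)
      = ((k : ℚ) ^ 2 / (Nat.card (Subgroup.normalizer (M i0 : Set G)) : ℚ)) *
        ((Nat.card G : ℚ) / (Nat.card (Subgroup.normalizer (M i0 : Set G)) : ℚ) - 1) := by
  obtain ⟨h1, h2⟩ := invol_count P i0 hinv hodd hfrob k _ hk rfl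
  rw [h1] at h2
  have hG : (Nat.card G : ℚ) ≠ 0 := Nat.cast_ne_zero.2 Nat.card_pos.ne'
  have hN : (Nat.card (Subgroup.normalizer (M i0 : Set G)) : ℚ) ≠ 0 :=
    Nat.cast_ne_zero.2 Nat.card_pos.ne'
  have hkk : ((k * (k - 1) : ℕ) : ℚ) = (k : ℚ) * ((k : ℚ) - 1) := by
    rcases Nat.eq_zero_or_pos k with h0 | h0
    · subst h0; simp
    · rw [Nat.cast_mul, Nat.cast_pred h0]
  have h3 := congrArg (Nat.cast : ℕ → ℚ) h2
  rw [Nat.cast_add, Nat.cast_add, Nat.cast_mul, Nat.cast_mul, Nat.cast_mul (_) (k * (k - 1)), hkk,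
    index_normalizer_rat, Nat.cast_sum] at h3
  have h4 : ∀ j, (((if j ≠ i0 ∧ 2 ∣ Nat.card (Subgroup.normalizer (M j : Set G)) then
        (Subgroup.normalizer (M j : Set G)).index * (Nat.card (M j) * (Nat.card (M j) - 1))
        else 0 : ℕ)) : ℚ) = (Nat.card G : ℚ) *
      (if j ≠ i0 ∧ 2 ∣ Nat.card (Subgroup.normalizer (M j : Set G)) then
        ((Nat.card (M j) : ℚ) * ((Nat.card (M j) : ℚ) - 1)) /
          (Nat.card (Subgroup.normalizer (M j : Set G)) : ℚ) else 0) := by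
    intro j
    split_ifs with hc
    · rw [Nat.cast_mul, Nat.cast_mul, Nat.cast_pred Nat.card_pos, index_normalizer_rat]
      ring
    · simp
  rw [Finset.sum_congr rfl (fun j _ => h4 j), ← Finset.mul_sum] at h3
  set A := ∑ j, (if j ≠ i0 ∧ 2 ∣ Nat.card (Subgroup.normalizer (M j : Set G)) then
        ((Nat.card (M j) : ℚ) * ((Nat.card (M j) : ℚ) - 1)) /
          (Nat.card (Subgroup.normalizer (M j : Set G)) : ℚ) else 0) with hA
  have h5 : (Nat.card G : ℚ) * A = (Nat.card G : ℚ) *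
      (((k : ℚ) ^ 2 / (Nat.card (Subgroup.normalizer (M i0 : Set G)) : ℚ)) *
        ((Nat.card G : ℚ) / (Nat.card (Subgroup.normalizer (M i0 : Set G)) : ℚ) - 1)) := by
    linear_combination (-1 : ℚ) * h3
  exact mul_left_cancel₀ hG h5

/-! ### Zassenhaus-type numerical data -/

theorem sum_split_two [Fintype ι] [DecidableEq ι] (f : ι → ℚ) (a b : ι) (hab : a ≠ b) :
    ∑ j, f j = f a + f b + ∑ j, (if j ≠ a ∧ j ≠ b then f j else 0) := by
  have h1 : ∀ j, f j = (if j = a then f a else 0) + (if j = b then f b else 0)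
      + (if j ≠ a ∧ j ≠ b then f j else 0) := by
    intro j
    by_cases h1 : j = a
    · subst h1
      simp [hab]
    · by_cases h2 : j = b
      · subst h2
        simp [h1]
      · simp [h1, h2]
  rw [Finset.sum_congr rfl (fun j _ => h1 j), Finset.sum_add_distrib, Finset.sum_add_distrib]
  simp

/-- Numerical data of a Zassenhaus-type configuration: `i0` is the 2-component (order `m`,
normalizer of order `m * (q - 1)`, `q - 1` involutions, all central), `iD` the two-point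
stabilizer (order `q - 1`, normalizer of order `2 * (q - 1)`), `|G| = (m + 1) * m * (q - 1)`. -/
structure ZData (M : ι → Subgroup G) (i0 iD : ι) (m q : ℕ) : Prop where
  part : Part M
  ne : iD ≠ i0
  inv : ∀ a ∈ Subgroup.normalizer (M i0 : Set G), orderOf a = 2 →
    a ∈ M i0 ∧ ∀ x ∈ M i0, a * x = x * a
  odd : ∀ j, j ≠ i0 → Odd (Nat.card (M j))
  frob : ∀ j, j ≠ i0 → ∀ n ∈ Subgroup.normalizer (M j : Set G), n ∉ M j →
    ∀ x ∈ M j, n * x = x * n → x = 1
  cardG : Nat.card G = (m + 1) * m * (q - 1)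
  card0 : Nat.card (M i0) = m
  cardN0 : Nat.card (Subgroup.normalizer (M i0 : Set G)) = m * (q - 1)
  invol0 : Nat.card {a : G // a ∈ M i0 ∧ orderOf a = 2} = q - 1
  cardD : Nat.card (M iD) = q - 1
  cardND : Nat.card (Subgroup.normalizer (M iD : Set G)) = 2 * (q - 1)

namespace ZData

variable {i0 iD : ι} {m q : ℕ}

theorem two_le_q [Finite G] (Z : ZData M i0 iD m q) : 2 ≤ q := by
  have h1 : 0 < Nat.card (M iD) := Nat.card_pos
  rw [Z.cardD] at h1
  omega

theorem one_le_m [Finite G] (Z : ZData M i0 iD m q) : 1 ≤ m := by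
  have h1 : 0 < Nat.card (M i0) := Nat.card_pos
  rw [Z.card0] at h1
  omega

/-- (E1), Zassenhaus form: `Σ_{j ≠ i0, iD, e_j even} (m_j - 1)/e_j = q/2`. -/
theorem E1 [Finite G] [Fintype ι] [DecidableEq ι] (Z : ZData M i0 iD m q) :
    ∑ j, (if j ≠ i0 ∧ j ≠ iD ∧ 2 ∣ Nat.card (Subgroup.normalizer (M j : Set G)) then
        ((Nat.card (M j) : ℚ) * ((Nat.card (M j) : ℚ) - 1)) /
          (Nat.card (Subgroup.normalizer (M j : Set G)) : ℚ) else 0) = (q : ℚ) / 2 := by
  have h1 := invol_count_rat Z.part i0 Z.inv Z.odd Z.frob (q - 1) Z.invol0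
  have hq := Z.two_le_q
  have hm := Z.one_le_m
  rw [sum_split_two _ i0 iD (Ne.symm Z.ne)] at h1
  rw [if_neg (fun h => h.1 rfl), if_pos ⟨Z.ne, by rw [Z.cardND]; exact dvd_mul_right 2 _⟩,
    Z.cardD, Z.cardND, Z.cardN0, Z.cardG] at h1
  have h2 : ∀ j, (if j ≠ i0 ∧ j ≠ iD then
      (if j ≠ i0 ∧ 2 ∣ Nat.card (Subgroup.normalizer (M j : Set G)) then
        ((Nat.card (M j) : ℚ) * ((Nat.card (M j) : ℚ) - 1)) /
          (Nat.card (Subgroup.normalizer (M j : Set G)) : ℚ) else 0) else 0)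
      = (if j ≠ i0 ∧ j ≠ iD ∧ 2 ∣ Nat.card (Subgroup.normalizer (M j : Set G)) then
        ((Nat.card (M j) : ℚ) * ((Nat.card (M j) : ℚ) - 1)) /
          (Nat.card (Subgroup.normalizer (M j : Set G)) : ℚ) else 0) := by
    intro j
    by_cases c1 : j ≠ i0
    · by_cases c2 : j ≠ iD
      · by_cases c3 : 2 ∣ Nat.card (Subgroup.normalizer (M j : Set G))
        · rw [if_pos ⟨c1, c2⟩, if_pos ⟨c1, c3⟩, if_pos ⟨c1, c2, c3⟩]
        · rw [if_pos ⟨c1, c2⟩, if_neg (fun h => c3 h.2), if_neg (fun h => c3 h.2.2)]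
      · rw [if_neg (fun h => c2 h.2), if_neg (fun h => c2 h.2.1)]
    · rw [if_neg (fun h => c1 h.1), if_neg (fun h => c1 h.1)]
  rw [Finset.sum_congr rfl (fun j _ => h2 j)] at h1
  have hq1 : ((q - 1 : ℕ) : ℚ) = (q : ℚ) - 1 := by
    rw [Nat.cast_sub (by omega)]; simp
  have hq0 : (q : ℚ) - 1 ≠ 0 := by
    have : (2 : ℚ) ≤ q := by exact_mod_cast hq
    linarith
  have hm0 : (m : ℚ) ≠ 0 := by
    have : (1 : ℚ) ≤ m := by exact_mod_cast hm
    linarith
  push_cast at h1
  rw [hq1] at h1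
  have h3 : (0 : ℚ) + ((q : ℚ) - 1) * ((q : ℚ) - 1 - 1) / (2 * ((q : ℚ) - 1))
      = ((q : ℚ) - 2) / 2 := by
    field_simp
    ring
  have h4 : ((q : ℚ) - 1) ^ 2 / ((m : ℚ) * ((q : ℚ) - 1)) *
      (((m : ℚ) + 1) * (m : ℚ) * ((q : ℚ) - 1) / ((m : ℚ) * ((q : ℚ) - 1)) - 1)
      = (q : ℚ) - 1 := by
    field_simp
    ring
  rw [h3, h4] at h1
  linarith

/-- (E2), Zassenhaus form:
`Σ_{j ≠ i0, iD} (m_j - 1)/(e_j m_j) = 1/2 - (m - 1)/(2 (m + 1) (q - 1))`. -/
theorem E2 [Finite G] [Fintype ι] [DecidableEq ι] (Z : ZData M i0 iD m q) :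
    ∑ j, (if j ≠ i0 ∧ j ≠ iD then ((Nat.card (M j) : ℚ) - 1) /
          (Nat.card (Subgroup.normalizer (M j : Set G)) : ℚ) else 0)
      = 1 / 2 - ((m : ℚ) - 1) / (2 * ((m : ℚ) + 1) * ((q : ℚ) - 1)) := by
  have h1 := Z.part.card_eq_rat
  have hq := Z.two_le_q
  have hm := Z.one_le_m
  rw [sum_split_two _ i0 iD (Ne.symm Z.ne), Z.cardD, Z.cardND, Z.cardN0, Z.cardG, Z.card0] at h1
  have hq1 : ((q - 1 : ℕ) : ℚ) = (q : ℚ) - 1 := by
    rw [Nat.cast_sub (by omega)]; simp
  have hq0 : (q : ℚ) - 1 ≠ 0 := by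
    have : (2 : ℚ) ≤ q := by exact_mod_cast hq
    linarith
  have hm0 : (m : ℚ) ≠ 0 := by
    have : (1 : ℚ) ≤ m := by exact_mod_cast hm
    linarith
  have hm1 : (m : ℚ) + 1 ≠ 0 := by
    have : (1 : ℚ) ≤ m := by exact_mod_cast hm
    linarith
  push_cast at h1
  rw [hq1] at h1
  have h3 : ((m : ℚ) - 1) / ((m : ℚ) * ((q : ℚ) - 1)) + ((q : ℚ) - 1 - 1) / (2 * ((q : ℚ) - 1))
      + (1 / 2 - ((m : ℚ) - 1) / (2 * ((m : ℚ) + 1) * ((q : ℚ) - 1)))
      = 1 - 1 / (((m : ℚ) + 1) * (m : ℚ) * ((q : ℚ) - 1)) := by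
    field_simp
    ring
  linarith

theorem term_nonneg [Finite G] (H K : Subgroup G) :
    (0 : ℚ) ≤ ((Nat.card H : ℚ) - 1) / (Nat.card K : ℚ) := by
  have h1 : (1 : ℚ) ≤ (Nat.card H : ℚ) := by exact_mod_cast (Nat.card_pos : 0 < Nat.card H)
  exact div_nonneg (by linarith) (Nat.cast_nonneg _)

theorem term2_nonneg [Finite G] (H K : Subgroup G) :
    (0 : ℚ) ≤ ((Nat.card H : ℚ) * ((Nat.card H : ℚ) - 1)) / (Nat.card K : ℚ) := by
  have h1 : (1 : ℚ) ≤ (Nat.card H : ℚ) := by exact_mod_cast (Nat.card_pos : 0 < Nat.card H)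
  exact div_nonneg (mul_nonneg (by linarith) (by linarith)) (Nat.cast_nonneg _)

/-- every further component with `e_j` even has `(m_j - 1)/e_j ≤ q/2`. -/
theorem le_half [Finite G] [Fintype ι] [DecidableEq ι] (Z : ZData M i0 iD m q) (j : ι)
    (hj0 : j ≠ i0) (hjD : j ≠ iD)
    (h2 : 2 ∣ Nat.card (Subgroup.normalizer (M j : Set G))) :
    2 * (Nat.card (M j) * (Nat.card (M j) - 1))
      ≤ q * Nat.card (Subgroup.normalizer (M j : Set G)) := by
  have h1 := Z.E1
  have h3 : (if j ≠ i0 ∧ j ≠ iD ∧ 2 ∣ Nat.card (Subgroup.normalizer (M j : Set G)) then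
        ((Nat.card (M j) : ℚ) * ((Nat.card (M j) : ℚ) - 1)) /
          (Nat.card (Subgroup.normalizer (M j : Set G)) : ℚ) else 0) ≤ (q : ℚ) / 2 := by
    rw [← h1]
    apply Finset.single_le_sum (f := fun j => (if j ≠ i0 ∧ j ≠ iD ∧
        2 ∣ Nat.card (Subgroup.normalizer (M j : Set G)) then
        ((Nat.card (M j) : ℚ) * ((Nat.card (M j) : ℚ) - 1)) /
          (Nat.card (Subgroup.normalizer (M j : Set G)) : ℚ) else 0)) _ (Finset.mem_univ j)
    intro i _
    show (0 : ℚ) ≤ _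
    split_ifs
    · exact term2_nonneg _ _
    · exact le_refl _
  rw [if_pos ⟨hj0, hjD, h2⟩] at h3
  have hN : (0 : ℚ) < (Nat.card (Subgroup.normalizer (M j : Set G)) : ℚ) := by
    exact_mod_cast (Nat.card_pos : 0 < Nat.card (Subgroup.normalizer (M j : Set G)))
  rw [div_le_iff₀ hN] at h3
  have h4 : ((2 * (Nat.card (M j) * (Nat.card (M j) - 1)) : ℕ) : ℚ)
      ≤ ((q * Nat.card (Subgroup.normalizer (M j : Set G)) : ℕ) : ℚ) := by
    rw [Nat.cast_mul, Nat.cast_mul, Nat.cast_mul, Nat.cast_pred Nat.card_pos]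
    push_cast
    linarith
  exact_mod_cast h4

/-- (E2 kill) for `m = q ^ 3` there is no further component with `(m_j, |N_j|) = (q+1, 2(q+1))`. -/
theorem no_qplus1 [Finite G] [Fintype ι] [DecidableEq ι] (Z : ZData M i0 iD (q ^ 3) q) (j : ι)
    (hj0 : j ≠ i0) (hjD : j ≠ iD) (hj : Nat.card (M j) = q + 1)
    (hNj : Nat.card (Subgroup.normalizer (M j : Set G)) = 2 * (q + 1)) : False := by
  have h1 := Z.E2
  have hq := Z.two_le_q
  have h3 : (if j ≠ i0 ∧ j ≠ iD then ((Nat.card (M j) : ℚ) - 1) /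
          (Nat.card (Subgroup.normalizer (M j : Set G)) : ℚ) else 0)
      ≤ 1 / 2 - (((q ^ 3 : ℕ) : ℚ) - 1) / (2 * (((q ^ 3 : ℕ) : ℚ) + 1) * ((q : ℚ) - 1)) := by
    rw [← h1]
    apply Finset.single_le_sum (f := fun j => (if j ≠ i0 ∧ j ≠ iD then
        ((Nat.card (M j) : ℚ) - 1) /
          (Nat.card (Subgroup.normalizer (M j : Set G)) : ℚ) else 0)) _ (Finset.mem_univ j)
    intro i _
    show (0 : ℚ) ≤ _
    split_ifs
    · exact term_nonneg _ _
    · exact le_refl _
  rw [if_pos ⟨hj0, hjD⟩, hj, hNj] at h3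
  push_cast at h3
  have hq2 : (2 : ℚ) ≤ q := by exact_mod_cast hq
  have hq0 : (q : ℚ) - 1 ≠ 0 := by linarith
  have hq1 : (q : ℚ) + 1 ≠ 0 := by linarith
  have hq3 : (q : ℚ) ^ 3 + 1 ≠ 0 := by positivity
  have h4 : 1 / 2 - ((q : ℚ) ^ 3 - 1) / (2 * ((q : ℚ) ^ 3 + 1) * ((q : ℚ) - 1))
      - ((q : ℚ) + 1 - 1) / (2 * ((q : ℚ) + 1)) = - (q : ℚ) / ((q : ℚ) ^ 3 + 1) := by
    field_simp
    ring
  have h5 : (0 : ℚ) < (q : ℚ) / ((q : ℚ) ^ 3 + 1) := by positivity
  have h6 : - (q : ℚ) / ((q : ℚ) ^ 3 + 1) = - ((q : ℚ) / ((q : ℚ) ^ 3 + 1)) := by ring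
  linarith

/-- for `m = q` there is a further component with `(m_j, |N_j|) = (q+1, 2(q+1))`. -/
theorem exists_qplus1 [Finite G] [Fintype ι] [DecidableEq ι] (Z : ZData M i0 iD q q)
    (hcop : ∀ i j, i ≠ j → Nat.Coprime (Nat.card (M i)) (Nat.card (M j))) :
    ∃ j, j ≠ i0 ∧ j ≠ iD ∧ Nat.card (M j) = q + 1 ∧
      Nat.card (Subgroup.normalizer (M j : Set G)) = 2 * (q + 1) := by
  classical
  have hq := Z.two_le_q
  have hE1 := Z.E1
  have hE2 := Z.E2
  have hq2 : (2 : ℚ) ≤ q := by exact_mod_cast hq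
  have hq0 : (q : ℚ) - 1 ≠ 0 := by linarith
  have hq1 : (q : ℚ) + 1 ≠ 0 := by linarith
  have hqq : (q : ℚ) ≠ 0 := by linarith
  set a : ι → ℚ := fun j => ((Nat.card (M j) : ℚ) * ((Nat.card (M j) : ℚ) - 1)) /
          (Nat.card (Subgroup.normalizer (M j : Set G)) : ℚ) with ha
  set b : ι → ℚ := fun j => ((Nat.card (M j) : ℚ) - 1) /
          (Nat.card (Subgroup.normalizer (M j : Set G)) : ℚ) with hb
  have hab : ∀ j, a j = (Nat.card (M j) : ℚ) * b j := by
    intro j
    simp only [ha, hb]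
    ring
  have hE1' : ∑ j, (if j ≠ i0 ∧ j ≠ iD ∧ 2 ∣ Nat.card (Subgroup.normalizer (M j : Set G))
      then a j else 0) = (q : ℚ) / 2 := hE1
  have hE2' : ∑ j, (if j ≠ i0 ∧ j ≠ iD then b j else 0) = (q : ℚ) / (2 * ((q : ℚ) + 1)) := by
    have h0 : ∑ j, (if j ≠ i0 ∧ j ≠ iD then b j else 0)
        = 1 / 2 - ((q : ℚ) - 1) / (2 * ((q : ℚ) + 1) * ((q : ℚ) - 1)) := hE2
    rw [h0]
    field_simp
    ring
  have hdvd : ∀ j, j ≠ i0 → j ≠ iD → Nat.card (M j) ∣ q + 1 := by
    intro j h0 hD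
    have h1 : Nat.card (M j) ∣ (q + 1) * q * (q - 1) := by
      rw [← Z.cardG]
      exact Subgroup.card_subgroup_dvd_card _
    have c1 : Nat.Coprime (Nat.card (M j)) (q - 1) := by
      rw [← Z.cardD]
      exact hcop j iD hD
    have c2 : Nat.Coprime (Nat.card (M j)) q := by
      have h2 := hcop j i0 h0
      rwa [Z.card0] at h2
    exact c2.dvd_of_dvd_mul_right (c1.dvd_of_dvd_mul_right h1)
  have hbn : ∀ j, 0 ≤ b j := fun j => term_nonneg _ _
  have hc : ∀ j, 0 ≤ (if j ≠ i0 ∧ j ≠ iD then ((q : ℚ) + 1) * b j else 0) -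
      (if j ≠ i0 ∧ j ≠ iD ∧ 2 ∣ Nat.card (Subgroup.normalizer (M j : Set G)) then a j else 0) := by
    intro j
    by_cases c1 : j ≠ i0 ∧ j ≠ iD
    · rw [if_pos c1]
      have hle : (Nat.card (M j) : ℚ) ≤ (q : ℚ) + 1 := by
        have h0 : Nat.card (M j) ≤ q + 1 := Nat.le_of_dvd (by omega) (hdvd j c1.1 c1.2)
        exact_mod_cast h0
      have hbj := hbn j
      split_ifs with c3
      · rw [hab]
        nlinarith
      · have h0 : 0 ≤ ((q : ℚ) + 1) * b j := mul_nonneg (by linarith) hbj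
        linarith
    · rw [if_neg c1, if_neg (fun h => c1 ⟨h.1, h.2.1⟩)]
      simp
  have hsum : ∑ j, ((if j ≠ i0 ∧ j ≠ iD then ((q : ℚ) + 1) * b j else 0) -
      (if j ≠ i0 ∧ j ≠ iD ∧ 2 ∣ Nat.card (Subgroup.normalizer (M j : Set G)) then a j else 0))
      = 0 := by
    rw [Finset.sum_sub_distrib, hE1']
    have h0 : ∑ j, (if j ≠ i0 ∧ j ≠ iD then ((q : ℚ) + 1) * b j else 0)
        = ((q : ℚ) + 1) * ∑ j, (if j ≠ i0 ∧ j ≠ iD then b j else 0) := by
      rw [Finset.mul_sum]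
      refine Finset.sum_congr rfl (fun j _ => ?_)
      split_ifs <;> simp
    rw [h0, hE2']
    field_simp
    ring
  have hzero := (Finset.sum_eq_zero_iff_of_nonneg (fun j _ => hc j)).1 hsum
  have hne : ∑ j, (if j ≠ i0 ∧ j ≠ iD ∧ 2 ∣ Nat.card (Subgroup.normalizer (M j : Set G))
      then a j else 0) ≠ 0 := by
    rw [hE1']
    positivity
  obtain ⟨j, -, hj⟩ := Finset.exists_ne_zero_of_sum_ne_zero hne
  have hjRE : j ≠ i0 ∧ j ≠ iD ∧ 2 ∣ Nat.card (Subgroup.normalizer (M j : Set G)) := by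
    by_contra h
    exact hj (if_neg h)
  rw [if_pos hjRE] at hj
  have hmj : ∀ j', (j' ≠ i0 ∧ j' ≠ iD ∧ 2 ∣ Nat.card (Subgroup.normalizer (M j' : Set G))) →
      a j' ≠ 0 → Nat.card (M j') = q + 1 := by
    intro j' hRE ha'
    have h0 := hzero j' (Finset.mem_univ _)
    rw [if_pos ⟨hRE.1, hRE.2.1⟩, if_pos hRE] at h0
    have hb' : b j' ≠ 0 := by
      intro hb0
      apply ha'
      rw [hab, hb0, mul_zero]
    have h1 : ((q : ℚ) + 1 - (Nat.card (M j') : ℚ)) * b j' = 0 := by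
      rw [hab] at h0
      linarith
    rcases mul_eq_zero.1 h1 with h | h
    · have h2 : (Nat.card (M j') : ℚ) = ((q + 1 : ℕ) : ℚ) := by
        push_cast
        linarith
      exact_mod_cast h2
    · exact absurd h hb'
  have hmjj := hmj j hjRE hj
  have hsingle : ∑ j', (if j' ≠ i0 ∧ j' ≠ iD ∧
      2 ∣ Nat.card (Subgroup.normalizer (M j' : Set G)) then a j' else 0) = a j := by
    rw [Finset.sum_eq_single j]
    · rw [if_pos hjRE]
    · intro j' _ hj'
      by_contra hne'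
      have hRE' : j' ≠ i0 ∧ j' ≠ iD ∧ 2 ∣ Nat.card (Subgroup.normalizer (M j' : Set G)) := by
        by_contra h
        exact hne' (if_neg h)
      rw [if_pos hRE'] at hne'
      have h1 := hmj j' hRE' hne'
      have h2 := hcop j' j hj'
      rw [h1, hmjj, Nat.coprime_self] at h2
      omega
    · intro h
      exact absurd (Finset.mem_univ j) h
  rw [hE1'] at hsingle
  refine ⟨j, hjRE.1, hjRE.2.1, hmjj, ?_⟩
  have hN : (Nat.card (Subgroup.normalizer (M j : Set G)) : ℚ) ≠ 0 :=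
    Nat.cast_ne_zero.2 Nat.card_pos.ne'
  simp only [ha] at hsingle
  rw [hmjj] at hsingle
  push_cast at hsingle
  have h3 : (q : ℚ) * (Nat.card (Subgroup.normalizer (M j : Set G)) : ℚ)
      = (q : ℚ) * (2 * ((q : ℚ) + 1)) := by
    field_simp at hsingle
    linarith
  have h4 := mul_left_cancel₀ hqq h3
  have h5 : (Nat.card (Subgroup.normalizer (M j : Set G)) : ℚ) = ((2 * (q + 1) : ℕ) : ℚ) := by
    push_cast
    linarith
  exact_mod_cast h5

end ZData

/-- an involution of the normalizer inverting a component of odd order -/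
theorem exists_inverting_invol [Finite G] (H : Subgroup G) (hodd : Odd (Nat.card H))
    (hfrob : ∀ n ∈ Subgroup.normalizer (H : Set G), n ∉ H → ∀ x ∈ H, n * x = x * n → x = 1)
    (h2 : 2 ∣ Nat.card (Subgroup.normalizer (H : Set G))) :
    ∃ a ∈ Subgroup.normalizer (H : Set G), orderOf a = 2 ∧ a ∉ H ∧
      ∀ x ∈ H, a * x * a⁻¹ = x⁻¹ := by
  obtain ⟨a, ha⟩ := exists_prime_orderOf_dvd_card' (G := Subgroup.normalizer (H : Set G)) 2 h2
  have ha2 : orderOf (a : G) = 2 := by rw [Subgroup.orderOf_coe]; exact ha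
  have hout : (a : G) ∉ H := by
    intro hm
    have h1 : orderOf (⟨a, hm⟩ : H) ∣ Nat.card H := orderOf_dvd_natCard _
    rw [Subgroup.orderOf_mk, ha2] at h1
    exact (Nat.not_even_iff_odd.2 hodd) (even_iff_two_dvd.2 h1)
  refine ⟨a, a.2, ha2, hout, ?_⟩
  apply inverts_of_fpf (mul_self_of_orderOf_two ha2)
  · intro x hx
    exact (Subgroup.mem_normalizer_iff.1 a.2 x).1 hx
  · intro x hx hc
    exact hfrob a a.2 hout x hx hc

end Cfsg.Agent.Lib.Helper4.TICCount
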