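import Mathlib
import Cfsg.Agent.Lib.Helper1.FrobeniusConj2

/-!
# S3396 (T), piece TIZ-F (L13, abstract form)
-/

namespace Cfsg.Agent.Lib.Helper4.TIZ

open scoped Pointwise

open MulAction in
theorem exists_conj_of_frobenius {G Ω : Type*} [Group G] [Finite G] [MulAction G Ω] (P : Ω)
    (hne : ∀ Q : Ω, P ≠ Q → ∃ d : G, d ≠ 1 ∧ d • P = P ∧ d • Q = Q)
    (hprop : ∀ Q : Ω, P ≠ Q → ∃ s : G, s • P = P ∧ s • Q ≠ Q)
    (hnorm : ∀ Q : Ω, P ≠ Q → ∀ x : G, x • P = P →
      (∀ d ∈ stabilizer G P ⊓ stabilizer G Q,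
        x * d * x⁻¹ ∈ stabilizer G P ⊓ stabilizer G Q) → x • Q = Q)
    (h12 : ∀ Q R : Ω, P ≠ Q → P ≠ R → ∀ g : G, g ≠ 1 → g • P = P → g • Q = Q → g • R = R →
      ∀ d : G, d • P = P → d • Q = Q → d • R = R) :
    ∀ Q R : Ω, P ≠ Q → P ≠ R → ∃ m : G, m • P = P ∧
      ∀ d : G, d • P = P → d • Q = Q → d • (m • R) = m • R := by
  intro Q R hPQ hPR
  have hmemK : ∀ (X : Ω) (g : stabilizer G P),
      g ∈ (stabilizer G X).subgroupOf (stabilizer G P) ↔ (g : G) • X = X := by
    intro X g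
    rw [Subgroup.mem_subgroupOf, mem_stabilizer_iff]
  have hconjmem : ∀ (X : Ω) (n x : stabilizer G P),
      x ∈ MulAut.conj n • (stabilizer G X).subgroupOf (stabilizer G P) ↔
        ((n : G)⁻¹ * (x : G) * (n : G)) • X = X := by
    intro X n x
    rw [Subgroup.mem_pointwise_smul_iff_inv_smul_mem, MulAut.smul_def, MulAut.conj_inv_apply,
      hmemK]
    simp
  have hfrob : ∀ X : Ω, P ≠ X →
      Cfsg.IsFrobeniusComplement ((stabilizer G X).subgroupOf (stabilizer G P)) := by
    intro X hPX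
    refine ⟨?_, ?_, ?_⟩
    · obtain ⟨d, hd1, hdP, hdX⟩ := hne X hPX
      intro hbot
      have : (⟨d, hdP⟩ : stabilizer G P) ∈ (stabilizer G X).subgroupOf (stabilizer G P) :=
        (hmemK X _).2 hdX
      rw [hbot, Subgroup.mem_bot] at this
      exact hd1 (congrArg Subtype.val this)
    · obtain ⟨s, hsP, hsX⟩ := hprop X hPX
      intro htop
      have : (⟨s, hsP⟩ : stabilizer G P) ∈ (stabilizer G X).subgroupOf (stabilizer G P) := by
        rw [htop]; exact Subgroup.mem_top _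
      exact hsX ((hmemK X _).1 this)
    · intro g hg
      rw [hmemK] at hg
      rw [eq_bot_iff]
      rintro x ⟨hx1, hx2⟩
      rw [Subgroup.mem_bot]
      by_contra hx
      have hxP : (x : G) • P = P := x.2
      have hgP : (g : G) • P = P := g.2
      have hxX : (x : G) • X = X := (hmemK X x).1 hx1
      have hx2' : ((g : G)⁻¹ * (x : G) * (g : G)) • X = X := (hconjmem X g x).1 hx2
      have hxR' : (x : G) • ((g : G) • X) = (g : G) • X := by
        have : (x : G) • ((g : G) • X) = (g : G) • (((g : G)⁻¹ * (x : G) * (g : G)) • X) := by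
          simp only [← mul_smul]
          congr 1
          group
        rw [this, hx2']
      have hgiP : (g : G)⁻¹ • P = P := inv_smul_eq_iff.2 hgP.symm
      have hPR' : P ≠ (g : G) • X := by
        intro h
        exact hPX (hgiP.symm.trans (inv_smul_eq_iff.2 h))
      have hx1' : (x : G) ≠ 1 := fun h => hx (Subtype.ext h)
      have h12b := h12 ((g : G) • X) X hPR' hPX (x : G) hx1' hxP hxR' hxX
      apply hg
      apply hnorm X hPX (g : G) hgP
      intro d hd
      rw [Subgroup.mem_inf, mem_stabilizer_iff, mem_stabilizer_iff] at hd ⊢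
      obtain ⟨hdP, hdX⟩ := hd
      have hP' : ((g : G) * d * (g : G)⁻¹) • P = P := by
        rw [mul_smul, mul_smul, hgiP, hdP, hgP]
      refine ⟨hP', ?_⟩
      apply h12b _ hP'
      rw [mul_smul, mul_smul, inv_smul_smul, hdX]
  obtain ⟨n, hn⟩ := Cfsg.Agent.Lib.Helper1.frobenius_complements_conj _ _
    (hfrob Q hPQ) (hfrob R hPR)
  refine ⟨(n : G), n.2, ?_⟩
  intro d hdP hdQ
  have hdK : (⟨d, hdP⟩ : stabilizer G P) ∈ (stabilizer G Q).subgroupOf (stabilizer G P) :=
    (hmemK Q _).2 hdQ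
  rw [← hn, hconjmem] at hdK
  have h1 : d • ((n : G) • R) = (n : G) • (((n : G)⁻¹ * d * (n : G)) • R) := by
    simp only [← mul_smul]
    congr 1
    group
  rw [h1]
  congr 1

end Cfsg.Agent.Lib.Helper4.TIZ
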