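import Mathlib
import Cfsg.Prelude.Def_SporadicCombinatorics

set_option autoImplicit false

/-!
The ternary code of length 12 on the 4 × 3 array: an explicit parametrisation by six scalars.
-/

namespace Cfsg.Agent.Lib.Helper4.TernaryGolay
open Cfsg


/-- the tetracode word with parameters `a b` -/
def beta (a b : ZMod 3) : Fin 4 → ZMod 3 := ![b, a, a + b, a + 2 * b]

/-- the parametrisation of the code -/
def enc (α0 α1 α2 α3 a b : ZMod 3) : ArrayPt → ZMod 3 :=
  fun p => ![α0, α1, α2, α3] p.1 + beta a b p.1 * p.2 + (α0 + α1 + α2 + α3) * p.2 ^ 2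

lemma col_sum : ∀ u v w : ZMod 3,
    (u + v * 0 + w * 0 ^ 2) + ((u + v * 1 + w * 1 ^ 2) + (u + v * 2 + w * 2 ^ 2)) = -w := by decide

lemma sum_zmod3 (f : ZMod 3 → ZMod 3) : ∑ r : ZMod 3, f r = f 0 + (f 1 + f 2) := by
  have : (Finset.univ : Finset (ZMod 3)) = {0, 1, 2} := by decide
  rw [this, Finset.sum_insert (by decide), Finset.sum_insert (by decide), Finset.sum_singleton]

lemma tet : ∀ α0 α1 α2 α3 a b c d : ZMod 3,
    (α0 + b * d + (α0 + α1 + α2 + α3) * d ^ 2) + (α1 + a * c + (α0 + α1 + α2 + α3) * c ^ 2) +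
    (α2 + (a + b) * (c + d) + (α0 + α1 + α2 + α3) * (c + d) ^ 2) +
    (α3 + (a + 2 * b) * (c + 2 * d) + (α0 + α1 + α2 + α3) * (c + 2 * d) ^ 2) =
      α0 + α1 + α2 + α3 := by decide

lemma enc_mem (α0 α1 α2 α3 a b : ZMod 3) : enc α0 α1 α2 α3 a b ∈ ternaryGolayCode := by
  refine ⟨α0 + α1 + α2 + α3, fun i => ?_, fun t ht => ?_⟩
  · rw [sum_zmod3]
    simp only [enc]
    exact col_sum _ _ _
  · rw [tetracode, Submodule.mem_span_pair] at ht
    obtain ⟨c, d, rfl⟩ := ht
    rw [Fin.sum_univ_four]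
    simp only [enc, beta]
    have := tet α0 α1 α2 α3 a b c d
    simp
    linear_combination this



lemma solve2 : ∀ x0 x1 x2 s : ZMod 3, x0 + (x1 + x2) = -s →
    x2 = x0 + (x1 - x0 - s) * 2 + s * 2 ^ 2 := by decide

lemma solve21 : ∀ x00 x01 x10 x11 x21 x30 x31 s : ZMod 3,
    x00 + x11 + x21 + x31 = s → x01 + x10 + x21 + (-s - x30 - x31) = s →
    x21 = (s - x00 - x10 - x30) + ((x11 - x10 - s) + (x01 - x00 - s)) * 1 + s * 1 ^ 2 := by decide

lemma solve31 : ∀ x00 x01 x10 x11 x21 x30 x31 s : ZMod 3,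
    x00 + x11 + x21 + x31 = s → x01 + x10 + x21 + (-s - x30 - x31) = s →
    x31 = x30 + ((x11 - x10 - s) + 2 * (x01 - x00 - s)) * 1 + s * 1 ^ 2 := by decide

lemma solve22 : ∀ x0 x1 x2 s A : ZMod 3, x0 + (x1 + x2) = -s → x1 = x0 + A * 1 + s * 1 ^ 2 →
    x2 = x0 + A * 2 + s * 2 ^ 2 := by decide

lemma exists_enc (x : ArrayPt → ZMod 3) (hx : x ∈ ternaryGolayCode) :
    ∃ α0 α1 α2 α3 a b : ZMod 3, x = enc α0 α1 α2 α3 a b := by
  obtain ⟨s, hcol, htet⟩ := hx
  have h0 : x (0, 0) + x (1, 0) + x (2, 0) + x (3, 0) = s := by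
    have := htet 0 (zero_mem _)
    rw [Fin.sum_univ_four] at this
    exact this
  have hu : x (0, 0) + x (1, 1) + x (2, 1) + x (3, 1) = s := by
    have := htet ![0, 1, 1, 1] (Submodule.subset_span (by simp))
    rw [Fin.sum_univ_four] at this
    exact this
  have hv : x (0, 1) + x (1, 0) + x (2, 1) + x (3, 2) = s := by
    have := htet ![1, 0, 1, 2] (Submodule.subset_span (by simp))
    rw [Fin.sum_univ_four] at this
    exact this
  have c0 := hcol 0
  have c1 := hcol 1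
  have c2 := hcol 2
  have c3 := hcol 3
  rw [sum_zmod3] at c0 c1 c2 c3
  refine ⟨x (0, 0), x (1, 0), x (2, 0), x (3, 0), x (1, 1) - x (1, 0) - s,
    x (0, 1) - x (0, 0) - s, ?_⟩
  have e32 : x (3, 2) = -s - x (3, 0) - x (3, 1) := by linear_combination c3
  have e20 : x (2, 0) = s - x (0, 0) - x (1, 0) - x (3, 0) := by linear_combination h0
  rw [e32] at hv
  have f21 := solve21 _ _ _ _ _ _ _ _ hu hv
  have f31 := solve31 _ _ _ _ _ _ _ _ hu hv
  funext ⟨i, r⟩
  simp only [enc, beta, h0]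
  rw [← e20] at f21
  have hr : r = 0 ∨ r = 1 ∨ r = 2 := by revert r; decide
  fin_cases i <;> rcases hr with rfl | rfl | rfl <;> simp
  · ring
  · exact solve2 _ _ _ _ c0
  · ring
  · exact solve2 _ _ _ _ c1
  · linear_combination f21
  · exact solve22 _ _ _ _ _ c2 f21
  · linear_combination f31
  · exact solve22 _ _ _ _ _ c3 f31



abbrev P6 := ZMod 3 × ZMod 3 × ZMod 3 × ZMod 3 × ZMod 3 × ZMod 3

def encP (p : P6) : ArrayPt → ZMod 3 := enc p.1 p.2.1 p.2.2.1 p.2.2.2.1 p.2.2.2.2.1 p.2.2.2.2.2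

set_option maxRecDepth 100000 in
lemma wt_cases : ∀ p : P6, (ternarySupport (encP p)).card = 0 ∨ (ternarySupport (encP p)).card = 6 ∨
    (ternarySupport (encP p)).card = 9 ∨ (ternarySupport (encP p)).card = 12 := by
  decide +kernel



set_option maxRecDepth 100000 in
lemma cnt6 : (Finset.univ.filter (fun p : P6 => (ternarySupport (encP p)).card = 6)).card = 264 := by
  decide +kernel

set_option maxRecDepth 100000 in
lemma cnt9 : (Finset.univ.filter (fun p : P6 => (ternarySupport (encP p)).card = 9)).card = 440 := by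
  decide +kernel

set_option maxRecDepth 100000 in
lemma cnt12 : (Finset.univ.filter (fun p : P6 => (ternarySupport (encP p)).card = 12)).card = 24 := by
  decide +kernel


lemma encP_mem (p : P6) : encP p ∈ ternaryGolayCode := enc_mem _ _ _ _ _ _

lemma exists_encP (x : ArrayPt → ZMod 3) (hx : x ∈ ternaryGolayCode) : ∃ p : P6, x = encP p := by
  obtain ⟨α0, α1, α2, α3, a, b, h⟩ := exists_enc x hx
  exact ⟨(α0, α1, α2, α3, a, b), h⟩

lemma encP_injective : Function.Injective encP := by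
  rintro ⟨α0, α1, α2, α3, a, b⟩ ⟨α0', α1', α2', α3', a', b'⟩ h
  have h00 := congrFun h (0, 0)
  have h10 := congrFun h (1, 0)
  have h20 := congrFun h (2, 0)
  have h30 := congrFun h (3, 0)
  have h01 := congrFun h (0, 1)
  have h11 := congrFun h (1, 1)
  simp [encP, enc, beta] at h00 h10 h20 h30 h01 h11
  subst h00 h10 h20 h30
  have hb : b = b' := by linear_combination h01
  have ha : a = a' := by linear_combination h11
  subst ha hb
  rfl

lemma support_card_eq_zero {x : ArrayPt → ZMod 3} (h : (ternarySupport x).card = 0) : x = 0 := by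
  rw [Finset.card_eq_zero, ternarySupport, Finset.filter_eq_empty_iff] at h
  funext p
  have := h (Finset.mem_univ p)
  simpa using this

/-- decidable form of the membership test -/
def isW (y : ArrayPt → ZMod 3) : Prop :=
  ∃ s : ZMod 3, (∀ i : Fin 4, y (i, 0) + (y (i, 1) + y (i, 2)) = -s) ∧
    ∀ c d : ZMod 3, y (0, d) + y (1, c) + y (2, c + d) + y (3, c + 2 * d) = s

instance (y : ArrayPt → ZMod 3) : Decidable (isW y) := by unfold isW; infer_instance

lemma isW_of_mem {y : ArrayPt → ZMod 3} (hy : y ∈ ternaryGolayCode) : isW y := by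
  obtain ⟨s, hcol, htet⟩ := hy
  refine ⟨s, fun i => ?_, fun c d => ?_⟩
  · rw [← hcol i, sum_zmod3]
  · have hm : c • ![(0 : ZMod 3), 1, 1, 1] + d • ![(1 : ZMod 3), 0, 1, 2] ∈ tetracode := by
      rw [tetracode, Submodule.mem_span_pair]
      exact ⟨c, d, rfl⟩
    have := htet _ hm
    rw [Fin.sum_univ_four] at this
    rw [← this]
    simp
    ring_nf

/-- a sign vector from booleans -/
def sg (b : Fin 4 → ZMod 3 → Bool) : ArrayPt → ZMod 3 := fun p => if b p.1 p.2 then 1 else 2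

/-- a function on `ZMod 3` from three values -/
def bv (b0 b1 b2 : Bool) : ZMod 3 → Bool := fun r => if r = 0 then b0 else if r = 1 then b1 else b2

/-- a boolean array from twelve values -/
def bm (b00 b01 b02 b10 b11 b12 b20 b21 b22 b30 b31 b32 : Bool) : Fin 4 → ZMod 3 → Bool :=
  ![bv b00 b01 b02, bv b10 b11 b12, bv b20 b21 b22, bv b30 b31 b32]

/-- the property to be checked for a sign pattern -/
def Good (b00 b01 b02 b10 b11 b12 b20 b21 b22 b30 b31 b32 : Bool) : Prop :=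
    isW (fun p => sg (bm b00 b01 b02 b10 b11 b12 b20 b21 b22 b30 b31 b32) p * enc 1 0 0 0 0 0 p) →
    isW (fun p => sg (bm b00 b01 b02 b10 b11 b12 b20 b21 b22 b30 b31 b32) p * enc 0 1 0 0 0 0 p) →
    isW (fun p => sg (bm b00 b01 b02 b10 b11 b12 b20 b21 b22 b30 b31 b32) p * enc 0 0 1 0 0 0 p) →
    isW (fun p => sg (bm b00 b01 b02 b10 b11 b12 b20 b21 b22 b30 b31 b32) p * enc 0 0 0 1 0 0 p) →
    isW (fun p => sg (bm b00 b01 b02 b10 b11 b12 b20 b21 b22 b30 b31 b32) p * enc 0 0 0 0 1 0 p) →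
    isW (fun p => sg (bm b00 b01 b02 b10 b11 b12 b20 b21 b22 b30 b31 b32) p * enc 0 0 0 0 0 1 p) →
    (b01 = b00 ∧ b02 = b00 ∧ b10 = b00 ∧ b11 = b00 ∧ b12 = b00 ∧ b20 = b00 ∧ b21 = b00 ∧ b22 = b00 ∧
      b30 = b00 ∧ b31 = b00 ∧ b32 = b00)

instance (b00 b01 b02 b10 b11 b12 b20 b21 b22 b30 b31 b32 : Bool) :
    Decidable (Good b00 b01 b02 b10 b11 b12 b20 b21 b22 b30 b31 b32) := by
  unfold Good; infer_instance

set_option maxRecDepth 100000 in
set_option maxHeartbeats 0 in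
lemma signs : ∀ b00 b01 b02 b10 b11 b12 b20 b21 b22 b30 b31 b32 : Bool,
    Good b00 b01 b02 b10 b11 b12 b20 b21 b22 b30 b31 b32 := by
  decide +kernel

end Cfsg.Agent.Lib.Helper4.TernaryGolay
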