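import Mathlib

/-!
# Counting lemma: an action all of whose point stabilisers have the same order
-/

set_option autoImplicit false

namespace Cfsg.Agent.Lib.Helper4.ThreeHalf

open MulAction

/-- Burnside for constant stabiliser order: `|X| * m = (#orbits) * |T|`. -/
theorem card_mul_eq_orbits_mul {T X : Type*} [Group T] [MulAction T X] [Finite T] [Finite X]
    (m : ℕ) (h : ∀ x : X, Nat.card (stabilizer T x) = m) :
    Nat.card X * m = Nat.card (orbitRel.Quotient T X) * Nat.card T := by
  classical
  haveI : Fintype X := Fintype.ofFinite X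
  have e1 : (Σ b : X, stabilizer T b) ≃ (Σ g : T, fixedBy X g) :=
    calc (Σ b : X, stabilizer T b)
        ≃ { ba : X × T // ba.2 ∈ stabilizer T ba.1 } :=
          (Equiv.subtypeProdEquivSigmaSubtype fun (b : X) (a : T) => a ∈ stabilizer T b).symm
      _ ≃ { ab : T × X // ab.1 • ab.2 = ab.2 } :=
          ((Equiv.prodComm T X).subtypeEquiv fun _ => Iff.rfl).symm
      _ ≃ (Σ g : T, fixedBy X g) :=
          Equiv.subtypeProdEquivSigmaSubtype (fun (g : T) (x : X) => x ∈ fixedBy X g)
  have e2 := e1.trans (sigmaFixedByEquivOrbitsProdGroup T X)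
  have c1 : Nat.card (Σ b : X, stabilizer T b) = Nat.card X * m := by
    rw [Nat.card_sigma]
    simp only [h, Finset.sum_const, Finset.card_univ, smul_eq_mul, Nat.card_eq_fintype_card]
  rw [← c1, Nat.card_congr e2, Nat.card_prod]

theorem card_dvd_of_const_stab {T X : Type*} [Group T] [MulAction T X] [Finite T] [Finite X]
    (m : ℕ) (h : ∀ x : X, Nat.card (stabilizer T x) = m) :
    Nat.card T ∣ Nat.card X * m := by
  rw [card_mul_eq_orbits_mul m h]
  exact dvd_mul_left _ _

end Cfsg.Agent.Lib.Helper4.ThreeHalf
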