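import Mathlib
import Cfsg.Agent.Lib.Helper4.ThreeHalf1

/-!
# Conjugation action of a subgroup on an invariant subset, counting
-/

set_option autoImplicit false

namespace Cfsg.Agent.Lib.Helper4.ThreeHalf

open MulAction

variable {G : Type*} [Group G]

/-- the conjugation action of a subgroup `T` on a `T`-invariant subset `Y` -/
@[reducible] def conjSubAction (T : Subgroup G) (Y : Set G)
    (hY : ∀ t ∈ T, ∀ y ∈ Y, t * y * t⁻¹ ∈ Y) : MulAction ↥T ↥Y where
  smul t y := ⟨(t : G) * (y : G) * (t : G)⁻¹, hY t t.2 y y.2⟩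
  one_smul y := by
    apply Subtype.ext
    show ((1 : ↥T) : G) * (y : G) * ((1 : ↥T) : G)⁻¹ = y
    simp
  mul_smul s t y := by
    apply Subtype.ext
    show ((s * t : ↥T) : G) * (y : G) * ((s * t : ↥T) : G)⁻¹
      = (s : G) * ((t : G) * (y : G) * (t : G)⁻¹) * (s : G)⁻¹
    simp only [Subgroup.coe_mul, mul_inv_rev]
    group

theorem mem_centralizer_singleton {g y : G} :
    g ∈ Subgroup.centralizer ({y} : Set G) ↔ g * y = y * g := by
  rw [Subgroup.mem_centralizer_iff]
  constructor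
  · intro h; exact (h y rfl).symm
  · intro h z hz
    rw [Set.mem_singleton_iff] at hz
    rw [hz]; exact h.symm

theorem conj_count [Finite G] (T : Subgroup G) (Y : Set G)
    (hY : ∀ t ∈ T, ∀ y ∈ Y, t * y * t⁻¹ ∈ Y) (m : ℕ)
    (hm : ∀ y ∈ Y, Nat.card ↥(T ⊓ Subgroup.centralizer ({y} : Set G)) = m) :
    Nat.card T ∣ Y.ncard * m := by
  classical
  letI : MulAction ↥T ↥Y := conjSubAction T Y hY
  have hs : ∀ y : ↥Y, Nat.card (stabilizer ↥T y) = m := by
    intro y
    rw [← hm y y.2]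
    refine Nat.card_congr ⟨fun t => ⟨t.1.1, ⟨t.1.2, ?_⟩⟩, fun g => ⟨⟨g.1, g.2.1⟩, ?_⟩, ?_, ?_⟩
    · show (t.1 : G) ∈ Subgroup.centralizer ({(y : G)} : Set G)
      rw [mem_centralizer_singleton]
      have h1 := t.2
      rw [mem_stabilizer_iff] at h1
      have h2 : (t.1 : G) * (y : G) * (t.1 : G)⁻¹ = y := congrArg Subtype.val h1
      calc (t.1 : G) * (y : G) = (t.1 : G) * (y : G) * (t.1 : G)⁻¹ * (t.1 : G) := by group
        _ = (y : G) * (t.1 : G) := by rw [h2]
    · rw [mem_stabilizer_iff]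
      apply Subtype.ext
      show g.1 * (y : G) * g.1⁻¹ = y
      have h1 : (g : G) ∈ Subgroup.centralizer ({(y : G)} : Set G) := g.2.2
      rw [mem_centralizer_singleton] at h1
      rw [h1]; group
    · intro t; rfl
    · intro g; rfl
  have := card_dvd_of_const_stab (T := ↥T) (X := ↥Y) m hs
  rwa [Nat.card_coe_set_eq] at this

end Cfsg.Agent.Lib.Helper4.ThreeHalf
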