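import Mathlib
import Cfsg.Agent.Lib.Helper4.ThreeHalf2

/-!
# Abstract core of the Isaacs–Passman argument for 3/2-transitive groups with a regular normal subgroup

`H` acts by conjugation on `N`, all `C_H(x)`, `1 ≠ x ∈ N`, have the same order `m > 1`, and `C_H(N) = 1`.
-/

set_option autoImplicit false

namespace Cfsg.Agent.Lib.Helper4.ThreeHalf

open MulAction

variable {G : Type*} [Group G]

/-- `C_H(x)` -/
abbrev CH (H : Subgroup G) (x : G) : Subgroup G := H ⊓ Subgroup.centralizer ({x} : Set G)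

theorem mem_CH {H : Subgroup G} {x h : G} : h ∈ CH H x ↔ h ∈ H ∧ h * x = x * h := by
  rw [Subgroup.mem_inf, mem_centralizer_singleton]

structure Hyp (N H : Subgroup G) (m : ℕ) : Prop where
  hm : 1 < m
  inv : ∀ h ∈ H, ∀ x ∈ N, h * x * h⁻¹ ∈ N
  card : ∀ x ∈ N, x ≠ 1 → Nat.card ↥(CH H x) = m
  faith : ∀ h ∈ H, (∀ x ∈ N, h * x = x * h) → h = 1

/-- the setwise stabiliser of `Y` in `H` under conjugation -/
def setStab (H : Subgroup G) (Y : Set G) : Subgroup G where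
  carrier := {h | h ∈ H ∧ ∀ y, h * y * h⁻¹ ∈ Y ↔ y ∈ Y}
  one_mem' := ⟨H.one_mem, fun y => by simp⟩
  mul_mem' := by
    rintro a b ⟨ha, ha'⟩ ⟨hb, hb'⟩
    refine ⟨H.mul_mem ha hb, fun y => ?_⟩
    have e : a * b * y * (a * b)⁻¹ = a * (b * y * b⁻¹) * a⁻¹ := by group
    rw [e, ha', hb']
  inv_mem' := by
    rintro a ⟨ha, ha'⟩
    refine ⟨H.inv_mem ha, fun y => ?_⟩
    rw [← ha' (a⁻¹ * y * a⁻¹⁻¹)]
    have e : a * (a⁻¹ * y * a⁻¹⁻¹) * a⁻¹ = y := by group
    rw [e]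

theorem setStab_le (H : Subgroup G) (Y : Set G) : setStab H Y ≤ H := fun _ h => h.1

theorem setStab_inv {H : Subgroup G} {Y : Set G} {t : G} (ht : t ∈ setStab H Y) {y : G} (hy : y ∈ Y) :
    t * y * t⁻¹ ∈ Y := (ht.2 y).mpr hy

variable [Finite G] {N H : Subgroup G} {m : ℕ}

theorem Hyp.m_pos (hyp : Hyp N H m) : 0 < m := by have := hyp.hm; omega

theorem Hyp.CH_eq_of_le (hyp : Hyp N H m) {x y : G} (hx : x ∈ N) (hx1 : x ≠ 1) (hy : y ∈ N) (hy1 : y ≠ 1)
    (hle : CH H x ≤ CH H y) : CH H x = CH H y := by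
  apply Subgroup.eq_of_le_of_card_ge hle
  rw [hyp.card x hx hx1, hyp.card y hy hy1]

/-- the key coprimality argument -/
theorem Hyp.key (hyp : Hyp N H m) {k : ℕ} (hk : Nat.card H = k * m) (Y : Set G)
    (hYN : ∀ y ∈ Y, y ∈ N ∧ y ≠ 1)
    (hstab : ∀ y ∈ Y, ∀ h ∈ CH H y, ∀ z ∈ Y, h * z * h⁻¹ ∈ Y)
    (hcop : Nat.Coprime Y.ncard k) :
    ∀ y ∈ Y, setStab H Y = CH H y := by
  classical
  intro y hy
  have hm0 := hyp.m_pos
  -- `C_H(y) ≤ T`
  have hle : ∀ y ∈ Y, CH H y ≤ setStab H Y := by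
    intro y hy h hh
    refine ⟨hh.1, fun z => ⟨fun hz => ?_, fun hz => hstab y hy h hh z hz⟩⟩
    have := hstab y hy h⁻¹ ((CH H y).inv_mem hh) _ hz
    have e : h⁻¹ * (h * z * h⁻¹) * h⁻¹⁻¹ = z := by group
    rwa [e] at this
  set T := setStab H Y with hT
  have hTm : ∀ y ∈ Y, Nat.card ↥(T ⊓ Subgroup.centralizer ({y} : Set G)) = m := by
    intro y hy
    have e : T ⊓ Subgroup.centralizer ({y} : Set G) = CH H y := by
      apply le_antisymm
      · exact inf_le_inf_right _ (setStab_le H Y)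
      · exact le_inf (hle y hy) inf_le_right
    rw [e]
    exact hyp.card y (hYN y hy).1 (hYN y hy).2
  have h1 : Nat.card T ∣ Y.ncard * m :=
    conj_count T Y (fun t ht y hy => setStab_inv ht hy) m hTm
  have h2 : Nat.card T ∣ k * m := by
    rw [← hk]; exact Subgroup.card_dvd_of_le (setStab_le H Y)
  have h3 : m ∣ Nat.card T := by
    rw [← hyp.card y (hYN y hy).1 (hYN y hy).2]
    exact Subgroup.card_dvd_of_le (hle y hy)
  obtain ⟨k', hk'⟩ := h3
  have h4 : k' ∣ Y.ncard := by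
    rw [hk', mul_comm m k'] at h1
    exact Nat.dvd_of_mul_dvd_mul_right hm0 h1
  have h5 : k' ∣ k := by
    rw [hk', mul_comm m k'] at h2
    exact Nat.dvd_of_mul_dvd_mul_right hm0 h2
  have h6 : k' = 1 := Nat.eq_one_of_dvd_coprimes hcop h4 h5
  have h7 : Nat.card T = m := by rw [hk', h6, mul_one]
  symm
  apply Subgroup.eq_of_le_of_card_ge (hle y hy)
  rw [h7, hyp.card y (hYN y hy).1 (hYN y hy).2]

/-- `k` divides `|M| - 1` for every `H`-invariant subgroup `M ≤ N` -/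
theorem Hyp.k_dvd (hyp : Hyp N H m) {k : ℕ} (hk : Nat.card H = k * m) (M : Subgroup G) (hMN : M ≤ N)
    (hMinv : ∀ h ∈ H, ∀ z ∈ M, h * z * h⁻¹ ∈ M) : k ∣ Nat.card M - 1 := by
  classical
  have hm0 := hyp.m_pos
  set Y : Set G := {z | z ∈ M ∧ z ≠ 1} with hY
  have hYm : ∀ y ∈ Y, Nat.card ↥(H ⊓ Subgroup.centralizer ({y} : Set G)) = m :=
    fun y hy => hyp.card y (hMN hy.1) hy.2
  have hYinv : ∀ t ∈ H, ∀ y ∈ Y, t * y * t⁻¹ ∈ Y := by
    intro t ht y hy
    refine ⟨hMinv t ht y hy.1, fun h => hy.2 ?_⟩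
    have : y = t⁻¹ * (t * y * t⁻¹) * t := by group
    rw [this, h]; group
  have h1 := conj_count H Y hYinv m hYm
  have hc : Y.ncard = Nat.card M - 1 := by
    have e : Y = (M : Set G) \ {1} := by
      ext z; simp [hY]
    rw [e, Set.ncard_diff (by simp), Set.ncard_singleton]
    congr 1
  rw [hk, hc] at h1
  exact Nat.dvd_of_mul_dvd_mul_right hm0 h1

theorem coprime_of_dvd_pred {a k : ℕ} (ha : 0 < a) (h : k ∣ a - 1) : Nat.Coprime a k := by
  have h1 : Nat.Coprime a (a - 1) := by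
    have : a = (a - 1) + 1 := by omega
    rw [this]; simp
  exact Nat.Coprime.coprime_dvd_right h h1

/-- Claim A: there is no `H`-invariant subgroup strictly between `1` and `N`. -/
theorem Hyp.claimA (hyp : Hyp N H m) (M : Subgroup G) (hMN : M ≤ N)
    (hMinv : ∀ h ∈ H, ∀ z ∈ M, h * z * h⁻¹ ∈ M) (hM1 : M ≠ ⊥) : M = N := by
  classical
  by_contra hne
  have hm0 := hyp.m_pos
  obtain ⟨x₀, hx₀N, hx₀M⟩ : ∃ x ∈ N, x ∉ M := by
    by_contra h
    push Not at h
    exact hne (le_antisymm hMN h)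
  obtain ⟨z₀, hz₀M, hz₀1⟩ : ∃ z ∈ M, z ≠ 1 := by
    by_contra h
    push Not at h
    exact hM1 ((Subgroup.eq_bot_iff_forall M).mpr h)
  have hx₀1 : x₀ ≠ 1 := fun h => hx₀M (h ▸ M.one_mem)
  -- `m ∣ |H|`
  obtain ⟨k, hk⟩ : ∃ k, Nat.card H = k * m := by
    have : m ∣ Nat.card H := by
      rw [← hyp.card x₀ hx₀N hx₀1]
      exact Subgroup.card_dvd_of_le inf_le_left
    obtain ⟨k, hk⟩ := this
    exact ⟨k, by rw [hk, mul_comm]⟩
  have hkM := hyp.k_dvd hk M hMN hMinv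
  have hMpos : 0 < Nat.card M := Nat.card_pos
  -- the main step
  have step : ∀ x ∈ N, x ∉ M → ∀ z ∈ M, z ≠ 1 → CH H x = CH H z := by
    intro x hxN hxM z hzM hz1
    have hx1 : x ≠ 1 := fun h => hxM (h ▸ M.one_mem)
    set Y : Set G := {y | x⁻¹ * y ∈ M} with hY
    have hYN : ∀ y ∈ Y, y ∈ N ∧ y ≠ 1 := by
      intro y hy
      constructor
      · have : y = x * (x⁻¹ * y) := by group
        rw [this]; exact N.mul_mem hxN (hMN hy)
      · intro h
        apply hxM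
        have h2 : x⁻¹ * y ∈ M := hy
        rw [h, mul_one] at h2
        simpa using M.inv_mem h2
    have hstab : ∀ y ∈ Y, ∀ h ∈ CH H y, ∀ w ∈ Y, h * w * h⁻¹ ∈ Y := by
      intro y hy h hh w hw
      rw [mem_CH] at hh
      show x⁻¹ * (h * w * h⁻¹) ∈ M
      have e1 : y⁻¹ * w ∈ M := by
        have : y⁻¹ * w = (x⁻¹ * y)⁻¹ * (x⁻¹ * w) := by group
        rw [this]; exact M.mul_mem (M.inv_mem hy) hw
      have e2 : h * (y⁻¹ * w) * h⁻¹ ∈ M := hMinv h hh.1 _ e1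
      have e3 : h * y⁻¹ * h⁻¹ = y⁻¹ := by
        have : h * y⁻¹ * h⁻¹ = (h * y * h⁻¹)⁻¹ := by group
        rw [this, hh.2]; group
      have e4 : x⁻¹ * (h * w * h⁻¹) = (x⁻¹ * y) * (h * (y⁻¹ * w) * h⁻¹) := by
        have : h * (y⁻¹ * w) * h⁻¹ = (h * y⁻¹ * h⁻¹) * (h * w * h⁻¹) := by group
        rw [this, e3]; group
      rw [e4]; exact M.mul_mem hy e2
    have hcard : Y.ncard = Nat.card M := by
      have : Y = (fun z => x * z) '' (M : Set G) := by
        ext y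
        constructor
        · intro hy; exact ⟨x⁻¹ * y, hy, by group⟩
        · rintro ⟨z, hz, rfl⟩
          show x⁻¹ * (x * z) ∈ M
          have : x⁻¹ * (x * z) = z := by group
          rw [this]; exact hz
      rw [this, Set.ncard_image_of_injective _ (mul_right_injective x)]
      exact (Nat.card_coe_set_eq (M : Set G))
    have hcop : Nat.Coprime Y.ncard k := by
      rw [hcard]; exact coprime_of_dvd_pred hMpos hkM
    have key := hyp.key hk Y hYN hstab hcop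
    have hxY : x ∈ Y := by show x⁻¹ * x ∈ M; simp
    have hxzY : x * z ∈ Y := by
      show x⁻¹ * (x * z) ∈ M
      have : x⁻¹ * (x * z) = z := by group
      rw [this]; exact hzM
    have e1 : CH H x = CH H (x * z) := by rw [← key x hxY, ← key (x * z) hxzY]
    apply hyp.CH_eq_of_le hxN hx1 (hMN hzM) hz1
    intro h hh
    have hh2 : h ∈ CH H (x * z) := e1 ▸ hh
    rw [mem_CH] at hh hh2 ⊢
    refine ⟨hh.1, ?_⟩
    calc h * z = x⁻¹ * ((x * h) * z) := by group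
      _ = x⁻¹ * ((h * x) * z) := by rw [hh.2]
      _ = x⁻¹ * (h * (x * z)) := by group
      _ = x⁻¹ * ((x * z) * h) := by rw [hh2.2]
      _ = z * h := by group
  -- all `C_H(y)` coincide
  have all : ∀ y ∈ N, y ≠ 1 → CH H y = CH H z₀ := by
    intro y hyN hy1
    by_cases hyM : y ∈ M
    · rw [← step x₀ hx₀N hx₀M y hyM hy1, step x₀ hx₀N hx₀M z₀ hz₀M hz₀1]
    · exact step y hyN hyM z₀ hz₀M hz₀1
  have hbot : CH H z₀ = ⊥ := by
    rw [Subgroup.eq_bot_iff_forall]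
    intro h hh
    have hhH : h ∈ H := (mem_CH.mp hh).1
    apply hyp.faith h hhH
    intro y hyN
    by_cases hy1 : y = 1
    · rw [hy1]; simp
    · have : h ∈ CH H y := by rw [all y hyN hy1]; exact hh
      exact (mem_CH.mp this).2
  have := hyp.card z₀ (hMN hz₀M) hz₀1
  rw [hbot, Subgroup.card_bot] at this
  have := hyp.hm
  omega

end Cfsg.Agent.Lib.Helper4.ThreeHalf
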