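import Mathlib
import Cfsg.Agent.Lib.Helper4.ThreeHalf3

/-!
# Claim B, commutativity and exponent `p`
-/

set_option autoImplicit false

namespace Cfsg.Agent.Lib.Helper4.ThreeHalf

open MulAction

variable {G : Type*} [Group G] [Finite G] {N H : Subgroup G} {m : ℕ}

/-- the size of an `N`-conjugacy class divides `|N|` -/
theorem ncard_class_dvd (N : Subgroup G) (x : G) :
    ({y | ∃ n ∈ N, y = n * x * n⁻¹} : Set G).ncard ∣ Nat.card N := by
  classical
  set Y : Set G := {y | ∃ n ∈ N, y = n * x * n⁻¹} with hY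
  have hYinv : ∀ t ∈ N, ∀ y ∈ Y, t * y * t⁻¹ ∈ Y := by
    rintro t ht y ⟨n, hn, rfl⟩
    exact ⟨t * n, N.mul_mem ht hn, by group⟩
  letI : MulAction ↥N ↥Y := conjSubAction N Y hYinv
  have hx : x ∈ Y := ⟨1, N.one_mem, by simp⟩
  haveI : IsPretransitive ↥N ↥Y := by
    constructor
    rintro ⟨y₁, n₁, hn₁, rfl⟩ ⟨y₂, n₂, hn₂, rfl⟩
    refine ⟨⟨n₂ * n₁⁻¹, N.mul_mem hn₂ (N.inv_mem hn₁)⟩, ?_⟩
    apply Subtype.ext
    show (n₂ * n₁⁻¹) * (n₁ * x * n₁⁻¹) * (n₂ * n₁⁻¹)⁻¹ = n₂ * x * n₂⁻¹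
    group
  have h1 := index_stabilizer_of_transitive (G := ↥N) (X := ↥Y) (x := ⟨x, hx⟩)
  have h2 : (stabilizer ↥N (⟨x, hx⟩ : ↥Y)).index ∣ Nat.card ↥N := Subgroup.index_dvd_card _
  rw [h1, Nat.card_coe_set_eq] at h2
  exact h2

/-- Claim B: `C_H(x)` centralises the `N`-class of `x`. -/
theorem Hyp.claimB (hyp : Hyp N H m) {x : G} (hxN : x ∈ N) (hx1 : x ≠ 1) {n : G} (hn : n ∈ N) :
    CH H x = CH H (n * x * n⁻¹) := by
  classical
  have hm0 := hyp.m_pos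
  obtain ⟨k, hk⟩ : ∃ k, Nat.card H = k * m := by
    have : m ∣ Nat.card H := by
      rw [← hyp.card x hxN hx1]
      exact Subgroup.card_dvd_of_le inf_le_left
    obtain ⟨k, hk⟩ := this
    exact ⟨k, by rw [hk, mul_comm]⟩
  have hkN := hyp.k_dvd hk N le_rfl hyp.inv
  set Y : Set G := {y | ∃ n ∈ N, y = n * x * n⁻¹} with hY
  have hYN : ∀ y ∈ Y, y ∈ N ∧ y ≠ 1 := by
    rintro y ⟨g, hg, rfl⟩
    refine ⟨N.mul_mem (N.mul_mem hg hxN) (N.inv_mem hg), fun h => hx1 ?_⟩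
    have : x = g⁻¹ * (g * x * g⁻¹) * g := by group
    rw [this, h]; group
  have hstab : ∀ y ∈ Y, ∀ h ∈ CH H y, ∀ w ∈ Y, h * w * h⁻¹ ∈ Y := by
    rintro y ⟨g, hg, rfl⟩ h hh w ⟨g', hg', rfl⟩
    rw [mem_CH] at hh
    set c := g' * g⁻¹ with hc
    have hcN : c ∈ N := N.mul_mem hg' (N.inv_mem hg)
    have hcN' : h * c * h⁻¹ ∈ N := hyp.inv h hh.1 c hcN
    refine ⟨h * c * h⁻¹ * g, N.mul_mem hcN' hg, ?_⟩
    have e1 : h * (g' * x * g'⁻¹) * h⁻¹
        = (h * c * h⁻¹) * (h * (g * x * g⁻¹) * h⁻¹) * (h * c * h⁻¹)⁻¹ := by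
      rw [hc]; group
    have e2 : h * (g * x * g⁻¹) * h⁻¹ = g * x * g⁻¹ := by
      rw [hh.2]; group
    rw [e1, e2]; group
  have hcop : Nat.Coprime Y.ncard k := by
    have h1 : Nat.Coprime (Nat.card N) k := coprime_of_dvd_pred Nat.card_pos hkN
    exact Nat.Coprime.coprime_dvd_left (ncard_class_dvd N x) h1
  have key := hyp.key hk Y hYN hstab hcop
  have hxY : x ∈ Y := ⟨1, N.one_mem, by simp⟩
  have hnY : n * x * n⁻¹ ∈ Y := ⟨n, hn, rfl⟩
  rw [← key x hxY, ← key _ hnY]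

/-- `N` is abelian. -/
theorem Hyp.comm (hyp : Hyp N H m) : ∀ x ∈ N, ∀ y ∈ N, x * y = y * x := by
  classical
  -- `A x = C_N(C_H(x))`
  have hA1 : ∀ x ∈ N, x ≠ 1 → ∀ y ∈ N, y ≠ 1 → (∀ h ∈ CH H x, h * y = y * h) → CH H y = CH H x := by
    intro x hx hx1 y hy hy1 hc
    symm
    apply hyp.CH_eq_of_le hx hx1 hy hy1
    intro h hh
    rw [mem_CH]
    exact ⟨(mem_CH.mp hh).1, hc h hh⟩
  -- `A x ≠ N`
  have hA2 : ∀ x ∈ N, x ≠ 1 → ∃ y ∈ N, ¬ (∀ h ∈ CH H x, h * y = y * h) := by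
    intro x hx hx1
    by_contra hcon
    push Not at hcon
    have hbot : CH H x = ⊥ := by
      rw [Subgroup.eq_bot_iff_forall]
      intro h hh
      exact hyp.faith h (mem_CH.mp hh).1 (fun y hy => hcon y hy h hh)
    have := hyp.card x hx hx1
    rw [hbot, Subgroup.card_bot] at this
    have := hyp.hm
    omega
  -- `A x` is normalised by `N`
  have hA3 : ∀ x ∈ N, x ≠ 1 → ∀ y ∈ N, (∀ h ∈ CH H x, h * y = y * h) → ∀ n ∈ N,
      (∀ h ∈ CH H x, h * (n * y * n⁻¹) = (n * y * n⁻¹) * h) := by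
    intro x hx hx1 y hy hc n hn h hh
    by_cases hy1 : y = 1
    · rw [hy1]; simp
    · have e1 : CH H y = CH H x := hA1 x hx hx1 y hy hy1 hc
      have e2 : CH H y = CH H (n * y * n⁻¹) := hyp.claimB hy hy1 hn
      have : h ∈ CH H (n * y * n⁻¹) := by rw [← e2, e1]; exact hh
      exact (mem_CH.mp this).2
  -- elements outside `A x` commute with `x`
  have hA4 : ∀ x ∈ N, x ≠ 1 → ∀ y ∈ N, ¬ (∀ h ∈ CH H x, h * y = y * h) → x * y = y * x := by
    intro x hx hx1 y hy hyA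
    have hy1 : y ≠ 1 := by
      intro h; apply hyA; intro g _; rw [h]; simp
    set w := x * y * x⁻¹ * y⁻¹ with hw
    have hwN : w ∈ N := N.mul_mem (N.mul_mem (N.mul_mem hx hy) (N.inv_mem hx)) (N.inv_mem hy)
    have hxx : ∀ h ∈ CH H x, h * x = x * h := fun h hh => (mem_CH.mp hh).2
    have hyy : ∀ h ∈ CH H y, h * y = y * h := fun h hh => (mem_CH.mp hh).2
    -- `w ∈ A x`
    have hw1 : ∀ h ∈ CH H x, h * w = w * h := by
      intro h hh
      have h1 := hxx h hh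
      have hxi : ∀ h ∈ CH H x, h * x⁻¹ = x⁻¹ * h := by
        intro h hh
        have := hxx h hh
        calc h * x⁻¹ = x⁻¹ * (x * h) * x⁻¹ := by group
          _ = x⁻¹ * (h * x) * x⁻¹ := by rw [this]
          _ = x⁻¹ * h := by group
      have h2 := hA3 x hx hx1 x⁻¹ (N.inv_mem hx) hxi y hy h hh
      calc h * w = (h * x) * (y * x⁻¹ * y⁻¹) := by rw [hw]; group
        _ = x * (h * (y * x⁻¹ * y⁻¹)) := by rw [h1]; group
        _ = x * ((y * x⁻¹ * y⁻¹) * h) := by rw [h2]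
        _ = w * h := by rw [hw]; group
    -- `w ∈ A y`
    have hw2 : ∀ h ∈ CH H y, h * w = w * h := by
      intro h hh
      have h1 := hyy h hh
      have hyi : h * y⁻¹ = y⁻¹ * h := by
        calc h * y⁻¹ = y⁻¹ * (y * h) * y⁻¹ := by group
          _ = y⁻¹ * (h * y) * y⁻¹ := by rw [h1]
          _ = y⁻¹ * h := by group
      have h2 := hA3 y hy hy1 y hy hyy x hx h hh
      calc h * w = (h * (x * y * x⁻¹)) * y⁻¹ := by rw [hw]; group
        _ = ((x * y * x⁻¹) * h) * y⁻¹ := by rw [h2]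
        _ = (x * y * x⁻¹) * (h * y⁻¹) := by group
        _ = (x * y * x⁻¹) * (y⁻¹ * h) := by rw [hyi]
        _ = w * h := by rw [hw]; group
    by_cases hw0 : w = 1
    · have : x * y = w * (y * x) := by rw [hw]; group
      rw [this, hw0, one_mul]
    · exfalso
      have e1 : CH H w = CH H x := hA1 x hx hx1 w hwN hw0 hw1
      have e2 : CH H w = CH H y := hA1 y hy hy1 w hwN hw0 hw2
      apply hyA
      intro h hh
      have : h ∈ CH H y := by rw [← e2, e1]; exact hh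
      exact (mem_CH.mp this).2
  -- conclusion
  intro x hx y hy
  by_cases hx1 : x = 1
  · rw [hx1]; simp
  by_cases hyA : ∀ h ∈ CH H x, h * y = y * h
  · obtain ⟨y₀, hy₀, hy₀A⟩ := hA2 x hx hx1
    have h1 := hA4 x hx hx1 y₀ hy₀ hy₀A
    have h2 : ¬ (∀ h ∈ CH H x, h * (y * y₀) = (y * y₀) * h) := by
      intro hc
      apply hy₀A
      intro h hh
      have a1 := hyA h hh
      have a2 := hc h hh
      calc h * y₀ = y⁻¹ * ((y * h) * y₀) := by group
        _ = y⁻¹ * ((h * y) * y₀) := by rw [a1]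
        _ = y⁻¹ * (h * (y * y₀)) := by group
        _ = y⁻¹ * ((y * y₀) * h) := by rw [a2]
        _ = y₀ * h := by group
    have h3 := hA4 x hx hx1 (y * y₀) (N.mul_mem hy hy₀) h2
    calc x * y = (x * (y * y₀)) * y₀⁻¹ := by group
      _ = ((y * y₀) * x) * y₀⁻¹ := by rw [h3]
      _ = y * (y₀ * x) * y₀⁻¹ := by group
      _ = y * (x * y₀) * y₀⁻¹ := by rw [h1]
      _ = y * x := by group
  · exact hA4 x hx hx1 y hy hyA

/-- `N` has prime exponent. -/
theorem Hyp.exponent (hyp : Hyp N H m) : ∃ p : ℕ, p.Prime ∧ ∀ x ∈ N, x ^ p = 1 := by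
  classical
  by_cases hN : N = ⊥
  · refine ⟨2, Nat.prime_two, fun x hx => ?_⟩
    rw [hN, Subgroup.mem_bot] at hx
    rw [hx, one_pow]
  have hcomm := hyp.comm
  have hcard : Nat.card N ≠ 1 := by
    intro h
    exact hN (Subgroup.card_eq_one.mp h)
  obtain ⟨p, hp, hpd⟩ := Nat.exists_prime_and_dvd hcard
  haveI : Fact p.Prime := ⟨hp⟩
  obtain ⟨g, hg⟩ := exists_prime_orderOf_dvd_card' (G := ↥N) p hpd
  refine ⟨p, hp, ?_⟩
  let M : Subgroup G :=
    { carrier := {x | x ∈ N ∧ x ^ p = 1}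
      one_mem' := ⟨N.one_mem, one_pow _⟩
      mul_mem' := by
        rintro a b ⟨ha, ha'⟩ ⟨hb, hb'⟩
        refine ⟨N.mul_mem ha hb, ?_⟩
        have : Commute a b := hcomm a ha b hb
        rw [this.mul_pow, ha', hb', one_mul]
      inv_mem' := by
        rintro a ⟨ha, ha'⟩
        exact ⟨N.inv_mem ha, by rw [inv_pow, ha', inv_one]⟩ }
  have hMN : M ≤ N := fun x hx => hx.1
  have hMinv : ∀ h ∈ H, ∀ z ∈ M, h * z * h⁻¹ ∈ M := by
    rintro h hh z ⟨hz, hz'⟩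
    refine ⟨hyp.inv h hh z hz, ?_⟩
    rw [conj_pow, hz']; group
  have hM1 : M ≠ ⊥ := by
    intro h
    have hgM : (g : G) ∈ M := by
      refine ⟨g.2, ?_⟩
      have : g ^ p = 1 := by rw [← hg]; exact pow_orderOf_eq_one g
      have := congrArg (Subtype.val) this
      simpa using this
    rw [h, Subgroup.mem_bot] at hgM
    have : g = 1 := Subtype.ext hgM
    rw [this, orderOf_one] at hg
    exact hp.one_lt.ne' hg.symm
  have := hyp.claimA M hMN hMinv hM1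
  intro x hx
  have hxM : x ∈ M := this ▸ hx
  exact hxM.2

end Cfsg.Agent.Lib.Helper4.ThreeHalf
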