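import Mathlib
import Cfsg.Agent.Lib.Helper4.ThreeHalf4

/-!
# 3/2-transitive groups with a regular normal subgroup: translation to the abstract core
-/

set_option autoImplicit false

namespace Cfsg.Agent.Lib.Helper4.ThreeHalf

open MulAction

variable {G Ω : Type*} [Group G] [MulAction G Ω]

/-- the stabiliser in `H = G_a` of `b` has as many elements as `G_a ⊓ G_b` -/
theorem card_stab_sub (a b : Ω) :
    Nat.card (stabilizer ↥(stabilizer G a) b) = Nat.card ↥(stabilizer G a ⊓ stabilizer G b) := by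
  have e : stabilizer ↥(stabilizer G a) b = (stabilizer G b).subgroupOf (stabilizer G a) := by
    ext h
    rw [mem_stabilizer_iff, Subgroup.mem_subgroupOf, mem_stabilizer_iff]
    rfl
  rw [e, ← Subgroup.inf_subgroupOf_left]
  exact Nat.card_congr (Subgroup.subgroupOfEquivOfLe inf_le_left).toEquiv

theorem card_inf_stab [Finite G] (a b : Ω) :
    Nat.card (orbit ↥(stabilizer G a) b) * Nat.card ↥(stabilizer G a ⊓ stabilizer G b)
      = Nat.card ↥(stabilizer G a) := by
  rw [← card_stab_sub, ← Subgroup.index_mul_card (stabilizer ↥(stabilizer G a) b), index_stabilizer,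
    Nat.card_coe_set_eq]

theorem main [Finite G] [FaithfulSMul G Ω] [Finite Ω]
    (hhalf : ∀ a b c : Ω, b ≠ a → c ≠ a →
      Nat.card (MulAction.orbit (MulAction.stabilizer G a) b) = Nat.card (MulAction.orbit (MulAction.stabilizer G a) c))
    (N : Subgroup G) [hN : N.Normal] (hNt : MulAction.IsPretransitive N Ω) (hNr : ∀ a : Ω, MulAction.stabilizer N a = ⊥)
    (hnotF : ∃ a b : Ω, a ≠ b ∧ MulAction.stabilizer G a ⊓ MulAction.stabilizer G b ≠ ⊥) :
    (∃ p : ℕ, p.Prime ∧ IsMulCommutative N ∧ ∀ x ∈ N, x ^ p = 1) ∧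
    (∀ M : Subgroup G, M.Normal → M ≠ ⊥ → N ≤ M) := by
  classical
  obtain ⟨a, b₀, hab, hst⟩ := hnotF
  set H := stabilizer G a with hH
  -- regularity
  have hreg : ∀ x ∈ N, ∀ y ∈ N, x • a = y • a → x = y := by
    intro x hx y hy h
    have h1 : (⟨y⁻¹ * x, N.mul_mem (N.inv_mem hy) hx⟩ : ↥N) ∈ stabilizer ↥N a := by
      rw [mem_stabilizer_iff]
      show (y⁻¹ * x) • a = a
      rw [mul_smul, h, smul_smul, inv_mul_cancel, one_smul]
    rw [hNr a, Subgroup.mem_bot] at h1
    have h2 : y⁻¹ * x = 1 := congrArg Subtype.val h1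
    calc x = y * (y⁻¹ * x) := by group
      _ = y := by rw [h2, mul_one]
  have htr : ∀ ω : Ω, ∃ x ∈ N, x • a = ω := by
    intro ω
    obtain ⟨n, hn⟩ := hNt.exists_smul_eq a ω
    exact ⟨n.1, n.2, hn⟩
  have hconj : ∀ h ∈ H, ∀ x : G, h • (x • a) = (h * x * h⁻¹) • a := by
    intro h hh x
    have ha : h • a = a := hh
    have ha' : h⁻¹ • a = a := by
      rw [inv_smul_eq_iff, ha]
    rw [mul_smul, mul_smul, ha']
  -- `H ⊓ G_{x a} = C_H(x)`
  have hCH : ∀ x ∈ N, H ⊓ stabilizer G (x • a) = CH H x := by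
    intro x hx
    ext h
    rw [Subgroup.mem_inf, mem_CH]
    constructor
    · rintro ⟨hh, h2⟩
      refine ⟨hh, ?_⟩
      have h2 : h • (x • a) = x • a := h2
      rw [hconj h hh x] at h2
      have := hreg _ (hN.conj_mem x hx h) x hx h2
      calc h * x = (h * x * h⁻¹) * h := by group
        _ = x * h := by rw [this]
    · rintro ⟨hh, h2⟩
      refine ⟨hh, ?_⟩
      show h • (x • a) = x • a
      rw [hconj h hh x]
      have : h * x * h⁻¹ = x := by rw [h2]; group
      rw [this]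
  obtain ⟨x₁, hx₁N, hx₁⟩ := htr b₀
  have hx₁1 : x₁ ≠ 1 := by
    intro h
    rw [h, one_smul] at hx₁
    exact hab hx₁
  set m := Nat.card ↥(CH H x₁) with hm
  have hne1 : ∀ x ∈ N, x ≠ 1 → x • a ≠ a := by
    intro x hx hx1 h
    apply hx1
    apply hreg x hx 1 N.one_mem
    rw [h, one_smul]
  have hHpos : 0 < Nat.card ↥H := Nat.card_pos
  have hcard : ∀ x ∈ N, x ≠ 1 → Nat.card ↥(CH H x) = m := by
    intro x hx hx1
    have e1 := card_inf_stab (G := G) a (x • a)
    have e2 := card_inf_stab (G := G) a (x₁ • a)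
    rw [← hH, hCH x hx] at e1
    rw [← hH, hCH x₁ hx₁N] at e2
    have e3 := hhalf a (x • a) (x₁ • a) (hne1 x hx hx1) (hne1 x₁ hx₁N hx₁1)
    rw [← hH] at e3
    rw [e3] at e1
    have hpos : 0 < Nat.card (orbit ↥H (x₁ • a)) := by
      rcases Nat.eq_zero_or_pos (Nat.card (orbit ↥H (x₁ • a))) with h | h
      · rw [h, zero_mul] at e2; omega
      · exact h
    rw [hm]
    exact Nat.eq_of_mul_eq_mul_left hpos (e1.trans e2.symm)
  have hm1 : 1 < m := by
    rw [hm, Subgroup.one_lt_card_iff_ne_bot, ← hCH x₁ hx₁N, hx₁]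
    exact hst
  have hfaith : ∀ h ∈ H, (∀ x ∈ N, h * x = x * h) → h = 1 := by
    intro h hh hc
    apply eq_of_smul_eq_smul (α := Ω)
    intro ω
    obtain ⟨x, hx, rfl⟩ := htr ω
    rw [hconj h hh x, one_smul]
    have : h * x * h⁻¹ = x := by rw [hc x hx]; group
    rw [this]
  have hyp : Hyp N H m :=
    { hm := hm1
      inv := fun h _ x hx => hN.conj_mem x hx h
      card := hcard
      faith := hfaith }
  have hcomm := hyp.comm
  refine ⟨?_, ?_⟩
  · obtain ⟨p, hp, hexp⟩ := hyp.exponent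
    refine ⟨p, hp, ⟨⟨fun x y => Subtype.ext (hcomm x x.2 y y.2)⟩⟩, hexp⟩
  · intro M hM hM1
    by_cases hMN : M ⊓ N = ⊥
    · exfalso
      apply hM1
      rw [Subgroup.eq_bot_iff_forall]
      intro g hg
      -- `g` centralises `N`
      have hc : ∀ x ∈ N, g * x = x * g := by
        intro x hx
        have h1 : g * x * g⁻¹ * x⁻¹ ∈ M ⊓ N := by
          refine ⟨?_, N.mul_mem (hN.conj_mem x hx g) (N.inv_mem hx)⟩
          have : g * x * g⁻¹ * x⁻¹ = g * (x * g⁻¹ * x⁻¹) := by group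
          rw [this]
          exact M.mul_mem hg (hM.conj_mem _ (M.inv_mem hg) x)
        rw [hMN, Subgroup.mem_bot] at h1
        calc g * x = (g * x * g⁻¹ * x⁻¹) * (x * g) := by group
          _ = x * g := by rw [h1, one_mul]
      obtain ⟨n, hn, hna⟩ := htr (g • a)
      have hhH : n⁻¹ * g ∈ H := by
        rw [hH, mem_stabilizer_iff, mul_smul, ← hna, smul_smul, inv_mul_cancel, one_smul]
      have hh1 : n⁻¹ * g = 1 := by
        apply hfaith _ hhH
        intro x hx
        have c1 : n⁻¹ * x = x * n⁻¹ := hcomm _ (N.inv_mem hn) x hx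
        calc n⁻¹ * g * x = n⁻¹ * (g * x) := by group
          _ = n⁻¹ * (x * g) := by rw [hc x hx]
          _ = (n⁻¹ * x) * g := by group
          _ = (x * n⁻¹) * g := by rw [c1]
          _ = x * (n⁻¹ * g) := by group
      have hgn : g = n := by
        calc g = n * (n⁻¹ * g) := by group
          _ = n := by rw [hh1, mul_one]
      have : g ∈ M ⊓ N := ⟨hg, hgn ▸ hn⟩
      rw [hMN, Subgroup.mem_bot] at this
      exact this
    · have hinv : ∀ h ∈ H, ∀ z ∈ M ⊓ N, h * z * h⁻¹ ∈ M ⊓ N := by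
        rintro h _ z ⟨hz1, hz2⟩
        exact ⟨hM.conj_mem z hz1 h, hN.conj_mem z hz2 h⟩
      have := hyp.claimA (M ⊓ N) inf_le_right hinv hMN
      intro x hx
      have hx' : x ∈ M ⊓ N := by rw [this]; exact hx
      exact hx'.1

end Cfsg.Agent.Lib.Helper4.ThreeHalf
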