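import Mathlib
import Cfsg.Agent.Lib.Helper4.TitspMain
import Cfsg.Agent.Lib.Helper4.L225pMain
import Cfsg.Agent.Lib.Helper4.SL225pp5Main
import Cfsg.Agent.Lib.Helper4.TC19
import Cfsg.Agent.Lib.Helper4.RelLib
import Cfsg.Agent.Lib.Helper4.StemLib7

/-!
The presented group `L225p` (the group L2(25)) embeds into the presented Tits group `Titsp` as a subgroup of
index 2304; hence the Tits group has no stem extension with kernel of order 5.
The relator checks are cut into blocks of rows to bound the memory of the kernel.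
-/

set_option autoImplicit false

namespace Cfsg.Agent.Lib.Helper4.TitsL225

open Cfsg.Agent.Lib.Helper4.TC Cfsg.Agent.Lib.Helper4.TCD Cfsg.Agent.Lib.Helper4.TC.Log
  Cfsg.Agent.Lib.Helper4.Stem

/-- the involution `((ab)⁴a)⁶` -/
def dw : List ℕ := [0, 2, 0, 2, 0, 2, 0, 2, 0, 0, 2, 0, 2, 0, 2, 0, 2, 0, 0, 2, 0, 2, 0, 2, 0, 2, 0, 0, 2, 0, 2, 0, 2, 0, 2, 0, 0, 2, 0, 2, 0, 2, 0, 2, 0, 0, 2, 0, 2, 0, 2, 0, 2, 0]

/-- the letters of `L225p` as words of `Titsp` -/
def Wf (l : ℕ) : List ℕ := [dw, dw, [2], [3]].getD l []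

theorem all_of_chunks (P : ℕ → Prop) (c n : ℕ) (h : ∀ k, k < n → ∀ j, j < c → P (c * k + j)) :
    ∀ i, i < c * n → P i := by
  intro i hi
  have hc : 0 < c := by
    rcases Nat.eq_zero_or_pos c with h0 | h0
    · simp [h0] at hi
    · exact h0
  have := h (i / c) (Nat.div_lt_of_lt_mul hi) (i % c) (Nat.mod_lt _ hc)
  rwa [Nat.div_add_mod] at this

theorem real_eq : PL225p.P.real = [[0, 0], [2, 2, 2], [0, 2, 0, 2, 0, 2, 0, 2, 0, 2, 0, 2, 0, 2, 0, 2, 0, 2, 0, 2, 0, 2, 0, 2, 0, 2], [0, 2, 0, 2, 0, 2, 0, 3, 0, 2, 0, 2, 0, 3, 0, 3, 0, 2, 0, 2, 0, 2, 0, 3, 0, 2, 0, 2, 0, 3, 0, 3]] := by decide +kernel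

/-- the image of relator 0 -/
def R0 : List ℕ := ([0, 0] : List ℕ).flatMap Wf

theorem ra0_0 : ∀ j, j < 351 → Tab.relActOK TitspA.T TitspA.D R0 (351 * 0 + j) = true := by
  decide +kernel

theorem ra0_1 : ∀ j, j < 351 → Tab.relActOK TitspA.T TitspA.D R0 (351 * 1 + j) = true := by
  decide +kernel

theorem ra0_2 : ∀ j, j < 351 → Tab.relActOK TitspA.T TitspA.D R0 (351 * 2 + j) = true := by
  decide +kernel

theorem ra0_3 : ∀ j, j < 351 → Tab.relActOK TitspA.T TitspA.D R0 (351 * 3 + j) = true := by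
  decide +kernel

theorem ra0_4 : ∀ j, j < 351 → Tab.relActOK TitspA.T TitspA.D R0 (351 * 4 + j) = true := by
  decide +kernel

theorem ra0 : ∀ i, i < 1755 → Tab.relActOK TitspA.T TitspA.D R0 i = true := by
  apply all_of_chunks (fun i => Tab.relActOK TitspA.T TitspA.D R0 i = true) 351 5
  intro k hk
  interval_cases k
  · exact ra0_0
  · exact ra0_1
  · exact ra0_2
  · exact ra0_3
  · exact ra0_4

/-- the image of relator 1 -/
def R1 : List ℕ := ([2, 2, 2] : List ℕ).flatMap Wf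

theorem ra1_0 : ∀ j, j < 1755 → Tab.relActOK TitspA.T TitspA.D R1 (1755 * 0 + j) = true := by
  decide +kernel

theorem ra1 : ∀ i, i < 1755 → Tab.relActOK TitspA.T TitspA.D R1 i = true := by
  apply all_of_chunks (fun i => Tab.relActOK TitspA.T TitspA.D R1 i = true) 1755 1
  intro k hk
  interval_cases k
  · exact ra1_0

/-- the image of relator 2 -/
def R2 : List ℕ := ([0, 2, 0, 2, 0, 2, 0, 2, 0, 2, 0, 2, 0, 2, 0, 2, 0, 2, 0, 2, 0, 2, 0, 2, 0, 2] : List ℕ).flatMap Wf

theorem ra2_0 : ∀ j, j < 65 → Tab.relActOK TitspA.T TitspA.D R2 (65 * 0 + j) = true := by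
  decide +kernel

theorem ra2_1 : ∀ j, j < 65 → Tab.relActOK TitspA.T TitspA.D R2 (65 * 1 + j) = true := by
  decide +kernel

theorem ra2_2 : ∀ j, j < 65 → Tab.relActOK TitspA.T TitspA.D R2 (65 * 2 + j) = true := by
  decide +kernel

theorem ra2_3 : ∀ j, j < 65 → Tab.relActOK TitspA.T TitspA.D R2 (65 * 3 + j) = true := by
  decide +kernel

theorem ra2_4 : ∀ j, j < 65 → Tab.relActOK TitspA.T TitspA.D R2 (65 * 4 + j) = true := by
  decide +kernel

theorem ra2_5 : ∀ j, j < 65 → Tab.relActOK TitspA.T TitspA.D R2 (65 * 5 + j) = true := by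
  decide +kernel

theorem ra2_6 : ∀ j, j < 65 → Tab.relActOK TitspA.T TitspA.D R2 (65 * 6 + j) = true := by
  decide +kernel

theorem ra2_7 : ∀ j, j < 65 → Tab.relActOK TitspA.T TitspA.D R2 (65 * 7 + j) = true := by
  decide +kernel

theorem ra2_8 : ∀ j, j < 65 → Tab.relActOK TitspA.T TitspA.D R2 (65 * 8 + j) = true := by
  decide +kernel

theorem ra2_9 : ∀ j, j < 65 → Tab.relActOK TitspA.T TitspA.D R2 (65 * 9 + j) = true := by
  decide +kernel

theorem ra2_10 : ∀ j, j < 65 → Tab.relActOK TitspA.T TitspA.D R2 (65 * 10 + j) = true := by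
  decide +kernel

theorem ra2_11 : ∀ j, j < 65 → Tab.relActOK TitspA.T TitspA.D R2 (65 * 11 + j) = true := by
  decide +kernel

theorem ra2_12 : ∀ j, j < 65 → Tab.relActOK TitspA.T TitspA.D R2 (65 * 12 + j) = true := by
  decide +kernel

theorem ra2_13 : ∀ j, j < 65 → Tab.relActOK TitspA.T TitspA.D R2 (65 * 13 + j) = true := by
  decide +kernel

theorem ra2_14 : ∀ j, j < 65 → Tab.relActOK TitspA.T TitspA.D R2 (65 * 14 + j) = true := by
  decide +kernel

theorem ra2_15 : ∀ j, j < 65 → Tab.relActOK TitspA.T TitspA.D R2 (65 * 15 + j) = true := by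
  decide +kernel

theorem ra2_16 : ∀ j, j < 65 → Tab.relActOK TitspA.T TitspA.D R2 (65 * 16 + j) = true := by
  decide +kernel

theorem ra2_17 : ∀ j, j < 65 → Tab.relActOK TitspA.T TitspA.D R2 (65 * 17 + j) = true := by
  decide +kernel

theorem ra2_18 : ∀ j, j < 65 → Tab.relActOK TitspA.T TitspA.D R2 (65 * 18 + j) = true := by
  decide +kernel

theorem ra2_19 : ∀ j, j < 65 → Tab.relActOK TitspA.T TitspA.D R2 (65 * 19 + j) = true := by
  decide +kernel

theorem ra2_20 : ∀ j, j < 65 → Tab.relActOK TitspA.T TitspA.D R2 (65 * 20 + j) = true := by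
  decide +kernel

theorem ra2_21 : ∀ j, j < 65 → Tab.relActOK TitspA.T TitspA.D R2 (65 * 21 + j) = true := by
  decide +kernel

theorem ra2_22 : ∀ j, j < 65 → Tab.relActOK TitspA.T TitspA.D R2 (65 * 22 + j) = true := by
  decide +kernel

theorem ra2_23 : ∀ j, j < 65 → Tab.relActOK TitspA.T TitspA.D R2 (65 * 23 + j) = true := by
  decide +kernel

theorem ra2_24 : ∀ j, j < 65 → Tab.relActOK TitspA.T TitspA.D R2 (65 * 24 + j) = true := by
  decide +kernel

theorem ra2_25 : ∀ j, j < 65 → Tab.relActOK TitspA.T TitspA.D R2 (65 * 25 + j) = true := by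
  decide +kernel

theorem ra2_26 : ∀ j, j < 65 → Tab.relActOK TitspA.T TitspA.D R2 (65 * 26 + j) = true := by
  decide +kernel

theorem ra2 : ∀ i, i < 1755 → Tab.relActOK TitspA.T TitspA.D R2 i = true := by
  apply all_of_chunks (fun i => Tab.relActOK TitspA.T TitspA.D R2 i = true) 65 27
  intro k hk
  interval_cases k
  · exact ra2_0
  · exact ra2_1
  · exact ra2_2
  · exact ra2_3
  · exact ra2_4
  · exact ra2_5
  · exact ra2_6
  · exact ra2_7
  · exact ra2_8
  · exact ra2_9
  · exact ra2_10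
  · exact ra2_11
  · exact ra2_12
  · exact ra2_13
  · exact ra2_14
  · exact ra2_15
  · exact ra2_16
  · exact ra2_17
  · exact ra2_18
  · exact ra2_19
  · exact ra2_20
  · exact ra2_21
  · exact ra2_22
  · exact ra2_23
  · exact ra2_24
  · exact ra2_25
  · exact ra2_26

/-- the image of relator 3 -/
def R3 : List ℕ := ([0, 2, 0, 2, 0, 2, 0, 3, 0, 2, 0, 2, 0, 3, 0, 3, 0, 2, 0, 2, 0, 2, 0, 3, 0, 2, 0, 2, 0, 3, 0, 3] : List ℕ).flatMap Wf

theorem ra3_0 : ∀ j, j < 45 → Tab.relActOK TitspA.T TitspA.D R3 (45 * 0 + j) = true := by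
  decide +kernel

theorem ra3_1 : ∀ j, j < 45 → Tab.relActOK TitspA.T TitspA.D R3 (45 * 1 + j) = true := by
  decide +kernel

theorem ra3_2 : ∀ j, j < 45 → Tab.relActOK TitspA.T TitspA.D R3 (45 * 2 + j) = true := by
  decide +kernel

theorem ra3_3 : ∀ j, j < 45 → Tab.relActOK TitspA.T TitspA.D R3 (45 * 3 + j) = true := by
  decide +kernel

theorem ra3_4 : ∀ j, j < 45 → Tab.relActOK TitspA.T TitspA.D R3 (45 * 4 + j) = true := by
  decide +kernel

theorem ra3_5 : ∀ j, j < 45 → Tab.relActOK TitspA.T TitspA.D R3 (45 * 5 + j) = true := by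
  decide +kernel

theorem ra3_6 : ∀ j, j < 45 → Tab.relActOK TitspA.T TitspA.D R3 (45 * 6 + j) = true := by
  decide +kernel

theorem ra3_7 : ∀ j, j < 45 → Tab.relActOK TitspA.T TitspA.D R3 (45 * 7 + j) = true := by
  decide +kernel

theorem ra3_8 : ∀ j, j < 45 → Tab.relActOK TitspA.T TitspA.D R3 (45 * 8 + j) = true := by
  decide +kernel

theorem ra3_9 : ∀ j, j < 45 → Tab.relActOK TitspA.T TitspA.D R3 (45 * 9 + j) = true := by
  decide +kernel

theorem ra3_10 : ∀ j, j < 45 → Tab.relActOK TitspA.T TitspA.D R3 (45 * 10 + j) = true := by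
  decide +kernel

theorem ra3_11 : ∀ j, j < 45 → Tab.relActOK TitspA.T TitspA.D R3 (45 * 11 + j) = true := by
  decide +kernel

theorem ra3_12 : ∀ j, j < 45 → Tab.relActOK TitspA.T TitspA.D R3 (45 * 12 + j) = true := by
  decide +kernel

theorem ra3_13 : ∀ j, j < 45 → Tab.relActOK TitspA.T TitspA.D R3 (45 * 13 + j) = true := by
  decide +kernel

theorem ra3_14 : ∀ j, j < 45 → Tab.relActOK TitspA.T TitspA.D R3 (45 * 14 + j) = true := by
  decide +kernel

theorem ra3_15 : ∀ j, j < 45 → Tab.relActOK TitspA.T TitspA.D R3 (45 * 15 + j) = true := by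
  decide +kernel

theorem ra3_16 : ∀ j, j < 45 → Tab.relActOK TitspA.T TitspA.D R3 (45 * 16 + j) = true := by
  decide +kernel

theorem ra3_17 : ∀ j, j < 45 → Tab.relActOK TitspA.T TitspA.D R3 (45 * 17 + j) = true := by
  decide +kernel

theorem ra3_18 : ∀ j, j < 45 → Tab.relActOK TitspA.T TitspA.D R3 (45 * 18 + j) = true := by
  decide +kernel

theorem ra3_19 : ∀ j, j < 45 → Tab.relActOK TitspA.T TitspA.D R3 (45 * 19 + j) = true := by
  decide +kernel

theorem ra3_20 : ∀ j, j < 45 → Tab.relActOK TitspA.T TitspA.D R3 (45 * 20 + j) = true := by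
  decide +kernel

theorem ra3_21 : ∀ j, j < 45 → Tab.relActOK TitspA.T TitspA.D R3 (45 * 21 + j) = true := by
  decide +kernel

theorem ra3_22 : ∀ j, j < 45 → Tab.relActOK TitspA.T TitspA.D R3 (45 * 22 + j) = true := by
  decide +kernel

theorem ra3_23 : ∀ j, j < 45 → Tab.relActOK TitspA.T TitspA.D R3 (45 * 23 + j) = true := by
  decide +kernel

theorem ra3_24 : ∀ j, j < 45 → Tab.relActOK TitspA.T TitspA.D R3 (45 * 24 + j) = true := by
  decide +kernel

theorem ra3_25 : ∀ j, j < 45 → Tab.relActOK TitspA.T TitspA.D R3 (45 * 25 + j) = true := by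
  decide +kernel

theorem ra3_26 : ∀ j, j < 45 → Tab.relActOK TitspA.T TitspA.D R3 (45 * 26 + j) = true := by
  decide +kernel

theorem ra3_27 : ∀ j, j < 45 → Tab.relActOK TitspA.T TitspA.D R3 (45 * 27 + j) = true := by
  decide +kernel

theorem ra3_28 : ∀ j, j < 45 → Tab.relActOK TitspA.T TitspA.D R3 (45 * 28 + j) = true := by
  decide +kernel

theorem ra3_29 : ∀ j, j < 45 → Tab.relActOK TitspA.T TitspA.D R3 (45 * 29 + j) = true := by
  decide +kernel

theorem ra3_30 : ∀ j, j < 45 → Tab.relActOK TitspA.T TitspA.D R3 (45 * 30 + j) = true := by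
  decide +kernel

theorem ra3_31 : ∀ j, j < 45 → Tab.relActOK TitspA.T TitspA.D R3 (45 * 31 + j) = true := by
  decide +kernel

theorem ra3_32 : ∀ j, j < 45 → Tab.relActOK TitspA.T TitspA.D R3 (45 * 32 + j) = true := by
  decide +kernel

theorem ra3_33 : ∀ j, j < 45 → Tab.relActOK TitspA.T TitspA.D R3 (45 * 33 + j) = true := by
  decide +kernel

theorem ra3_34 : ∀ j, j < 45 → Tab.relActOK TitspA.T TitspA.D R3 (45 * 34 + j) = true := by
  decide +kernel

theorem ra3_35 : ∀ j, j < 45 → Tab.relActOK TitspA.T TitspA.D R3 (45 * 35 + j) = true := by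
  decide +kernel

theorem ra3_36 : ∀ j, j < 45 → Tab.relActOK TitspA.T TitspA.D R3 (45 * 36 + j) = true := by
  decide +kernel

theorem ra3_37 : ∀ j, j < 45 → Tab.relActOK TitspA.T TitspA.D R3 (45 * 37 + j) = true := by
  decide +kernel

theorem ra3_38 : ∀ j, j < 45 → Tab.relActOK TitspA.T TitspA.D R3 (45 * 38 + j) = true := by
  decide +kernel

theorem ra3 : ∀ i, i < 1755 → Tab.relActOK TitspA.T TitspA.D R3 i = true := by
  apply all_of_chunks (fun i => Tab.relActOK TitspA.T TitspA.D R3 i = true) 45 39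
  intro k hk
  interval_cases k
  · exact ra3_0
  · exact ra3_1
  · exact ra3_2
  · exact ra3_3
  · exact ra3_4
  · exact ra3_5
  · exact ra3_6
  · exact ra3_7
  · exact ra3_8
  · exact ra3_9
  · exact ra3_10
  · exact ra3_11
  · exact ra3_12
  · exact ra3_13
  · exact ra3_14
  · exact ra3_15
  · exact ra3_16
  · exact ra3_17
  · exact ra3_18
  · exact ra3_19
  · exact ra3_20
  · exact ra3_21
  · exact ra3_22
  · exact ra3_23
  · exact ra3_24
  · exact ra3_25
  · exact ra3_26
  · exact ra3_27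
  · exact ra3_28
  · exact ra3_29
  · exact ra3_30
  · exact ra3_31
  · exact ra3_32
  · exact ra3_33
  · exact ra3_34
  · exact ra3_35
  · exact ra3_36
  · exact ra3_37
  · exact ra3_38

theorem rel_act : ∀ L ∈ PL225p.P.real, ∀ i, i < TitspA.T.N →
    Tab.relActOK TitspA.T TitspA.D (L.flatMap Wf) i = true := by
  intro L hL
  rw [real_eq] at hL
  simp only [List.mem_cons, List.mem_nil_iff, or_false] at hL
  rcases hL with rfl | rfl | rfl | rfl
  · exact ra0
  · exact ra1
  · exact ra2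
  · exact ra3

theorem rel_lt : ∀ L ∈ PL225p.P.real, ∀ x ∈ L.flatMap Wf, x < 8 := by decide +kernel

theorem inv23 : ∀ i, i < 1755 → (Tab.relActOK TitspA.T TitspA.D [2, 3] i = true ∧
    Tab.relActOK TitspA.T TitspA.D [3, 2] i = true) := by decide +kernel

theorem inv_act : ∀ l, l < 4 → ∀ i, i < TitspA.T.N →
    Tab.relActOK TitspA.T TitspA.D (Wf l ++ Wf (PL225p.P.invR l)) i = true := by
  intro l hl
  interval_cases l
  · have e : Wf 0 ++ Wf (PL225p.P.invR 0) = R0 := by decide +kernel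
    rw [e]
    exact ra0
  · have e : Wf 1 ++ Wf (PL225p.P.invR 1) = R0 := by decide +kernel
    rw [e]
    exact ra0
  · have e : Wf 2 ++ Wf (PL225p.P.invR 2) = [2, 3] := by decide +kernel
    rw [e]
    exact fun i hi => (inv23 i hi).1
  · have e : Wf 3 ++ Wf (PL225p.P.invR 3) = [3, 2] := by decide +kernel
    rw [e]
    exact fun i hi => (inv23 i hi).2

theorem inv_lt : ∀ l, l < 4 → ∀ x ∈ Wf l ++ Wf (PL225p.P.invR l), x < 8 := by decide +kernel

theorem emb : WordEmb PL225p.P PTitsp.P.gR Wf where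
  hP := PL225p.valid
  hinv := by
    intro l hl
    obtain ⟨fG, hinj, hcard⟩ := TitspMain.order_aux
    exact TitspA.inst.word_eq_one hinj _ (inv_lt l hl) (inv_act l hl)
  hrel := by
    intro L hL
    obtain ⟨fG, hinj, hcard⟩ := TitspMain.order_aux
    exact TitspA.inst.word_eq_one hinj _ (rel_lt L hL) (rel_act L hL)

/-- the homomorphism from `L225p` -/
noncomputable def f : PL225p.P.Grp →* PTitsp.P.Grp := emb.hom

theorem exists_row : ∃ i, i < TitspA.T.N ∧ Tab.act TitspA.T TitspA.D [2] i ≠ i :=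
  ⟨1, by decide +kernel, by decide +kernel⟩

theorem f_ne : f (PL225p.P.gR 2) ≠ 1 := by
  rw [f, emb.hom_gR 2 (by decide)]
  obtain ⟨i, hi, h⟩ := exists_row
  exact TitspA.inst.word_ne_one [2] (by decide) i hi h

theorem f_inj : Function.Injective f := injective_of_simple L225pMain.simple_aux f _ f_ne

theorem card_range : Nat.card f.range = 7800 := by
  obtain ⟨fK, _, hcardK⟩ := L225pMain.order_aux
  rw [← hcardK]
  exact (Nat.card_congr (MonoidHom.ofInjective f_inj).toEquiv).symm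

/-- the prime 5: the subgroup has index 2304 -/
theorem noStem5 : NoStemPrime PTitsp.P.Grp 5 := by
  obtain ⟨fG, _, hcard⟩ := TitspMain.order_aux
  have := fG
  have e : PL225p.P.Grp ≃* f.range := MonoidHom.ofInjective f_inj
  have hidx : f.range.index = 2304 := by
    have h := f.range.card_mul_index
    rw [card_range, hcard] at h
    omega
  apply noStemPrime_of_subgroup PTitsp.P.Grp f.range 5 (by norm_num)
  · rw [hidx]
    decide
  · exact noStemPrime_of_mulEquiv e 5 SL225pp5Main.noStem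

end Cfsg.Agent.Lib.Helper4.TitsL225
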