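import Mathlib
import Cfsg.Agent.Lib.Helper4.TitspMain

/-! Data and light kernel checks for the fused Sylow 3- and 5-subgroups and a Frobenius group `13:3` of the
presented Tits group `Titsp` acting on 1755 points (generated). -/

namespace Cfsg.Agent.Lib.Helper4.TitsTT

open Cfsg.Agent.Lib.Helper4.TC Cfsg.Agent.Lib.Helper4.TCD Cfsg.Agent.Lib.Helper4.TCD.TitspA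

set_option maxRecDepth 100000
set_option Elab.async false

noncomputable def iw (w : List Nat) : List Nat := invWord D.inv w
def pw (k : Nat) (w : List Nat) : List Nat := (List.replicate k w).flatten
noncomputable def cjw (g w : List Nat) : List Nat := g ++ w ++ iw g
noncomputable def eqOn (w₁ w₂ : List Nat) : Bool :=
  allBelow (fun p => Nat.beq (Tab.act T D w₁ p) (Tab.act T D w₂ p)) 1755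
def goodW (w : List Nat) : Bool := w.all (fun x => Nat.ble (Nat.succ x) 8)

/-! ### the Sylow 3-subgroup -/
def uw : List Nat := [2]
def vw : List Nat := [1, 2, 1, 3, 1, 2, 1, 3, 1, 3, 1, 3, 1, 2, 1, 2, 1, 3, 1, 2, 1, 3, 1, 2, 0, 2, 0, 3, 0, 2, 0, 3, 0, 3, 0, 2, 0, 2, 0, 2, 0, 3, 0, 2, 0, 3, 0]
def suT : List Nat := [1, 3, 5, 0, 8, 10, 12, 13, 15, 17, 2, 14, 16, 20, 22, 4, 6, 21, 23, 24, 7, 9, 11, 25, 26, 18, 19]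
def svT : List Nat := [2, 4, 6, 7, 9, 11, 0, 14, 16, 1, 17, 18, 19, 21, 3, 22, 23, 24, 5, 20, 12, 25, 26, 8, 10, 13, 15]
def parW : List Nat := [0, 0, 0, 1, 1, 2, 2, 3, 4, 4, 5, 5, 6, 7, 7, 8, 8, 9, 11, 12, 13, 13, 14, 16, 17, 21, 22]
def xl3 : List (List Nat) := [
  [],
  [],
  [1, 2, 1, 3, 1, 2, 1, 3, 1, 3, 1, 3, 1, 2, 1, 2, 1, 3, 1, 2, 1, 3, 1],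
  [1, 3, 1, 3, 1, 3, 1, 3, 1, 3, 1, 2, 1, 2, 1, 2, 1, 3, 1, 3, 1, 2, 1, 2, 1, 2, 1, 3, 1, 3, 1, 3, 1, 3, 1, 3, 1],
  [3, 1, 2, 1, 3, 1, 3, 1, 2, 1, 2, 1, 3, 1, 2, 1, 2, 1, 2, 1, 2, 1, 3, 1, 3, 1, 2, 1, 3, 1],
  [2, 1, 2, 1, 3, 1, 3, 1, 2, 1, 2, 1, 3, 1, 2, 1, 2, 1, 2, 1, 2, 1, 3, 1, 3, 1, 2, 1, 3, 1],
  [2, 1, 2, 1, 2, 1, 3, 1, 2, 1, 2, 1, 3, 1, 2, 1, 3, 1, 3, 1, 3, 1, 2, 1, 3, 1, 3, 1, 3, 1, 2, 1, 2, 1],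
  [1, 2, 1, 2, 1, 2, 1, 2, 1, 3, 1, 2, 1, 2, 1, 3, 1, 3, 1, 3, 1, 2, 1, 3, 1, 3, 1, 2, 1, 2, 1, 3, 1, 3, 1],
  [3, 1, 2, 1, 2, 1, 2, 1, 2, 1, 3, 1, 2, 1, 2, 1, 3, 1, 3, 1, 3, 1, 2, 1, 3, 1, 3, 1, 2, 1, 2, 1, 3, 1, 3, 1],
  [2, 1, 2, 1, 3, 1, 2, 1, 2, 1, 3, 1, 3, 1, 2, 1, 3, 1, 3, 1, 2, 1, 2, 1, 3, 1, 3, 1, 3, 1, 2, 1, 2, 1, 3, 1, 3, 1, 2, 1],
  [2, 1, 2, 1, 2, 1, 2, 1, 2, 1, 3, 1, 2, 1, 2, 1, 3, 1, 3, 1, 3, 1, 2, 1, 3, 1, 3, 1, 2, 1, 2, 1, 3, 1, 3, 1],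
  [3, 1, 2, 1, 3, 1, 2, 1, 2, 1, 3, 1, 3, 1, 2, 1, 3, 1, 3, 1, 2, 1, 2, 1, 3, 1, 3, 1, 3, 1, 2, 1, 2, 1, 3, 1, 3, 1, 2, 1],
  [1, 2, 1, 3, 1, 2, 1, 2, 1, 3, 1, 3, 1, 2, 1, 3, 1, 3, 1, 2, 1, 2, 1, 3, 1, 3, 1, 3, 1, 2, 1, 2, 1, 3, 1, 3, 1, 2, 1],
  [1, 3, 1, 2, 1, 3, 1, 2, 1, 2, 1, 3, 1, 2, 1, 2, 1, 3, 1, 2, 1, 3, 1],
  [1, 2, 1, 3, 1, 2, 1, 2, 1, 2, 1, 3, 1, 3, 1, 3, 1, 2, 1, 3, 1, 3, 1, 2, 1, 2, 1, 2, 1, 3, 1, 3, 1, 2, 1, 2, 1],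
  [2, 1, 2, 1, 3, 1, 2, 1, 3, 1, 3, 1, 3, 1, 2, 1, 2, 1, 3, 1, 2, 1, 3, 1],
  [1, 3, 1, 3, 1, 3, 1, 2, 1, 3, 1, 3, 1, 2, 1, 2, 1, 2, 1, 3, 1, 3, 1, 3, 1, 3, 1, 2, 1, 3, 1, 3, 1, 3, 1, 3, 1],
  [2, 1, 3, 1, 3, 1, 3, 1, 2, 1, 3, 1, 3, 1, 2, 1, 2, 1, 2, 1, 3, 1, 3, 1, 3, 1, 3, 1, 2, 1, 3, 1, 3, 1, 3, 1, 3, 1],
  [1, 3, 1, 2, 1, 2, 1, 2, 1, 3, 1, 2, 1, 2, 1, 2, 1, 3, 1],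
  [1, 2, 1, 3, 1, 2, 1, 3, 1, 3, 1, 3, 1, 2, 1, 3, 1, 3, 1, 2, 1, 2, 1, 2, 1, 3, 1, 2, 1, 3, 1, 3, 1, 3, 1, 2, 1, 3, 1],
  [1, 2, 1, 3, 1, 3, 1, 2, 1, 2, 1, 3, 1, 2, 1, 2, 1, 2, 1, 2, 1, 3, 1, 3, 1, 2, 1, 3, 1],
  [3, 1, 2, 1, 2, 1, 3, 1, 2, 1, 2, 1, 3, 1, 2, 1, 3, 1, 3, 1, 3, 1, 2, 1, 3, 1, 3, 1, 3, 1, 2, 1, 2, 1],
  [1, 2, 1, 2, 1, 3, 1, 2, 1, 2, 1, 3, 1, 2, 1, 3, 1, 3, 1, 3, 1, 2, 1, 3, 1, 3, 1, 3, 1, 2, 1, 2, 1],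
  [1, 2, 1, 2, 1, 2, 1, 2, 1, 3, 1, 3, 1, 3, 1, 2, 1, 2, 1, 3, 1, 2, 1, 2, 1, 3, 1, 2, 1, 2, 1, 2, 1, 3, 1, 2, 1, 2, 1, 3, 1, 3, 1],
  [1, 3, 1, 3, 1, 3, 1, 3, 1, 2, 1, 2, 1, 2, 1, 2, 1, 2, 1, 3, 1, 2, 1, 2, 1, 2, 1, 2, 1, 2, 1, 3, 1, 2, 1, 2, 1, 3, 1, 3, 1],
  [1, 3, 1, 3, 1, 2, 1, 3, 1, 3, 1, 2, 1, 2, 1, 3, 1, 3, 1, 3, 1, 2, 1, 3, 1, 3, 1, 3, 1, 2, 1, 3, 1, 3, 1, 2, 1, 2, 1, 3, 1, 3, 1],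
  [1, 3, 1, 2, 1, 2, 1, 3, 1, 3, 1, 3, 1, 2, 1, 3, 1, 3, 1, 2, 1, 2, 1, 3, 1, 3, 1, 3, 1, 2, 1, 2, 1, 3, 1, 3, 1, 2, 1] ]
def xw3 (i : Nat) : List Nat := xl3.getD i []
noncomputable def ew3 (i : Nat) : List Nat := bsel (Nat.beq i 0) (cjw (xw3 i) uw) []

/-! ### the Sylow 5-subgroup -/
def y1w : List Nat := [1, 3, 0, 2]
def y2w : List Nat := [2, 1, 2, 1, 3, 1, 2, 1, 2, 1, 2, 1, 3, 1, 3, 1, 3, 1, 2, 1, 2, 1, 2, 1, 3, 1, 3, 1, 3, 1, 2, 1, 3, 1, 3, 1, 3, 0, 2, 2, 0, 2, 0, 3, 0, 2, 0, 2, 0, 2, 0, 3, 0, 3, 0, 3, 0, 2, 0, 2, 0, 2, 0, 3, 0, 3, 0, 3, 0, 2, 0, 3, 0, 3]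
def s1T : List Nat := [1, 3, 4, 6, 7, 8, 10, 11, 12, 13, 0, 15, 16, 17, 18, 2, 19, 20, 21, 5, 22, 23, 9, 24, 14]
def s2T : List Nat := [2, 4, 5, 7, 8, 9, 11, 12, 13, 14, 15, 16, 17, 18, 0, 19, 20, 21, 1, 22, 23, 3, 24, 6, 10]
def parY : List Nat := [0, 0, 0, 1, 1, 2, 3, 3, 4, 5, 6, 6, 7, 8, 9, 10, 11, 12, 13, 15, 16, 17, 19, 20, 22]
def xl5 : List (List Nat) := [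
  [],
  [],
  [2, 1, 2, 1, 3, 1, 2, 1, 2, 1, 2, 1, 3, 1, 3, 1, 3, 1, 2, 1, 2, 1, 2, 1, 3, 1, 3, 1, 3, 1, 2, 1, 3, 1, 3],
  [2, 1, 3, 1, 3, 1, 2, 1, 3, 1, 3, 1, 3, 1, 3, 1, 3, 1, 2, 1, 2, 1, 3, 1, 3, 1, 2, 1, 3, 1, 3, 1, 2, 1, 2, 1, 2, 1, 3, 1, 3, 1, 3, 1, 2, 1, 3, 1, 3, 1, 3],
  [2, 1, 2, 1, 3, 1, 2, 1, 2, 1, 3, 1, 3, 1, 2, 1, 3, 1, 3, 1, 2, 1, 3, 1, 3, 1, 3, 1, 3, 1, 2, 1, 3, 1, 3, 1, 2, 1, 2, 1, 3, 1, 3],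
  [2, 1, 3, 1, 3, 1, 2, 1, 2, 1, 2, 1, 3, 1, 2, 1, 3, 1, 3, 1, 3, 1, 2, 1, 3, 1, 3, 1, 3, 1, 2, 1, 3, 1, 3, 1, 2, 1, 3, 1, 3, 1, 3, 1],
  [2, 1, 3, 1, 3, 1, 2, 1, 3, 1, 3, 1, 3, 1, 2, 1, 2, 1, 2, 1, 3, 1, 3, 1, 2, 1, 3, 1, 3, 1, 2, 1, 2, 1, 3, 1, 3, 1, 3, 1, 3, 1, 3, 1, 2, 1, 3, 1, 3, 1, 3],
  [2, 1, 2, 1, 2, 1, 3, 1, 2, 1, 2, 1, 3, 1, 3, 1, 2, 1, 3, 1, 3, 1, 3, 1, 3, 1, 3, 1, 2, 1, 2, 1, 2, 1, 3, 1, 3, 1, 3, 1, 3, 1, 3],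
  [2, 1, 2, 1, 2, 1, 3, 1, 2, 1, 2, 1, 2, 1, 3, 1, 3, 1, 2, 1, 3, 1, 3, 1, 2, 1, 3, 1, 3, 1, 3, 1, 2, 1, 2, 1, 3, 1, 3, 1],
  [2, 1, 3, 1, 3, 1, 2, 1, 2, 1, 2, 1, 3, 1, 2, 1, 3, 1, 3, 1, 3, 1, 2, 1, 3, 1, 3, 1, 3, 1, 2, 1, 3, 1, 3, 1, 2, 1, 3, 1, 3, 1, 3],
  [1],
  [2, 1, 2, 1, 3, 1, 3, 1, 2, 1, 2, 1, 3, 1, 2, 1, 2, 1, 2, 1, 2, 1, 3, 1, 2, 1, 2, 1, 3, 1, 2, 1, 2, 1, 3, 1, 3, 1, 2, 1, 3, 1, 3],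
  [2, 1, 2, 1, 3, 1, 3, 1, 2, 1, 2, 1, 2, 1, 3, 1, 2, 1, 2, 1, 3, 1, 2, 1, 2, 1, 3, 1, 3, 1, 3, 1, 2, 1, 3, 1, 3, 1, 3],
  [1, 2, 1, 2, 1, 2, 1, 3, 1, 2, 1, 2, 1, 2, 1, 3, 1, 3, 1, 2, 1, 3, 1, 3, 1, 2, 1, 3, 1, 3, 1, 3, 1, 2, 1, 2, 1, 3, 1, 3],
  [2, 1, 2, 1, 3, 1, 2, 1, 2, 1, 2, 1, 3, 1, 3, 1, 3, 1, 2, 1, 2, 1, 2, 1, 3, 1, 3, 1, 3, 1, 2, 1, 3, 1, 3, 1],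
  [2, 1, 2, 1, 2, 1, 2, 1, 2, 1, 3, 1, 3, 1, 3, 1, 2, 1, 2, 1, 2, 1, 2, 1, 2, 1, 3, 1, 2, 1, 2, 1, 3, 1, 3, 1, 2, 1, 3, 1, 3, 1, 3],
  [1, 2, 1, 2, 1, 3, 1, 3, 1, 2, 1, 2, 1, 2, 1, 3, 1, 2, 1, 2, 1, 3, 1, 2, 1, 2, 1, 3, 1, 3, 1, 3, 1, 2, 1, 3, 1, 3, 1, 3],
  [1, 2, 1, 2, 1, 3, 1, 3, 1, 2, 1, 2, 1, 2, 1, 3, 1, 2, 1, 2, 1, 3, 1, 2, 1, 2, 1, 3, 1, 3, 1, 3, 1, 2, 1, 3, 1, 3, 1, 3, 1],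
  [2, 1, 2, 1, 2, 1, 2, 1, 2, 1, 3, 1, 3, 1, 3, 1, 2, 1, 2, 1, 2, 1, 2, 1, 2, 1, 3, 1, 2, 1, 2, 1, 3, 1, 3, 1, 2, 1, 3, 1, 3, 1, 3, 1],
  [1, 2, 1, 2, 1, 2, 1, 3, 1, 2, 1, 2, 1, 2, 1, 3, 1, 3, 1, 2, 1, 3, 1, 3, 1, 2, 1, 3, 1, 3, 1, 3, 1, 2, 1, 2, 1, 3, 1, 3, 1],
  [2, 1, 2, 1, 3, 1, 3, 1, 2, 1, 2, 1, 2, 1, 3, 1, 2, 1, 2, 1, 3, 1, 2, 1, 2, 1, 3, 1, 3, 1, 3, 1, 2, 1, 3, 1, 3, 1, 3, 1],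
  [2, 1, 2, 1, 3, 1, 3, 1, 2, 1, 2, 1, 3, 1, 2, 1, 2, 1, 2, 1, 2, 1, 3, 1, 2, 1, 2, 1, 3, 1, 2, 1, 2, 1, 3, 1, 3, 1, 2, 1, 3, 1, 3, 1],
  [2, 1, 2, 1, 2, 1, 3, 1, 2, 1, 2, 1, 2, 1, 3, 1, 3, 1, 2, 1, 3, 1, 3, 1, 2, 1, 3, 1, 3, 1, 3, 1, 2, 1, 2, 1, 3, 1, 3],
  [2, 1, 2, 1, 2, 1, 3, 1, 2, 1, 2, 1, 3, 1, 3, 1, 2, 1, 3, 1, 3, 1, 3, 1, 3, 1, 3, 1, 2, 1, 2, 1, 2, 1, 3, 1, 3, 1, 3, 1, 3, 1, 3, 1],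
  [2, 1, 2, 1, 3, 1, 2, 1, 2, 1, 3, 1, 3, 1, 2, 1, 3, 1, 3, 1, 2, 1, 3, 1, 3, 1, 3, 1, 3, 1, 2, 1, 3, 1, 3, 1, 2, 1, 2, 1, 3, 1, 3, 1] ]
def xw5 (i : Nat) : List Nat := xl5.getD i []
noncomputable def ew5 (i : Nat) : List Nat := bsel (Nat.beq i 0) (cjw (xw5 i) y1w) []

/-! ### the Frobenius group of order 39 -/
def gw : List Nat := [0, 2]
def tw : List Nat := [2, 1, 3, 1, 3, 1, 3, 1, 3, 1, 2, 1, 2, 1, 2, 1, 3, 1, 3, 1, 2, 1, 2, 1, 2, 1, 3, 1, 2, 1, 2, 1, 3, 1, 3, 1, 2, 0, 2, 0, 2, 0, 3, 0, 3, 0, 2, 0, 3, 0, 3, 0, 3, 0, 2, 0, 2, 0, 3, 0, 3, 0, 3, 0, 2, 0, 2, 0, 2, 0, 2, 0, 3]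

theorem c_good : band (goodW vw) (band (xl3.all goodW) (band (goodW y2w) (band (xl5.all goodW) (goodW tw)))) = true := by
  decide +kernel
theorem c_Winj : allBelow (fun i => allBelow (fun j =>
    bsel (Nat.beq (Tab.act T D (ew3 i) 0) (Tab.act T D (ew3 j) 0)) true false) i) 27 = true := by decide +kernel
theorem c_Yinj : allBelow (fun i => allBelow (fun j =>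
    bsel (Nat.beq (Tab.act T D (ew5 i) 0) (Tab.act T D (ew5 j) 0)) true false) i) 25 = true := by decide +kernel
theorem c_Wpar : ∀ i : Fin 27, i.1 ≠ 0 → (parW.getD i.1 0 < i.1 ∧
    (suT.getD (parW.getD i.1 0) 0 = i.1 ∨ svT.getD (parW.getD i.1 0) 0 = i.1)) := by decide
theorem c_Ypar : ∀ i : Fin 25, i.1 ≠ 0 → (parY.getD i.1 0 < i.1 ∧
    (s1T.getD (parY.getD i.1 0) 0 = i.1 ∨ s2T.getD (parY.getD i.1 0) 0 = i.1)) := by decide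
theorem c_Wlt : ∀ i : Fin 27, suT.getD i.1 0 < 27 ∧ svT.getD i.1 0 < 27 := by decide
theorem c_Ylt : ∀ i : Fin 25, s1T.getD i.1 0 < 25 ∧ s2T.getD i.1 0 < 25 := by decide
theorem c_g13 : eqOn (pw 13 gw) [] = true := by decide +kernel
theorem c_gne : Nat.beq (Tab.act T D gw 0) 0 = false := by decide +kernel
theorem c_t3 : eqOn (pw 3 tw) [] = true := by decide +kernel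
theorem c_tne : Nat.beq (Tab.act T D tw 0) 0 = false := by decide +kernel
theorem c_tg : eqOn (gw ++ tw) (tw ++ pw 3 gw) = true := by decide +kernel

end Cfsg.Agent.Lib.Helper4.TitsTT
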