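import Mathlib
import Cfsg.Agent.Lib.Helper4.TitsTTDefs

/-! Kernel checks (generated): closure of the listed elements under right multiplication, part 0. -/

namespace Cfsg.Agent.Lib.Helper4.TitsTT

open Cfsg.Agent.Lib.Helper4.TC Cfsg.Agent.Lib.Helper4.TCD Cfsg.Agent.Lib.Helper4.TCD.TitspA

set_option maxRecDepth 100000
set_option Elab.async false

theorem c_Wu_0 : eqOn (ew3 0 ++ uw) (ew3 1) = true := by decide +kernel
theorem c_Wu_1 : eqOn (ew3 1 ++ uw) (ew3 3) = true := by decide +kernel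
theorem c_Wu_2 : eqOn (ew3 2 ++ uw) (ew3 5) = true := by decide +kernel
theorem c_Wu_3 : eqOn (ew3 3 ++ uw) (ew3 0) = true := by decide +kernel
theorem c_Wu_4 : eqOn (ew3 4 ++ uw) (ew3 8) = true := by decide +kernel
theorem c_Wu_5 : eqOn (ew3 5 ++ uw) (ew3 10) = true := by decide +kernel
theorem c_Wu_6 : eqOn (ew3 6 ++ uw) (ew3 12) = true := by decide +kernel
theorem c_Wu_7 : eqOn (ew3 7 ++ uw) (ew3 13) = true := by decide +kernel
theorem c_Wu_8 : eqOn (ew3 8 ++ uw) (ew3 15) = true := by decide +kernel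
theorem c_Wu_9 : eqOn (ew3 9 ++ uw) (ew3 17) = true := by decide +kernel
theorem c_Wu_10 : eqOn (ew3 10 ++ uw) (ew3 2) = true := by decide +kernel

end Cfsg.Agent.Lib.Helper4.TitsTT
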