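import Mathlib
import Cfsg.Agent.Lib.Helper4.TitsTTDefs

/-! Kernel checks (generated): closure of the listed elements under right multiplication, part 1. -/

namespace Cfsg.Agent.Lib.Helper4.TitsTT

open Cfsg.Agent.Lib.Helper4.TC Cfsg.Agent.Lib.Helper4.TCD Cfsg.Agent.Lib.Helper4.TCD.TitspA

set_option maxRecDepth 100000
set_option Elab.async false

theorem c_Wu_11 : eqOn (ew3 11 ++ uw) (ew3 14) = true := by decide +kernel
theorem c_Wu_12 : eqOn (ew3 12 ++ uw) (ew3 16) = true := by decide +kernel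
theorem c_Wu_13 : eqOn (ew3 13 ++ uw) (ew3 20) = true := by decide +kernel
theorem c_Wu_14 : eqOn (ew3 14 ++ uw) (ew3 22) = true := by decide +kernel
theorem c_Wu_15 : eqOn (ew3 15 ++ uw) (ew3 4) = true := by decide +kernel
theorem c_Wu_16 : eqOn (ew3 16 ++ uw) (ew3 6) = true := by decide +kernel
theorem c_Wu_17 : eqOn (ew3 17 ++ uw) (ew3 21) = true := by decide +kernel
theorem c_Wu_18 : eqOn (ew3 18 ++ uw) (ew3 23) = true := by decide +kernel
theorem c_Wu_19 : eqOn (ew3 19 ++ uw) (ew3 24) = true := by decide +kernel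
theorem c_Wu_20 : eqOn (ew3 20 ++ uw) (ew3 7) = true := by decide +kernel
theorem c_Wu_21 : eqOn (ew3 21 ++ uw) (ew3 9) = true := by decide +kernel

end Cfsg.Agent.Lib.Helper4.TitsTT
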