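import Mathlib
import Cfsg.Agent.Lib.Helper4.TitsTTDefs

/-! Kernel checks (generated): closure of the listed elements under right multiplication, part 2. -/

namespace Cfsg.Agent.Lib.Helper4.TitsTT

open Cfsg.Agent.Lib.Helper4.TC Cfsg.Agent.Lib.Helper4.TCD Cfsg.Agent.Lib.Helper4.TCD.TitspA

set_option maxRecDepth 100000
set_option Elab.async false

theorem c_Wu_22 : eqOn (ew3 22 ++ uw) (ew3 11) = true := by decide +kernel
theorem c_Wu_23 : eqOn (ew3 23 ++ uw) (ew3 25) = true := by decide +kernel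
theorem c_Wu_24 : eqOn (ew3 24 ++ uw) (ew3 26) = true := by decide +kernel
theorem c_Wu_25 : eqOn (ew3 25 ++ uw) (ew3 18) = true := by decide +kernel
theorem c_Wu_26 : eqOn (ew3 26 ++ uw) (ew3 19) = true := by decide +kernel
theorem c_Wv_0 : eqOn (ew3 0 ++ vw) (ew3 2) = true := by decide +kernel
theorem c_Wv_1 : eqOn (ew3 1 ++ vw) (ew3 4) = true := by decide +kernel
theorem c_Wv_2 : eqOn (ew3 2 ++ vw) (ew3 6) = true := by decide +kernel
theorem c_Wv_3 : eqOn (ew3 3 ++ vw) (ew3 7) = true := by decide +kernel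
theorem c_Wv_4 : eqOn (ew3 4 ++ vw) (ew3 9) = true := by decide +kernel
theorem c_Wv_5 : eqOn (ew3 5 ++ vw) (ew3 11) = true := by decide +kernel

end Cfsg.Agent.Lib.Helper4.TitsTT
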