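import Mathlib
import Cfsg.Agent.Lib.Helper4.TitsTTDefs

/-! Kernel checks (generated): closure of the listed elements under right multiplication, part 3. -/

namespace Cfsg.Agent.Lib.Helper4.TitsTT

open Cfsg.Agent.Lib.Helper4.TC Cfsg.Agent.Lib.Helper4.TCD Cfsg.Agent.Lib.Helper4.TCD.TitspA

set_option maxRecDepth 100000
set_option Elab.async false

theorem c_Wv_6 : eqOn (ew3 6 ++ vw) (ew3 0) = true := by decide +kernel
theorem c_Wv_7 : eqOn (ew3 7 ++ vw) (ew3 14) = true := by decide +kernel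
theorem c_Wv_8 : eqOn (ew3 8 ++ vw) (ew3 16) = true := by decide +kernel
theorem c_Wv_9 : eqOn (ew3 9 ++ vw) (ew3 1) = true := by decide +kernel
theorem c_Wv_10 : eqOn (ew3 10 ++ vw) (ew3 17) = true := by decide +kernel
theorem c_Wv_11 : eqOn (ew3 11 ++ vw) (ew3 18) = true := by decide +kernel
theorem c_Wv_12 : eqOn (ew3 12 ++ vw) (ew3 19) = true := by decide +kernel
theorem c_Wv_13 : eqOn (ew3 13 ++ vw) (ew3 21) = true := by decide +kernel
theorem c_Wv_14 : eqOn (ew3 14 ++ vw) (ew3 3) = true := by decide +kernel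
theorem c_Wv_15 : eqOn (ew3 15 ++ vw) (ew3 22) = true := by decide +kernel
theorem c_Wv_16 : eqOn (ew3 16 ++ vw) (ew3 23) = true := by decide +kernel

end Cfsg.Agent.Lib.Helper4.TitsTT
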