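import Mathlib
import Cfsg.Agent.Lib.Helper4.TitsTTDefs

/-! Kernel checks (generated): closure of the listed elements under right multiplication, part 4. -/

namespace Cfsg.Agent.Lib.Helper4.TitsTT

open Cfsg.Agent.Lib.Helper4.TC Cfsg.Agent.Lib.Helper4.TCD Cfsg.Agent.Lib.Helper4.TCD.TitspA

set_option maxRecDepth 100000
set_option Elab.async false

theorem c_Wv_17 : eqOn (ew3 17 ++ vw) (ew3 24) = true := by decide +kernel
theorem c_Wv_18 : eqOn (ew3 18 ++ vw) (ew3 5) = true := by decide +kernel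
theorem c_Wv_19 : eqOn (ew3 19 ++ vw) (ew3 20) = true := by decide +kernel
theorem c_Wv_20 : eqOn (ew3 20 ++ vw) (ew3 12) = true := by decide +kernel
theorem c_Wv_21 : eqOn (ew3 21 ++ vw) (ew3 25) = true := by decide +kernel
theorem c_Wv_22 : eqOn (ew3 22 ++ vw) (ew3 26) = true := by decide +kernel
theorem c_Wv_23 : eqOn (ew3 23 ++ vw) (ew3 8) = true := by decide +kernel
theorem c_Wv_24 : eqOn (ew3 24 ++ vw) (ew3 10) = true := by decide +kernel
theorem c_Wv_25 : eqOn (ew3 25 ++ vw) (ew3 13) = true := by decide +kernel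
theorem c_Wv_26 : eqOn (ew3 26 ++ vw) (ew3 15) = true := by decide +kernel
theorem c_Y1_0 : eqOn (ew5 0 ++ y1w) (ew5 1) = true := by decide +kernel

end Cfsg.Agent.Lib.Helper4.TitsTT
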