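import Mathlib
import Cfsg.Agent.Lib.Helper4.TitsTTDefs

/-! Kernel checks (generated): closure of the listed elements under right multiplication, part 7. -/

namespace Cfsg.Agent.Lib.Helper4.TitsTT

open Cfsg.Agent.Lib.Helper4.TC Cfsg.Agent.Lib.Helper4.TCD Cfsg.Agent.Lib.Helper4.TCD.TitspA

set_option maxRecDepth 100000
set_option Elab.async false

theorem c_Y1_23 : eqOn (ew5 23 ++ y1w) (ew5 24) = true := by decide +kernel
theorem c_Y1_24 : eqOn (ew5 24 ++ y1w) (ew5 14) = true := by decide +kernel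
theorem c_Y2_0 : eqOn (ew5 0 ++ y2w) (ew5 2) = true := by decide +kernel
theorem c_Y2_1 : eqOn (ew5 1 ++ y2w) (ew5 4) = true := by decide +kernel
theorem c_Y2_2 : eqOn (ew5 2 ++ y2w) (ew5 5) = true := by decide +kernel
theorem c_Y2_3 : eqOn (ew5 3 ++ y2w) (ew5 7) = true := by decide +kernel
theorem c_Y2_4 : eqOn (ew5 4 ++ y2w) (ew5 8) = true := by decide +kernel
theorem c_Y2_5 : eqOn (ew5 5 ++ y2w) (ew5 9) = true := by decide +kernel
theorem c_Y2_6 : eqOn (ew5 6 ++ y2w) (ew5 11) = true := by decide +kernel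
theorem c_Y2_7 : eqOn (ew5 7 ++ y2w) (ew5 12) = true := by decide +kernel
theorem c_Y2_8 : eqOn (ew5 8 ++ y2w) (ew5 13) = true := by decide +kernel

end Cfsg.Agent.Lib.Helper4.TitsTT
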