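import Mathlib
import Cfsg.Agent.Lib.Helper4.TitsTTDefs

/-! Kernel checks (generated): closure of the listed elements under right multiplication, part 8. -/

namespace Cfsg.Agent.Lib.Helper4.TitsTT

open Cfsg.Agent.Lib.Helper4.TC Cfsg.Agent.Lib.Helper4.TCD Cfsg.Agent.Lib.Helper4.TCD.TitspA

set_option maxRecDepth 100000
set_option Elab.async false

theorem c_Y2_9 : eqOn (ew5 9 ++ y2w) (ew5 14) = true := by decide +kernel
theorem c_Y2_10 : eqOn (ew5 10 ++ y2w) (ew5 15) = true := by decide +kernel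
theorem c_Y2_11 : eqOn (ew5 11 ++ y2w) (ew5 16) = true := by decide +kernel
theorem c_Y2_12 : eqOn (ew5 12 ++ y2w) (ew5 17) = true := by decide +kernel
theorem c_Y2_13 : eqOn (ew5 13 ++ y2w) (ew5 18) = true := by decide +kernel
theorem c_Y2_14 : eqOn (ew5 14 ++ y2w) (ew5 0) = true := by decide +kernel
theorem c_Y2_15 : eqOn (ew5 15 ++ y2w) (ew5 19) = true := by decide +kernel
theorem c_Y2_16 : eqOn (ew5 16 ++ y2w) (ew5 20) = true := by decide +kernel
theorem c_Y2_17 : eqOn (ew5 17 ++ y2w) (ew5 21) = true := by decide +kernel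
theorem c_Y2_18 : eqOn (ew5 18 ++ y2w) (ew5 1) = true := by decide +kernel
theorem c_Y2_19 : eqOn (ew5 19 ++ y2w) (ew5 22) = true := by decide +kernel

end Cfsg.Agent.Lib.Helper4.TitsTT
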