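import Mathlib
import Cfsg.Agent.Lib.Helper4.TitsTTDefs

/-! Kernel checks (generated): closure of the listed elements under right multiplication, part 9. -/

namespace Cfsg.Agent.Lib.Helper4.TitsTT

open Cfsg.Agent.Lib.Helper4.TC Cfsg.Agent.Lib.Helper4.TCD Cfsg.Agent.Lib.Helper4.TCD.TitspA

set_option maxRecDepth 100000
set_option Elab.async false

theorem c_Y2_20 : eqOn (ew5 20 ++ y2w) (ew5 23) = true := by decide +kernel
theorem c_Y2_21 : eqOn (ew5 21 ++ y2w) (ew5 3) = true := by decide +kernel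
theorem c_Y2_22 : eqOn (ew5 22 ++ y2w) (ew5 24) = true := by decide +kernel
theorem c_Y2_23 : eqOn (ew5 23 ++ y2w) (ew5 6) = true := by decide +kernel
theorem c_Y2_24 : eqOn (ew5 24 ++ y2w) (ew5 10) = true := by decide +kernel

end Cfsg.Agent.Lib.Helper4.TitsTT
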