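import Mathlib
import Cfsg.Agent.Lib.Helper4.TitsTTChk0
import Cfsg.Agent.Lib.Helper4.TitsTTChk1
import Cfsg.Agent.Lib.Helper4.TitsTTChk2
import Cfsg.Agent.Lib.Helper4.TitsTTChk3
import Cfsg.Agent.Lib.Helper4.TitsTTChk4
import Cfsg.Agent.Lib.Helper4.TitsTTChk5
import Cfsg.Agent.Lib.Helper4.TitsTTChk6
import Cfsg.Agent.Lib.Helper4.TitsTTChk7
import Cfsg.Agent.Lib.Helper4.TitsTTChk8
import Cfsg.Agent.Lib.Helper4.TitsTTChk9

/-! The closure checks put together (generated). -/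

namespace Cfsg.Agent.Lib.Helper4.TitsTT

open Cfsg.Agent.Lib.Helper4.TC Cfsg.Agent.Lib.Helper4.TCD Cfsg.Agent.Lib.Helper4.TCD.TitspA

set_option maxRecDepth 100000
set_option Elab.async false

theorem c_Wu : ∀ i, i < 27 → eqOn (ew3 i ++ uw) (ew3 (suT.getD i 0)) = true := by
  intro i hi
  interval_cases i
  · exact c_Wu_0
  · exact c_Wu_1
  · exact c_Wu_2
  · exact c_Wu_3
  · exact c_Wu_4
  · exact c_Wu_5
  · exact c_Wu_6
  · exact c_Wu_7
  · exact c_Wu_8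
  · exact c_Wu_9
  · exact c_Wu_10
  · exact c_Wu_11
  · exact c_Wu_12
  · exact c_Wu_13
  · exact c_Wu_14
  · exact c_Wu_15
  · exact c_Wu_16
  · exact c_Wu_17
  · exact c_Wu_18
  · exact c_Wu_19
  · exact c_Wu_20
  · exact c_Wu_21
  · exact c_Wu_22
  · exact c_Wu_23
  · exact c_Wu_24
  · exact c_Wu_25
  · exact c_Wu_26

theorem c_Wv : ∀ i, i < 27 → eqOn (ew3 i ++ vw) (ew3 (svT.getD i 0)) = true := by
  intro i hi
  interval_cases i
  · exact c_Wv_0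
  · exact c_Wv_1
  · exact c_Wv_2
  · exact c_Wv_3
  · exact c_Wv_4
  · exact c_Wv_5
  · exact c_Wv_6
  · exact c_Wv_7
  · exact c_Wv_8
  · exact c_Wv_9
  · exact c_Wv_10
  · exact c_Wv_11
  · exact c_Wv_12
  · exact c_Wv_13
  · exact c_Wv_14
  · exact c_Wv_15
  · exact c_Wv_16
  · exact c_Wv_17
  · exact c_Wv_18
  · exact c_Wv_19
  · exact c_Wv_20
  · exact c_Wv_21
  · exact c_Wv_22
  · exact c_Wv_23
  · exact c_Wv_24
  · exact c_Wv_25
  · exact c_Wv_26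

theorem c_Y1 : ∀ i, i < 25 → eqOn (ew5 i ++ y1w) (ew5 (s1T.getD i 0)) = true := by
  intro i hi
  interval_cases i
  · exact c_Y1_0
  · exact c_Y1_1
  · exact c_Y1_2
  · exact c_Y1_3
  · exact c_Y1_4
  · exact c_Y1_5
  · exact c_Y1_6
  · exact c_Y1_7
  · exact c_Y1_8
  · exact c_Y1_9
  · exact c_Y1_10
  · exact c_Y1_11
  · exact c_Y1_12
  · exact c_Y1_13
  · exact c_Y1_14
  · exact c_Y1_15
  · exact c_Y1_16
  · exact c_Y1_17
  · exact c_Y1_18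
  · exact c_Y1_19
  · exact c_Y1_20
  · exact c_Y1_21
  · exact c_Y1_22
  · exact c_Y1_23
  · exact c_Y1_24

theorem c_Y2 : ∀ i, i < 25 → eqOn (ew5 i ++ y2w) (ew5 (s2T.getD i 0)) = true := by
  intro i hi
  interval_cases i
  · exact c_Y2_0
  · exact c_Y2_1
  · exact c_Y2_2
  · exact c_Y2_3
  · exact c_Y2_4
  · exact c_Y2_5
  · exact c_Y2_6
  · exact c_Y2_7
  · exact c_Y2_8
  · exact c_Y2_9
  · exact c_Y2_10
  · exact c_Y2_11
  · exact c_Y2_12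
  · exact c_Y2_13
  · exact c_Y2_14
  · exact c_Y2_15
  · exact c_Y2_16
  · exact c_Y2_17
  · exact c_Y2_18
  · exact c_Y2_19
  · exact c_Y2_20
  · exact c_Y2_21
  · exact c_Y2_22
  · exact c_Y2_23
  · exact c_Y2_24

end Cfsg.Agent.Lib.Helper4.TitsTT
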