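import Mathlib
import Cfsg.Prelude.Def_LieTwisted
import Cfsg.Agent.Lib.Helper4.F4TitsMain
import Cfsg.Agent.Lib.Helper4.TwoTransCount
import Cfsg.Agent.Lib.Helper4.TitsTTDefs
import Cfsg.Agent.Lib.Helper4.TitsTTChkAll

/-!
The Tits group has no faithful 2-transitive action on a finite set with at least three points.

In the presented group `Titsp` (order `17971200`, acting faithfully on 1755 points) we exhibit a subgroup of
order 27 and a subgroup of order 25 all of whose nonidentity elements are conjugate to one element each, and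
elements `g` of order 13 and `t` of order 3 with `g t = t g³`; the counting theorem
`TwoTransCount.no_two_transitive` does the rest.
-/

namespace Cfsg.Agent.Lib.Helper4.TitsTT

set_option maxRecDepth 100000

open Cfsg.Agent.Lib.Helper4.TC Cfsg.Agent.Lib.Helper4.TCD Cfsg.Agent.Lib.Helper4.TCD.TitspA
open Cfsg.Agent.Lib.Helper4.TitspMain Cfsg.Agent.Lib.Helper4.TC.Log

abbrev G : Type := PTitsp.P.Grp
noncomputable abbrev gR : ℕ → G := PTitsp.P.gR

def Good (w : List ℕ) : Prop := ∀ x ∈ w, x < 8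

theorem good_of {w : List ℕ} (h : goodW w = true) : Good w := by
  intro x hx
  exact ble_succ (List.all_eq_true.1 h x hx)

theorem good_nil : Good [] := by intro x hx; simp at hx

theorem good_append {a b : List ℕ} (ha : Good a) (hb : Good b) : Good (a ++ b) := by
  intro x hx
  rcases List.mem_append.1 hx with h | h
  · exact ha x h
  · exact hb x h

theorem good_iw {a : List ℕ} (ha : Good a) : Good (iw a) := by
  intro x hx
  rw [iw, invWord, List.mem_reverse, List.mem_map] at hx
  obtain ⟨y, hy, rfl⟩ := hx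
  exact inst.hC.inv_lt (ha y hy)

theorem good_pw {a : List ℕ} (ha : Good a) (k : ℕ) : Good (pw k a) := by
  intro x hx
  rw [pw, List.mem_flatten] at hx
  obtain ⟨l, hl, hxl⟩ := hx
  rw [List.eq_of_mem_replicate hl] at hxl
  exact ha x hxl

theorem good_cjw {g w : List ℕ} (hg : Good g) (hw : Good w) : Good (cjw g w) :=
  good_append (good_append hg hw) (good_iw hg)

theorem wordP_iw {w : List ℕ} (hw : Good w) : wordP gR (iw w) = (wordP gR w)⁻¹ := by
  have h1 : wordP (Inst.gE PTitsp.P subs) (iw w) = (wordP (Inst.gE PTitsp.P subs) w)⁻¹ :=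
    wordP_invWord (Inst.gE PTitsp.P subs) D.inv inst.sem.hinv w
  rw [inst.gE_word _ (good_iw hw), inst.gE_word _ hw] at h1
  exact h1

theorem wordP_pw (w : List ℕ) (k : ℕ) : wordP gR (pw k w) = (wordP gR w) ^ k :=
  wordP_replicate_flatten gR k w

theorem wordP_cjw {g w : List ℕ} (hg : Good g) :
    wordP gR (cjw g w) = wordP gR g * wordP gR w * (wordP gR g)⁻¹ := by
  rw [cjw, wordP_append, wordP_append, wordP_iw hg]

theorem hinj : Function.Injective inst.phi := order_aux.2.1

theorem phi_val {w : List ℕ} (hw : Good w) (p : Fin 1755) : (inst.phi (wordP gR w) p).1 = Tab.act T D w p.1 :=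
  inst.phi_word w hw p

theorem eq_of_eqOn {w₁ w₂ : List ℕ} (h₁ : Good w₁) (h₂ : Good w₂) (h : eqOn w₁ w₂ = true) :
    wordP gR w₁ = wordP gR w₂ := by
  apply hinj
  ext p
  rw [phi_val h₁ p, phi_val h₂ p]
  exact beq_eq (allBelow_eq_true.1 h p.1 p.2)

theorem ne_one_of_move {w : List ℕ} (hw : Good w) (p : ℕ) (hp : p < 1755)
    (h : Nat.beq (Tab.act T D w p) p = false) : wordP gR w ≠ 1 := by
  intro h1
  have := phi_val hw ⟨p, hp⟩
  rw [h1, map_one] at this
  have e : Tab.act T D w p = p := by rw [← this]; rfl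
  rw [e] at h
  simp at h

theorem wordP_nil' : wordP gR [] = 1 := by simp [wordP]

theorem pow_eq_one_of {w : List ℕ} (hw : Good w) (k : ℕ) (h : eqOn (pw k w) [] = true) :
    (wordP gR w) ^ k = 1 := by
  rw [← wordP_pw, eq_of_eqOn (good_pw hw k) good_nil h, wordP_nil']

/-! ### the words are good -/

theorem g_all : Good vw ∧ xl3.all goodW = true ∧ Good y2w ∧ xl5.all goodW = true ∧ Good tw := by
  have h := c_good
  rw [band_eq_true, band_eq_true, band_eq_true, band_eq_true] at h
  exact ⟨good_of h.1, h.2.1, good_of h.2.2.1, h.2.2.2.1, good_of h.2.2.2.2⟩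

theorem g_uw : Good uw := by intro x hx; simp [uw] at hx; omega
theorem g_vw : Good vw := g_all.1
theorem g_y1w : Good y1w := by intro x hx; simp [y1w] at hx; omega
theorem g_y2w : Good y2w := g_all.2.2.1
theorem g_gw : Good gw := by intro x hx; simp [gw] at hx; omega
theorem g_tw : Good tw := g_all.2.2.2.2

theorem good_getD (l : List (List ℕ)) (h : l.all goodW = true) (i : ℕ) : Good (l.getD i []) := by
  rw [List.getD_eq_getElem?_getD]
  rcases hi : l[i]? with _ | w
  · simpa using good_nil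
  · have hm : w ∈ l := List.mem_of_getElem? hi
    simpa using good_of (List.all_eq_true.1 h w hm)

theorem g_xw3 (i : ℕ) : Good (xw3 i) := good_getD xl3 g_all.2.1 i
theorem g_xw5 (i : ℕ) : Good (xw5 i) := good_getD xl5 g_all.2.2.2.1 i

theorem ew3_zero : ew3 0 = [] := rfl
theorem ew3_of_ne {i : ℕ} (h : i ≠ 0) : ew3 i = cjw (xw3 i) uw := by
  have : Nat.beq i 0 = false := by
    cases i with
    | zero => exact absurd rfl h
    | succ n => rfl
  rw [ew3, this]; rfl
theorem ew5_zero : ew5 0 = [] := rfl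
theorem ew5_of_ne {i : ℕ} (h : i ≠ 0) : ew5 i = cjw (xw5 i) y1w := by
  have : Nat.beq i 0 = false := by
    cases i with
    | zero => exact absurd rfl h
    | succ n => rfl
  rw [ew5, this]; rfl

theorem g_ew3 (i : ℕ) : Good (ew3 i) := by
  by_cases h : i = 0
  · subst h; rw [ew3_zero]; exact good_nil
  · rw [ew3_of_ne h]; exact good_cjw (g_xw3 i) g_uw

theorem g_ew5 (i : ℕ) : Good (ew5 i) := by
  by_cases h : i = 0
  · subst h; rw [ew5_zero]; exact good_nil
  · rw [ew5_of_ne h]; exact good_cjw (g_xw5 i) g_y1w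

/-! ### a generic package: a listed subgroup with one fused class -/

/-- the package of facts for a list of words closed under right multiplication by two generators -/
theorem package (n : ℕ) (ew : ℕ → List ℕ) (xw : ℕ → List ℕ) (cw aw bw : List ℕ) (sa sb par : List ℕ)
    (hn : 0 < n)
    (g_ew : ∀ i, Good (ew i)) (g_xw : ∀ i, Good (xw i)) (g_aw : Good aw) (g_bw : Good bw)
    (ew_zero : ew 0 = []) (ew_ne : ∀ i, i ≠ 0 → ew i = cjw (xw i) cw)
    (hinjT : allBelow (fun i => allBelow (fun j =>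
      bsel (Nat.beq (Tab.act T D (ew i) 0) (Tab.act T D (ew j) 0)) true false) i) n = true)
    (hlt : ∀ i : Fin n, sa.getD i.1 0 < n ∧ sb.getD i.1 0 < n)
    (hpar : ∀ i : Fin n, i.1 ≠ 0 → (par.getD i.1 0 < i.1 ∧
      (sa.getD (par.getD i.1 0) 0 = i.1 ∨ sb.getD (par.getD i.1 0) 0 = i.1)))
    (ha : ∀ i, i < n → eqOn (ew i ++ aw) (ew (sa.getD i 0)) = true)
    (hb : ∀ i, i < n → eqOn (ew i ++ bw) (ew (sb.getD i 0)) = true) :
    Nat.card (Subgroup.closure ({wordP gR aw, wordP gR bw} : Set G)) = n ∧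
      ∀ w ∈ Subgroup.closure ({wordP gR aw, wordP gR bw} : Set G), w ≠ 1 →
        ∃ x : G, x * wordP gR cw * x⁻¹ = w := by
  let f : Fin n → G := fun i => wordP gR (ew i.1)
  have act_inj : ∀ i j : ℕ, i < n → j < i → Tab.act T D (ew i) 0 ≠ Tab.act T D (ew j) 0 := by
    intro i j hi hj
    have h := allBelow_eq_true.1 (allBelow_eq_true.1 hinjT i hi) j hj
    intro e
    rw [e] at h
    have : Nat.beq (Tab.act T D (ew j) 0) (Tab.act T D (ew j) 0) = true := by simp
    rw [this] at h
    simp at h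
  have f_inj : Function.Injective f := by
    intro i j hij
    have h1 : wordP gR (ew i.1) = wordP gR (ew j.1) := hij
    have h2 : Tab.act T D (ew i.1) 0 = Tab.act T D (ew j.1) 0 := by
      have a := phi_val (g_ew i.1) ⟨0, by norm_num⟩
      have b := phi_val (g_ew j.1) ⟨0, by norm_num⟩
      rw [h1] at a
      rw [← a, ← b]
    rcases lt_trichotomy i.1 j.1 with h | h | h
    · exact absurd h2.symm (act_inj j.1 i.1 j.2 h)
    · exact Fin.ext h
    · exact absurd h2 (act_inj i.1 j.1 i.2 h)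
  have f_zero : f ⟨0, hn⟩ = 1 := by
    show wordP gR (ew 0) = 1
    rw [ew_zero, wordP_nil']
  have f_a : ∀ i : Fin n, f i * wordP gR aw = f ⟨sa.getD i.1 0, (hlt i).1⟩ := by
    intro i
    show wordP gR (ew i.1) * wordP gR aw = wordP gR (ew (sa.getD i.1 0))
    rw [← wordP_append]
    exact eq_of_eqOn (good_append (g_ew _) g_aw) (g_ew _) (ha i.1 i.2)
  have f_b : ∀ i : Fin n, f i * wordP gR bw = f ⟨sb.getD i.1 0, (hlt i).2⟩ := by
    intro i
    show wordP gR (ew i.1) * wordP gR bw = wordP gR (ew (sb.getD i.1 0))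
    rw [← wordP_append]
    exact eq_of_eqOn (good_append (g_ew _) g_bw) (g_ew _) (hb i.1 i.2)
  have hs : ∀ g ∈ ({wordP gR aw, wordP gR bw} : Set G), ∀ i, ∃ j, f i * g = f j := by
    intro g hg i
    rcases hg with rfl | hg
    · exact ⟨_, f_a i⟩
    · rw [Set.mem_singleton_iff] at hg
      subst hg
      exact ⟨_, f_b i⟩
  have hmem : ∀ i : Fin n, f i ∈ Subgroup.closure ({wordP gR aw, wordP gR bw} : Set G) := by
    have key : ∀ m : ℕ, ∀ i : Fin n, i.1 = m → f i ∈ Subgroup.closure ({wordP gR aw, wordP gR bw} : Set G) := by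
      intro m
      induction m using Nat.strong_induction_on with
      | _ m ih =>
        intro i him
        by_cases h0 : i.1 = 0
        · have : i = ⟨0, hn⟩ := Fin.ext h0
          rw [this, f_zero]
          exact Subgroup.one_mem _
        · obtain ⟨hlt', hor⟩ := hpar i h0
          have hpn : par.getD i.1 0 < n := lt_trans hlt' i.2
          have hp := ih (par.getD i.1 0) (by rw [← him]; exact hlt') ⟨par.getD i.1 0, hpn⟩ rfl
          rcases hor with h | h
          · have e := f_a ⟨par.getD i.1 0, hpn⟩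
            have : (⟨sa.getD (par.getD i.1 0) 0, (hlt ⟨par.getD i.1 0, hpn⟩).1⟩ : Fin n) = i := Fin.ext h
            rw [this] at e
            rw [← e]
            exact Subgroup.mul_mem _ hp (Subgroup.subset_closure (Set.mem_insert _ _))
          · have e := f_b ⟨par.getD i.1 0, hpn⟩
            have : (⟨sb.getD (par.getD i.1 0) 0, (hlt ⟨par.getD i.1 0, hpn⟩).2⟩ : Fin n) = i := Fin.ext h
            rw [this] at e
            rw [← e]
            exact Subgroup.mul_mem _ hp
              (Subgroup.subset_closure (Set.mem_insert_of_mem _ (Set.mem_singleton _)))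
    intro i
    exact key i.1 i rfl
  obtain ⟨hcard, hall⟩ := TwoTransCount.card_closure_of_closed f f_inj ⟨0, hn⟩ f_zero _ hs hmem
  refine ⟨hcard, ?_⟩
  intro w hw hw1
  obtain ⟨i, rfl⟩ := hall w hw
  have hi0 : i.1 ≠ 0 := by
    intro h
    apply hw1
    have : i = ⟨0, hn⟩ := Fin.ext h
    rw [this, f_zero]
  refine ⟨wordP gR (xw i.1), ?_⟩
  show _ = wordP gR (ew i.1)
  rw [ew_ne i.1 hi0, wordP_cjw (g_xw i.1)]

/-! ### the two subgroups -/

/-- the subgroup of order 27 -/
noncomputable def W : Subgroup G := Subgroup.closure ({wordP gR uw, wordP gR vw} : Set G)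

theorem W_main : Nat.card W = 27 ∧ ∀ w ∈ W, w ≠ 1 → ∃ x : G, x * wordP gR uw * x⁻¹ = w :=
  package 27 ew3 xw3 uw uw vw suT svT parW (by norm_num) g_ew3 g_xw3 g_uw g_vw ew3_zero
    (fun _ h => ew3_of_ne h) c_Winj c_Wlt c_Wpar
    c_Wu c_Wv

/-- the subgroup of order 25 -/
noncomputable def Y : Subgroup G := Subgroup.closure ({wordP gR y1w, wordP gR y2w} : Set G)

theorem Y_main : Nat.card Y = 25 ∧ ∀ w ∈ Y, w ≠ 1 → ∃ x : G, x * wordP gR y1w * x⁻¹ = w :=
  package 25 ew5 xw5 y1w y1w y2w s1T s2T parY (by norm_num) g_ew5 g_xw5 g_y1w g_y2w ew5_zero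
    (fun _ h => ew5_of_ne h) c_Yinj c_Ylt c_Ypar
    c_Y1 c_Y2

/-! ### the Frobenius group of order 39 -/

theorem g_pow : (wordP gR gw) ^ 13 = 1 := pow_eq_one_of g_gw 13 c_g13
theorem g_ne : wordP gR gw ≠ 1 := ne_one_of_move g_gw _ (by norm_num) c_gne
theorem t_pow : (wordP gR tw) ^ 3 = 1 := pow_eq_one_of g_tw 3 c_t3
theorem t_ne : wordP gR tw ≠ 1 := ne_one_of_move g_tw _ (by norm_num) c_tne
theorem gt_rel : wordP gR gw * wordP gR tw = wordP gR tw * (wordP gR gw) ^ 3 := by
  rw [← wordP_pw, ← wordP_append, ← wordP_append]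
  exact eq_of_eqOn (good_append g_gw g_tw) (good_append g_tw (good_pw g_gw 3)) c_tg

/-! ### the theorem -/

theorem main_P {Ω : Type*} [Fintype Ω] [MulAction G Ω] [FaithfulSMul G Ω] (hΩ : 3 ≤ Fintype.card Ω) :
    ¬ MulAction.IsMultiplyPretransitive G Ω 2 := by
  have hfin : Finite G := order_aux.1
  exact TwoTransCount.no_two_transitive order_aux.2.2 W W_main.1 _ W_main.2 Y Y_main.1 (wordP gR y1w)
    (Subgroup.subset_closure (Set.mem_insert _ _)) Y_main.2 (wordP gR gw) (wordP gR tw) g_pow g_ne t_pow t_ne 3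
    gt_rel hΩ

/-- transport to a group isomorphic to the presented group -/
theorem transport' {T : Type} [Group T] (e : T ≃* PTitsp.P.Grp) {Ω : Type*} [Fintype Ω] [MulAction T Ω]
    [FaithfulSMul T Ω] (hΩ : 3 ≤ Fintype.card Ω) : ¬ MulAction.IsMultiplyPretransitive T Ω 2 :=
  TwoTransCount.transport e (fun inst hf => @main_P Ω _ inst hf hΩ)

/-- The Tits group has no faithful 2-transitive action on a finite set with more than two points. -/
theorem main {Ω : Type*} [Fintype Ω] [MulAction Cfsg.Lie.TitsGroup Ω] [FaithfulSMul Cfsg.Lie.TitsGroup Ω]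
    (hΩ : 3 ≤ Fintype.card Ω) : ¬ MulAction.IsMultiplyPretransitive Cfsg.Lie.TitsGroup Ω 2 := by
  obtain ⟨e⟩ := F4Tits.equiv_commutator
  exact @transport' Cfsg.Lie.TitsGroup inferInstance e Ω _ _ _ hΩ

end Cfsg.Agent.Lib.Helper4.TitsTT
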