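import Mathlib
import Cfsg.Prelude.Def_LieTwisted
import Cfsg.Prelude.Def_KGroupFacts
import Cfsg.Agent.Lib.Helper4.F4TitsMain
import Cfsg.Agent.Lib.Helper4.STitspp2Main
import Cfsg.Agent.Lib.Helper4.TitsL33
import Cfsg.Agent.Lib.Helper4.TitsL225

/-!
The presented Tits group `Titsp` has no stem extension with kernel of prime order: for the prime 2 by a coset
enumeration over the subgroup L3(3), for the primes 3 and 5 by transfer to the subgroups L3(3) and L2(25).
Hence the Schur multiplier of the Tits group is trivial.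
-/

set_option autoImplicit false

namespace Cfsg.Agent.Lib.Helper4.TitspStem

open Cfsg Cfsg.Lie Cfsg.Agent.Lib.Helper4.TC Cfsg.Agent.Lib.Helper4.TCD Cfsg.Agent.Lib.Helper4.TC.Log
  Cfsg.Agent.Lib.Helper4.Stem

theorem noStem : ∀ p, p.Prime → NoStemPrime PTitsp.P.Grp p := by
  obtain ⟨fG, _, hcard⟩ := TitspMain.order_aux
  have := fG
  apply noStemPrime_all PTitsp.P.Grp [2, 3, 5]
  · intro p hp
    simp only [List.mem_cons, List.not_mem_nil, or_false] at hp
    rcases hp with rfl | rfl | rfl
    · exact STitspp2Main.noStem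
    · exact TitsL33.noStem3
    · exact TitsL225.noStem5
  · rw [hcard]
    exact sq_dvd_mem_of_factors 17971200 [2, 2, 2, 2, 2, 2, 2, 2, 2, 2, 2, 3, 3, 3, 5, 5, 13] (by norm_num)
      (by decide) [2, 3, 5] (by decide)

/-- a group isomorphic to the presented group has trivial Schur multiplier -/
theorem hasMult_of_equiv {G : Type} [Group G] (e : G ≃* PTitsp.P.Grp) :
    Cfsg.HasCyclicSchurMultiplier G 1 := by
  obtain ⟨fG, _, _⟩ := TitspMain.order_aux
  have := fG
  have : Finite G := Finite.of_equiv _ e.symm.toEquiv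
  apply trivialMultiplier_of_noStemPrime G
  intro p hp
  exact noStemPrime_of_mulEquiv e.symm p (noStem p hp)

/-- the Schur multiplier of the Tits group is trivial -/
theorem hasMult : Cfsg.HasCyclicSchurMultiplier Cfsg.Lie.TitsGroup 1 := by
  obtain ⟨e⟩ := F4Tits.equiv_commutator
  exact hasMult_of_equiv e

end Cfsg.Agent.Lib.Helper4.TitspStem
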