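import Mathlib

/-!
# Every square matrix over a field is conjugate to its transpose

Via the structure theorem for f.g. torsion modules over `F[X]` and the
Frobenius form on `F[X]/(f)`.
-/

namespace Cfsg.Agent.Lib.Helper4.TransposeConj

open Polynomial

variable {F : Type*} [Field F]

/-- the functional: coefficient of `X^(d-1)` of `g mod m`. -/
noncomputable def ell (m : F[X]) (g : F[X]) : F := (g %ₘ m).coeff (m.natDegree - 1)

lemma ell_add (m g h : F[X]) : ell m (g + h) = ell m g + ell m h := by
  unfold ell; rw [Polynomial.add_modByMonic, coeff_add]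

lemma ell_C_mul (m : F[X]) (c : F) (g : F[X]) : ell m (C c * g) = c * ell m g := by
  unfold ell; rw [← smul_eq_C_mul, Polynomial.smul_modByMonic, coeff_smul, smul_eq_mul]

lemma ell_eq_of_dvd {m : F[X]} (hm : m.Monic) {g h : F[X]} (hd : m ∣ g - h) :
    ell m g = ell m h := by
  unfold ell
  have : g %ₘ m = h %ₘ m := by
    have h0 : (g - h) %ₘ m = 0 := (Polynomial.modByMonic_eq_zero_iff_dvd hm).2 hd
    rw [Polynomial.sub_modByMonic, sub_eq_zero] at h0; exact h0
  rw [this]

/-- The Frobenius form on a cyclic torsion module. -/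
theorem cyclic_form {N : Type*} [AddCommGroup N] [Module F[X] N]
    (π : F[X] →ₗ[F[X]] N) (hπ : Function.Surjective π) (f : F[X]) (hf : f ≠ 0)
    (hker : ∀ a, π a = 0 ↔ f ∣ a) :
    ∃ b : N → N → F, (∀ x x' y, b (x + x') y = b x y + b x' y) ∧
      (∀ x y, b x y = b y x) ∧ (∀ (a : F[X]) x y, b (a • x) y = b x (a • y)) ∧
      (∀ (c : F) x y, b (C c • x) y = c * b x y) ∧
      (∀ x, (∀ y, b x y = 0) → x = 0) := by
  classical
  set m : F[X] := f * C (f.leadingCoeff)⁻¹ with hm_def
  have hm : m.Monic := Polynomial.monic_mul_leadingCoeff_inv hf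
  have hlc : (f.leadingCoeff)⁻¹ ≠ 0 := inv_ne_zero (leadingCoeff_ne_zero.2 hf)
  have hmf : ∀ a, m ∣ a ↔ f ∣ a := by
    intro a
    have hass : Associated f m := by
      refine ⟨(isUnit_C.2 (IsUnit.mk0 _ hlc)).unit, ?_⟩
      simp [hm_def]
    exact hass.symm.dvd_iff_dvd_left
  have hker' : ∀ a a', π a = π a' → m ∣ a - a' := by
    intro a a' h
    rw [hmf, ← hker, map_sub, h, sub_self]
  set r : N → F[X] := Function.surjInv hπ with hr_def
  have hr : ∀ x, π (r x) = x := Function.surjInv_eq hπ
  have key : ∀ x y (a a' : F[X]), π a = x → π a' = y → ell m (r x * r y) = ell m (a * a') := by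
    intro x y a a' ha ha'
    apply ell_eq_of_dvd hm
    have h1 : m ∣ r x - a := hker' _ _ (by rw [hr, ha])
    have h2 : m ∣ r y - a' := hker' _ _ (by rw [hr, ha'])
    have : r x * r y - a * a' = (r x - a) * r y + a * (r y - a') := by ring
    rw [this]
    exact dvd_add (Dvd.dvd.mul_right h1 _) (Dvd.dvd.mul_left h2 _)
  refine ⟨fun x y => ell m (r x * r y), ?_, ?_, ?_, ?_, ?_⟩
  · intro x x' y
    show ell m (r (x + x') * r y) = ell m (r x * r y) + ell m (r x' * r y)
    rw [key (x + x') y (r x + r x') (r y) (by rw [map_add, hr, hr]) (hr y), add_mul, ell_add]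
  · intro x y
    show ell m (r x * r y) = ell m (r y * r x)
    rw [mul_comm]
  · intro a x y
    show ell m (r (a • x) * r y) = ell m (r x * r (a • y))
    rw [key (a • x) y (a * r x) (r y) (by rw [← smul_eq_mul, map_smul, hr]) (hr y),
      key x (a • y) (r x) (a * r y) (hr x) (by rw [← smul_eq_mul, map_smul, hr])]
    congr 1; ring
  · intro c x y
    show ell m (r (C c • x) * r y) = c * ell m (r x * r y)
    rw [key (C c • x) y (C c * r x) (r y) (by rw [← smul_eq_mul, map_smul, hr]) (hr y),
      mul_assoc, ell_C_mul]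
  · intro x hx
    set a₀ : F[X] := r x %ₘ m with ha₀
    have hπa₀ : π a₀ = x := by
      have h1 : m ∣ r x - a₀ := by
        refine ⟨r x /ₘ m, ?_⟩
        have := Polynomial.modByMonic_add_div (r x) m
        rw [ha₀]; linear_combination (-1 : F[X]) * this
      have h2 : π (r x - a₀) = 0 := by rw [hker, ← hmf]; exact h1
      rw [map_sub, hr, sub_eq_zero] at h2
      exact h2.symm
    by_contra hx0
    have ha₀ne : a₀ ≠ 0 := by
      intro h0; apply hx0; rw [← hπa₀, h0, map_zero]
    have hdeg : a₀.degree < m.degree := Polynomial.degree_modByMonic_lt _ hm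
    have hk : a₀.natDegree < m.natDegree := Polynomial.natDegree_lt_natDegree ha₀ne hdeg
    set j : ℕ := m.natDegree - 1 - a₀.natDegree with hj
    have hkj : a₀.natDegree + j = m.natDegree - 1 := by omega
    have h3 := hx (π (X ^ j))
    change ell m (r x * r (π (X ^ j))) = 0 at h3
    rw [key x (π (X ^ j)) a₀ (X ^ j) hπa₀ rfl] at h3
    unfold ell at h3
    have h4 : (a₀ * X ^ j) %ₘ m = a₀ * X ^ j := by
      rw [Polynomial.modByMonic_eq_self_iff hm]
      have hnd : (a₀ * X ^ j).natDegree = a₀.natDegree + j := by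
        rw [Polynomial.natDegree_mul_X_pow j ha₀ne]
      have hne : a₀ * X ^ j ≠ 0 := mul_ne_zero ha₀ne (pow_ne_zero _ X_ne_zero)
      rw [Polynomial.degree_eq_natDegree hne, Polynomial.degree_eq_natDegree hm.ne_zero, hnd]
      exact_mod_cast (by omega : a₀.natDegree + j < m.natDegree)
    rw [h4, ← hkj, Polynomial.coeff_mul_X_pow] at h3
    exact ha₀ne (leadingCoeff_eq_zero.1 h3)

theorem exists_form {n : ℕ} (A : Matrix (Fin n) (Fin n) F) :
    ∃ S : Matrix (Fin n) (Fin n) F, IsUnit S ∧ S.transpose = S ∧ A.transpose * S = S * A := by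
  classical
  set φ : (Fin n → F) →ₗ[F] (Fin n → F) := Matrix.toLin' A with hφ
  have htors : Module.IsTorsion F[X] (Module.AEval' φ) :=
    Module.AEval.isTorsion_of_finiteDimensional F (Fin n → F) φ
  obtain ⟨ι, _, p, hp, e, ⟨E⟩⟩ := Module.equiv_directSum_of_isTorsion htors
  have hcyc : ∀ i : ι, ∃ b : (F[X] ⧸ Submodule.span F[X] {p i ^ e i}) →
      (F[X] ⧸ Submodule.span F[X] {p i ^ e i}) → F,
      (∀ x x' y, b (x + x') y = b x y + b x' y) ∧
      (∀ x y, b x y = b y x) ∧ (∀ (a : F[X]) x y, b (a • x) y = b x (a • y)) ∧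
      (∀ (c : F) x y, b (C c • x) y = c * b x y) ∧
      (∀ x, (∀ y, b x y = 0) → x = 0) := by
    intro i
    refine cyclic_form (Submodule.mkQ (Submodule.span F[X] {p i ^ e i}))
      (Submodule.mkQ_surjective _) (p i ^ e i) (pow_ne_zero _ (hp i).ne_zero) ?_
    intro a
    rw [Submodule.mkQ_apply, Submodule.Quotient.mk_eq_zero, Submodule.mem_span_singleton]
    constructor
    · rintro ⟨c, hc⟩; exact ⟨c, by rw [← hc, smul_eq_mul, mul_comm]⟩
    · rintro ⟨c, hc⟩; exact ⟨c, by rw [hc, smul_eq_mul, mul_comm]⟩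
  choose b hb1 hb2 hb3 hb4 hb5 using hcyc
  have hb0 : ∀ i x, b i x 0 = 0 := by
    intro i x
    have := hb1 i 0 0 x
    rw [add_zero, hb2 i 0 x] at this
    linear_combination -this
  -- the global form
  set B : Module.AEval' φ → Module.AEval' φ → F := fun x y => ∑ i, b i (E x i) (E y i) with hB
  have B_symm : ∀ x y, B x y = B y x := by
    intro x y; simp only [hB]; exact Finset.sum_congr rfl (fun i _ => hb2 i _ _)
  have B_add : ∀ x x' y, B (x + x') y = B x y + B x' y := by
    intro x x' y; simp only [hB]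
    rw [← Finset.sum_add_distrib]
    refine Finset.sum_congr rfl (fun i _ => ?_)
    rw [map_add, DirectSum.add_apply, hb1]
  have B_smul : ∀ (c : F) x y, B (c • x) y = c * B x y := by
    intro c x y; simp only [hB]
    rw [Finset.mul_sum]
    refine Finset.sum_congr rfl (fun i _ => ?_)
    rw [← Module.AEval.C_smul, map_smul, DirectSum.smul_apply, hb4]
  have B_adj : ∀ (a : F[X]) x y, B (a • x) y = B x (a • y) := by
    intro a x y; simp only [hB]
    refine Finset.sum_congr rfl (fun i _ => ?_)
    rw [map_smul, map_smul, DirectSum.smul_apply, DirectSum.smul_apply, hb3]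
  have B_nondeg : ∀ x, (∀ y, B x y = 0) → x = 0 := by
    intro x hx
    have : E x = 0 := by
      apply DirectSum.ext
      intro i
      rw [DirectSum.zero_apply]
      apply hb5 i
      intro z
      have h1 := hx (E.symm (DirectSum.of _ i z))
      simp only [hB, LinearEquiv.apply_symm_apply] at h1
      rw [Finset.sum_eq_single i] at h1
      · rwa [DirectSum.of_eq_same] at h1
      · intro j _ hji
        rw [DirectSum.of_eq_of_ne _ _ _ hji, hb0]
      · intro h; exact absurd (Finset.mem_univ i) h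
    exact E.injective (by rw [this, map_zero])
  -- bilinear map
  let Bl : Module.AEval' φ →ₗ[F] Module.AEval' φ →ₗ[F] F :=
    LinearMap.mk₂ F B B_add (fun c x y => by rw [smul_eq_mul]; exact B_smul c x y)
      (fun x y y' => by rw [B_symm x (y + y'), B_add, B_symm y x, B_symm y' x])
      (fun c x y => by rw [B_symm x (c • y), B_smul, B_symm y x, smul_eq_mul])
  have hBl : ∀ x y, Bl x y = B x y := fun x y => rfl
  set u : Fin n → Module.AEval' φ := fun j => Module.AEval'.of φ (Pi.single j 1) with hu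
  have hexp : ∀ v : Fin n → F, Module.AEval'.of φ v = ∑ j, v j • u j := by
    intro v
    have : v = ∑ j, v j • (Pi.single j (1 : F) : Fin n → F) := by
      ext k
      simp [Finset.sum_apply, Pi.single_apply]
    conv_lhs => rw [this]
    rw [map_sum]
    refine Finset.sum_congr rfl (fun j _ => ?_)
    rw [map_smul]
  have hXu : ∀ v : Fin n → F, (X : F[X]) • Module.AEval'.of φ v = Module.AEval'.of φ (A.mulVec v) := by
    intro v
    rw [Module.AEval'.X_smul_of, hφ, Matrix.toLin'_apply]
  set S : Matrix (Fin n) (Fin n) F := Matrix.of (fun j k => B (u j) (u k)) with hS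
  have hBS : ∀ v w : Fin n → F, B (Module.AEval'.of φ v) (Module.AEval'.of φ w) =
      ∑ j, ∑ k, v j * w k * S j k := by
    intro v w
    rw [← hBl, hexp v, hexp w]
    simp only [map_sum, map_smul, LinearMap.sum_apply, LinearMap.smul_apply, smul_eq_mul,
      Finset.mul_sum]
    rw [Finset.sum_comm]
    refine Finset.sum_congr rfl (fun j _ => ?_)
    refine Finset.sum_congr rfl (fun k _ => ?_)
    rw [hBl, hS, Matrix.of_apply]
    ring
  have hSsymm : S.transpose = S := by
    ext j k
    rw [Matrix.transpose_apply, hS, Matrix.of_apply, Matrix.of_apply, B_symm]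
  have hcol : ∀ j, A.mulVec (Pi.single j 1) = fun l => A l j := by
    intro j; ext l; simp [Matrix.mulVec, dotProduct, Pi.single_apply]
  have hadj : A.transpose * S = S * A := by
    ext j k
    rw [Matrix.mul_apply, Matrix.mul_apply]
    have h1 : B ((X : F[X]) • u j) (u k) = ∑ l, A.transpose j l * S l k := by
      rw [hu]
      simp only
      rw [hXu, hcol, hexp (fun l => A l j), ← hBl, map_sum, LinearMap.sum_apply]
      refine Finset.sum_congr rfl (fun l _ => ?_)
      rw [map_smul, LinearMap.smul_apply, hBl, Matrix.transpose_apply, hS, Matrix.of_apply,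
        smul_eq_mul]
    have h2 : B (u j) ((X : F[X]) • u k) = ∑ l, S j l * A l k := by
      rw [hu]
      simp only
      rw [hXu, hcol, hexp (fun l => A l k), ← hBl, map_sum]
      refine Finset.sum_congr rfl (fun l _ => ?_)
      rw [map_smul, hBl, hS, Matrix.of_apply, smul_eq_mul, mul_comm]
    rw [← h1, ← h2, B_adj]
  refine ⟨S, ?_, hSsymm, hadj⟩
  rw [← Matrix.mulVec_injective_iff_isUnit]
  intro w w' hww
  have hsub : S.mulVec (w - w') = 0 := by rw [Matrix.mulVec_sub, hww, sub_self]
  have hz : Module.AEval'.of φ (w - w') = 0 := by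
    apply B_nondeg
    intro y
    obtain ⟨v, rfl⟩ := (Module.AEval'.of φ).surjective y
    rw [B_symm, hBS]
    have : ∀ j, ∑ k, v j * (w - w') k * S j k = v j * (S.mulVec (w - w')) j := by
      intro j
      rw [Matrix.mulVec, dotProduct, Finset.mul_sum]
      refine Finset.sum_congr rfl (fun k _ => by ring)
    simp only [this, hsub, Pi.zero_apply, mul_zero, Finset.sum_const_zero]
  have := (Module.AEval'.of φ).injective (hz.trans (map_zero _).symm)
  exact sub_eq_zero.1 this

/-- **A matrix over a field is conjugate to its transpose.** -/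
theorem isConj_transpose {n : ℕ} (A : Matrix (Fin n) (Fin n) F) : IsConj A A.transpose := by
  obtain ⟨S, hSu, _, hadj⟩ := exists_form A
  exact ⟨hSu.unit, by
    show S * A = A.transpose * S
    exact hadj.symm⟩

/-- general finite index type -/
theorem isConj_transpose' {ι : Type*} [Fintype ι] [DecidableEq ι] (A : Matrix ι ι F) :
    IsConj A A.transpose := by
  set e : ι ≃ Fin (Fintype.card ι) := Fintype.equivFin ι with he
  have h1 := isConj_transpose (Matrix.reindex e e A)
  have h2 := ((Matrix.reindexAlgEquiv F F e.symm : Matrix (Fin (Fintype.card ι))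
    (Fin (Fintype.card ι)) F ≃ₐ[F] Matrix ι ι F) : Matrix (Fin (Fintype.card ι))
    (Fin (Fintype.card ι)) F →* Matrix ι ι F).map_isConj h1
  have h3 : ((Matrix.reindexAlgEquiv F F e.symm : Matrix (Fin (Fintype.card ι))
    (Fin (Fintype.card ι)) F ≃ₐ[F] Matrix ι ι F) : Matrix (Fin (Fintype.card ι))
    (Fin (Fintype.card ι)) F →* Matrix ι ι F) (Matrix.reindex e e A) = A := by
    ext i j
    simp [Matrix.reindexAlgEquiv_apply]
  have h4 : ((Matrix.reindexAlgEquiv F F e.symm : Matrix (Fin (Fintype.card ι))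
    (Fin (Fintype.card ι)) F ≃ₐ[F] Matrix ι ι F) : Matrix (Fin (Fintype.card ι))
    (Fin (Fintype.card ι)) F →* Matrix ι ι F) (Matrix.reindex e e A).transpose = A.transpose := by
    ext i j
    simp [Matrix.reindexAlgEquiv_apply]
  rw [h3, h4] at h2
  exact h2

/-- **A symplectic matrix is conjugate to its inverse.** -/
theorem isConj_symplectic_inv {m : ℕ} (A : Matrix.symplecticGroup (Fin m) F) :
    IsConj (A : Matrix (Fin m ⊕ Fin m) (Fin m ⊕ Fin m) F)
      ((A⁻¹ : Matrix.symplecticGroup (Fin m) F) : Matrix (Fin m ⊕ Fin m) (Fin m ⊕ Fin m) F) := by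
  have h1 := isConj_transpose' (A : Matrix (Fin m ⊕ Fin m) (Fin m ⊕ Fin m) F)
  refine h1.trans ?_
  have hJJ : Matrix.J (Fin m) F * (-Matrix.J (Fin m) F) = 1 := by
    rw [mul_neg, Matrix.J_squared, neg_neg]
  have hJJ' : (-Matrix.J (Fin m) F) * Matrix.J (Fin m) F = 1 := by
    rw [neg_mul, Matrix.J_squared, neg_neg]
  refine ⟨⟨Matrix.J (Fin m) F, -Matrix.J (Fin m) F, hJJ, hJJ'⟩, ?_⟩
  show Matrix.J (Fin m) F * (A : Matrix (Fin m ⊕ Fin m) (Fin m ⊕ Fin m) F).transpose =
    ((A⁻¹ : Matrix.symplecticGroup (Fin m) F) : Matrix (Fin m ⊕ Fin m) (Fin m ⊕ Fin m) F) *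
      Matrix.J (Fin m) F
  rw [SymplecticGroup.coe_inv, Matrix.mul_assoc, Matrix.mul_assoc, Matrix.J_squared]
  simp [Matrix.mul_assoc]

end Cfsg.Agent.Lib.Helper4.TransposeConj
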