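import Mathlib
import Cfsg.Prelude.Def_OddOrderLocal
import Cfsg.Agent.Lib.Helper4.Cyc12
import Cfsg.Agent.Lib.Helper4.Cyc9

/-!
# A simple group with a TI centralizer of an abelian Sylow 3-subgroup: basic structure
-/

set_option autoImplicit false

namespace Cfsg.Agent.Lib.Helper4.Tri

open Subgroup
open Cfsg.Agent.Lib.Helper4.Cyc

universe u

variable {G : Type u} [Group G] [Finite G] {P : Sylow 3 G}

/-- The configuration: `G` simple, `P` an abelian Sylow 3-subgroup, `|N(P)| = 4|P|`,
`|C(P)| = 2|P|`, `C(P)` a TI-subset, proper subgroups of even order have order dividing `4|P|`. -/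
structure Tx (G : Type u) [Group G] [Finite G] (P : Sylow 3 G) : Prop where
  simple : IsSimpleGroup G
  ab : ∀ a ∈ (P : Subgroup G), ∀ b ∈ (P : Subgroup G), a * b = b * a
  cardN : Nat.card (normalizer ((P : Subgroup G) : Set G)) = 4 * Nat.card (P : Subgroup G)
  cardC : Nat.card (centralizer ((P : Subgroup G) : Set G)) = 2 * Nat.card (P : Subgroup G)
  ti : Cfsg.IsTISubset ((centralizer ((P : Subgroup G) : Set G) : Subgroup G) : Set G)
  even : ∀ H : Subgroup G, H ≠ ⊤ → 2 ∣ Nat.card H → Nat.card H ∣ 4 * Nat.card (P : Subgroup G)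

omit [Finite G] in
/-- An element of `P` squaring to one is trivial. -/
theorem eq_one_of_sq (P : Sylow 3 G) {y : G} (hy : y ∈ (P : Subgroup G)) (hyy : y * y = 1) :
    y = 1 := by
  by_contra hy1
  have hi : IsInv y := ⟨hy1, hyy⟩
  exact hy1 (eq_one_of_pelem_of_coprime (pelem_of_mem_pgroup P.2 hy) (hi.coprime (by norm_num)))

namespace Tx

variable (c : Tx G P)
include c

theorem normal_eq (H : Subgroup G) (hH : H.Normal) : H = ⊥ ∨ H = ⊤ := by
  haveI := c.simple
  exact hH.eq_bot_or_eq_top

theorem not_top_abelian (h : ∀ a b : G, a * b = b * a) : False := by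
  have hN : normalizer ((P : Subgroup G) : Set G) = ⊤ := by
    rw [eq_top_iff]
    intro g _
    rw [mem_normalizer_iff]
    intro x
    rw [h g x, mul_inv_cancel_right]
  have hC : centralizer ((P : Subgroup G) : Set G) = ⊤ := by
    rw [eq_top_iff]
    intro g _
    rw [mem_centralizer_iff]
    intro x _
    exact h x g
  have h1 := c.cardN
  have h2 := c.cardC
  rw [hN] at h1
  rw [hC] at h2
  have h3 : 0 < Nat.card (P : Subgroup G) := Nat.card_pos
  omega

theorem center_eq_bot : center G = ⊥ := by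
  rcases c.normal_eq (center G) inferInstance with h | h
  · exact h
  · exfalso
    apply c.not_top_abelian
    intro a b
    have : b ∈ center G := by rw [h]; exact mem_top b
    exact (mem_center_iff.mp this a)

theorem P_le_C : (P : Subgroup G) ≤ centralizer ((P : Subgroup G) : Set G) := by
  intro x hx
  rw [mem_centralizer_iff]
  intro y hy
  exact c.ab y hy x hx

/-- The involution centralizing `P`. -/
theorem exists_t : ∃ t, IsInv t ∧ (∀ y ∈ (P : Subgroup G), t * y = y * t) ∧
    ∀ t', IsInv t' → (∀ y ∈ (P : Subgroup G), t' * y = y * t') → t' = t := by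
  have h2 : 2 ∣ Nat.card (centralizer ((P : Subgroup G) : Set G)) := by
    rw [c.cardC]; exact dvd_mul_right 2 _
  obtain ⟨t₀, ht₀⟩ := exists_prime_orderOf_dvd_card'
    (G := centralizer ((P : Subgroup G) : Set G)) 2 h2
  have ht1 : t₀.1 ≠ 1 := by
    intro h
    have : t₀ = 1 := Subtype.ext h
    rw [this, orderOf_one] at ht₀
    omega
  have htt : t₀.1 * t₀.1 = 1 := by
    have h3 : t₀ ^ 2 = 1 := by rw [← ht₀, pow_orderOf_eq_one]
    have := congrArg Subtype.val h3
    rw [pow_two] at this
    simpa using this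
  have hti : IsInv t₀.1 := ⟨ht1, htt⟩
  have htc : ∀ y ∈ (P : Subgroup G), t₀.1 * y = y * t₀.1 :=
    fun y hy => (mem_centralizer_iff.mp t₀.2 y hy).symm
  refine ⟨t₀.1, hti, htc, ?_⟩
  intro t' ht' hc'
  have ht'C : t' ∈ centralizer ((P : Subgroup G) : Set G) := by
    rw [mem_centralizer_iff]
    exact fun y hy => (hc' y hy).symm
  -- index two
  have hcardP' : Nat.card ((P : Subgroup G).subgroupOf (centralizer ((P : Subgroup G) : Set G))) =
      Nat.card (P : Subgroup G) :=
    Nat.card_congr (subgroupOfEquivOfLe c.P_le_C).toEquiv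
  have hidx : ((P : Subgroup G).subgroupOf (centralizer ((P : Subgroup G) : Set G))).index = 2 := by
    have h3 := Subgroup.card_mul_index
      ((P : Subgroup G).subgroupOf (centralizer ((P : Subgroup G) : Set G)))
    rw [hcardP', c.cardC] at h3
    have hpos : 0 < Nat.card (P : Subgroup G) := Nat.card_pos
    have h4 : Nat.card (P : Subgroup G) *
        ((P : Subgroup G).subgroupOf (centralizer ((P : Subgroup G) : Set G))).index =
        Nat.card (P : Subgroup G) * 2 := by rw [h3]; ring
    exact Nat.eq_of_mul_eq_mul_left hpos h4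
  have hnot : ∀ s : G, IsInv s → s ∉ (P : Subgroup G) := by
    intro s hs hsP
    exact hs.1 (eq_one_of_sq P hsP hs.2)
  have hmem := Subgroup.mul_mem_iff_of_index_two hidx (a := t₀)
    (b := (⟨t', ht'C⟩ : centralizer ((P : Subgroup G) : Set G)))
  have h5 : t₀.1 * t' ∈ (P : Subgroup G) := by
    have h6 : (t₀ * ⟨t', ht'C⟩ : centralizer ((P : Subgroup G) : Set G)) ∈
        (P : Subgroup G).subgroupOf (centralizer ((P : Subgroup G) : Set G)) := by
      rw [hmem]
      constructor
      · intro h; exact absurd (mem_subgroupOf.mp h) (hnot _ hti)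
      · intro h; exact absurd (mem_subgroupOf.mp h) (hnot _ ht')
    exact mem_subgroupOf.mp h6
  have hcomm : t₀.1 * (t₀.1 * t') = (t₀.1 * t') * t₀.1 := htc _ h5
  have h7 : (t₀.1 * t') * (t₀.1 * t') = 1 := by
    calc (t₀.1 * t') * (t₀.1 * t') = ((t₀.1 * t') * t₀.1) * t' := by group
      _ = (t₀.1 * (t₀.1 * t')) * t' := by rw [hcomm]
      _ = (t₀.1 * t₀.1) * (t' * t') := by group
      _ = 1 := by rw [htt, ht'.2, one_mul]
  have h8 := eq_one_of_sq P h5 h7
  have h9 : t' = t₀.1⁻¹ := eq_inv_of_mul_eq_one_right h8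
  rw [h9, hti.inv_eq]

end Tx

end Cfsg.Agent.Lib.Helper4.Tri
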