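import Mathlib
import Cfsg.Agent.Lib.Helper4.Tri1

/-!
# TI centralizer configuration: the centralizer of the involution, Sylow 2-subgroups, fusion
-/

set_option autoImplicit false

namespace Cfsg.Agent.Lib.Helper4.Tri

open Subgroup
open Cfsg.Agent.Lib.Helper4.Cyc

universe u

variable {G : Type u} [Group G] [Finite G] {P : Sylow 3 G}

/-- The involution centralizing `P`. -/
structure TData (P : Sylow 3 G) (t : G) : Prop where
  inv : IsInv t
  cent : ∀ y ∈ (P : Subgroup G), t * y = y * t
  uniq : ∀ t', IsInv t' → (∀ y ∈ (P : Subgroup G), t' * y = y * t') → t' = t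

omit [Finite G] in
theorem odd_comm {b s : G} (hb : (orderOf b).Coprime 2) (h : (b * b) * s = s * (b * b)) :
    b * s = s * b := by
  obtain ⟨j, hj⟩ := Nat.coprime_two_right.mp hb
  have h1 : b = (b * b) ^ (j + 1) := by
    rw [← pow_two, ← pow_mul]
    have : 2 * (j + 1) = orderOf b + 1 := by omega
    rw [this, pow_succ, pow_orderOf_eq_one, one_mul]
  have h2 : Commute (b * b) s := h
  rw [h1]
  exact (h2.pow_left (j + 1)).eq

theorem four_elems {S : Subgroup G} (hS : Nat.card S = 4) {x₁ x₂ x₃ x₄ : G} (h1 : x₁ ∈ S)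
    (h2 : x₂ ∈ S) (h3 : x₃ ∈ S) (h4 : x₄ ∈ S) (h12 : x₁ ≠ x₂) (h13 : x₁ ≠ x₃) (h14 : x₁ ≠ x₄)
    (h23 : x₂ ≠ x₃) (h24 : x₂ ≠ x₄) (h34 : x₃ ≠ x₄) {x : G} (hx : x ∈ S) :
    x = x₁ ∨ x = x₂ ∨ x = x₃ ∨ x = x₄ := by
  classical
  haveI : Fintype G := Fintype.ofFinite G
  have hcard : (Finset.univ.filter (fun y : G => y ∈ S)).card = 4 := by
    rw [← hS, Nat.card_eq_fintype_card, ← Fintype.card_subtype]
  have hsub : ({x₁, x₂, x₃, x₄} : Finset G) ⊆ Finset.univ.filter (fun y : G => y ∈ S) := by
    intro y hy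
    rw [Finset.mem_insert, Finset.mem_insert, Finset.mem_insert, Finset.mem_singleton] at hy
    rw [Finset.mem_filter]
    refine ⟨Finset.mem_univ _, ?_⟩
    rcases hy with rfl | rfl | rfl | rfl <;> assumption
  have hc4 : ({x₁, x₂, x₃, x₄} : Finset G).card = 4 := by
    rw [Finset.card_insert_of_notMem, Finset.card_insert_of_notMem, Finset.card_insert_of_notMem,
      Finset.card_singleton]
    · rw [Finset.mem_singleton]; exact h34
    · rw [Finset.mem_insert, Finset.mem_singleton]; push Not; exact ⟨h23, h24⟩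
    · rw [Finset.mem_insert, Finset.mem_insert, Finset.mem_singleton]; push Not
      exact ⟨h12, h13, h14⟩
  have heq := Finset.eq_of_subset_of_card_le hsub (by rw [hcard, hc4])
  have hxm : x ∈ Finset.univ.filter (fun y : G => y ∈ S) := by
    rw [Finset.mem_filter]; exact ⟨Finset.mem_univ _, hx⟩
  rw [← heq, Finset.mem_insert, Finset.mem_insert, Finset.mem_insert, Finset.mem_singleton] at hxm
  exact hxm

namespace Tx

variable (c : Tx G P) {t : G} (ht : TData P t)
include c

theorem exists_tdata : ∃ t, TData P t := by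
  obtain ⟨t, h1, h2, h3⟩ := c.exists_t
  exact ⟨t, h1, h2, h3⟩

/-- Burnside's transfer theorem in the simple group `G`. -/
theorem burnside {r : ℕ} [Fact r.Prime] (R : Sylow r G) (hr : r ∣ Nat.card G)
    (h : normalizer ((R : Subgroup G) : Set G) ≤ centralizer ((R : Subgroup G) : Set G)) :
    False := by
  have hcomp := MonoidHom.ker_transferSylow_isComplement' R h
  have hcard := hcomp.card_mul_card
  rcases c.normal_eq _ (MonoidHom.transferSylow R h).normal_ker with hb | ht
  · rw [hb, card_bot, one_mul] at hcard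
    have hR : (R : Subgroup G) = ⊤ := (R : Subgroup G).eq_top_of_card_eq hcard
    apply c.not_top_abelian
    intro a b
    have ha : a ∈ normalizer ((R : Subgroup G) : Set G) := by
      have hn : (R : Subgroup G).Normal := by rw [hR]; infer_instance
      rw [normalizer_eq_top_iff.mpr hn]; exact mem_top a
    have hb' : b ∈ (R : Subgroup G) := by rw [hR]; exact mem_top b
    have := mem_centralizer_iff.mp (h ha) b hb'
    exact this.symm
  · rw [ht, card_top] at hcard
    have h1 : Nat.card (R : Subgroup G) = 1 := by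
      have hpos : 0 < Nat.card G := Nat.card_pos
      exact Nat.eq_of_mul_eq_mul_left hpos (hcard.trans (mul_one _).symm)
    have h2 : (R : Subgroup G) ≠ ⊥ := R.ne_bot_of_dvd_card hr
    exact h2 (card_eq_one.mp h1)

include ht

omit [Finite G] c in
/-- `N_G(P)` centralizes `t`. -/
theorem N_comm_t {n : G} (hn : n ∈ normalizer ((P : Subgroup G) : Set G)) : n * t = t * n := by
  have h1 : n * t * n⁻¹ = t := by
    apply ht.uniq _ (ht.inv.conj n)
    intro y hy
    have hy' : n⁻¹ * y * n ∈ (P : Subgroup G) := by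
      have := (mem_normalizer_iff.mp (inv_mem hn) y).mp hy
      rwa [inv_inv] at this
    have h2 := ht.cent _ hy'
    calc n * t * n⁻¹ * y = n * (t * (n⁻¹ * y * n)) * n⁻¹ := by group
      _ = n * ((n⁻¹ * y * n) * t) * n⁻¹ := by rw [h2]
      _ = y * (n * t * n⁻¹) := by group
  calc n * t = (n * t * n⁻¹) * n := by group
    _ = t * n := by rw [h1]

/-- `C_G(t) = N_G(P)`. -/
theorem cent_t_le {g : G} (hg : g * t = t * g) : g ∈ normalizer ((P : Subgroup G) : Set G) := by
  have hNX : normalizer ((P : Subgroup G) : Set G) ≤ centralizer ({t} : Set G) := by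
    intro n hn
    rw [mem_centralizer_iff]
    intro y hy
    rw [Set.mem_singleton_iff] at hy
    subst hy
    exact (N_comm_t ht hn).symm
  have hXtop : centralizer ({t} : Set G) ≠ ⊤ := by
    intro htop
    apply ht.inv.1
    have : t ∈ center G := by
      rw [mem_center_iff]
      intro g'
      have h1 : g' ∈ centralizer ({t} : Set G) := by rw [htop]; exact mem_top g'
      exact (mem_centralizer_iff.mp h1 t rfl).symm
    rw [c.center_eq_bot, mem_bot] at this
    exact this
  have h2X : 2 ∣ Nat.card (centralizer ({t} : Set G)) := by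
    have htX : t ∈ centralizer ({t} : Set G) := by
      rw [mem_centralizer_iff]
      intro y hy
      rw [Set.mem_singleton_iff] at hy
      rw [hy]
    have := orderOf_dvd_natCard (⟨t, htX⟩ : centralizer ({t} : Set G))
    rw [← Subgroup.orderOf_coe] at this
    rw [← ht.inv.orderOf_eq]
    exact this
  have hdvd := c.even _ hXtop h2X
  rw [← c.cardN] at hdvd
  have heq := Subgroup.eq_of_le_of_card_ge hNX (Nat.le_of_dvd Nat.card_pos hdvd)
  rw [heq]
  rw [mem_centralizer_iff]
  intro y hy
  rw [Set.mem_singleton_iff] at hy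
  subst hy
  exact hg.symm

/-- The TI property in element form. -/
theorem ti' {x g : G} (hx : x ∈ centralizer ((P : Subgroup G) : Set G)) (hx1 : x ≠ 1)
    (hgx : g * x * g⁻¹ ∈ centralizer ((P : Subgroup G) : Set G)) :
    g ∈ normalizer ((P : Subgroup G) : Set G) := by
  by_contra hgN
  apply hx1
  apply c.ti g _ x hx hgx
  intro hgC
  apply hgN
  apply c.cent_t_le ht
  have htC : t ∈ centralizer ((P : Subgroup G) : Set G) := by
    rw [mem_centralizer_iff]
    exact fun y hy => (ht.cent y hy).symm
  have h1 : g * t * g⁻¹ ∈ centralizer ((P : Subgroup G) : Set G) :=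
    (mem_normalizer_iff.mp hgC t).mp htC
  have h2 : g * t * g⁻¹ = t := by
    apply ht.uniq _ (ht.inv.conj g)
    exact fun y hy => (mem_centralizer_iff.mp h1 y hy).symm
  calc g * t = (g * t * g⁻¹) * g := by group
    _ = t * g := by rw [h2]

/-- TI for elements of `P`. -/
theorem ti_P {x g : G} (hx : x ∈ (P : Subgroup G)) (hx1 : x ≠ 1)
    (hgx : g * x * g⁻¹ ∈ (P : Subgroup G)) : g ∈ normalizer ((P : Subgroup G) : Set G) :=
  c.ti' ht (c.P_le_C hx) hx1 (c.P_le_C hgx)

/-- The centralizer of a nontrivial element of `P` lies in `N_G(P)`. -/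
theorem cent_le {x g : G} (hx : x ∈ (P : Subgroup G)) (hx1 : x ≠ 1) (hg : g * x = x * g) :
    g ∈ normalizer ((P : Subgroup G) : Set G) := by
  apply c.ti_P ht hx hx1
  have : g * x * g⁻¹ = x := by rw [hg]; group
  rw [this]; exact hx

end Tx

end Cfsg.Agent.Lib.Helper4.Tri
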