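import Mathlib
import Cfsg.Agent.Lib.Helper4.Tri2

/-!
# TI centralizer configuration: Sylow 2-subgroups have order four, all involutions are conjugate
-/

set_option autoImplicit false

namespace Cfsg.Agent.Lib.Helper4.Tri

open Subgroup
open Cfsg.Agent.Lib.Helper4.Cyc

universe u

variable {G : Type u} [Group G] [Finite G] {P : Sylow 3 G}

namespace Tx

variable (c : Tx G P) {t : G} (ht : TData P t)
include c ht

omit c [Finite G] in
theorem two_dvd_card : 2 ∣ Nat.card G := by
  rw [← ht.inv.orderOf_eq]; exact orderOf_dvd_natCard t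

/-- Sylow 2-subgroups have order four. -/
theorem card_sylow2 (S : Sylow 2 G) : Nat.card (S : Subgroup G) = 4 := by
  have hStop : (S : Subgroup G) ≠ ⊤ := by
    intro h
    have hG2 : IsPGroup 2 G := by
      intro g
      obtain ⟨k, hk⟩ := S.2 ⟨g, by rw [h]; exact mem_top g⟩
      refine ⟨k, ?_⟩
      have := congrArg Subtype.val hk
      simpa using this
    haveI := c.simple
    haveI : Nontrivial (center G) := hG2.center_nontrivial
    have h1 : center G ≠ ⊥ := by
      intro hb
      obtain ⟨⟨x, hx⟩, ⟨y, hy⟩, hxy⟩ := exists_pair_ne (center G)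
      rw [hb, mem_bot] at hx hy
      apply hxy
      exact Subtype.ext (hx.trans hy.symm)
    exact h1 c.center_eq_bot
  have h2S : 2 ∣ Nat.card (S : Subgroup G) := S.dvd_card_of_dvd_card (two_dvd_card ht)
  have hdvd := c.even _ hStop h2S
  obtain ⟨k, hk⟩ := S.2.exists_card_eq
  obtain ⟨n, hn⟩ := P.2.exists_card_eq
  have h4 : Nat.card (S : Subgroup G) ∣ 4 := by
    have hcop : (Nat.card (S : Subgroup G)).Coprime (Nat.card (P : Subgroup G)) := by
      rw [hk, hn]
      apply Nat.Coprime.pow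
      norm_num
    rw [mul_comm] at hdvd
    exact hcop.dvd_of_dvd_mul_left hdvd
  have h4' : 4 ∣ Nat.card (S : Subgroup G) := by
    have h5 : 2 ^ 2 ∣ Nat.card G := by
      have h6 : 4 ∣ Nat.card (normalizer ((P : Subgroup G) : Set G)) := by
        rw [c.cardN]; exact dvd_mul_right 4 _
      exact h6.trans (Subgroup.card_subgroup_dvd_card _)
    exact S.pow_dvd_card_of_pow_dvd_card h5
  exact Nat.dvd_antisymm h4 h4'

theorem sylow2_comm (S : Sylow 2 G) {a b : G} (ha : a ∈ (S : Subgroup G))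
    (hb : b ∈ (S : Subgroup G)) : a * b = b * a := by
  have h1 : Nat.card (S : Subgroup G) = 2 ^ 2 := by rw [c.card_sylow2 ht S]; norm_num
  have h3 : IsMulCommutative (S : Subgroup G) := IsPGroup.isMulCommutative_of_card_eq_prime_sq h1
  have h2 := h3.is_comm.comm (⟨a, ha⟩ : (S : Subgroup G)) ⟨b, hb⟩
  exact congrArg Subtype.val h2

/-- An odd order element normalizing a Sylow 2-subgroup containing `t` and moving `t`. -/
theorem exists_fusing : ∃ (S : Sylow 2 G) (b : G), t ∈ (S : Subgroup G) ∧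
    b ∈ normalizer ((S : Subgroup G) : Set G) ∧ (orderOf b).Coprime 2 ∧ b * t ≠ t * b := by
  obtain ⟨S, htS⟩ := exists_sylow_mem (p := 2) (x := t)
    ⟨1, by rw [pow_one, pow_two]; exact ht.inv.2⟩
  have hS4 := c.card_sylow2 ht S
  -- an odd order element of `N_G(S)` not centralizing `S`
  have hex : ∃ b ∈ normalizer ((S : Subgroup G) : Set G), (orderOf b).Coprime 2 ∧
      ∃ s ∈ (S : Subgroup G), b * s ≠ s * b := by
    by_contra hcon
    push Not at hcon
    apply c.burnside S (two_dvd_card ht)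
    intro g hg
    rw [mem_centralizer_iff]
    intro s hs
    obtain ⟨a₂, ha₂, b, hb, hab, hap, hbo⟩ := exists_parts Nat.prime_two g
    have hzg : zpowers g ≤ normalizer ((S : Subgroup G) : Set G) := by
      rw [zpowers_le]; exact hg
    have ha₂S := mem_sylow_of_normalizes S (hzg ha₂) hap
    have h1 := hcon b (hzg hb) hbo s hs
    have h2 := c.sylow2_comm ht S ha₂S hs
    rw [hab]
    calc s * (a₂ * b) = (s * a₂) * b := by group
      _ = (a₂ * s) * b := by rw [h2]
      _ = a₂ * (s * b) := by group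
      _ = a₂ * (b * s) := by rw [h1]
      _ = a₂ * b * s := by group
  obtain ⟨b, hbN, hbo, s, hs, hbs⟩ := hex
  have hconjS : ∀ x ∈ (S : Subgroup G), b * x * b⁻¹ ∈ (S : Subgroup G) :=
    fun x hx => (mem_normalizer_iff.mp hbN x).mp hx
  have hconj_ne_one : ∀ x : G, x ≠ 1 → b * x * b⁻¹ ≠ 1 := by
    intro x hx h
    apply hx
    have : x = b⁻¹ * (b * x * b⁻¹) * b := by group
    rw [this, h]; group
  have hconj_inj : ∀ x y : G, b * x * b⁻¹ = b * y * b⁻¹ → x = y := by
    intro x y h
    exact mul_left_cancel (mul_right_cancel h)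
  have hbt : b * t ≠ t * b := by
    intro hbt
    have hbtb : b * t * b⁻¹ = t := by rw [hbt]; group
    have hs1 : s ≠ 1 := by
      intro h; apply hbs; rw [h, mul_one, one_mul]
    have hst : s ≠ t := by
      intro h; apply hbs; rw [h]; exact hbt
    have hs's : b * s * b⁻¹ ≠ s := by
      intro h; apply hbs
      calc b * s = (b * s * b⁻¹) * b := by group
        _ = s * b := by rw [h]
    have hs'1 : b * s * b⁻¹ ≠ 1 := hconj_ne_one s hs1
    have hs't : b * s * b⁻¹ ≠ t := by
      intro h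
      apply hst
      apply hconj_inj
      rw [h, hbtb]
    have hs'S := hconjS s hs
    have hs''S := hconjS _ hs'S
    have h4 := four_elems hS4 (one_mem _) htS hs hs'S ht.inv.1.symm hs1.symm hs'1.symm
      hst.symm hs't.symm hs's.symm hs''S
    rcases h4 with h | h | h | h
    · exact hconj_ne_one _ hs'1 h
    · apply hs't
      apply hconj_inj
      rw [h, hbtb]
    · apply hbs
      apply odd_comm hbo
      have e : b * (b * s * b⁻¹) * b⁻¹ = (b * b) * s * (b * b)⁻¹ := by group
      rw [e] at h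
      calc (b * b) * s = ((b * b) * s * (b * b)⁻¹) * (b * b) := by group
        _ = s * (b * b) := by rw [h]
    · apply hs's
      exact (hconj_inj _ _ h)
  exact ⟨S, b, htS, hbN, hbo, hbt⟩

/-- All involutions are conjugate to `t`. -/
theorem inv_conj_t {a : G} (ha : IsInv a) : ∃ h : G, h * t * h⁻¹ = a := by
  obtain ⟨S, b, htS, hbN, hbo, hbt⟩ := c.exists_fusing ht
  have hS4 := c.card_sylow2 ht S
  have hconjS : ∀ x ∈ (S : Subgroup G), b * x * b⁻¹ ∈ (S : Subgroup G) :=
    fun x hx => (mem_normalizer_iff.mp hbN x).mp hx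
  have hconj_ne_one : ∀ x : G, x ≠ 1 → b * x * b⁻¹ ≠ 1 := by
    intro x hx h
    apply hx
    have : x = b⁻¹ * (b * x * b⁻¹) * b := by group
    rw [this, h]; group
  have hconj_inj : ∀ x y : G, b * x * b⁻¹ = b * y * b⁻¹ → x = y := by
    intro x y h
    exact mul_left_cancel (mul_right_cancel h)
  -- the three involutions of `S`
  have ht₁t : b * t * b⁻¹ ≠ t := by
    intro h; apply hbt
    calc b * t = (b * t * b⁻¹) * b := by group
      _ = t * b := by rw [h]
  have ht₁1 : b * t * b⁻¹ ≠ 1 := hconj_ne_one t ht.inv.1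
  have ht₁S := hconjS t htS
  have ht₂S := hconjS _ ht₁S
  have ht₂1 : b * (b * t * b⁻¹) * b⁻¹ ≠ 1 := hconj_ne_one _ ht₁1
  have ht₂t₁ : b * (b * t * b⁻¹) * b⁻¹ ≠ b * t * b⁻¹ := by
    intro h
    exact ht₁t (hconj_inj _ _ h)
  have ht₂t : b * (b * t * b⁻¹) * b⁻¹ ≠ t := by
    intro h
    apply hbt
    apply odd_comm hbo
    have e : b * (b * t * b⁻¹) * b⁻¹ = (b * b) * t * (b * b)⁻¹ := by group
    rw [e] at h
    calc (b * b) * t = ((b * b) * t * (b * b)⁻¹) * (b * b) := by group
      _ = t * (b * b) := by rw [h]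
  obtain ⟨S', haS'⟩ := exists_sylow_mem (p := 2) (x := a)
    ⟨1, by rw [pow_one, pow_two]; exact ha.2⟩
  obtain ⟨k, hk⟩ := MulAction.exists_smul_eq G S S'
  rw [← hk, mem_smul_sylow_iff] at haS'
  have ha'1 : k⁻¹ * a * k ≠ 1 := by
    intro h
    apply ha.1
    have : a = k * (k⁻¹ * a * k) * k⁻¹ := by group
    rw [this, h]; group
  have h4 := four_elems hS4 (one_mem _) htS ht₁S ht₂S ht.inv.1.symm ht₁1.symm ht₂1.symm
    ht₁t.symm ht₂t.symm ht₂t₁.symm haS'
  rcases h4 with h | h | h | h
  · exact absurd h ha'1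
  · refine ⟨k, ?_⟩
    rw [← h]; group
  · refine ⟨k * b, ?_⟩
    have e : k * b * t * (k * b)⁻¹ = k * (b * t * b⁻¹) * k⁻¹ := by group
    rw [e, ← h]; group
  · refine ⟨k * (b * b), ?_⟩
    have e : k * (b * b) * t * (k * (b * b))⁻¹ = k * (b * (b * t * b⁻¹) * b⁻¹) * k⁻¹ := by group
    rw [e, ← h]; group

/-- Some involution other than `t` commutes with `t`. -/
theorem exists_inv_comm : ∃ u, IsInv u ∧ u ≠ t ∧ u * t = t * u := by
  obtain ⟨S, b, htS, hbN, hbo, hbt⟩ := c.exists_fusing ht
  refine ⟨b * t * b⁻¹, ht.inv.conj b, ?_, ?_⟩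
  · intro h; apply hbt
    calc b * t = (b * t * b⁻¹) * b := by group
      _ = t * b := by rw [h]
  · exact c.sylow2_comm ht S ((mem_normalizer_iff.mp hbN t).mp htS) htS

end Tx

end Cfsg.Agent.Lib.Helper4.Tri
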