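import Mathlib
import Cfsg.Agent.Lib.Helper4.Tri3

/-!
# TI centralizer configuration: the commuting graph of involutions
-/

set_option autoImplicit false

namespace Cfsg.Agent.Lib.Helper4.Tri

open Subgroup
open Cfsg.Agent.Lib.Helper4.Cyc

universe u

variable {G : Type u} [Group G] [Finite G] {P : Sylow 3 G}

omit [Finite G] in
theorem isPGroup_zpowers {r : ℕ} {x : G} (h : ∃ k : ℕ, x ^ r ^ k = 1) : IsPGroup r (zpowers x) := by
  rintro ⟨g, hg⟩
  obtain ⟨k, hk⟩ := h
  obtain ⟨i, rfl⟩ := mem_zpowers_iff.mp hg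
  refine ⟨k, Subtype.ext ?_⟩
  show (x ^ i) ^ r ^ k = 1
  rw [← zpow_natCast, ← zpow_mul, mul_comm, zpow_mul, zpow_natCast, hk, one_zpow]

omit [Finite G] in
theorem isPGroup_mulSub {r : ℕ} {A B : Subgroup G} (hB : B ≤ normalizer (A : Set G))
    (hA : IsPGroup r A) (hB' : IsPGroup r B) : IsPGroup r (mulSub A B hB) := by
  rintro ⟨g, hg⟩
  obtain ⟨a, ha, b, hb, rfl⟩ := mem_mulSub.mp hg
  obtain ⟨j, hj⟩ := pelem_of_mem_pgroup hB' hb
  obtain ⟨a', ha', h⟩ := mul_pow_mem ha (hB hb) (r ^ j)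
  rw [hj, mul_one] at h
  obtain ⟨i, hi⟩ := pelem_of_mem_pgroup hA ha'
  refine ⟨j + i, Subtype.ext ?_⟩
  show (a * b) ^ r ^ (j + i) = 1
  rw [pow_add, pow_mul, h, hi]

namespace Tx

variable (c : Tx G P) {t : G} (ht : TData P t)
include c ht

/-- An involution of `N_G(P)` other than `t` inverts `P`. -/
theorem inverts {b : G} (hb : IsInv b) (hbt : b * t = t * b) (hne : b ≠ t) :
    ∀ x ∈ (P : Subgroup G), b * x * b⁻¹ = x⁻¹ := by
  have hbN := c.cent_t_le ht hbt
  intro x hx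
  have hx' : b * x * b⁻¹ ∈ (P : Subgroup G) := (mem_normalizer_iff.mp hbN x).mp hx
  have hyP : x * (b * x * b⁻¹) ∈ (P : Subgroup G) := mul_mem hx hx'
  have hcomm : x * (b * x * b⁻¹) = (b * x * b⁻¹) * x := c.ab x hx _ hx'
  have hby : b * (x * (b * x * b⁻¹)) = (x * (b * x * b⁻¹)) * b := by
    have h1 : b * (x * (b * x * b⁻¹)) * b⁻¹ = (b * x * b⁻¹) * ((b * b) * x * (b * b)⁻¹) := by
      group
    rw [hb.2] at h1
    have h2 : b * (x * (b * x * b⁻¹)) * b⁻¹ = x * (b * x * b⁻¹) := by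
      rw [h1, hcomm]; group
    calc b * (x * (b * x * b⁻¹)) = (b * (x * (b * x * b⁻¹)) * b⁻¹) * b := by group
      _ = (x * (b * x * b⁻¹)) * b := by rw [h2]
  by_contra hcon
  have hy1 : x * (b * x * b⁻¹) ≠ 1 := by
    intro h
    apply hcon
    exact eq_inv_of_mul_eq_one_right h
  obtain ⟨k, hk⟩ := c.inv_conj_t ht hb
  apply hne
  -- `k⁻¹ y k` commutes with `t`
  have h1 : (k⁻¹ * (x * (b * x * b⁻¹)) * k) * t = t * (k⁻¹ * (x * (b * x * b⁻¹)) * k) := by
    calc (k⁻¹ * (x * (b * x * b⁻¹)) * k) * t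
        = k⁻¹ * ((x * (b * x * b⁻¹)) * (k * t * k⁻¹)) * k := by group
      _ = k⁻¹ * ((x * (b * x * b⁻¹)) * b) * k := by rw [hk]
      _ = k⁻¹ * (b * (x * (b * x * b⁻¹))) * k := by rw [hby]
      _ = k⁻¹ * ((k * t * k⁻¹) * (x * (b * x * b⁻¹))) * k := by rw [hk]
      _ = t * (k⁻¹ * (x * (b * x * b⁻¹)) * k) := by group
  have h2 := c.cent_t_le ht h1
  have h3 : k⁻¹ * (x * (b * x * b⁻¹)) * k ∈ (P : Subgroup G) := by
    apply mem_sylow_of_normalizes P h2
    obtain ⟨j, hj⟩ := pelem_of_mem_pgroup P.2 hyP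
    refine ⟨j, ?_⟩
    have e : k⁻¹ * (x * (b * x * b⁻¹)) * k = k⁻¹ * (x * (b * x * b⁻¹)) * k⁻¹⁻¹ := by
      rw [inv_inv]
    rw [e, conj_pow, hj]; group
  have h4 : k⁻¹ ∈ normalizer ((P : Subgroup G) : Set G) := by
    apply c.ti_P ht hyP hy1
    rw [inv_inv]; exact h3
  have h5 : k ∈ normalizer ((P : Subgroup G) : Set G) := by
    have := inv_mem h4
    rwa [inv_inv] at this
  have h6 := N_comm_t ht h5
  rw [← hk, h6]; group

/-- Uniqueness of the common neighbour of `t` and a commuting involution. -/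
theorem common_comm₀ {b c' : G} (hb : IsInv b) (hc' : IsInv c') (hbt : b * t = t * b)
    (hct : c' * t = t * c') (hbne : b ≠ t) (hcne : c' ≠ t) (hbc : b ≠ c')
    (hcb : c' * b = b * c') : c' = t * b := by
  have hib := c.inverts ht hb hbt hbne
  have hic := c.inverts ht hc' hct hcne
  have hw1 : b * c' ≠ 1 := by
    intro h
    apply hbc
    have : c' = b⁻¹ := eq_inv_of_mul_eq_one_right h
    rw [this, hb.inv_eq]
  have hw2 : b * c' * (b * c') = 1 := by
    calc b * c' * (b * c') = b * (c' * b) * c' := by group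
      _ = b * (b * c') * c' := by rw [hcb]
      _ = (b * b) * (c' * c') := by group
      _ = 1 := by rw [hb.2, hc'.2, one_mul]
  have hwc : ∀ x ∈ (P : Subgroup G), (b * c') * x = x * (b * c') := by
    intro x hx
    have h1 : (b * c') * x * (b * c')⁻¹ = b * (c' * x * c'⁻¹) * b⁻¹ := by group
    rw [hic x hx] at h1
    have h2 := hib x⁻¹ (inv_mem hx)
    rw [h2, inv_inv] at h1
    calc (b * c') * x = ((b * c') * x * (b * c')⁻¹) * (b * c') := by group
      _ = x * (b * c') := by rw [h1]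
  have hwt : b * c' = t := ht.uniq _ ⟨hw1, hw2⟩ hwc
  calc c' = b⁻¹ * (b * c') := by group
    _ = b * t := by rw [hwt, hb.inv_eq]
    _ = t * b := hbt

/-- Uniqueness of the common neighbour of two commuting involutions. -/
theorem common_comm {a b c' : G} (ha : IsInv a) (hb : IsInv b) (hc' : IsInv c')
    (hab : a * b = b * a) (hne : a ≠ b) (hca : c' * a = a * c') (hcb : c' * b = b * c')
    (hc'a : c' ≠ a) (hc'b : c' ≠ b) : c' = a * b := by
  obtain ⟨h, hh⟩ := c.inv_conj_t ht ha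
  have hb₀ : IsInv (h⁻¹ * b * h) := by
    have := hb.conj h⁻¹
    rwa [inv_inv] at this
  have hc₀ : IsInv (h⁻¹ * c' * h) := by
    have := hc'.conj h⁻¹
    rwa [inv_inv] at this
  have hinj : ∀ x y : G, h⁻¹ * x * h = h⁻¹ * y * h → x = y := by
    intro x y e
    exact mul_left_cancel (mul_right_cancel e)
  have htconj : h⁻¹ * a * h = t := by rw [← hh]; group
  have h1 : (h⁻¹ * b * h) * t = t * (h⁻¹ * b * h) := by
    rw [← htconj]
    calc h⁻¹ * b * h * (h⁻¹ * a * h) = h⁻¹ * (b * a) * h := by group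
      _ = h⁻¹ * (a * b) * h := by rw [hab]
      _ = h⁻¹ * a * h * (h⁻¹ * b * h) := by group
  have h2 : (h⁻¹ * c' * h) * t = t * (h⁻¹ * c' * h) := by
    rw [← htconj]
    calc h⁻¹ * c' * h * (h⁻¹ * a * h) = h⁻¹ * (c' * a) * h := by group
      _ = h⁻¹ * (a * c') * h := by rw [hca]
      _ = h⁻¹ * a * h * (h⁻¹ * c' * h) := by group
  have h3 : h⁻¹ * b * h ≠ t := by
    intro e; apply hne; rw [← htconj] at e; exact (hinj _ _ e).symm
  have h4 : h⁻¹ * c' * h ≠ t := by
    intro e; apply hc'a; rw [← htconj] at e; exact hinj _ _ e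
  have h5 : h⁻¹ * b * h ≠ h⁻¹ * c' * h := by
    intro e; apply hc'b; exact (hinj _ _ e).symm
  have h6 : (h⁻¹ * c' * h) * (h⁻¹ * b * h) = (h⁻¹ * b * h) * (h⁻¹ * c' * h) := by
    calc (h⁻¹ * c' * h) * (h⁻¹ * b * h) = h⁻¹ * (c' * b) * h := by group
      _ = h⁻¹ * (b * c') * h := by rw [hcb]
      _ = (h⁻¹ * b * h) * (h⁻¹ * c' * h) := by group
  have h7 := c.common_comm₀ ht hb₀ hc₀ h1 h2 h3 h4 h5 h6
  apply hinj
  rw [h7, ← htconj]; group

/-- The common neighbour when the 3-part of `a b` lies in `P`. -/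
theorem common_noncomm₀ {a x : G} (hx : x ∈ (P : Subgroup G)) (hx1 : x ≠ 1)
    (hax : a * x * a⁻¹ = x⁻¹) : t * a = a * t := by
  have haN : a ∈ normalizer ((P : Subgroup G) : Set G) := by
    apply c.ti_P ht hx hx1
    rw [hax]; exact inv_mem hx
  exact (N_comm_t ht haN).symm

theorem common_noncomm_uniq₀ {c' x : G} (hc' : IsInv c') (hx : x ∈ (P : Subgroup G)) (hx1 : x ≠ 1)
    (hcx : c' * x = x * c') : c' = t := by
  have hcN := c.cent_le ht hx hx1 hcx
  have hct := N_comm_t ht hcN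
  by_contra hne
  have hinv := c.inverts ht hc' hct hne x hx
  apply hx1
  apply eq_one_of_sq P hx
  have h1 : c' * x * c'⁻¹ = x := by rw [hcx]; group
  rw [h1] at hinv
  calc x * x = x * x⁻¹ := by rw [← hinv]
    _ = 1 := by group

/-- Three neighbours of `t`. -/
theorem three_neighbours : ∃ b₁ b₂ b₃ : G, IsInv b₁ ∧ IsInv b₂ ∧ IsInv b₃ ∧ b₁ ≠ t ∧ b₂ ≠ t ∧
    b₃ ≠ t ∧ b₁ ≠ b₂ ∧ b₁ ≠ b₃ ∧ b₂ ≠ b₃ ∧ b₁ * t = t * b₁ ∧ b₂ * t = t * b₂ ∧
    b₃ * t = t * b₃ := by
  obtain ⟨u, hu, hut, huc⟩ := c.exists_inv_comm ht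
  have hiu := c.inverts ht hu huc hut
  have hPne : (P : Subgroup G) ≠ ⊥ := by
    intro h
    have h1 := c.cardN
    have h2 := c.cardC
    have hN : normalizer ((P : Subgroup G) : Set G) = ⊤ := by
      rw [eq_top_iff]
      intro g _
      rw [mem_normalizer_iff]
      intro x
      rw [h, mem_bot, mem_bot]
      constructor
      · intro hx; rw [hx]; group
      · intro hx
        have : x = g⁻¹ * (g * x * g⁻¹) * g := by group
        rw [this, hx]; group
    have hC : centralizer ((P : Subgroup G) : Set G) = ⊤ := by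
      rw [eq_top_iff]
      intro g _
      rw [mem_centralizer_iff]
      intro x hx
      have hx' : x ∈ (P : Subgroup G) := hx
      rw [h, mem_bot] at hx'
      rw [hx', one_mul, mul_one]
    rw [hN] at h1
    rw [hC] at h2
    have h3 : 0 < Nat.card (P : Subgroup G) := Nat.card_pos
    omega
  obtain ⟨⟨y, hy⟩, hy1'⟩ := (Subgroup.ne_bot_iff_exists_ne_one).mp hPne
  have hy1 : y ≠ 1 := by
    intro h; apply hy1'; exact Subtype.ext h
  have hyy1 : y * y ≠ 1 := fun h => hy1 (eq_one_of_sq P hy h)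
  have hyyP : y * y ∈ (P : Subgroup G) := mul_mem hy hy
  -- conjugates of `u` by elements of `P`
  have hconj_comm : ∀ z ∈ (P : Subgroup G), (z * u * z⁻¹) * t = t * (z * u * z⁻¹) := by
    intro z hz
    have h1 := ht.cent z hz
    have h2 : z⁻¹ * t = t * z⁻¹ := by
      have h3 := ht.cent z⁻¹ (inv_mem hz)
      exact h3.symm
    calc (z * u * z⁻¹) * t = z * u * (z⁻¹ * t) := by group
      _ = z * u * (t * z⁻¹) := by rw [h2]
      _ = z * (u * t) * z⁻¹ := by group
      _ = z * (t * u) * z⁻¹ := by rw [huc]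
      _ = (z * t) * u * z⁻¹ := by group
      _ = (t * z) * u * z⁻¹ := by rw [h1]
      _ = t * (z * u * z⁻¹) := by group
  have hconj_ne : ∀ z ∈ (P : Subgroup G), z ≠ 1 → z * u * z⁻¹ ≠ u := by
    intro z hz hz1 h
    apply hz1
    apply eq_one_of_sq P hz
    have h1 : u * z * u⁻¹ = z := by
      have h2 : z * u = u * z := by
        calc z * u = (z * u * z⁻¹) * z := by group
          _ = u * z := by rw [h]
      rw [← h2]; group
    have h3 := hiu z hz
    rw [h1] at h3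
    have h4 : z * z = z * z⁻¹ := congrArg (fun w => z * w) h3
    rw [h4, mul_inv_cancel]
  have hconj_net : ∀ z : G, z * u * z⁻¹ = t → z * t = t * z → False := by
    intro z h hzt
    apply hut
    have : u = z⁻¹ * (z * u * z⁻¹) * z := by group
    rw [this, h]
    calc z⁻¹ * t * z = z⁻¹ * (t * z) := by group
      _ = z⁻¹ * (z * t) := by rw [hzt]
      _ = t := by group
  refine ⟨u, y * u * y⁻¹, (y * y) * u * (y * y)⁻¹, hu, hu.conj y, hu.conj (y * y), hut, ?_, ?_, ?_,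
    ?_, ?_, huc, hconj_comm y hy, hconj_comm _ hyyP⟩
  · intro h; exact hconj_net y h (ht.cent y hy).symm
  · intro h; exact hconj_net (y * y) h (ht.cent _ hyyP).symm
  · exact (hconj_ne y hy hy1).symm
  · exact (hconj_ne _ hyyP hyy1).symm
  · intro h
    apply hconj_ne y hy hy1
    have e : (y * y) * u * (y * y)⁻¹ = y * (y * u * y⁻¹) * y⁻¹ := by group
    rw [e] at h
    exact (mul_left_cancel (mul_right_cancel h)).symm

end Tx

end Cfsg.Agent.Lib.Helper4.Tri
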