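import Mathlib
import Cfsg.Agent.Lib.Helper4.Tri4
import Cfsg.Agent.Lib.Helper4.CycG

/-!
# TI centralizer configuration: contradiction
-/

set_option autoImplicit false

namespace Cfsg.Agent.Lib.Helper4.Tri

open Subgroup
open Cfsg.Agent.Lib.Helper4.Cyc

universe u

variable {G : Type u} [Group G] [Finite G] {P : Sylow 3 G}

namespace Tx

variable (c : Tx G P) {t : G} (ht : TData P t)
include c ht

/-- Two non-commuting involutions have exactly one common neighbour. -/
theorem common_noncomm {a b : G} (ha : IsInv a) (hb : IsInv b) (hab : a * b ≠ b * a) :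
    ∃ t', IsInv t' ∧ t' * a = a * t' ∧ t' * b = b * t' ∧
      ∀ c', IsInv c' → c' * a = a * c' → c' * b = b * c' → c' = t' := by
  have h3 : Nat.Prime 3 := by norm_num
  have hud := ha.conj_mul_left hb
  have hvd := ha.conj_mul_right hb
  have hB : zpowers a ≤ normalizer ((zpowers (a * b) : Subgroup G) : Set G) := by
    rw [zpowers_le]; exact mem_normalizer_zpowers_of_inverts hud
  have hDtop : mulSub (zpowers (a * b)) (zpowers a) hB ≠ ⊤ := by
    intro htop
    have hn : (zpowers (a * b)).Normal := by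
      rw [← normalizer_eq_top_iff, eq_top_iff]
      intro g _
      have hg : g ∈ mulSub (zpowers (a * b)) (zpowers a) hB := by rw [htop]; exact mem_top g
      obtain ⟨x, hx, y, hy, rfl⟩ := mem_mulSub.mp hg
      exact mul_mem (le_normalizer hx) (hB hy)
    rcases c.normal_eq _ hn with h | h
    · rw [zpowers_eq_bot] at h
      apply hab
      have : b = a⁻¹ := eq_inv_of_mul_eq_one_right h
      rw [this, ha.inv_eq]
    · apply c.not_top_abelian
      intro x y
      have hx : x ∈ zpowers (a * b) := by rw [h]; exact mem_top x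
      have hy : y ∈ zpowers (a * b) := by rw [h]; exact mem_top y
      obtain ⟨i, rfl⟩ := mem_zpowers_iff.mp hx
      obtain ⟨j, rfl⟩ := mem_zpowers_iff.mp hy
      exact (Commute.refl (a * b)).zpow_zpow i j
  have h2D : 2 ∣ Nat.card (mulSub (zpowers (a * b)) (zpowers a) hB) := by
    have haD : a ∈ mulSub (zpowers (a * b)) (zpowers a) hB := right_le_mulSub hB (mem_zpowers a)
    have := orderOf_dvd_natCard (⟨a, haD⟩ : mulSub (zpowers (a * b)) (zpowers a) hB)
    rw [← Subgroup.orderOf_coe] at this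
    rw [← ha.orderOf_eq]
    exact this
  have hDdvd := c.even _ hDtop h2D
  have hod : orderOf (a * b) ∣ 4 * Nat.card (P : Subgroup G) := by
    have hdD : a * b ∈ mulSub (zpowers (a * b)) (zpowers a) hB :=
      left_le_mulSub hB (mem_zpowers _)
    have := orderOf_dvd_natCard (⟨a * b, hdD⟩ : mulSub (zpowers (a * b)) (zpowers a) hB)
    rw [← Subgroup.orderOf_coe] at this
    exact this.trans hDdvd
  obtain ⟨x, hx, e, he, hxe, hxp, heo⟩ := exists_parts h3 (a * b)
  have he4 : e ^ 2 ^ 2 = 1 := by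
    have h1 : orderOf e ∣ orderOf (a * b) := orderOf_dvd_of_mem_zpowers he
    have h2 : orderOf e ∣ 4 * Nat.card (P : Subgroup G) := h1.trans hod
    obtain ⟨n, hn⟩ := P.2.exists_card_eq
    have h3' : (orderOf e).Coprime (Nat.card (P : Subgroup G)) := by
      rw [hn]; exact heo.pow_right n
    have h4 : orderOf e ∣ 4 := by
      rw [mul_comm] at h2
      exact h3'.dvd_of_dvd_mul_left h2
    have h5 : (2 : ℕ) ^ 2 = 4 := by norm_num
    rw [h5]
    exact orderOf_dvd_iff_pow_eq_one.mp h4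
  obtain ⟨j, hj⟩ := mem_zpowers_iff.mp he
  obtain ⟨i, hi⟩ := mem_zpowers_iff.mp hx
  have hae : a * e * a⁻¹ = e⁻¹ := by
    rw [← hj, ← conj_zpow, hud, inv_zpow]
  have hax : a * x * a⁻¹ = x⁻¹ := by
    rw [← hi, ← conj_zpow, hud, inv_zpow]
  have hbx : b * x * b⁻¹ = x⁻¹ := by
    rw [← hi, ← conj_zpow, hvd, inv_zpow]
  have hBe : zpowers a ≤ normalizer ((zpowers e : Subgroup G) : Set G) := by
    rw [zpowers_le]; exact mem_normalizer_zpowers_of_inverts hae
  have hM : IsPGroup 2 (mulSub (zpowers e) (zpowers a) hBe) :=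
    isPGroup_mulSub hBe (isPGroup_zpowers ⟨2, he4⟩)
      (isPGroup_zpowers ⟨1, by rw [pow_one, pow_two]; exact ha.2⟩)
  obtain ⟨S', hMS'⟩ := hM.exists_le_sylow
  have haec : a * e = e * a :=
    c.sylow2_comm ht S' (hMS' (right_le_mulSub hBe (mem_zpowers a)))
      (hMS' (left_le_mulSub hBe (mem_zpowers e)))
  have hee : e⁻¹ = e := by
    rw [← hae]
    calc a * e * a⁻¹ = e * a * a⁻¹ := by rw [haec]
      _ = e := by group
  have hx1 : x ≠ 1 := by
    intro h
    apply hab
    rw [h, one_mul] at hxe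
    have h1 : (a * b)⁻¹ = a * b := by rw [hxe]; exact hee
    rw [mul_inv_rev, ha.inv_eq, hb.inv_eq] at h1
    exact h1.symm
  obtain ⟨P', hxP'⟩ := exists_sylow_mem (p := 3) hxp
  obtain ⟨h, hh⟩ := MulAction.exists_smul_eq G P P'
  rw [← hh, mem_smul_sylow_iff] at hxP'
  have hx₀1 : h⁻¹ * x * h ≠ 1 := by
    intro h1
    apply hx1
    have : x = h * (h⁻¹ * x * h) * h⁻¹ := by group
    rw [this, h1]; group
  have ha₀ : IsInv (h⁻¹ * a * h) := by
    have := ha.conj h⁻¹
    rwa [inv_inv] at this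
  have hb₀ : IsInv (h⁻¹ * b * h) := by
    have := hb.conj h⁻¹
    rwa [inv_inv] at this
  have hax₀ : (h⁻¹ * a * h) * (h⁻¹ * x * h) * (h⁻¹ * a * h)⁻¹ = (h⁻¹ * x * h)⁻¹ := by
    calc (h⁻¹ * a * h) * (h⁻¹ * x * h) * (h⁻¹ * a * h)⁻¹ = h⁻¹ * (a * x * a⁻¹) * h := by group
      _ = h⁻¹ * x⁻¹ * h := by rw [hax]
      _ = (h⁻¹ * x * h)⁻¹ := by group
  have hbx₀ : (h⁻¹ * b * h) * (h⁻¹ * x * h) * (h⁻¹ * b * h)⁻¹ = (h⁻¹ * x * h)⁻¹ := by
    calc (h⁻¹ * b * h) * (h⁻¹ * x * h) * (h⁻¹ * b * h)⁻¹ = h⁻¹ * (b * x * b⁻¹) * h := by group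
      _ = h⁻¹ * x⁻¹ * h := by rw [hbx]
      _ = (h⁻¹ * x * h)⁻¹ := by group
  have hta₀ := c.common_noncomm₀ ht hxP' hx₀1 hax₀
  have htb₀ := c.common_noncomm₀ ht hxP' hx₀1 hbx₀
  refine ⟨h * t * h⁻¹, ht.inv.conj h, ?_, ?_, ?_⟩
  · calc h * t * h⁻¹ * a = h * (t * (h⁻¹ * a * h)) * h⁻¹ := by group
      _ = h * ((h⁻¹ * a * h) * t) * h⁻¹ := by rw [hta₀]
      _ = a * (h * t * h⁻¹) := by group
  · calc h * t * h⁻¹ * b = h * (t * (h⁻¹ * b * h)) * h⁻¹ := by group
      _ = h * ((h⁻¹ * b * h) * t) * h⁻¹ := by rw [htb₀]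
      _ = b * (h * t * h⁻¹) := by group
  · intro c' hc' hca hcb
    have hc₀ : IsInv (h⁻¹ * c' * h) := by
      have := hc'.conj h⁻¹
      rwa [inv_inv] at this
    have hcx : c' * x = x * c' := by
      have h1 : Commute c' (a * b) := by
        have h2 : Commute c' a := hca
        have h3 : Commute c' b := hcb
        exact h2.mul_right h3
      rw [← hi]
      exact (h1.zpow_right i).eq
    have hcx₀ : (h⁻¹ * c' * h) * (h⁻¹ * x * h) = (h⁻¹ * x * h) * (h⁻¹ * c' * h) := by
      calc (h⁻¹ * c' * h) * (h⁻¹ * x * h) = h⁻¹ * (c' * x) * h := by group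
        _ = h⁻¹ * (x * c') * h := by rw [hcx]
        _ = (h⁻¹ * x * h) * (h⁻¹ * c' * h) := by group
    have h1 := c.common_noncomm_uniq₀ ht hc₀ hxP' hx₀1 hcx₀
    rw [← h1]; group

/-- The configuration is contradictory. -/
theorem false : False := by
  obtain ⟨b₁, b₂, b₃, h⟩ := c.three_neighbours ht
  exact inv_graph_false t ht.inv (fun a ha => c.inv_conj_t ht ha) ⟨b₁, b₂, b₃, h⟩
    (fun a b c' ha hb hc' => c.common_comm ht ha hb hc')
    (fun a b ha hb hab => c.common_noncomm ht ha hb hab)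

end Tx

/-- A finite group with an abelian Sylow 3-subgroup `P` with `|N(P)| = 4|P|`, `|C(P)| = 2|P|`,
`C(P)` a TI-subset, and whose proper subgroups of even order have order dividing `4|P|`, is not
simple. -/
theorem not_simple (P : Sylow 3 G) (hab : IsMulCommutative P)
    (hN : Nat.card (Subgroup.normalizer ((P : Subgroup G) : Set G)) = 4 * Nat.card P)
    (hC : Nat.card (Subgroup.centralizer (P : Set G)) = 2 * Nat.card P)
    (hTI : Cfsg.IsTISubset (Subgroup.centralizer (P : Set G) : Set G))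
    (heven : ∀ H : Subgroup G, H ≠ ⊤ → 2 ∣ Nat.card H → Nat.card H ∣ 4 * Nat.card P) :
    ¬ IsSimpleGroup G := by
  intro hs
  have c : Tx G P :=
    { simple := hs
      ab := fun a ha b hb =>
        congrArg Subtype.val (hab.is_comm.comm (⟨a, ha⟩ : (P : Subgroup G)) ⟨b, hb⟩)
      cardN := hN
      cardC := hC
      ti := hTI
      even := heven }
  obtain ⟨t, ht⟩ := c.exists_tdata
  exact c.false ht

end Cfsg.Agent.Lib.Helper4.Tri
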