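import Mathlib
import Cfsg.Agent.Lib.Helper7.Q1

set_option autoImplicit false

/-! # Fixed-point-free automorphisms of `3`-power order (toolkit for S1237) -/

namespace Cfsg.Agent.Lib.Helper4.Tw

open Cfsg.Agent.Lib.Helper7.Q64 (SInv)

variable {X : Type*} [Group X]

/-- a fixed-point-free automorphism of `3`-power order -/
structure F3 (α : MulAut X) : Prop where
  pw : ∃ a : ℕ, α ^ (3 ^ a) = 1
  fpf : ∀ y : X, α y = y → y = 1

namespace F3

variable {α : MulAut X} (h : F3 α)
include h

theorem inj_aux (u v : X) (huv : u⁻¹ * α u = v⁻¹ * α v) : u = v := by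
  have h2 : α u = u * (v⁻¹ * α v) := by rw [← huv]; group
  have h1 : α (v * u⁻¹) = v * u⁻¹ := by
    rw [map_mul, map_inv, h2]; group
  have h3 := h.fpf _ h1
  exact (mul_inv_eq_one.mp h3).symm

theorem ne_of_ne_one {x : X} (hx : x ≠ 1) : α x ≠ x := fun e => hx (h.fpf x e)

omit h in
theorem map_ne_one {x : X} (hx : x ≠ 1) : α x ≠ 1 :=
  fun e => hx (α.injective (e.trans (map_one α).symm))

theorem mem_of_coset [Finite X] (N : Subgroup X) (hN : SInv α N) (y : X)
    (hy : y⁻¹ * α y ∈ N) : y ∈ N := by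
  have hex : ∃ n ∈ N, n⁻¹ * α n = y⁻¹ * α y := by
    let f : ↥N → ↥N := fun n => ⟨(n : X)⁻¹ * α (n : X), N.mul_mem (N.inv_mem n.2) (hN _ n.2)⟩
    have hf : Function.Injective f := fun a b hab =>
      Subtype.ext (h.inj_aux _ _ (congrArg Subtype.val hab))
    obtain ⟨n, hn⟩ := (Finite.injective_iff_surjective.mp hf) ⟨_, hy⟩
    exact ⟨n.1, n.2, congrArg Subtype.val hn⟩
  obtain ⟨n, hn, hny⟩ := hex
  rw [← h.inj_aux n y hny]
  exact hn

omit h in
theorem pow_apply_mem {H : Subgroup X} (hH : SInv α H) (n : ℕ) (y : X) (hy : y ∈ H) :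
    (α ^ n) y ∈ H := by
  induction n with
  | zero => simpa using hy
  | succ n ih =>
    rw [pow_succ', MulAut.mul_apply]
    exact hH _ ih

theorem card_mod [Finite X] (H : Subgroup X) (hH : SInv α H) : Nat.card H % 3 = 1 := by
  classical
  have : Fintype ↥H := Fintype.ofFinite _
  have : Fact (Nat.Prime 3) := ⟨by norm_num⟩
  obtain ⟨a, ha⟩ := h.pw
  let f : Function.End ↥H := fun y => ⟨α (y : X), hH _ y.2⟩
  have hfn : ∀ (n : ℕ) (y : ↥H), (((f ^ n) y : ↥H) : X) = (α ^ n) (y : X) := by
    intro n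
    induction n with
    | zero => intro y; rfl
    | succ n ih =>
      intro y
      rw [pow_succ', pow_succ', MulAut.mul_apply]
      show ((f ((f ^ n) y) : ↥H) : X) = _
      show α (((f ^ n) y : ↥H) : X) = _
      rw [ih]
  have hf : f ^ 3 ^ a = 1 := by
    apply funext
    intro y
    apply Subtype.ext
    rw [hfn, ha]
    rfl
  have key := Equiv.Perm.card_fixedPoints_modEq (f := f) hf
  have hfix : Fintype.card ↥(Function.fixedPoints f) = 1 := by
    rw [Fintype.card_eq_one_iff]
    refine ⟨⟨1, ?_⟩, ?_⟩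
    · show f 1 = 1
      exact Subtype.ext (map_one α)
    · rintro ⟨y, hy⟩
      apply Subtype.ext
      apply Subtype.ext
      have h1 : α (y : X) = (y : X) := congrArg Subtype.val hy
      exact h.fpf _ h1
  rw [hfix] at key
  rw [Nat.card_eq_fintype_card]
  exact key

omit h in
theorem sinv_top : SInv α (⊤ : Subgroup X) := fun _ _ => Subgroup.mem_top _

omit h in
theorem sinv_bot : SInv α (⊥ : Subgroup X) := by
  intro n hn
  rw [Subgroup.mem_bot] at hn ⊢
  rw [hn, map_one]

theorem card_mod_top [Finite X] : Nat.card X % 3 = 1 := by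
  have := h.card_mod ⊤ sinv_top
  rwa [Subgroup.card_top] at this

omit h in
theorem map_eq_of_sinv [Finite X] {N : Subgroup X} (hN : SInv α N) :
    N.map ((α : X ≃* X) : X →* X) = N := by
  apply Subgroup.eq_of_le_of_card_ge
  · rintro y ⟨n, hn, rfl⟩
    exact hN n hn
  · rw [Subgroup.card_map_of_injective (show Function.Injective ((α : X ≃* X) : X →* X) from
      α.injective)]

omit h in
theorem sinv_iff [Finite X] {N : Subgroup X} (hN : SInv α N) (y : X) : α y ∈ N ↔ y ∈ N := by
  constructor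
  · intro hy
    have h1 : α y ∈ N.map ((α : X ≃* X) : X →* X) := by rw [map_eq_of_sinv hN]; exact hy
    obtain ⟨n, hn, hny⟩ := h1
    have : n = y := α.injective hny
    rw [← this]; exact hn
  · exact hN y

omit h in
theorem center_sinv : SInv α (Subgroup.center X) := by
  intro z hz
  rw [Subgroup.mem_center_iff] at hz ⊢
  intro g
  obtain ⟨g', rfl⟩ := α.surjective g
  rw [← map_mul, ← map_mul, hz g']

omit h in
theorem centralizer_sinv [Finite X] {N : Subgroup X} (hN : SInv α N) :
    SInv α (Subgroup.centralizer (N : Set X)) := by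
  intro z hz
  rw [Subgroup.mem_centralizer_iff] at hz ⊢
  intro g hg
  obtain ⟨g', rfl⟩ := α.surjective g
  have hg' : g' ∈ N := (sinv_iff hN g').mp hg
  rw [← map_mul, ← map_mul, hz g' hg']

omit h in
theorem sinv_inf {H K : Subgroup X} (hH : SInv α H) (hK : SInv α K) : SInv α (H ⊓ K) :=
  fun n hn => ⟨hH n hn.1, hK n hn.2⟩

/-- the induced automorphism on an invariant subgroup -/
theorem restrict [Finite X] (H : Subgroup X) (hH : SInv α H) :
    ∃ β : MulAut ↥H, (∀ y : ↥H, ((β y : ↥H) : X) = α (y : X)) ∧ F3 β := by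
  have he : H.map ((α : X ≃* X) : X →* X) = H := map_eq_of_sinv hH
  let β : MulAut ↥H := (MulEquiv.subgroupMap α H).trans (MulEquiv.subgroupCongr he)
  have hβ : ∀ y : ↥H, ((β y : ↥H) : X) = α (y : X) := fun y => rfl
  have hpow : ∀ (n : ℕ) (y : ↥H), (((β ^ n) y : ↥H) : X) = (α ^ n) (y : X) := by
    intro n
    induction n with
    | zero => intro y; simp
    | succ n ih =>
      intro y
      rw [pow_succ', pow_succ', MulAut.mul_apply, MulAut.mul_apply, hβ, ih]
  refine ⟨β, hβ, ?_, ?_⟩
  · obtain ⟨a, ha⟩ := h.pw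
    refine ⟨a, ?_⟩
    apply MulEquiv.ext
    intro y
    apply Subtype.ext
    rw [hpow, ha]
    rfl
  · intro y hy
    apply Subtype.ext
    have h1 : α (y : X) = (y : X) := by rw [← hβ, hy]
    exact h.fpf _ h1

/-- the induced automorphism on the quotient by an invariant normal subgroup -/
theorem quot [Finite X] (N : Subgroup X) [N.Normal] (hN : SInv α N) :
    ∃ β : MulAut (X ⧸ N), (∀ y : X, β (QuotientGroup.mk y) = QuotientGroup.mk (α y)) ∧
      F3 β := by
  have he : N.map ((α : X ≃* X) : X →* X) = N := map_eq_of_sinv hN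
  let β : MulAut (X ⧸ N) := QuotientGroup.congr N N α he
  have hβ : ∀ y : X, β (QuotientGroup.mk y) = QuotientGroup.mk (α y) := fun y => rfl
  have hpow : ∀ (n : ℕ) (y : X), (β ^ n) (QuotientGroup.mk y) = QuotientGroup.mk ((α ^ n) y) := by
    intro n
    induction n with
    | zero => intro y; simp
    | succ n ih =>
      intro y
      rw [pow_succ', pow_succ', MulAut.mul_apply, MulAut.mul_apply, ih, hβ]
  refine ⟨β, hβ, ?_, ?_⟩
  · obtain ⟨a, ha⟩ := h.pw
    refine ⟨a, ?_⟩
    apply MulEquiv.ext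
    intro q
    obtain ⟨y, rfl⟩ := QuotientGroup.mk_surjective q
    rw [hpow, ha]
    rfl
  · intro q hq
    obtain ⟨y, rfl⟩ := QuotientGroup.mk_surjective q
    have hq' : (QuotientGroup.mk y : X ⧸ N) = QuotientGroup.mk (α y) := by rw [← hβ, hq]
    rw [QuotientGroup.eq] at hq'
    have h1 := h.mem_of_coset N hN y hq'
    exact (QuotientGroup.eq_one_iff y).mpr h1

end F3

end Cfsg.Agent.Lib.Helper4.Tw
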