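import Mathlib

set_option autoImplicit false

/-! # An anisotropic quadratic map into a four-group lives on at most 32 points (for S1237) -/

namespace Cfsg.Agent.Lib.Helper4.Tw

section basic

variable {Q : Type*} [Group Q]

theorem inv_eq_self_of_sq (hQ2 : ∀ q : Q, q ^ 2 = 1) (q : Q) : q⁻¹ = q := by
  have h := hQ2 q
  rw [pow_two] at h
  exact inv_eq_of_mul_eq_one_left h

theorem comm_of_sq (hQ2 : ∀ q : Q, q ^ 2 = 1) (a c : Q) : a * c = c * a := by
  have h1 := inv_eq_self_of_sq hQ2 (a * c)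
  rw [mul_inv_rev, inv_eq_self_of_sq hQ2 a, inv_eq_self_of_sq hQ2 c] at h1
  exact h1.symm

theorem mul_self_of_sq (hQ2 : ∀ q : Q, q ^ 2 = 1) (q : Q) : q * q = 1 := by
  have h := hQ2 q
  rwa [pow_two] at h

theorem exists_mem_not_mem_finset [Finite Q] [DecidableEq Q] (C : Subgroup Q) (F : Finset Q)
    (h : F.card < Nat.card C) : ∃ u ∈ C, u ∉ F := by
  by_contra hcon
  push Not at hcon
  have : Fintype ↥C := Fintype.ofFinite _
  have h1 : Nat.card C ≤ F.card := by
    rw [Nat.card_eq_fintype_card]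
    have hinj : Function.Injective (fun u : ↥C => (⟨(u : Q), hcon u u.2⟩ : ↥F)) := by
      intro u v huv
      have := congrArg (fun t : ↥F => (t : Q)) huv
      exact Subtype.ext this
    have := Fintype.card_le_of_injective _ hinj
    simpa using this
  omega

end basic

section main

variable {Q W : Type*} [Group Q] [Finite Q] [Group W] [Finite W]

/-- the abstract quadratic-map lemma -/
theorem card_le_of_aniso (hW : Nat.card W = 4) (hW2 : ∀ w : W, w ^ 2 = 1)
    (hQ2 : ∀ q : Q, q ^ 2 = 1) (s : Q → W) (b : Q → Q → W)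
    (hs : ∀ a c, s (a * c) = s a * s c * b a c)
    (hbl : ∀ a a' c, b (a * a') c = b a c * b a' c)
    (hbr : ∀ a c c', b a (c * c') = b a c * b a c')
    (hs1 : ∀ a, s a = 1 → a = 1) : Nat.card Q ≤ 32 := by
  classical
  have : Fintype W := Fintype.ofFinite _
  have hWc : ∀ w w' : W, w * w' = w' * w := comm_of_sq hW2
  have hQc : ∀ q q' : Q, q * q' = q' * q := comm_of_sq hQ2
  have hWs : ∀ w : W, w * w = 1 := mul_self_of_sq hW2
  have hQs : ∀ q : Q, q * q = 1 := mul_self_of_sq hQ2
  have hb1l : ∀ c, b 1 c = 1 := by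
    intro c
    have h := hbl 1 1 c
    rw [mul_one] at h
    exact (left_eq_mul.mp h)
  have hb1r : ∀ a, b a 1 = 1 := by
    intro a
    have h := hbr a 1 1
    rw [mul_one] at h
    exact (left_eq_mul.mp h)
  have hs0 : s 1 = 1 := by
    have h := hs 1 1
    rw [mul_one, hb1l, mul_one] at h
    exact (left_eq_mul.mp h)
  have hbaa : ∀ a, b a a = 1 := by
    intro a
    have h := hs a a
    rw [hQs, hs0, hWs, one_mul] at h
    exact h.symm
  have hbsymm : ∀ a c, b a c = b c a := by
    intro a c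
    have h1 := hs a c
    have h2 := hs c a
    rw [hQc c a, h1, hWc (s c) (s a)] at h2
    exact mul_left_cancel h2
  -- the key non-degeneracy statement
  have key : ∀ a u v : Q, a ≠ 1 → u ≠ 1 → u ≠ a → v ≠ 1 → v ≠ a → v ≠ u → v ≠ a * u →
      b a u = 1 → b a v = 1 → b u v ≠ 1 := by
    intro a u v ha hu1 hua hv1 hva hvu hvau hbu hbv hbuv
    -- `s` is injective on commuting pairs
    have hinj : ∀ g g' : Q, b g g' = 1 → s g = s g' → g = g' := by
      intro g g' hbg hsg
      have h1 := hs g g'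
      rw [hbg, mul_one, hsg, hWs] at h1
      have h2 := hs1 _ h1
      have h3 : g = g'⁻¹ := eq_inv_of_mul_eq_one_left h2
      rw [h3, inv_eq_self_of_sq hQ2]
    have hbau : b (a * u) v = 1 := by rw [hbl, hbv, hbuv, one_mul]
    have hbua : b u a = 1 := by rw [hbsymm, hbu]
    have hbva : b v a = 1 := by rw [hbsymm, hbv]
    have hbvu : b v u = 1 := by rw [hbsymm, hbuv]
    have hbaau : b a (a * u) = 1 := by rw [hbr, hbaa, hbu, one_mul]
    have hbuau : b u (a * u) = 1 := by rw [hbr, hbua, hbaa, one_mul]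
    have hbvau : b v (a * u) = 1 := by rw [hbr, hbva, hbvu, one_mul]
    have hau1 : a * u ≠ 1 := by
      intro e
      apply hua
      have : u = a⁻¹ := eq_inv_of_mul_eq_one_right e
      rw [this, inv_eq_self_of_sq hQ2]
    have haua : a * u ≠ a := by
      intro e
      exact hu1 (mul_eq_left.mp e)
    have hauu : a * u ≠ u := by
      intro e
      exact ha (mul_eq_right.mp e)
    -- five distinct values of `s`
    let f : Fin 5 → W := ![s 1, s a, s u, s v, s (a * u)]
    have hf : Function.Injective f := by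
      intro i j hij
      fin_cases i <;> fin_cases j <;> simp only [f] at hij <;> first
        | rfl
        | (exfalso
           simp at hij
           first
            | exact ha (hinj _ _ (hb1l a) hij).symm
            | exact hu1 (hinj _ _ (hb1l u) hij).symm
            | exact hv1 (hinj _ _ (hb1l v) hij).symm
            | exact hau1 (hinj _ _ (hb1l _) hij).symm
            | exact ha (hinj _ _ (hb1r a) hij)
            | exact hu1 (hinj _ _ (hb1r u) hij)
            | exact hv1 (hinj _ _ (hb1r v) hij)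
            | exact hau1 (hinj _ _ (hb1r _) hij)
            | exact hua (hinj _ _ hbu hij).symm
            | exact hua (hinj _ _ hbua hij)
            | exact hva (hinj _ _ hbv hij).symm
            | exact hva (hinj _ _ hbva hij)
            | exact hvu (hinj _ _ hbuv hij).symm
            | exact hvu (hinj _ _ hbvu hij)
            | exact haua (hinj _ _ hbaau hij).symm
            | exact haua (hinj _ _ (by rw [hbsymm]; exact hbaau) hij)
            | exact hauu (hinj _ _ hbuau hij).symm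
            | exact hauu (hinj _ _ (by rw [hbsymm]; exact hbuau) hij)
            | exact hvau (hinj _ _ hbvau hij)
            | exact hvau (hinj _ _ hbau hij).symm)
    have h5 := Fintype.card_le_of_injective f hf
    rw [Fintype.card_fin, ← Nat.card_eq_fintype_card, hW] at h5
    omega
  by_contra hcard
  push Not at hcard
  -- a nontrivial element
  obtain ⟨a, ha⟩ : ∃ a : Q, a ≠ 1 := by
    by_contra hall
    push Not at hall
    have : Subsingleton Q := ⟨fun x y => (hall x).trans (hall y).symm⟩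
    have := Nat.card_unique (α := Q) |>.symm ▸ hcard
    omega
  -- the centralizer of `a`
  let φ : Q →* W :=
    { toFun := fun q => b a q
      map_one' := hb1r a
      map_mul' := fun q q' => hbr a q q' }
  have hker : ∀ q, q ∈ φ.ker ↔ b a q = 1 := fun q => MonoidHom.mem_ker
  have hidx : φ.ker.index ≤ 4 := by
    rw [Subgroup.index_ker, ← hW]
    exact Nat.card_le_card_of_injective _ Subtype.val_injective
  have hC : 8 < Nat.card φ.ker := by
    have h1 := φ.ker.card_mul_index
    by_contra hle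
    push Not at hle
    have : Nat.card φ.ker * φ.ker.index ≤ 8 * 4 := Nat.mul_le_mul hle hidx
    omega
  have haC : a ∈ φ.ker := (hker a).mpr (hbaa a)
  obtain ⟨u₁, hu₁C, hu₁⟩ := exists_mem_not_mem_finset φ.ker ({1, a} : Finset Q)
    (lt_of_le_of_lt (Finset.card_le_two) (by omega))
  obtain ⟨u₂, hu₂C, hu₂⟩ := exists_mem_not_mem_finset φ.ker ({1, a, u₁, a * u₁} : Finset Q)
    (lt_of_le_of_lt (Finset.card_le_four) (by omega))
  obtain ⟨u₃, hu₃C, hu₃⟩ := exists_mem_not_mem_finset φ.ker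
    ({1, a, u₁, a * u₁, u₂, a * u₂, u₁ * u₂, a * u₁ * u₂} : Finset Q)
    (lt_of_le_of_lt (by
      refine (Finset.card_insert_le _ _).trans ?_
      refine (Nat.succ_le_succ ((Finset.card_insert_le _ _).trans ?_))
      refine (Nat.succ_le_succ ((Finset.card_insert_le _ _).trans ?_))
      refine (Nat.succ_le_succ ((Finset.card_insert_le _ _).trans ?_))
      exact Nat.succ_le_succ Finset.card_le_four) hC)
  simp only [Finset.mem_insert, Finset.mem_singleton, not_or] at hu₁ hu₂ hu₃
  obtain ⟨hu₁1, hu₁a⟩ := hu₁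
  obtain ⟨hu₂1, hu₂a, hu₂u₁, hu₂au₁⟩ := hu₂
  obtain ⟨hu₃1, hu₃a, hu₃u₁, hu₃au₁, hu₃u₂, hu₃au₂, hu₃u₁u₂, hu₃au₁u₂⟩ := hu₃
  have hb₁ : b a u₁ = 1 := (hker _).mp hu₁C
  have hb₂ : b a u₂ = 1 := (hker _).mp hu₂C
  have hb₃ : b a u₃ = 1 := (hker _).mp hu₃C
  -- cancellation helper: `x * y = g → y = x * g`
  have hcan : ∀ x y g : Q, x * y = g → y = x * g := by
    intro x y g e
    rw [← e, ← mul_assoc, hQs, one_mul]
  obtain ⟨p, hp⟩ : ∃ p, p = b u₁ u₂ := ⟨_, rfl⟩
  obtain ⟨q, hq⟩ : ∃ q, q = b u₁ u₃ := ⟨_, rfl⟩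
  obtain ⟨r, hr⟩ : ∃ r, r = b u₂ u₃ := ⟨_, rfl⟩
  have hp1 : p ≠ 1 := hp ▸ key a u₁ u₂ ha hu₁1 hu₁a hu₂1 hu₂a hu₂u₁ hu₂au₁ hb₁ hb₂
  have hq1 : q ≠ 1 := hq ▸ key a u₁ u₃ ha hu₁1 hu₁a hu₃1 hu₃a hu₃u₁ hu₃au₁ hb₁ hb₃
  have hr1 : r ≠ 1 := hr ▸ key a u₂ u₃ ha hu₂1 hu₂a hu₃1 hu₃a hu₃u₂ hu₃au₂ hb₂ hb₃
  have hpq : p * q ≠ 1 := by
    have h := key a u₁ (u₂ * u₃) ha hu₁1 hu₁a
      (fun e => hu₃u₂ (by have := hcan _ _ _ e; rw [mul_one] at this; exact this))
      (fun e => hu₃au₂ (by have := hcan _ _ _ e; rw [this, hQc]))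
      (fun e => hu₃u₁u₂ (by have := hcan _ _ _ e; rw [this, hQc]))
      (fun e => hu₃au₁u₂ (by have := hcan _ _ _ e; rw [this, hQc]))
      hb₁ (by rw [hbr, hb₂, hb₃, one_mul])
    rwa [hbr, ← hp, ← hq] at h
  have hpr : p * r ≠ 1 := by
    have h := key a u₂ (u₁ * u₃) ha hu₂1 hu₂a
      (fun e => hu₃u₁ (by have := hcan _ _ _ e; rw [mul_one] at this; exact this))
      (fun e => hu₃au₁ (by have := hcan _ _ _ e; rw [this, hQc]))
      (fun e => hu₃u₁u₂ (by have := hcan _ _ _ e; rw [this]))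
      (fun e => hu₃au₁u₂ (by
        have := hcan _ _ _ e
        rw [this, ← mul_assoc, hQc u₁ a]))
      hb₂ (by rw [hbr, hb₁, hb₃, one_mul])
    rwa [hbr, hbsymm u₂ u₁, ← hp, ← hr] at h
  have hu₁u₂1 : u₁ * u₂ ≠ 1 := fun e => hu₂u₁ (by
    have := hcan _ _ _ e; rw [mul_one] at this; exact this)
  have hu₁u₂a : u₁ * u₂ ≠ a := fun e => hu₂au₁ (by
    have := hcan _ _ _ e; rw [this, hQc])
  have hqr : q * r ≠ 1 := by
    have h := key a u₃ (u₁ * u₂) ha hu₃1 hu₃a hu₁u₂1 hu₁u₂a
      (fun e => hu₃u₁u₂ e.symm)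
      (fun e => hu₃au₁u₂ (by
        have := hcan _ _ _ e.symm
        rw [this, mul_assoc]))
      hb₃ (by rw [hbr, hb₁, hb₂, one_mul])
    rwa [hbr, hbsymm u₃ u₁, hbsymm u₃ u₂, ← hq, ← hr] at h
  have hqpr : q * p * r ≠ 1 := by
    have h := key a (u₁ * u₂) (u₁ * u₃) ha hu₁u₂1 hu₁u₂a
      (fun e => hu₃u₁ (by have := hcan _ _ _ e; rw [mul_one] at this; exact this))
      (fun e => hu₃au₁ (by have := hcan _ _ _ e; rw [this, hQc]))
      (fun e => hu₃u₂ (mul_left_cancel e))
      (fun e => hu₃au₂ (by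
        have h1 : u₁ * u₃ = u₁ * (a * u₂) := by
          rw [e, ← mul_assoc, ← mul_assoc, hQc a u₁]
        exact mul_left_cancel h1))
      (by rw [hbr, hb₁, hb₂, one_mul]) (by rw [hbr, hb₁, hb₃, one_mul])
    rwa [hbl, hbr, hbr, hbaa, one_mul, hbsymm u₂ u₁, ← hp, ← hq, ← hr, ← mul_assoc] at h
  -- contradiction in the four-group `W`
  have hpq' : p ≠ q := fun e => hpq (by rw [e, hWs])
  have hpr' : p ≠ r := fun e => hpr (by rw [e, hWs])
  have hqr' : q ≠ r := fun e => hqr (by rw [e, hWs])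
  have hS : ({1, p, q, r} : Finset W).card = 4 := by
    rw [Finset.card_insert_of_notMem, Finset.card_insert_of_notMem,
      Finset.card_insert_of_notMem, Finset.card_singleton]
    all_goals
      simp only [Finset.mem_insert, Finset.mem_singleton, not_or]
      first
        | exact ⟨hp1.symm, hq1.symm, hr1.symm⟩
        | exact ⟨hpq', hpr'⟩
        | exact hqr'
  have huniv := Finset.eq_univ_of_card _ (hS.trans (by rw [← hW, Nat.card_eq_fintype_card]))
  have hm : p * q ∈ (Finset.univ : Finset W) := Finset.mem_univ _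
  rw [← huniv] at hm
  simp only [Finset.mem_insert, Finset.mem_singleton] at hm
  rcases hm with e | e | e | e
  · exact hpq e
  · exact hq1 (mul_eq_left.mp e)
  · exact hp1 (mul_eq_right.mp e)
  · apply hqpr
    rw [hWc q p, e, hWs]

end main

end Cfsg.Agent.Lib.Helper4.Tw
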