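import Mathlib
import Cfsg.Agent.Lib.Helper4.Tw1
import Cfsg.Agent.Lib.Helper1.ClassTwo

set_option autoImplicit false

/-! # Fixed-point-free automorphisms of `3`-power order: four-groups and the centre (for S1237) -/

namespace Cfsg.Agent.Lib.Helper4.Tw

open Cfsg.Agent.Lib.Helper7.Q64 (SInv)
open Cfsg.Agent.Lib.Helper1 (CommCentral)
open scoped commutatorElement

theorem two_pow_cases {n k : ℕ} (hn : n = 2 ^ k) (h3 : n % 3 = 1) (hle : n ≤ 128) :
    n = 1 ∨ n = 4 ∨ n = 16 ∨ n = 64 := by
  have hk : k ≤ 7 := by
    by_contra hk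
    push Not at hk
    have : 2 ^ 8 ≤ 2 ^ k := Nat.pow_le_pow_right (by norm_num) hk
    omega
  interval_cases k <;> simp_all

variable {X : Type*} [Group X]

namespace F3

variable {α : MulAut X} (h : F3 α)
include h

theorem sq_fpf (x : X) (hx : α (α x) = x) : x = 1 := by
  obtain ⟨a, ha⟩ := h.pw
  have hodd : Odd (3 ^ a) := Odd.pow (by decide)
  obtain ⟨m, hm⟩ := hodd
  have h1 : (α ^ 2) ^ (m + 1) = α := by
    rw [← pow_mul, show 2 * (m + 1) = 3 ^ a + 1 by omega, pow_succ, ha, one_mul]
  have h2 : ∀ k : ℕ, ((α ^ 2) ^ k) x = x := by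
    intro k
    induction k with
    | zero => simp
    | succ k ih =>
      rw [pow_succ, MulAut.mul_apply]
      have : (α ^ 2) x = x := by rw [pow_two, MulAut.mul_apply]; exact hx
      rw [this, ih]
  have h3 := h2 (m + 1)
  rw [h1] at h3
  exact h.fpf x h3

/-- a group of order four with such an automorphism -/
theorem four [Finite X] (hc : Nat.card X = 4) {u : X} (hu : u ≠ 1) :
    α (α (α u)) = u ∧ ∀ y : X, y = 1 ∨ y = u ∨ y = α u ∨ y = α (α u) := by
  classical
  have : Fintype X := Fintype.ofFinite _
  have d1 : α u ≠ u := h.ne_of_ne_one hu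
  have d2 : α (α u) ≠ α u := fun e => d1 (α.injective e)
  have d3 : α (α u) ≠ u := fun e => hu (h.sq_fpf u e)
  have d4 : α u ≠ 1 := map_ne_one hu
  have d5 : α (α u) ≠ 1 := map_ne_one d4
  have hS : ({1, u, α u, α (α u)} : Finset X).card = 4 := by
    rw [Finset.card_insert_of_notMem, Finset.card_insert_of_notMem,
      Finset.card_insert_of_notMem, Finset.card_singleton]
    all_goals
      simp only [Finset.mem_insert, Finset.mem_singleton, not_or]
      first
        | exact ⟨hu.symm, d4.symm, d5.symm⟩
        | exact ⟨d1.symm, d3.symm⟩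
        | exact d2.symm
  have huniv := Finset.eq_univ_of_card _
    (hS.trans (by rw [← hc, Nat.card_eq_fintype_card]))
  have hall : ∀ y : X, y = 1 ∨ y = u ∨ y = α u ∨ y = α (α u) := by
    intro y
    have hm : y ∈ (Finset.univ : Finset X) := Finset.mem_univ _
    rw [← huniv] at hm
    simp only [Finset.mem_insert, Finset.mem_singleton] at hm
    exact hm
  refine ⟨?_, hall⟩
  rcases hall (α (α (α u))) with e | e | e | e
  · exact absurd e (map_ne_one d5)
  · exact e
  · exact absurd (α.injective e) d3
  · exact absurd (α.injective e) d2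

/-- in a four-group all elements are involutions -/
theorem four_sq [Finite X] (hc : Nat.card X = 4) (y : X) : y ^ 2 = 1 := by
  by_contra hy
  have hy1 : y ≠ 1 := fun e => hy (by rw [e, one_pow])
  have hy2 : y ^ 2 ≠ 1 := hy
  have hy4 : y ^ 4 = 1 := by rw [← hc]; exact pow_card_eq_one'
  obtain ⟨-, hall⟩ := h.four hc hy1
  have hord : ∀ z : X, z ^ 2 = 1 → (α z) ^ 2 = 1 := fun z hz => by rw [← map_pow, hz, map_one]
  have hord' : ∀ z : X, (α z) ^ 2 = 1 → z ^ 2 = 1 := fun z hz => by
    rw [← map_pow] at hz
    exact α.injective (hz.trans (map_one α).symm)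
  have hsq : (y ^ 2) ^ 2 = 1 := by rw [← pow_mul]; exact hy4
  rcases hall (y ^ 2) with e | e | e | e
  · exact hy2 e
  · rw [e] at hsq; exact hy hsq
  · rw [e] at hsq; exact hy (hord' _ hsq)
  · rw [e] at hsq; exact hy (hord' _ (hord' _ hsq))

/-- the product relation in a four-group -/
theorem four_mul [Finite X] (hc : Nat.card X = 4) {u : X} (hu : u ≠ 1) :
    u * α u = α (α u) := by
  obtain ⟨-, hall⟩ := h.four hc hu
  have hu2 : u * u = 1 := by rw [← pow_two]; exact h.four_sq hc u
  rcases hall (u * α u) with e | e | e | e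
  · exfalso
    have : α u = u := by
      have h1 : α u = u⁻¹ := eq_inv_of_mul_eq_one_right e
      rw [h1]; exact inv_eq_of_mul_eq_one_left hu2
    exact h.ne_of_ne_one hu this
  · exact absurd (mul_eq_left.mp e) (map_ne_one hu)
  · exact absurd (mul_eq_right.mp e) hu
  · exact e

theorem index_mod [Finite X] (H : Subgroup X) (hH : SInv α H) : H.index % 3 = 1 := by
  have h1 := H.card_mul_index
  have h2 := h.card_mod H hH
  have h3 := h.card_mod_top
  have h4 : (Nat.card H * H.index) % 3 = 1 := by rw [h1]; exact h3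
  rw [Nat.mul_mod, h2, one_mul, Nat.mod_mod] at h4
  exact h4

/-- the centre has index one or at least sixteen -/
theorem comm_of_center_index [Finite X] (hidx : (Subgroup.center X).index ≤ 4) :
    ∀ a b : X, a * b = b * a := by
  have hm := h.index_mod _ (center_sinv (α := α))
  have hpos : (Subgroup.center X).index ≠ 0 := Subgroup.index_ne_zero_of_finite
  have hcases : (Subgroup.center X).index = 1 ∨ (Subgroup.center X).index = 4 := by omega
  rcases hcases with h1 | h4
  · intro a b
    have htop := Subgroup.index_eq_one.mp h1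
    have hb : b ∈ Subgroup.center X := by rw [htop]; exact Subgroup.mem_top b
    exact Subgroup.mem_center_iff.mp hb a
  · exfalso
    have hq4 : Nat.card (X ⧸ Subgroup.center X) = 4 := by
      rw [← Subgroup.index_eq_card]; exact h4
    obtain ⟨β, hβ, hβf⟩ := h.quot (Subgroup.center X) (center_sinv (α := α))
    have hqc : ∀ a b : X ⧸ Subgroup.center X, a * b = b * a := by
      have : Fact (Nat.Prime 2) := ⟨Nat.prime_two⟩
      have hmc : IsMulCommutative (X ⧸ Subgroup.center X) :=
        IsPGroup.isMulCommutative_of_card_eq_prime_sq (p := 2) (by rw [hq4]; norm_num)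
      exact fun a b => hmc.is_comm.comm a b
    have hZc : ∀ x y : X, ⁅x, y⁆ ∈ Subgroup.center X := by
      intro x y
      rw [← QuotientGroup.eq_one_iff]
      rw [commutatorElement_def, QuotientGroup.mk_mul, QuotientGroup.mk_mul, QuotientGroup.mk_mul,
        QuotientGroup.mk_inv, QuotientGroup.mk_inv, hqc (QuotientGroup.mk x) (QuotientGroup.mk y)]
      group
    have cc : CommCentral X := by
      intro x y z
      exact (Subgroup.mem_center_iff.mp (hZc x y) z).symm
    obtain ⟨u, hu⟩ : ∃ u : X, u ∉ Subgroup.center X := by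
      by_contra hall
      push Not at hall
      have htop : Subgroup.center X = ⊤ := (Subgroup.eq_top_iff' _).mpr hall
      rw [htop, Subgroup.index_top] at h4
      omega
    have hu1 : (QuotientGroup.mk u : X ⧸ Subgroup.center X) ≠ 1 := by
      intro e; exact hu ((QuotientGroup.eq_one_iff u).mp e)
    obtain ⟨-, hall⟩ := hβf.four hq4 hu1
    have hmul := hβf.four_mul hq4 hu1
    rw [hβ, hβ, ← QuotientGroup.mk_mul] at hmul
    -- `α (α u) = u * α u * z`
    have hz : (u * α u)⁻¹ * α (α u) ∈ Subgroup.center X := QuotientGroup.eq.mp hmul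
    obtain ⟨z, hzdef⟩ : ∃ z : X, z = (u * α u)⁻¹ * α (α u) := ⟨_, rfl⟩
    have hzZ : z ∈ Subgroup.center X := hzdef ▸ hz
    have hααu : α (α u) = u * α u * z := by rw [hzdef]; group
    obtain ⟨c, hc⟩ : ∃ c : X, c = ⁅u, α u⁆ := ⟨_, rfl⟩
    have hcz : ∀ w : X, ⁅w, z⁆ = 1 := fun w =>
      commutatorElement_eq_one_iff_mul_comm.mpr (Subgroup.mem_center_iff.mp hzZ w)
    have hαc : α c = c⁻¹ := by
      rw [hc, map_commutatorElement, hααu, cc.comm_mul_right, cc.comm_mul_right, hcz, mul_one,
        commutatorElement_self, mul_one, commutatorElement_inv]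
    have hc1 : c = 1 := by
      apply h.sq_fpf
      rw [hαc, map_inv, hαc, inv_inv]
    have huv : u * α u = α u * u := commutatorElement_eq_one_iff_mul_comm.mp (hc ▸ hc1)
    apply hu
    rw [Subgroup.mem_center_iff]
    intro g
    -- `g` lies in one of the four cosets
    have hcos : ∀ w : X, (QuotientGroup.mk g : X ⧸ Subgroup.center X) = QuotientGroup.mk w →
        u * w = w * u → g * u = u * g := by
      intro w hw hwu
      have h1 : w⁻¹ * g ∈ Subgroup.center X := QuotientGroup.eq.mp hw.symm
      have h2 := Subgroup.mem_center_iff.mp h1 u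
      obtain ⟨k, hk⟩ : ∃ k : X, k = w⁻¹ * g := ⟨_, rfl⟩
      rw [← hk] at h2
      have hg : g = w * k := by rw [hk]; group
      calc g * u = w * (k * u) := by rw [hg, mul_assoc]
        _ = w * (u * k) := by rw [h2]
        _ = (w * u) * k := by rw [mul_assoc]
        _ = (u * w) * k := by rw [hwu]
        _ = u * g := by rw [hg, mul_assoc]
    rcases hall (QuotientGroup.mk g) with e | e | e | e
    · exact hcos 1 e (by rw [mul_one, one_mul])
    · exact hcos u e rfl
    · rw [hβ] at e
      exact hcos (α u) e huv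
    · rw [hβ, hβ] at e
      refine hcos (α (α u)) e ?_
      rw [hααu]
      have hzu := Subgroup.mem_center_iff.mp hzZ u
      calc u * (u * α u * z) = u * (α u * u) * z := by rw [← huv]; group
        _ = u * α u * (u * z) := by group
        _ = u * α u * (z * u) := by rw [hzu]
        _ = u * α u * z * u := by group

end F3

end Cfsg.Agent.Lib.Helper4.Tw
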