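import Mathlib
import Cfsg.Agent.Lib.Helper4.Tw2
import Cfsg.Agent.Lib.Helper4.Tw3

set_option autoImplicit false

/-! # The standing hypotheses for S1237 and the bound `|T| ≤ 128` in the elementary case -/

namespace Cfsg.Agent.Lib.Helper4.Tw

open Cfsg.Agent.Lib.Helper7.Q64 (SInv)
open Cfsg.Agent.Lib.Helper1 (CommCentral)
open scoped commutatorElement

universe u

/-- the central elements of order at most two -/
def Om (T : Type*) [Group T] : Subgroup T where
  carrier := {x | x ∈ Subgroup.center T ∧ x ^ 2 = 1}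
  one_mem' := ⟨one_mem _, one_pow 2⟩
  mul_mem' := by
    rintro a b ⟨ha, ha2⟩ ⟨hb, hb2⟩
    refine ⟨mul_mem ha hb, ?_⟩
    have hc : Commute a b := (Subgroup.mem_center_iff.mp ha b).symm
    rw [hc.mul_pow, ha2, hb2, one_mul]
  inv_mem' := by
    rintro a ⟨ha, ha2⟩
    exact ⟨inv_mem ha, by rw [inv_pow, ha2, inv_one]⟩

section defs

variable {T : Type*} [Group T]

theorem mem_Om (x : T) : x ∈ Om T ↔ x ∈ Subgroup.center T ∧ x ^ 2 = 1 := Iff.rfl

theorem Om_le_center : Om T ≤ Subgroup.center T := fun _ hx => hx.1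

theorem Om_sq {x : T} (hx : x ∈ Om T) : x ^ 2 = 1 := hx.2

theorem Om_mul_self {x : T} (hx : x ∈ Om T) : x * x = 1 := by rw [← pow_two]; exact hx.2

theorem Om_inv {x : T} (hx : x ∈ Om T) : x⁻¹ = x := inv_eq_of_mul_eq_one_left (Om_mul_self hx)

theorem Om_comm {x : T} (hx : x ∈ Om T) (g : T) : g * x = x * g :=
  Subgroup.mem_center_iff.mp hx.1 g

instance Om_normal : (Om T).Normal := by
  constructor
  intro n hn g
  have h1 : g * n * g⁻¹ = n := by rw [Om_comm hn g]; group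
  rw [h1]; exact hn

theorem Om_sinv (α : MulAut T) : SInv α (Om T) := by
  intro x hx
  exact ⟨F3.center_sinv x hx.1, by rw [← map_pow, hx.2, map_one]⟩

/-- the standing hypotheses -/
structure Hyp (α : MulAut T) : Prop where
  pg : IsPGroup 2 T
  f3 : F3 α
  cen : ∀ x : T, x ^ 2 = 1 → x ∈ Subgroup.center T
  card : Nat.card (Om T) = 4

/-- the quotient by `Om` is elementary abelian -/
def Elem (T : Type*) [Group T] : Prop := (∀ x : T, x ^ 2 ∈ Om T) ∧ ∀ x y : T, ⁅x, y⁆ ∈ Om T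

theorem mem_Om_of_sq (hcen : ∀ x : T, x ^ 2 = 1 → x ∈ Subgroup.center T) {x : T}
    (hx : x ^ 2 = 1) : x ∈ Om T := ⟨hcen x hx, hx⟩

theorem commCentral_of_comm_mem (hc : ∀ x y : T, ⁅x, y⁆ ∈ Om T) : CommCentral T := by
  intro x y z
  exact (Om_comm (hc x y) z).symm

theorem comm_symm_of_mem {x y : T} (hc : ⁅x, y⁆ ∈ Om T) : ⁅y, x⁆ = ⁅x, y⁆ := by
  rw [← commutatorElement_inv, Om_inv hc]

/-- congruent elements have the same square -/
theorem sq_eq_of_mem {x y : T} (h : x⁻¹ * y ∈ Om T) : y ^ 2 = x ^ 2 := by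
  obtain ⟨w, hw⟩ : ∃ w : T, w = x⁻¹ * y := ⟨_, rfl⟩
  rw [← hw] at h
  have hy : y = x * w := by rw [hw]; group
  have hc : Commute x w := (Om_comm h x)
  rw [hy, hc.mul_pow, Om_sq h, mul_one]

theorem comm_left_eq_of_mem {x y : T} (h : x⁻¹ * y ∈ Om T) (z : T) : ⁅y, z⁆ = ⁅x, z⁆ := by
  obtain ⟨w, hw⟩ : ∃ w : T, w = x⁻¹ * y := ⟨_, rfl⟩
  rw [← hw] at h
  have hy : y = x * w := by rw [hw]; group
  have h1 : w * z = z * w := (Om_comm h z).symm
  have h2 : w * z⁻¹ = z⁻¹ * w := (Om_comm h z⁻¹).symm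
  rw [hy, commutatorElement_def, commutatorElement_def]
  calc x * w * z * (x * w)⁻¹ * z⁻¹ = x * (w * z) * w⁻¹ * x⁻¹ * z⁻¹ := by group
    _ = x * (z * w) * w⁻¹ * x⁻¹ * z⁻¹ := by rw [h1]
    _ = x * z * x⁻¹ * z⁻¹ := by group

theorem comm_right_eq_of_mem {x y : T} (h : x⁻¹ * y ∈ Om T) (z : T) : ⁅z, y⁆ = ⁅z, x⁆ := by
  rw [← commutatorElement_inv y z, ← commutatorElement_inv x z, comm_left_eq_of_mem h z]

end defs

section bound

variable {T : Type u} [Group T] [Finite T]

/-- the bound `|T| ≤ 128` when `T / Om T` is elementary abelian -/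
theorem card_le_of_elem (hcen : ∀ x : T, x ^ 2 = 1 → x ∈ Subgroup.center T)
    (hcard : Nat.card (Om T) = 4) (hE : Elem T) : Nat.card T ≤ 128 := by
  have cc : CommCentral T := commCentral_of_comm_mem hE.2
  have hout : ∀ x : T, x⁻¹ * (Quotient.out (QuotientGroup.mk x : T ⧸ Om T)) ∈ Om T := by
    intro x
    rw [← QuotientGroup.eq, QuotientGroup.out_eq']
  have houtmul : ∀ a c : T ⧸ Om T,
      (Quotient.out a * Quotient.out c)⁻¹ * Quotient.out (a * c) ∈ Om T := by
    intro a c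
    have h := hout (Quotient.out a * Quotient.out c)
    rwa [QuotientGroup.mk_mul, QuotientGroup.out_eq', QuotientGroup.out_eq'] at h
  let s : T ⧸ Om T → ↥(Om T) := fun q => ⟨(Quotient.out q) ^ 2, hE.1 _⟩
  let b : T ⧸ Om T → T ⧸ Om T → ↥(Om T) := fun q q' => ⟨⁅Quotient.out q, Quotient.out q'⁆, hE.2 _ _⟩
  have hQ : Nat.card (T ⧸ Om T) ≤ 32 := by
    apply card_le_of_aniso (W := ↥(Om T)) hcard (fun w => Subtype.ext (Om_sq w.2)) ?_ s b
    · intro a c
      apply Subtype.ext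
      show (Quotient.out (a * c)) ^ 2 =
        (Quotient.out a) ^ 2 * (Quotient.out c) ^ 2 * ⁅Quotient.out a, Quotient.out c⁆
      rw [sq_eq_of_mem (houtmul a c), cc.mul_pow_eq, Nat.choose_self, pow_one,
        comm_symm_of_mem (hE.2 _ _)]
    · intro a a' c
      apply Subtype.ext
      show ⁅Quotient.out (a * a'), Quotient.out c⁆ =
        ⁅Quotient.out a, Quotient.out c⁆ * ⁅Quotient.out a', Quotient.out c⁆
      rw [comm_left_eq_of_mem (houtmul a a'), cc.comm_mul_left]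
    · intro a c c'
      apply Subtype.ext
      show ⁅Quotient.out a, Quotient.out (c * c')⁆ =
        ⁅Quotient.out a, Quotient.out c⁆ * ⁅Quotient.out a, Quotient.out c'⁆
      rw [comm_right_eq_of_mem (houtmul c c'), cc.comm_mul_right]
    · intro a ha
      have h1 : (Quotient.out a) ^ 2 = 1 := congrArg Subtype.val ha
      have h2 : Quotient.out a ∈ Om T := mem_Om_of_sq hcen h1
      rw [← QuotientGroup.out_eq' a]
      exact (QuotientGroup.eq_one_iff _).mpr h2
    · intro q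
      obtain ⟨x, rfl⟩ := QuotientGroup.mk_surjective q
      rw [← QuotientGroup.mk_pow]
      exact (QuotientGroup.eq_one_iff _).mpr (hE.1 x)
  have h1 := Subgroup.card_eq_card_quotient_mul_card_subgroup (Om T)
  rw [h1, hcard]
  omega

end bound

end Cfsg.Agent.Lib.Helper4.Tw
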