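import Mathlib
import Cfsg.Agent.Lib.Helper4.Tw4

set_option autoImplicit false

/-! # Subgroups, squaring and commutator homomorphisms (for S1237) -/

namespace Cfsg.Agent.Lib.Helper4.Tw

open Cfsg.Agent.Lib.Helper7.Q64 (SInv)
open Cfsg.Agent.Lib.Helper1 (CommCentral)
open scoped commutatorElement

universe u

section sub

variable {T : Type u} [Group T]

theorem mem_Om_sub (hcen : ∀ x : T, x ^ 2 = 1 → x ∈ Subgroup.center T) (H : Subgroup T)
    (y : ↥H) : y ∈ Om ↥H ↔ (y : T) ∈ Om T := by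
  constructor
  · rintro ⟨-, h2⟩
    have h3 : (y : T) ^ 2 = 1 := by
      have := congrArg Subtype.val h2
      simpa using this
    exact mem_Om_of_sq hcen h3
  · rintro ⟨h1, h2⟩
    refine ⟨?_, ?_⟩
    · rw [Subgroup.mem_center_iff]
      intro g
      exact Subtype.ext (Subgroup.mem_center_iff.mp h1 (g : T))
    · apply Subtype.ext
      simpa using h2

theorem card_Om_sub (hcen : ∀ x : T, x ^ 2 = 1 → x ∈ Subgroup.center T) (H : Subgroup T)
    (hΩ : Om T ≤ H) : Nat.card (Om ↥H) = Nat.card (Om T) := by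
  apply Nat.card_congr
  exact
    { toFun := fun y => ⟨((y : ↥H) : T), (mem_Om_sub hcen H y.1).mp y.2⟩
      invFun := fun w => ⟨⟨(w : T), hΩ w.2⟩, (mem_Om_sub hcen H _).mpr w.2⟩
      left_inv := fun y => rfl
      right_inv := fun w => rfl }

theorem elem_sub (hcen : ∀ x : T, x ^ 2 = 1 → x ∈ Subgroup.center T) (H : Subgroup T)
    (hsq : ∀ x ∈ H, x ^ 2 ∈ Om T) (hcm : ∀ x ∈ H, ∀ y ∈ H, ⁅x, y⁆ ∈ Om T) : Elem ↥H := by
  refine ⟨fun x => ?_, fun x y => ?_⟩
  · rw [mem_Om_sub hcen]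
    simpa using hsq x x.2
  · rw [mem_Om_sub hcen]
    have : ((⁅x, y⁆ : ↥H) : T) = ⁅(x : T), (y : T)⁆ := by
      simp [commutatorElement_def]
    rw [this]
    exact hcm x x.2 y y.2

theorem elem_sub_iff (hcen : ∀ x : T, x ^ 2 = 1 → x ∈ Subgroup.center T) (H : Subgroup T)
    (hE : Elem ↥H) : (∀ x ∈ H, x ^ 2 ∈ Om T) ∧ (∀ x ∈ H, ∀ y ∈ H, ⁅x, y⁆ ∈ Om T) := by
  refine ⟨fun x hx => ?_, fun x hx y hy => ?_⟩
  · have h1 := (mem_Om_sub hcen H _).mp (hE.1 ⟨x, hx⟩)
    simpa using h1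
  · have h1 := (mem_Om_sub hcen H _).mp (hE.2 ⟨x, hx⟩ ⟨y, hy⟩)
    have : ((⁅(⟨x, hx⟩ : ↥H), (⟨y, hy⟩ : ↥H)⁆ : ↥H) : T) = ⁅x, y⁆ := by
      simp [commutatorElement_def]
    rw [this] at h1
    exact h1

variable [Finite T]

/-- the hypotheses pass to invariant subgroups containing `Om` -/
theorem Hyp.sub {α : MulAut T} (h : Hyp α) (H : Subgroup T) (hH : SInv α H) (hΩ : Om T ≤ H) :
    ∃ β : MulAut ↥H, (∀ y : ↥H, ((β y : ↥H) : T) = α (y : T)) ∧ Hyp β := by
  obtain ⟨β, hβ, hβf⟩ := h.f3.restrict H hH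
  refine ⟨β, hβ, h.pg.to_subgroup H, hβf, ?_, ?_⟩
  · intro x hx
    have h3 : (x : T) ^ 2 = 1 := by
      have := congrArg Subtype.val hx
      simpa using this
    have h4 := h.cen _ h3
    rw [Subgroup.mem_center_iff]
    intro g
    exact Subtype.ext (Subgroup.mem_center_iff.mp h4 (g : T))
  · rw [card_Om_sub h.cen H hΩ, h.card]

theorem card_le_of_elem_sub {α : MulAut T} (h : Hyp α) (H : Subgroup T) (hΩ : Om T ≤ H)
    (hsq : ∀ x ∈ H, x ^ 2 ∈ Om T) (hcm : ∀ x ∈ H, ∀ y ∈ H, ⁅x, y⁆ ∈ Om T) :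
    Nat.card H ≤ 128 := by
  have hcen' : ∀ x : ↥H, x ^ 2 = 1 → x ∈ Subgroup.center ↥H := by
    intro x hx
    have h3 : (x : T) ^ 2 = 1 := by
      have := congrArg Subtype.val hx
      simpa using this
    have h4 := h.cen _ h3
    rw [Subgroup.mem_center_iff]
    intro g
    exact Subtype.ext (Subgroup.mem_center_iff.mp h4 (g : T))
  exact card_le_of_elem hcen' (by rw [card_Om_sub h.cen H hΩ, h.card]) (elem_sub h.cen H hsq hcm)

theorem Hyp.card_cases {α : MulAut T} (h : Hyp α) (H : Subgroup T) (hH : SInv α H)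
    (hle : Nat.card H ≤ 128) :
    Nat.card H = 1 ∨ Nat.card H = 4 ∨ Nat.card H = 16 ∨ Nat.card H = 64 := by
  have : Fact (Nat.Prime 2) := ⟨Nat.prime_two⟩
  obtain ⟨k, hk⟩ := (h.pg.to_subgroup H).exists_card_eq
  exact two_pow_cases hk (h.f3.card_mod H hH) hle

theorem Hyp.Om_le {α : MulAut T} (h : Hyp α) (H : Subgroup T) (hH : SInv α H) (hne : H ≠ ⊥) :
    Om T ≤ H := by
  have : Fact (Nat.Prime 2) := ⟨Nat.prime_two⟩
  -- an involution of `H`
  have hnt : Nontrivial ↥H := (Subgroup.nontrivial_iff_ne_bot H).mpr hne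
  obtain ⟨k, hk⟩ := (h.pg.to_subgroup H).exists_card_eq
  have hk0 : k ≠ 0 := by
    intro e
    rw [e, pow_zero] at hk
    have := Finite.one_lt_card (α := ↥H)
    omega
  have h2 : 2 ∣ Nat.card ↥H := by rw [hk]; exact dvd_pow_self 2 hk0
  obtain ⟨y, hy⟩ := exists_prime_orderOf_dvd_card' 2 h2
  have hy2 : (y : T) ^ 2 = 1 := by
    have := pow_orderOf_eq_one y
    rw [hy] at this
    have := congrArg Subtype.val this
    simpa using this
  have hy1 : (y : T) ≠ 1 := by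
    intro e
    have : y = 1 := Subtype.ext e
    rw [this, orderOf_one] at hy
    omega
  have hyΩ : (y : T) ∈ Om T := mem_Om_of_sq h.cen hy2
  -- all of `Om T`
  obtain ⟨β, hβ, hβf⟩ := h.f3.restrict (Om T) (Om_sinv α)
  obtain ⟨-, hall⟩ := hβf.four h.card (u := ⟨(y : T), hyΩ⟩) (fun e => hy1 (congrArg Subtype.val e))
  intro w hw
  rcases hall ⟨w, hw⟩ with e | e | e | e
  · have := congrArg Subtype.val e
    simp only [Subgroup.coe_one] at this
    rw [this]; exact H.one_mem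
  · have := congrArg Subtype.val e
    simp only at this
    rw [this]; exact y.2
  · have := congrArg Subtype.val e
    rw [hβ] at this
    simp only at this
    rw [this]; exact hH _ y.2
  · have := congrArg Subtype.val e
    rw [hβ, hβ] at this
    simp only at this
    rw [this]; exact hH _ (hH _ y.2)

end sub

section sq

variable {T : Type u} [Group T]

/-- squaring on an elementwise commutative subgroup -/
def sqHomOn (B : Subgroup T) (hB : ∀ a ∈ B, ∀ b ∈ B, a * b = b * a) : ↥B →* T where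
  toFun b := (b : T) ^ 2
  map_one' := one_pow 2
  map_mul' a b := by
    have hc : Commute (a : T) (b : T) := hB a a.2 b b.2
    simp only [Subgroup.coe_mul]
    exact hc.mul_pow 2

theorem sqHomOn_apply (B : Subgroup T) (hB : ∀ a ∈ B, ∀ b ∈ B, a * b = b * a) (b : ↥B) :
    sqHomOn B hB b = (b : T) ^ 2 := rfl

theorem mem_sqHomOn_range (B : Subgroup T) (hB : ∀ a ∈ B, ∀ b ∈ B, a * b = b * a) (y : T) :
    y ∈ (sqHomOn B hB).range ↔ ∃ b ∈ B, b ^ 2 = y := by
  constructor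
  · rintro ⟨b, rfl⟩
    exact ⟨b, b.2, rfl⟩
  · rintro ⟨b, hb, rfl⟩
    exact ⟨⟨b, hb⟩, rfl⟩

variable [Finite T]

theorem card_ker_sqHomOn_le (hcen : ∀ x : T, x ^ 2 = 1 → x ∈ Subgroup.center T)
    (B : Subgroup T) (hB : ∀ a ∈ B, ∀ b ∈ B, a * b = b * a) :
    Nat.card (sqHomOn B hB).ker ≤ Nat.card (Om T) := by
  apply Nat.card_le_card_of_injective
    (fun k : ↥(sqHomOn B hB).ker => (⟨((k : ↥B) : T), mem_Om_of_sq hcen (by
      have := k.2
      rw [MonoidHom.mem_ker, sqHomOn_apply] at this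
      exact this)⟩ : ↥(Om T)))
  intro a b hab
  have := congrArg Subtype.val hab
  exact Subtype.ext (Subtype.ext this)

theorem card_ker_sqHomOn (hcen : ∀ x : T, x ^ 2 = 1 → x ∈ Subgroup.center T)
    (B : Subgroup T) (hB : ∀ a ∈ B, ∀ b ∈ B, a * b = b * a) (hΩ : Om T ≤ B) :
    Nat.card (sqHomOn B hB).ker = Nat.card (Om T) := by
  apply le_antisymm (card_ker_sqHomOn_le hcen B hB)
  apply Nat.card_le_card_of_injective
    (fun w : ↥(Om T) => (⟨⟨(w : T), hΩ w.2⟩, by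
      rw [MonoidHom.mem_ker, sqHomOn_apply]
      exact Om_sq w.2⟩ : ↥(sqHomOn B hB).ker))
  intro a b hab
  have := congrArg (fun k : ↥(sqHomOn B hB).ker => ((k : ↥B) : T)) hab
  exact Subtype.ext this

omit [Finite T] in
theorem card_eq_ker_mul_range (B : Subgroup T) (hB : ∀ a ∈ B, ∀ b ∈ B, a * b = b * a) :
    Nat.card B = Nat.card (sqHomOn B hB).ker * Nat.card (sqHomOn B hB).range := by
  rw [← Subgroup.index_ker, Subgroup.card_mul_index]

/-- an elementwise commutative subgroup whose squares lie in `Om` has order at most 16 -/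
theorem card_le_sixteen (hcen : ∀ x : T, x ^ 2 = 1 → x ∈ Subgroup.center T)
    (hcard : Nat.card (Om T) = 4) (B : Subgroup T) (hB : ∀ a ∈ B, ∀ b ∈ B, a * b = b * a)
    (hsq : ∀ b ∈ B, b ^ 2 ∈ Om T) : Nat.card B ≤ 16 := by
  rw [card_eq_ker_mul_range B hB]
  have h1 := card_ker_sqHomOn_le hcen B hB
  have h2 : Nat.card (sqHomOn B hB).range ≤ Nat.card (Om T) := by
    apply Subgroup.card_le_of_le
    rintro y ⟨b, rfl⟩
    exact hsq b b.2
  rw [hcard] at h1 h2
  calc _ ≤ 4 * 4 := Nat.mul_le_mul h1 h2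
    _ = 16 := by norm_num

/-- in a commutative subgroup of order 16 containing `Om` with squares in `Om`, every element
of `Om` is a square -/
theorem exists_sq_eq (hcen : ∀ x : T, x ^ 2 = 1 → x ∈ Subgroup.center T)
    (hcard : Nat.card (Om T) = 4) (B : Subgroup T) (hB : ∀ a ∈ B, ∀ b ∈ B, a * b = b * a)
    (hΩ : Om T ≤ B) (h16 : Nat.card B = 16) (hsq : ∀ b ∈ B, b ^ 2 ∈ Om T) :
    ∀ w ∈ Om T, ∃ e ∈ B, e ^ 2 = w := by
  have h1 := card_eq_ker_mul_range B hB
  rw [card_ker_sqHomOn hcen B hB hΩ, hcard, h16] at h1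
  have h2 : Nat.card (sqHomOn B hB).range = 4 := by omega
  have hle : (sqHomOn B hB).range ≤ Om T := by
    rintro y ⟨b, rfl⟩
    exact hsq b b.2
  have heq : (sqHomOn B hB).range = Om T :=
    Subgroup.eq_of_le_of_card_ge hle (by rw [h2, hcard])
  intro w hw
  rw [← heq] at hw
  exact (mem_sqHomOn_range B hB w).mp hw

end sq

section commhom

variable {T : Type u} [Group T]

/-- commutation with an element all of whose commutators lie in `Om` -/
def commHom (e : T) (he : ∀ g : T, ⁅g, e⁆ ∈ Om T) : T →* ↥(Om T) where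
  toFun g := ⟨⁅g, e⁆, he g⟩
  map_one' := Subtype.ext (by simp [commutatorElement_def])
  map_mul' g g' := by
    apply Subtype.ext
    show ⁅g * g', e⁆ = ⁅g, e⁆ * ⁅g', e⁆
    have e1 : ⁅g * g', e⁆ = g * ⁅g', e⁆ * g⁻¹ * ⁅g, e⁆ := by
      simp only [commutatorElement_def]; group
    rw [e1, Om_comm (he g') g, mul_inv_cancel_right]
    exact Om_comm (he g) _

theorem commHom_apply (e : T) (he : ∀ g : T, ⁅g, e⁆ ∈ Om T) (g : T) :
    ((commHom e he g : ↥(Om T)) : T) = ⁅g, e⁆ := rfl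

theorem Om_sub_comm (a b : ↥(Om T)) : a * b = b * a :=
  Subtype.ext (Om_comm b.2 (a : T))

theorem comm_sq_eq_one (e : T) (he : ∀ g : T, ⁅g, e⁆ ∈ Om T) (g : T) : ⁅g ^ 2, e⁆ = 1 := by
  have h1 : commHom e he (g ^ 2) = 1 := by
    rw [map_pow]
    exact Subtype.ext (Om_sq (commHom e he g).2)
  exact congrArg Subtype.val h1

theorem comm_comm_eq_one (e : T) (he : ∀ g : T, ⁅g, e⁆ ∈ Om T) (s t : T) : ⁅⁅s, t⁆, e⁆ = 1 := by
  have h1 : commHom e he ⁅s, t⁆ = 1 := by
    rw [map_commutatorElement, commutatorElement_eq_one_iff_mul_comm]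
    exact Om_sub_comm _ _
  exact congrArg Subtype.val h1

theorem comm_mul_eq (e : T) (he : ∀ g : T, ⁅g, e⁆ ∈ Om T) (s t : T) :
    ⁅s * t, e⁆ = ⁅s, e⁆ * ⁅t, e⁆ := by
  have h1 := map_mul (commHom e he) s t
  exact congrArg Subtype.val h1

end commhom

end Cfsg.Agent.Lib.Helper4.Tw
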