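import Mathlib
import Cfsg.Agent.Lib.Helper4.Tw5
import Cfsg.Agent.Lib.Helper8.Ext1

set_option autoImplicit false

/-! # The subgroup `E` with `E / Om = Ω₁ Z(T / Om)` and the case `|E| = 64` (for S1237) -/

namespace Cfsg.Agent.Lib.Helper4.Tw

open Cfsg.Agent.Lib.Helper7.Q64 (SInv)
open Cfsg.Agent.Lib.Helper1 (CommCentral)
open scoped commutatorElement

universe u

section esub

variable {T : Type u} [Group T]

/-- the preimage of `Ω₁ Z(T / Om T)` -/
def Esub (T : Type u) [Group T] : Subgroup T :=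
  (Om (T ⧸ Om T)).comap (QuotientGroup.mk' (Om T))

instance Esub_normal : (Esub T).Normal := by
  unfold Esub
  infer_instance

theorem mem_Esub (x : T) : x ∈ Esub T ↔ x ^ 2 ∈ Om T ∧ ∀ g : T, ⁅x, g⁆ ∈ Om T := by
  show (QuotientGroup.mk' (Om T) x) ∈ Om (T ⧸ Om T) ↔ _
  rw [mem_Om]
  constructor
  · rintro ⟨h1, h2⟩
    refine ⟨?_, fun g => ?_⟩
    · rw [← QuotientGroup.eq_one_iff, QuotientGroup.mk_pow]; exact h2
    · rw [← QuotientGroup.eq_one_iff]
      have h3 := Subgroup.mem_center_iff.mp h1 (QuotientGroup.mk' (Om T) g)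
      have h4 := map_commutatorElement (QuotientGroup.mk' (Om T)) x g
      rw [commutatorElement_eq_one_iff_mul_comm.mpr h3.symm] at h4
      exact h4
  · rintro ⟨h1, h2⟩
    refine ⟨?_, ?_⟩
    · rw [Subgroup.mem_center_iff]
      intro q
      obtain ⟨g, rfl⟩ := QuotientGroup.mk'_surjective (Om T) q
      have h4 := map_commutatorElement (QuotientGroup.mk' (Om T)) x g
      have h5 : QuotientGroup.mk' (Om T) ⁅x, g⁆ = 1 := (QuotientGroup.eq_one_iff _).mpr (h2 g)
      rw [h5] at h4
      exact (commutatorElement_eq_one_iff_mul_comm.mp h4.symm).symm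
    · show (QuotientGroup.mk x : T ⧸ Om T) ^ 2 = 1
      rw [← QuotientGroup.mk_pow]
      exact (QuotientGroup.eq_one_iff _).mpr h1

theorem Esub_sq {x : T} (hx : x ∈ Esub T) : x ^ 2 ∈ Om T := ((mem_Esub x).mp hx).1

theorem Esub_comm {x : T} (hx : x ∈ Esub T) (g : T) : ⁅x, g⁆ ∈ Om T := ((mem_Esub x).mp hx).2 g

theorem Esub_comm' {x : T} (hx : x ∈ Esub T) (g : T) : ⁅g, x⁆ ∈ Om T := by
  rw [← commutatorElement_inv]
  exact (Om T).inv_mem (Esub_comm hx g)

theorem Om_le_Esub : Om T ≤ Esub T := by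
  intro x hx
  show (QuotientGroup.mk' (Om T) x) ∈ Om (T ⧸ Om T)
  have : QuotientGroup.mk' (Om T) x = 1 := (QuotientGroup.eq_one_iff _).mpr hx
  rw [this]
  exact one_mem _

theorem Esub_sinv (α : MulAut T) : SInv α (Esub T) := by
  intro x hx
  rw [mem_Esub] at hx ⊢
  refine ⟨?_, fun g => ?_⟩
  · rw [← map_pow]; exact Om_sinv α _ hx.1
  · obtain ⟨g', rfl⟩ := α.surjective g
    rw [← map_commutatorElement]
    exact Om_sinv α _ (hx.2 g')

variable [Finite T]

theorem card_Esub : Nat.card (Esub T) = Nat.card (Om T) * Nat.card (Om (T ⧸ Om T)) := by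
  have h1 : (Esub T).index = (Om (T ⧸ Om T)).index :=
    Subgroup.index_comap_of_surjective _ (QuotientGroup.mk'_surjective (Om T))
  have h2 := (Esub T).card_mul_index
  have h3 := (Om (T ⧸ Om T)).card_mul_index
  have h4 := Subgroup.card_eq_card_quotient_mul_card_subgroup (Om T)
  have hpos : 0 < (Om (T ⧸ Om T)).index := Nat.pos_of_ne_zero Subgroup.index_ne_zero_of_finite
  rw [h1] at h2
  have h5 : Nat.card (Esub T) * (Om (T ⧸ Om T)).index =
      Nat.card (Om T) * Nat.card (Om (T ⧸ Om T)) * (Om (T ⧸ Om T)).index := by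
    rw [h2, h4, ← h3]; ring
  exact Nat.eq_of_mul_eq_mul_right hpos h5

/-- `E` is strictly bigger than `Om` unless `T = Om` -/
theorem exists_mem_Esub (hp : IsPGroup 2 T) (hne : ∃ x : T, x ∉ Om T) :
    ∃ x ∈ Esub T, x ∉ Om T := by
  have : Fact (Nat.Prime 2) := ⟨Nat.prime_two⟩
  have hnt : Nontrivial (T ⧸ Om T) := by
    obtain ⟨x, hx⟩ := hne
    refine ⟨⟨QuotientGroup.mk x, 1, ?_⟩⟩
    intro e
    exact hx ((QuotientGroup.eq_one_iff x).mp e)
  have hq : IsPGroup 2 (T ⧸ Om T) := hp.to_quotient _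
  have hcn : Nontrivial (Subgroup.center (T ⧸ Om T)) := hq.center_nontrivial
  obtain ⟨k, hk⟩ := (hq.to_subgroup (Subgroup.center (T ⧸ Om T))).exists_card_eq
  have hk0 : k ≠ 0 := by
    intro e
    rw [e, pow_zero] at hk
    have := Finite.one_lt_card (α := ↥(Subgroup.center (T ⧸ Om T)))
    omega
  have h2 : 2 ∣ Nat.card ↥(Subgroup.center (T ⧸ Om T)) := by rw [hk]; exact dvd_pow_self 2 hk0
  obtain ⟨z, hz⟩ := exists_prime_orderOf_dvd_card' 2 h2
  have hz2 : (z : T ⧸ Om T) ^ 2 = 1 := by
    have := pow_orderOf_eq_one z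
    rw [hz] at this
    have := congrArg Subtype.val this
    simpa using this
  have hz1 : (z : T ⧸ Om T) ≠ 1 := by
    intro e
    have : z = 1 := Subtype.ext e
    rw [this, orderOf_one] at hz
    omega
  obtain ⟨x, hx⟩ := QuotientGroup.mk'_surjective (Om T) (z : T ⧸ Om T)
  refine ⟨x, ?_, ?_⟩
  · show (QuotientGroup.mk' (Om T) x) ∈ Om (T ⧸ Om T)
    rw [hx]
    exact ⟨z.2, hz2⟩
  · intro hxΩ
    apply hz1
    rw [← hx]
    exact (QuotientGroup.eq_one_iff x).mpr hxΩ

end esub

section case64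

variable {T : Type u} [Group T] [Finite T] {α : MulAut T}

/-- if `|E| = 64` then `T = E`, i.e. `T / Om T` is elementary abelian -/
theorem elem_of_card_Esub (h : Hyp α) (h64 : Nat.card (Esub T) = 64) : Elem T := by
  have : Fact (Nat.Prime 2) := ⟨Nat.prime_two⟩
  -- the centre of `E` is `Om`
  have hstar : ∀ x ∈ Esub T, (∀ y ∈ Esub T, x * y = y * x) → x ∈ Om T := by
    intro x hx hxc
    obtain ⟨β, hβ, hβh⟩ := h.sub (Esub T) (Esub_sinv α) Om_le_Esub
    have hcz := hβh.card_cases (Subgroup.center ↥(Esub T)) F3.center_sinv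
      (le_trans (Subgroup.card_le_card_group _) (by rw [h64]; norm_num))
    have hidx := (Subgroup.center ↥(Esub T)).card_mul_index
    rw [h64] at hidx
    have hOmle : Nat.card (Om ↥(Esub T)) ≤ Nat.card (Subgroup.center ↥(Esub T)) :=
      Subgroup.card_le_of_le Om_le_center
    rw [hβh.card] at hOmle
    -- `E` is not commutative
    have hnc : ¬ ∀ a b : ↥(Esub T), a * b = b * a := by
      intro hab
      have h16 := card_le_sixteen h.cen h.card (Esub T)
        (fun a ha b hb => congrArg Subtype.val (hab ⟨a, ha⟩ ⟨b, hb⟩)) (fun b hb => Esub_sq hb)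
      omega
    have hc4 : Nat.card (Subgroup.center ↥(Esub T)) = 4 := by
      rcases hcz with e | e | e | e
      · omega
      · exact e
      · exfalso
        apply hnc
        apply hβh.f3.comm_of_center_index
        rw [e] at hidx
        omega
      · exfalso
        apply hnc
        apply hβh.f3.comm_of_center_index
        rw [e] at hidx
        omega
    have heq : Om ↥(Esub T) = Subgroup.center ↥(Esub T) :=
      Subgroup.eq_of_le_of_card_ge Om_le_center (by rw [hc4, hβh.card])
    have hxZ : (⟨x, hx⟩ : ↥(Esub T)) ∈ Subgroup.center ↥(Esub T) := by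
      rw [Subgroup.mem_center_iff]
      intro g
      exact Subtype.ext (hxc g g.2).symm
    rw [← heq] at hxZ
    exact (mem_Om_sub h.cen (Esub T) _).mp hxZ
  -- the centralizer of `E` is `Om`
  have hC : Subgroup.centralizer (Esub T : Set T) ≤ Om T := by
    by_contra hcon
    have hN : (Subgroup.centralizer (Esub T : Set T)).map (QuotientGroup.mk' (Om T)) ≠ ⊥ := by
      intro e
      apply hcon
      intro c hc
      have : QuotientGroup.mk' (Om T) c ∈
          (Subgroup.centralizer (Esub T : Set T)).map (QuotientGroup.mk' (Om T)) :=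
        Subgroup.mem_map_of_mem _ hc
      rw [e, Subgroup.mem_bot] at this
      exact (QuotientGroup.eq_one_iff c).mp this
    have hNn : ((Subgroup.centralizer (Esub T : Set T)).map (QuotientGroup.mk' (Om T))).Normal :=
      Subgroup.Normal.map inferInstance _ (QuotientGroup.mk'_surjective (Om T))
    have hq : IsPGroup 2 (T ⧸ Om T) := h.pg.to_quotient _
    -- a central involution in the image
    have hMne : (Subgroup.centralizer (Esub T : Set T)).map (QuotientGroup.mk' (Om T)) ⊓
        Subgroup.center (T ⧸ Om T) ≠ ⊥ := by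
      obtain ⟨x, hxM, hxZ, hx1⟩ := Cfsg.Agent.Lib.Helper8.Ext.normal_inf_center hq _ hN
      intro e
      have : x ∈ (Subgroup.centralizer (Esub T : Set T)).map (QuotientGroup.mk' (Om T)) ⊓
          Subgroup.center (T ⧸ Om T) := ⟨hxM, hxZ⟩
      rw [e, Subgroup.mem_bot] at this
      exact hx1 this
    obtain ⟨k, hk⟩ := (hq.to_subgroup ((Subgroup.centralizer (Esub T : Set T)).map
      (QuotientGroup.mk' (Om T)) ⊓ Subgroup.center (T ⧸ Om T))).exists_card_eq
    have hMnt : Nontrivial ↥((Subgroup.centralizer (Esub T : Set T)).map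
        (QuotientGroup.mk' (Om T)) ⊓ Subgroup.center (T ⧸ Om T)) :=
      (Subgroup.nontrivial_iff_ne_bot _).mpr hMne
    have hk0 : k ≠ 0 := by
      intro e
      rw [e, pow_zero] at hk
      have := Finite.one_lt_card (α := ↥((Subgroup.centralizer (Esub T : Set T)).map
        (QuotientGroup.mk' (Om T)) ⊓ Subgroup.center (T ⧸ Om T)))
      omega
    have h2 : 2 ∣ Nat.card ↥((Subgroup.centralizer (Esub T : Set T)).map
        (QuotientGroup.mk' (Om T)) ⊓ Subgroup.center (T ⧸ Om T)) := by
      rw [hk]; exact dvd_pow_self 2 hk0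
    obtain ⟨z, hz⟩ := exists_prime_orderOf_dvd_card' 2 h2
    have hz2 : (z : T ⧸ Om T) ^ 2 = 1 := by
      have := pow_orderOf_eq_one z
      rw [hz] at this
      have := congrArg Subtype.val this
      simpa using this
    have hz1 : (z : T ⧸ Om T) ≠ 1 := by
      intro e
      have : z = 1 := Subtype.ext e
      rw [this, orderOf_one] at hz
      omega
    obtain ⟨c, hcC, hcz⟩ := Subgroup.mem_map.mp z.2.1
    have hcE : c ∈ Esub T := by
      show (QuotientGroup.mk' (Om T) c) ∈ Om (T ⧸ Om T)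
      rw [hcz]
      exact ⟨z.2.2, hz2⟩
    have hcΩ : c ∈ Om T := by
      apply hstar c hcE
      intro y hy
      exact (Subgroup.mem_centralizer_iff.mp hcC y hy).symm
    apply hz1
    rw [← hcz]
    exact (QuotientGroup.eq_one_iff c).mpr hcΩ
  refine ⟨fun t => ?_, fun s t => ?_⟩
  · apply hC
    rw [Subgroup.mem_centralizer_iff]
    intro e he
    have := comm_sq_eq_one e (fun g => Esub_comm' he g) t
    exact (commutatorElement_eq_one_iff_mul_comm.mp this).symm
  · apply hC
    rw [Subgroup.mem_centralizer_iff]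
    intro e he
    have := comm_comm_eq_one e (fun g => Esub_comm' he g) s t
    exact (commutatorElement_eq_one_iff_mul_comm.mp this).symm

end case64

end Cfsg.Agent.Lib.Helper4.Tw
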