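import Mathlib
import Cfsg.Agent.Lib.Helper4.Tw6

set_option autoImplicit false

/-! # The commutative case: two generators; and the case `E ≤ Z(T)` (for S1237) -/

namespace Cfsg.Agent.Lib.Helper4.Tw

open Cfsg.Agent.Lib.Helper7.Q64 (SInv)
open Cfsg.Agent.Lib.Helper1 (CommCentral)
open scoped commutatorElement

universe u

section gen

variable {T : Type u} [Group T] [Finite T] {α : MulAut T}

/-- a commutative group satisfying the hypotheses is generated by `v` and `α v` -/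
theorem Hyp.gen_of_comm (h : Hyp α) (hab : ∀ a b : T, a * b = b * a) :
    ∃ v : T, ∀ x : T, ∃ i j : ℕ, x = v ^ i * (α v) ^ j := by
  have : Fact (Nat.Prime 2) := ⟨Nat.prime_two⟩
  let _ : CommGroup T := { (inferInstance : Group T) with mul_comm := hab }
  have hB : ∀ a ∈ (⊤ : Subgroup T), ∀ b ∈ (⊤ : Subgroup T), a * b = b * a :=
    fun a _ b _ => hab a b
  obtain ⟨S, hS⟩ : ∃ S : Subgroup T, S = (sqHomOn ⊤ hB).range := ⟨_, rfl⟩
  have hSmem : ∀ y : T, y ∈ S ↔ ∃ b : T, b ^ 2 = y := by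
    intro y
    rw [hS, mem_sqHomOn_range]
    constructor
    · rintro ⟨b, -, hb⟩; exact ⟨b, hb⟩
    · rintro ⟨b, hb⟩; exact ⟨b, Subgroup.mem_top b, hb⟩
  have hSinv : SInv α S := by
    intro y hy
    obtain ⟨b, rfl⟩ := (hSmem y).mp hy
    exact (hSmem _).mpr ⟨α b, by rw [map_pow]⟩
  have hcard : Nat.card T = 4 * Nat.card S := by
    have h1 := card_eq_ker_mul_range ⊤ hB
    rw [card_ker_sqHomOn h.cen ⊤ hB le_top, h.card, Subgroup.card_top, ← hS] at h1
    exact h1
  have hidx : S.index = 4 := by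
    have h1 := S.card_mul_index
    rw [hcard] at h1
    have hpos : 0 < Nat.card S := Nat.card_pos
    have : Nat.card S * S.index = Nat.card S * 4 := by rw [h1]; ring
    exact Nat.eq_of_mul_eq_mul_left hpos this
  have hSn : S.Normal := Subgroup.normal_of_isMulCommutative S
  obtain ⟨β, hβ, hβf⟩ := h.f3.quot S hSinv
  have hq4 : Nat.card (T ⧸ S) = 4 := by rw [← Subgroup.index_eq_card]; exact hidx
  obtain ⟨v, hv⟩ : ∃ v : T, v ∉ S := by
    by_contra hall
    push Not at hall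
    have htop : S = ⊤ := (Subgroup.eq_top_iff' _).mpr hall
    rw [htop, Subgroup.index_top] at hidx
    omega
  have hv1 : (QuotientGroup.mk v : T ⧸ S) ≠ 1 := fun e => hv ((QuotientGroup.eq_one_iff v).mp e)
  obtain ⟨-, hall⟩ := hβf.four hq4 hv1
  have hmul := hβf.four_mul hq4 hv1
  rw [hβ] at hmul
  -- every element is `v^a (αv)^b y²` with `a, b ≤ 1`
  have hstep : ∀ x : T, ∃ a b : ℕ, ∃ y : T, x = v ^ a * (α v) ^ b * y ^ 2 := by
    intro x
    have hcos : ∀ g : T, (QuotientGroup.mk x : T ⧸ S) = QuotientGroup.mk g →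
        ∃ y : T, x = g * y ^ 2 := by
      intro g hg
      have h1 : g⁻¹ * x ∈ S := QuotientGroup.eq.mp hg.symm
      obtain ⟨y, hy⟩ := (hSmem _).mp h1
      exact ⟨y, by rw [hy]; group⟩
    rcases hall (QuotientGroup.mk x) with e | e | e | e
    · obtain ⟨y, hy⟩ := hcos 1 e
      exact ⟨0, 0, y, by rw [hy]; simp⟩
    · obtain ⟨y, hy⟩ := hcos v e
      exact ⟨1, 0, y, by rw [hy]; simp⟩
    · rw [hβ] at e
      obtain ⟨y, hy⟩ := hcos (α v) e
      exact ⟨0, 1, y, by rw [hy]; simp⟩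
    · rw [hβ, ← hmul, ← QuotientGroup.mk_mul] at e
      obtain ⟨y, hy⟩ := hcos (v * α v) e
      exact ⟨1, 1, y, by rw [hy]; simp⟩
  have hind : ∀ n : ℕ, ∀ x : T, ∃ i j : ℕ, ∃ y : T, x = v ^ i * (α v) ^ j * y ^ (2 ^ n) := by
    intro n
    induction n with
    | zero =>
      intro x
      exact ⟨0, 0, x, by simp⟩
    | succ n ih =>
      intro x
      obtain ⟨i, j, y, hx⟩ := ih x
      obtain ⟨a, b, z, hy⟩ := hstep y
      refine ⟨i + a * 2 ^ n, j + b * 2 ^ n, z, ?_⟩
      rw [hx, hy, mul_pow, mul_pow, ← pow_mul, ← pow_mul, ← pow_mul, pow_add, pow_add, pow_succ]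
      rw [mul_comm 2 (2 ^ n)]
      ac_rfl
  obtain ⟨k, hk⟩ := h.pg.exists_card_eq
  refine ⟨v, fun x => ?_⟩
  obtain ⟨i, j, y, hx⟩ := hind k x
  refine ⟨i, j, ?_⟩
  rw [hx, ← hk, pow_card_eq_one', mul_one]

end gen

section central

variable {T : Type u} [Group T] [Finite T] {α : MulAut T}

/-- the hypotheses pass to `T / Om T` when `E` is central of order 16 -/
theorem Hyp.quot_of_central (h : Hyp α) (hEZ : Esub T ≤ Subgroup.center T)
    (h16 : Nat.card (Esub T) = 16) :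
    ∃ β : MulAut (T ⧸ Om T), (∀ y : T, β (QuotientGroup.mk y) = QuotientGroup.mk (α y)) ∧
      Hyp β := by
  obtain ⟨β, hβ, hβf⟩ := h.f3.quot (Om T) (Om_sinv α)
  refine ⟨β, hβ, h.pg.to_quotient _, hβf, ?_, ?_⟩
  · intro q hq
    obtain ⟨x, rfl⟩ := QuotientGroup.mk_surjective q
    have hx2 : x ^ 2 ∈ Om T := by
      rw [← QuotientGroup.mk_pow] at hq
      exact (QuotientGroup.eq_one_iff _).mp hq
    have hBc : ∀ a ∈ Esub T, ∀ b ∈ Esub T, a * b = b * a :=
      fun a _ b hb => Subgroup.mem_center_iff.mp (hEZ hb) a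
    obtain ⟨e, heE, he2⟩ := exists_sq_eq h.cen h.card (Esub T) hBc Om_le_Esub h16
      (fun b hb => Esub_sq hb) _ hx2
    have hec : Commute x e⁻¹ := (Subgroup.mem_center_iff.mp ((Subgroup.center T).inv_mem (hEZ heE)) x)
    have h1 : (x * e⁻¹) ^ 2 = 1 := by
      rw [hec.mul_pow, inv_pow, he2, mul_inv_cancel]
    have h2 : x * e⁻¹ ∈ Esub T := Om_le_Esub (mem_Om_of_sq h.cen h1)
    have h3 : x ∈ Esub T := by
      have := (Esub T).mul_mem h2 heE
      rwa [inv_mul_cancel_right] at this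
    have h4 := hEZ h3
    rw [Subgroup.mem_center_iff] at h4 ⊢
    intro g
    obtain ⟨g', rfl⟩ := QuotientGroup.mk_surjective g
    rw [← QuotientGroup.mk_mul, ← QuotientGroup.mk_mul, h4 g']
  · have h1 := card_Esub (T := T)
    rw [h16, h.card] at h1
    omega

/-- if `E` is central of order 16 and `T / Om T` is commutative then `T` is commutative -/
theorem comm_of_quot_comm (h : Hyp α) (hEZ : Esub T ≤ Subgroup.center T)
    (h16 : Nat.card (Esub T) = 16) (hq : ∀ x y : T, ⁅x, y⁆ ∈ Om T) :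
    ∀ a b : T, a * b = b * a := by
  obtain ⟨β, hβ, hβh⟩ := h.quot_of_central hEZ h16
  have hqc : ∀ a b : T ⧸ Om T, a * b = b * a := by
    intro a b
    obtain ⟨x, rfl⟩ := QuotientGroup.mk_surjective a
    obtain ⟨y, rfl⟩ := QuotientGroup.mk_surjective b
    have h1 : (QuotientGroup.mk ⁅x, y⁆ : T ⧸ Om T) = 1 := (QuotientGroup.eq_one_iff _).mpr (hq x y)
    have h2 := map_commutatorElement (QuotientGroup.mk' (Om T)) x y
    rw [QuotientGroup.mk'_apply, h1] at h2
    exact commutatorElement_eq_one_iff_mul_comm.mp h2.symm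
  obtain ⟨vq, hvq⟩ := hβh.gen_of_comm hqc
  obtain ⟨v, rfl⟩ := QuotientGroup.mk_surjective vq
  have hgen : ∀ x : T, ∃ i j : ℕ, ∃ w ∈ Om T, x = v ^ i * (α v) ^ j * w := by
    intro x
    obtain ⟨i, j, hij⟩ := hvq (QuotientGroup.mk x)
    rw [hβ, ← QuotientGroup.mk_pow, ← QuotientGroup.mk_pow, ← QuotientGroup.mk_mul] at hij
    have h1 : (v ^ i * (α v) ^ j)⁻¹ * x ∈ Om T := QuotientGroup.eq.mp hij.symm
    exact ⟨i, j, _, h1, by group⟩
  have cc : CommCentral T := commCentral_of_comm_mem hq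
  obtain ⟨c, hc⟩ : ∃ c : T, c = ⁅v, α v⁆ := ⟨_, rfl⟩
  have hcΩ : c ∈ Om T := hc ▸ hq _ _
  obtain ⟨k, l, w, hw, hααv⟩ := hgen (α (α v))
  have hcw : ∀ g : T, ⁅g, w⁆ = 1 := fun g =>
    commutatorElement_eq_one_iff_mul_comm.mpr (Om_comm hw g)
  have hαc : α c = c ^ k := by
    rw [hc, map_commutatorElement, hααv, cc.comm_mul_right, cc.comm_mul_right, hcw, mul_one,
      cc.comm_pow_right, cc.comm_pow_right, commutatorElement_self, one_pow, mul_one,
      comm_symm_of_mem (hq v (α v))]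
  have hc1 : c = 1 := by
    rcases Nat.even_or_odd k with ⟨m, hm⟩ | ⟨m, hm⟩
    · rw [hm, ← two_mul, pow_mul, Om_sq hcΩ, one_pow] at hαc
      exact α.injective (hαc.trans (map_one α).symm)
    · rw [hm, pow_succ, pow_mul, Om_sq hcΩ, one_pow, one_mul] at hαc
      exact h.f3.fpf c hαc
  have hvc : v * α v = α v * v := commutatorElement_eq_one_iff_mul_comm.mp (hc ▸ hc1)
  have hvZ : v ∈ Subgroup.center T := by
    rw [Subgroup.mem_center_iff]
    intro g
    obtain ⟨i, j, w', hw', rfl⟩ := hgen g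
    have c1 : Commute v (v ^ i) := (Commute.refl v).pow_right i
    have c2 : Commute v ((α v) ^ j) := (show Commute v (α v) from hvc).pow_right j
    have c3 : Commute v w' := Om_comm hw' v
    exact ((c1.mul_right c2).mul_right c3).symm.eq
  have hαvZ : α v ∈ Subgroup.center T := F3.center_sinv v hvZ
  intro a b
  obtain ⟨i, j, w', hw', rfl⟩ := hgen a
  have hZ : v ^ i * (α v) ^ j * w' ∈ Subgroup.center T :=
    mul_mem (mul_mem (pow_mem hvZ i) (pow_mem hαvZ j)) (Om_le_center hw')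
  exact (Subgroup.mem_center_iff.mp hZ b).symm

/-- the case `E ≤ Z(T)`, `|E| = 16`: `T` is commutative -/
theorem comm_of_central (h : Hyp α) (hEZ : Esub T ≤ Subgroup.center T)
    (h16 : Nat.card (Esub T) = 16)
    (IH : (∀ a b : T ⧸ Om T, a * b = b * a) ∨ Elem (T ⧸ Om T)) :
    ∀ a b : T, a * b = b * a := by
  apply comm_of_quot_comm h hEZ h16
  rcases IH with hqc | hE
  · intro x y
    rw [← QuotientGroup.eq_one_iff]
    have h2 := map_commutatorElement (QuotientGroup.mk' (Om T)) x y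
    rw [QuotientGroup.mk'_apply] at h2
    rw [h2]
    exact commutatorElement_eq_one_iff_mul_comm.mpr (hqc _ _)
  · have hsqE : ∀ x : T, x ^ 2 ∈ Esub T := by
      intro x
      show (QuotientGroup.mk' (Om T) (x ^ 2)) ∈ Om (T ⧸ Om T)
      rw [map_pow]
      exact hE.1 _
    have hcmE : ∀ x y : T, ⁅x, y⁆ ∈ Esub T := by
      intro x y
      show (QuotientGroup.mk' (Om T) ⁅x, y⁆) ∈ Om (T ⧸ Om T)
      rw [map_commutatorElement]
      exact hE.2 _ _
    have cc : CommCentral T := by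
      intro x y z
      exact (Subgroup.mem_center_iff.mp (hEZ (hcmE x y)) z).symm
    intro x y
    apply mem_Om_of_sq h.cen
    rw [← cc.comm_pow_left]
    exact commutatorElement_eq_one_iff_mul_comm.mpr
      (Subgroup.mem_center_iff.mp (hEZ (hsqE x)) y).symm

end central

end Cfsg.Agent.Lib.Helper4.Tw
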