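import Mathlib
import Cfsg.Agent.Lib.Helper4.Tw7

set_option autoImplicit false

/-! # The case `|E| = 16`, `E` not central: basic analysis of the action on `E` (for S1237) -/

namespace Cfsg.Agent.Lib.Helper4.Tw

open Cfsg.Agent.Lib.Helper7.Q64 (SInv)
open Cfsg.Agent.Lib.Helper1 (CommCentral)
open scoped commutatorElement

universe u

section klein

variable {T : Type u} [Group T] [Finite T] {α : MulAut T}

/-- the relations in `Om T` -/
theorem Hyp.Om_rel (h : Hyp α) {w : T} (hw : w ∈ Om T) (hw1 : w ≠ 1) :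
    w * α w = α (α w) ∧ α (α (α w)) = w := by
  obtain ⟨γ, hγ, hγf⟩ := h.f3.restrict (Om T) (Om_sinv α)
  have hu : (⟨w, hw⟩ : ↥(Om T)) ≠ 1 := fun e => hw1 (congrArg Subtype.val e)
  have h1 := hγf.four_mul h.card hu
  have h2 := (hγf.four h.card hu).1
  have h1' := congrArg Subtype.val h1
  have h2' := congrArg Subtype.val h2
  rw [Subgroup.coe_mul, hγ, hγ, hγ] at h1'
  rw [hγ, hγ, hγ] at h2'
  exact ⟨h1', h2'⟩

/-- two independent elements exhaust `Om T` -/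
theorem Hyp.four_of_indep (h : Hyp α) {a b : T} (ha : a ∈ Om T) (hb : b ∈ Om T) (ha1 : a ≠ 1)
    (hb1 : b ≠ 1) (hab : a ≠ b) : ∀ w ∈ Om T, w = 1 ∨ w = a ∨ w = b ∨ w = a * b := by
  classical
  have : Fintype ↥(Om T) := Fintype.ofFinite _
  have habΩ : a * b ∈ Om T := (Om T).mul_mem ha hb
  have d1 : a * b ≠ 1 := by
    intro e
    apply hab
    have : a = b⁻¹ := eq_inv_of_mul_eq_one_left e
    rw [this, Om_inv hb]
  have d2 : a * b ≠ a := fun e => hb1 (mul_eq_left.mp e)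
  have d3 : a * b ≠ b := fun e => ha1 (mul_eq_right.mp e)
  have hS : ({⟨1, (Om T).one_mem⟩, ⟨a, ha⟩, ⟨b, hb⟩, ⟨a * b, habΩ⟩} : Finset ↥(Om T)).card = 4 := by
    rw [Finset.card_insert_of_notMem, Finset.card_insert_of_notMem,
      Finset.card_insert_of_notMem, Finset.card_singleton]
    all_goals
      simp only [Finset.mem_insert, Finset.mem_singleton, Subtype.mk.injEq, not_or]
      first
        | exact ⟨ha1.symm, hb1.symm, d1.symm⟩
        | exact ⟨hab, d2.symm⟩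
        | exact d3.symm
  have huniv := Finset.eq_univ_of_card _
    (hS.trans (by rw [← h.card, Nat.card_eq_fintype_card]))
  intro w hw
  have hm : (⟨w, hw⟩ : ↥(Om T)) ∈ (Finset.univ : Finset ↥(Om T)) := Finset.mem_univ _
  rw [← huniv] at hm
  simp only [Finset.mem_insert, Finset.mem_singleton, Subtype.mk.injEq] at hm
  exact hm

end klein

section comm2

variable {T : Type u} [Group T]

theorem comm_mul_right_of_mem {e' : T} (he' : ∀ g : T, ⁅g, e'⁆ ∈ Om T) (t e : T) :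
    ⁅t, e * e'⁆ = ⁅t, e⁆ * ⁅t, e'⁆ := by
  have e1 : ⁅t, e * e'⁆ = ⁅t, e⁆ * (e * ⁅t, e'⁆ * e⁻¹) := by
    simp only [commutatorElement_def]; group
  rw [e1, Om_comm (he' t) e, mul_inv_cancel_right]

theorem comm_Om_right {w : T} (hw : w ∈ Om T) (t : T) : ⁅t, w⁆ = 1 :=
  commutatorElement_eq_one_iff_mul_comm.mpr (Om_comm hw t)

theorem comm_inv_left_of_mem {e : T} (he : ∀ g : T, ⁅g, e⁆ ∈ Om T) (t : T) :
    ⁅t⁻¹, e⁆ = ⁅t, e⁆ := by
  have h1 := map_inv (commHom e he) t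
  have h2 := congrArg Subtype.val h1
  rw [Subgroup.coe_inv, commHom_apply, commHom_apply, Om_inv (he t)] at h2
  exact h2

end comm2

section e16

variable {T : Type u} [Group T] [Finite T] {α : MulAut T}

/-- `E` is commutative when it has order 16 -/
theorem Esub_commute (h : Hyp α) (h16 : Nat.card (Esub T) = 16) :
    ∀ a ∈ Esub T, ∀ b ∈ Esub T, a * b = b * a := by
  obtain ⟨β, hβ, hβh⟩ := h.sub (Esub T) (Esub_sinv α) Om_le_Esub
  have hcz := hβh.card_cases (Subgroup.center ↥(Esub T)) F3.center_sinv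
    (le_trans (Subgroup.card_le_card_group _) (by rw [h16]; norm_num))
  have hidx := (Subgroup.center ↥(Esub T)).card_mul_index
  rw [h16] at hidx
  have hOmle : Nat.card (Om ↥(Esub T)) ≤ Nat.card (Subgroup.center ↥(Esub T)) :=
    Subgroup.card_le_of_le Om_le_center
  rw [hβh.card] at hOmle
  have hc : ∀ a b : ↥(Esub T), a * b = b * a := by
    apply hβh.f3.comm_of_center_index
    rcases hcz with e | e | e | e <;> rw [e] at hidx hOmle <;> omega
  intro a ha b hb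
  exact congrArg Subtype.val (hc ⟨a, ha⟩ ⟨b, hb⟩)

/-- generators of `E` modulo `Om` -/
theorem Esub_gen (h : Hyp α) (h16 : Nat.card (Esub T) = 16) {e₁ : T} (he₁ : e₁ ∈ Esub T)
    (hne : e₁ ∉ Om T) :
    (∀ e ∈ Esub T, ∃ g : T, (g = 1 ∨ g = e₁ ∨ g = α e₁ ∨ g = e₁ * α e₁) ∧ g⁻¹ * e ∈ Om T) ∧
      (e₁ * α e₁)⁻¹ * α (α e₁) ∈ Om T := by
  obtain ⟨β, hβ, hβf⟩ := h.f3.quot (Om T) (Om_sinv α)
  obtain ⟨γ, hγ, hγf⟩ := hβf.restrict (Om (T ⧸ Om T)) (Om_sinv β)
  have hY4 : Nat.card (Om (T ⧸ Om T)) = 4 := by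
    have h1 := card_Esub (T := T)
    rw [h16, h.card] at h1
    omega
  have hmkE : ∀ e ∈ Esub T, (QuotientGroup.mk e : T ⧸ Om T) ∈ Om (T ⧸ Om T) := fun e he => he
  have hu : (⟨QuotientGroup.mk e₁, hmkE e₁ he₁⟩ : ↥(Om (T ⧸ Om T))) ≠ 1 := by
    intro e
    have := congrArg Subtype.val e
    exact hne ((QuotientGroup.eq_one_iff e₁).mp this)
  obtain ⟨-, hall⟩ := hγf.four hY4 hu
  have hmul := hγf.four_mul hY4 hu
  have hmul' := congrArg Subtype.val hmul
  rw [Subgroup.coe_mul, hγ, hγ, hγ] at hmul'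
  simp only at hmul'
  rw [hβ, hβ, ← QuotientGroup.mk_mul] at hmul'
  have hrel : (e₁ * α e₁)⁻¹ * α (α e₁) ∈ Om T := QuotientGroup.eq.mp hmul'
  refine ⟨?_, hrel⟩
  intro e he
  rcases hall ⟨QuotientGroup.mk e, hmkE e he⟩ with e0 | e0 | e0 | e0
  · have := congrArg Subtype.val e0
    simp only [Subgroup.coe_one] at this
    refine ⟨1, Or.inl rfl, ?_⟩
    rw [inv_one, one_mul]
    exact (QuotientGroup.eq_one_iff e).mp this
  · have := congrArg Subtype.val e0
    simp only at this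
    exact ⟨e₁, Or.inr (Or.inl rfl), QuotientGroup.eq.mp this.symm⟩
  · have := congrArg Subtype.val e0
    rw [hγ] at this
    simp only at this
    rw [hβ] at this
    exact ⟨α e₁, Or.inr (Or.inr (Or.inl rfl)), QuotientGroup.eq.mp this.symm⟩
  · have := congrArg Subtype.val e0
    rw [hγ, hγ] at this
    simp only at this
    rw [hβ, hβ, ← hmul'] at this
    exact ⟨e₁ * α e₁, Or.inr (Or.inr (Or.inr rfl)), QuotientGroup.eq.mp this.symm⟩

/-- membership in the centralizer of `E` is tested on two elements -/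
theorem mem_centralizer_Esub (h : Hyp α) (h16 : Nat.card (Esub T) = 16) {e₁ : T}
    (he₁ : e₁ ∈ Esub T) (hne : e₁ ∉ Om T) (t : T) :
    t ∈ Subgroup.centralizer (Esub T : Set T) ↔ ⁅t, e₁⁆ = 1 ∧ ⁅t, α e₁⁆ = 1 := by
  have he₂ : α e₁ ∈ Esub T := Esub_sinv α _ he₁
  constructor
  · intro ht
    rw [Subgroup.mem_centralizer_iff] at ht
    exact ⟨commutatorElement_eq_one_iff_mul_comm.mpr (ht e₁ he₁).symm,
      commutatorElement_eq_one_iff_mul_comm.mpr (ht _ he₂).symm⟩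
  · rintro ⟨h1, h2⟩
    rw [Subgroup.mem_centralizer_iff]
    intro e he
    obtain ⟨g, hg, hge⟩ := (Esub_gen h h16 he₁ hne).1 e he
    have hc : ⁅t, g⁆ = 1 := by
      rcases hg with rfl | rfl | rfl | rfl
      · simp
      · exact h1
      · exact h2
      · rw [comm_mul_right_of_mem (fun g => Esub_comm' he₂ g), h1, h2, one_mul]
    have he' : e = g * (g⁻¹ * e) := by group
    have hce : ⁅t, e⁆ = 1 := by
      rw [he', comm_mul_right_of_mem (fun x => by rw [comm_Om_right hge]; exact one_mem _),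
        hc, comm_Om_right hge, one_mul]
    exact (commutatorElement_eq_one_iff_mul_comm.mp hce).symm

/-- the action of `α t` on the two generators -/
theorem comm_alpha (h : Hyp α) (h16 : Nat.card (Esub T) = 16) {e₁ : T} (he₁ : e₁ ∈ Esub T)
    (hne : e₁ ∉ Om T) (t : T) :
    ⁅α t, α e₁⁆ = α ⁅t, e₁⁆ ∧ ⁅α t, e₁⁆ = α (⁅t, e₁⁆ * ⁅t, α e₁⁆) := by
  have he₂ : α e₁ ∈ Esub T := Esub_sinv α _ he₁
  refine ⟨(map_commutatorElement α t e₁).symm, ?_⟩
  obtain ⟨w, hw⟩ : ∃ w : T, w = (e₁ * α e₁)⁻¹ * α (α e₁) := ⟨_, rfl⟩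
  have hwΩ : w ∈ Om T := hw ▸ (Esub_gen h h16 he₁ hne).2
  have hααe : α (α e₁) = e₁ * α e₁ * w := by rw [hw]; group
  have h1 : α ⁅t, α e₁⁆ = ⁅α t, e₁⁆ * α ⁅t, e₁⁆ := by
    rw [map_commutatorElement, hααe,
      comm_mul_right_of_mem (fun x => by rw [comm_Om_right hwΩ]; exact one_mem _),
      comm_Om_right hwΩ, mul_one, comm_mul_right_of_mem (fun g => Esub_comm' he₂ g),
      map_commutatorElement]
  have ha : α ⁅t, e₁⁆ ∈ Om T := Om_sinv α _ (Esub_comm' he₁ t)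
  rw [map_mul, h1, mul_comm_of_mem ha, Om_mul_self ha, mul_one]
where
  mul_comm_of_mem {x : T} (hx : x ∈ Om T) (y : T) : x * (y * x) = y * (x * x) := by
    rw [← mul_assoc, ← mul_assoc, Om_comm hx y]

/-- the inverting coset is impossible -/
theorem false_of_inverting (h : Hyp α) (h16 : Nat.card (Esub T) = 16) {e₁ : T}
    (he₁ : e₁ ∈ Esub T) (hne : e₁ ∉ Om T) (t : T) (h1 : ⁅t, e₁⁆ = e₁ ^ 2)
    (h2 : ⁅t, α e₁⁆ = (α e₁) ^ 2) : False := by
  have he₂ : α e₁ ∈ Esub T := Esub_sinv α _ he₁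
  obtain ⟨w, hw⟩ : ∃ w : T, w = e₁ ^ 2 := ⟨_, rfl⟩
  have hwΩ : w ∈ Om T := hw ▸ Esub_sq he₁
  have hw1 : w ≠ 1 := by
    intro e
    rw [hw] at e
    exact hne (mem_Om_of_sq h.cen e)
  have hαw : (α e₁) ^ 2 = α w := by rw [hw, map_pow]
  obtain ⟨r1, r2⟩ := h.Om_rel hwΩ hw1
  obtain ⟨c1, c2⟩ := comm_alpha h h16 he₁ hne t
  rw [h1, ← hw] at c1
  rw [h1, h2, ← hw, hαw, r1, r2] at c2
  -- `t⁻¹ * α t` centralizes `E`
  have hmem : t⁻¹ * α t ∈ Subgroup.centralizer (Esub T : Set T) := by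
    rw [mem_centralizer_Esub h h16 he₁ hne]
    constructor
    · rw [comm_mul_eq e₁ (fun g => Esub_comm' he₁ g), comm_inv_left_of_mem (fun g => Esub_comm' he₁ g),
        h1, c2, ← hw, Om_mul_self hwΩ]
    · rw [comm_mul_eq _ (fun g => Esub_comm' he₂ g), comm_inv_left_of_mem (fun g => Esub_comm' he₂ g),
        h2, c1, hαw, Om_mul_self (Om_sinv α _ hwΩ)]
  have htC := h.f3.mem_of_coset _ (F3.centralizer_sinv (Esub_sinv α)) t hmem
  have := ((mem_centralizer_Esub h h16 he₁ hne t).mp htC).1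
  rw [h1, ← hw] at this
  exact hw1 this

end e16

end Cfsg.Agent.Lib.Helper4.Tw
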