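import Mathlib
import Cfsg.Agent.Lib.Helper4.Tw8

set_option autoImplicit false

/-! # The case `|E| = 16`, `E < C_T(E)`: every element of `T` centralizes `E` (for S1237) -/

namespace Cfsg.Agent.Lib.Helper4.Tw

open Cfsg.Agent.Lib.Helper7.Q64 (SInv)
open Cfsg.Agent.Lib.Helper1 (CommCentral)
open scoped commutatorElement

universe u

/-- the centralizer of `E` -/
def Csub (T : Type u) [Group T] : Subgroup T := Subgroup.centralizer (Esub T : Set T)

section csub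

variable {T : Type u} [Group T]

instance Csub_normal : (Csub T).Normal := by
  unfold Csub
  infer_instance

theorem mem_Csub (t : T) : t ∈ Csub T ↔ ∀ e ∈ Esub T, e * t = t * e := Subgroup.mem_centralizer_iff

theorem Csub_sinv [Finite T] (α : MulAut T) : SInv α (Csub T) :=
  F3.centralizer_sinv (Esub_sinv α)

theorem sq_mem_Csub (t : T) : t ^ 2 ∈ Csub T := by
  rw [mem_Csub]
  intro e he
  have := comm_sq_eq_one e (fun g => Esub_comm' he g) t
  exact (commutatorElement_eq_one_iff_mul_comm.mp this).symm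

theorem comm_mem_Csub (s t : T) : ⁅s, t⁆ ∈ Csub T := by
  rw [mem_Csub]
  intro e he
  have := comm_comm_eq_one e (fun g => Esub_comm' he g) s t
  exact (commutatorElement_eq_one_iff_mul_comm.mp this).symm

end csub

section caseG

variable {T : Type u} [Group T] [Finite T] {α : MulAut T}

theorem Esub_le_Csub (h : Hyp α) (h16 : Nat.card (Esub T) = 16) : Esub T ≤ Csub T := by
  intro e he
  rw [mem_Csub]
  intro e' he'
  exact Esub_commute h h16 e' he' e he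

/-- elements of `C` with square in `Om` lie in `E` -/
theorem mem_Esub_of_sq (h : Hyp α) (h16 : Nat.card (Esub T) = 16)
    (hCc : ∀ a ∈ Csub T, ∀ b ∈ Csub T, a * b = b * a) {c : T} (hc : c ∈ Csub T)
    (hc2 : c ^ 2 ∈ Om T) : c ∈ Esub T := by
  let B : Subgroup T :=
    { carrier := {c | c ∈ Csub T ∧ c ^ 2 ∈ Om T}
      one_mem' := ⟨one_mem _, by rw [one_pow]; exact one_mem _⟩
      mul_mem' := by
        rintro a b ⟨ha, ha2⟩ ⟨hb, hb2⟩
        refine ⟨mul_mem ha hb, ?_⟩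
        have hc : Commute a b := hCc a ha b hb
        rw [hc.mul_pow]; exact mul_mem ha2 hb2
      inv_mem' := by
        rintro a ⟨ha, ha2⟩
        exact ⟨inv_mem ha, by rw [inv_pow]; exact inv_mem ha2⟩ }
  have hB16 : Nat.card B ≤ 16 := card_le_sixteen h.cen h.card B
    (fun a ha b hb => hCc a ha.1 b hb.1) (fun b hb => hb.2)
  have hEB : Esub T ≤ B := fun e he => ⟨Esub_le_Csub h h16 he, Esub_sq he⟩
  have heq : Esub T = B := Subgroup.eq_of_le_of_card_ge hEB (by rw [h16]; exact hB16)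
  rw [heq]
  exact ⟨hc, hc2⟩

/-- every element of `E` is a square in `C` when `E < C` -/
theorem exists_sq_of_lt (h : Hyp α) (h16 : Nat.card (Esub T) = 16)
    (hCc : ∀ a ∈ Csub T, ∀ b ∈ Csub T, a * b = b * a) (hCE : ∃ c ∈ Csub T, c ∉ Esub T) :
    ∀ e ∈ Esub T, ∃ c ∈ Csub T, c ^ 2 = e := by
  have hEC := Esub_le_Csub h h16
  obtain ⟨S, hS⟩ : ∃ S : Subgroup T, S = (sqHomOn (Csub T) hCc).range := ⟨_, rfl⟩
  have hSmem : ∀ y : T, y ∈ S ↔ ∃ c ∈ Csub T, c ^ 2 = y := by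
    intro y; rw [hS]; exact mem_sqHomOn_range _ _ y
  have hSC : S ≤ Csub T := by
    intro y hy
    obtain ⟨c, hc, rfl⟩ := (hSmem y).mp hy
    exact pow_mem hc 2
  have hcard : Nat.card (Csub T) = 4 * Nat.card S := by
    have h1 := card_eq_ker_mul_range (Csub T) hCc
    rw [card_ker_sqHomOn h.cen _ hCc (le_trans Om_le_Esub hEC), h.card, ← hS] at h1
    exact h1
  have hC16 : 16 < Nat.card (Csub T) := by
    by_contra hle
    push Not at hle
    have heq : Esub T = Csub T := Subgroup.eq_of_le_of_card_ge hEC (by rw [h16]; exact hle)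
    obtain ⟨c, hc, hcE⟩ := hCE
    exact hcE (heq ▸ hc)
  have hSinv : SInv α S := by
    intro y hy
    obtain ⟨c, hc, rfl⟩ := (hSmem y).mp hy
    exact (hSmem _).mpr ⟨α c, Csub_sinv α _ hc, by rw [map_pow]⟩
  have hDinv : SInv α (S ⊓ Esub T) := F3.sinv_inf hSinv (Esub_sinv α)
  have hDle : Nat.card ↥(S ⊓ Esub T) ≤ 16 := by
    rw [← h16]; exact Subgroup.card_le_of_le inf_le_right
  have hsmall : Nat.card ↥(S ⊓ Esub T) ≤ 4 → False := by
    intro e
    have hDΩ : ∀ r ∈ S ⊓ Esub T, r ∈ Om T := by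
      intro r hr
      by_cases hD : S ⊓ Esub T = ⊥
      · rw [hD, Subgroup.mem_bot] at hr
        rw [hr]; exact one_mem _
      · have hle := h.Om_le _ hDinv hD
        have heq : Om T = S ⊓ Esub T :=
          Subgroup.eq_of_le_of_card_ge hle (by rw [h.card]; exact e)
        rw [heq]; exact hr
    have hQ : ∀ n : ℕ, ∀ s ∈ S, s ^ (2 ^ (n + 1)) = 1 → s ^ 2 = 1 := by
      intro n
      induction n with
      | zero => intro s _ hs; simpa using hs
      | succ n ih =>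
        intro s hs hs1
        have hrS : s ^ (2 ^ n) ∈ S := pow_mem hs _
        have hr4 : (s ^ (2 ^ n)) ^ 4 = 1 := by
          rw [← pow_mul, show 2 ^ n * 4 = 2 ^ (n + 1 + 1) by ring]; exact hs1
        have hr22 : ((s ^ (2 ^ n)) ^ 2) ^ 2 = 1 := by rw [← pow_mul]; exact hr4
        have hrE : s ^ (2 ^ n) ∈ Esub T :=
          mem_Esub_of_sq h h16 hCc (hSC hrS) (mem_Om_of_sq h.cen hr22)
        have hrΩ := hDΩ _ ⟨hrS, hrE⟩
        have hr2 := Om_sq hrΩ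
        rw [← pow_mul, ← pow_succ] at hr2
        exact ih s hs hr2
    have hSΩ : S ≤ Om T := by
      intro s hs
      have : Fact (Nat.Prime 2) := ⟨Nat.prime_two⟩
      obtain ⟨k, hk⟩ := h.pg.exists_card_eq
      have hsk : s ^ (2 ^ k) = 1 := by rw [← hk]; exact pow_card_eq_one'
      apply mem_Om_of_sq h.cen
      rcases Nat.eq_zero_or_pos k with h0 | hpos
      · rw [h0, pow_zero, pow_one] at hsk
        rw [hsk, one_pow]
      · obtain ⟨k', rfl⟩ := Nat.exists_eq_succ_of_ne_zero (Nat.pos_iff_ne_zero.mp hpos)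
        exact hQ k' s hs hsk
    have h4 := Subgroup.card_le_of_le hSΩ
    rw [h.card] at h4
    omega
  rcases h.card_cases _ hDinv (le_trans hDle (by norm_num)) with e | e | e | e
  · exact absurd (by rw [e]; norm_num) hsmall
  · exact absurd (by rw [e]) hsmall
  · have heq : S ⊓ Esub T = Esub T :=
      Subgroup.eq_of_le_of_card_ge inf_le_right (by rw [e, h16])
    intro x hx
    have hxS : x ∈ S := by
      have : x ∈ S ⊓ Esub T := by rw [heq]; exact hx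
      exact this.1
    exact (hSmem x).mp hxS
  · exfalso; omega

/-- the key inverted element -/
theorem exists_inverted (h : Hyp α) (h16 : Nat.card (Esub T) = 16)
    (hCc : ∀ a ∈ Csub T, ∀ b ∈ Csub T, a * b = b * a)
    (hsq : ∀ e ∈ Esub T, ∃ c ∈ Csub T, c ^ 2 = e) (t : T) {e : T} (he : e ∈ Esub T) :
    ∃ d ∈ Esub T, d ^ 2 = ⁅t, e⁆ ∧ t * d * t⁻¹ = d⁻¹ := by
  obtain ⟨c, hc, hce⟩ := hsq e he
  have hconj : t * c * t⁻¹ ∈ Csub T := Csub_normal.conj_mem c hc t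
  obtain ⟨d, hd⟩ : ∃ d : T, d = ⁅t, c⁆ := ⟨_, rfl⟩
  have hdC : d ∈ Csub T := by
    rw [hd, commutatorElement_def]
    exact mul_mem hconj (inv_mem hc)
  have hdc : t * c * t⁻¹ = d * c := by rw [hd, commutatorElement_def]; group
  have hd2 : d ^ 2 = ⁅t, e⁆ := by
    have hcm : Commute (t * c * t⁻¹) c⁻¹ := hCc _ hconj _ (inv_mem hc)
    rw [hd, commutatorElement_def, hcm.mul_pow, ← hce, commutatorElement_def]
    simp only [pow_two]
    group
  have hdE : d ∈ Esub T := mem_Esub_of_sq h h16 hCc hdC (hd2 ▸ Esub_comm' he t)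
  refine ⟨d, hdE, hd2, ?_⟩
  have ht2 : t ^ 2 * c = c * t ^ 2 := hCc _ (sq_mem_Csub t) _ hc
  have e1 : t * (t * c * t⁻¹) * t⁻¹ = c := by
    calc t * (t * c * t⁻¹) * t⁻¹ = (t ^ 2 * c) * (t ^ 2)⁻¹ := by rw [pow_two]; group
      _ = c := by rw [ht2]; group
  rw [hdc] at e1
  have e2 : t * (d * c) * t⁻¹ = (t * d * t⁻¹) * (t * c * t⁻¹) := by group
  rw [e2, hdc, ← mul_assoc] at e1
  have e3 : t * d * t⁻¹ * d = 1 := mul_eq_right.mp e1
  exact eq_inv_of_mul_eq_one_left e3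

/-- if `t` maps onto `Om` then `t` inverts `x ∈ E` -/
theorem comm_eq_sq (h : Hyp α) (h16 : Nat.card (Esub T) = 16)
    (hCc : ∀ a ∈ Csub T, ∀ b ∈ Csub T, a * b = b * a)
    (hsq : ∀ e ∈ Esub T, ∃ c ∈ Csub T, c ^ 2 = e) (t : T) {x : T} (hx : x ∈ Esub T)
    (hex : ∃ e ∈ Esub T, ⁅t, e⁆ = x ^ 2) : ⁅t, x⁆ = x ^ 2 := by
  obtain ⟨e, he, hte⟩ := hex
  obtain ⟨d, hdE, hd2, hinv⟩ := exists_inverted h h16 hCc hsq t he
  rw [hte] at hd2
  obtain ⟨w, hw⟩ : ∃ w : T, w = d⁻¹ * x := ⟨_, rfl⟩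
  have hwΩ : w ∈ Om T := by
    apply mem_Om_of_sq h.cen
    have hcm : Commute d⁻¹ x := Esub_commute h h16 _ (inv_mem hdE) _ hx
    rw [hw, hcm.mul_pow, inv_pow, hd2, inv_mul_cancel]
  have hxd : x = d * w := by rw [hw]; group
  have hx2Ω : x ^ 2 ∈ Om T := Esub_sq hx
  have h1 : ⁅t, d⁆ = x ^ 2 := by
    rw [commutatorElement_def, hinv, ← mul_inv_rev, ← pow_two, hd2, Om_inv hx2Ω]
  rw [hxd, comm_mul_right_of_mem (fun g => by rw [comm_Om_right hwΩ]; exact one_mem _),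
    comm_Om_right hwΩ, mul_one, h1, ← hxd]

/-- an independent pair is the inverting pair -/
theorem indep_eq (h : Hyp α) (h16 : Nat.card (Esub T) = 16)
    (hCc : ∀ a ∈ Csub T, ∀ b ∈ Csub T, a * b = b * a)
    (hsq : ∀ e ∈ Esub T, ∃ c ∈ Csub T, c ^ 2 = e) {e₁ : T} (he₁ : e₁ ∈ Esub T) (t : T)
    (ha1 : ⁅t, e₁⁆ ≠ 1) (hb1 : ⁅t, α e₁⁆ ≠ 1) (hab : ⁅t, e₁⁆ ≠ ⁅t, α e₁⁆) :
    ⁅t, e₁⁆ = e₁ ^ 2 ∧ ⁅t, α e₁⁆ = (α e₁) ^ 2 := by
  have he₂ : α e₁ ∈ Esub T := Esub_sinv α _ he₁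
  have hfour := h.four_of_indep (Esub_comm' he₁ t) (Esub_comm' he₂ t) ha1 hb1 hab
  have hsurj : ∀ w ∈ Om T, ∃ e ∈ Esub T, ⁅t, e⁆ = w := by
    intro w hw
    rcases hfour w hw with rfl | rfl | rfl | rfl
    · exact ⟨1, one_mem _, by simp⟩
    · exact ⟨e₁, he₁, rfl⟩
    · exact ⟨α e₁, he₂, rfl⟩
    · exact ⟨e₁ * α e₁, mul_mem he₁ he₂,
        comm_mul_right_of_mem (fun g => Esub_comm' he₂ g) t e₁⟩
  exact ⟨comm_eq_sq h h16 hCc hsq t he₁ (hsurj _ (Esub_sq he₁)),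
    comm_eq_sq h h16 hCc hsq t he₂ (hsurj _ (Esub_sq he₂))⟩

/-- when `E < C` and `C` is commutative, `C = T` -/
theorem Csub_eq_top (h : Hyp α) (h16 : Nat.card (Esub T) = 16)
    (hCc : ∀ a ∈ Csub T, ∀ b ∈ Csub T, a * b = b * a) (hCE : ∃ c ∈ Csub T, c ∉ Esub T) :
    Csub T = ⊤ := by
  have hsq := exists_sq_of_lt h h16 hCc hCE
  -- a generator of `E` modulo `Om`
  obtain ⟨e₁, he₁, hne⟩ : ∃ e₁ ∈ Esub T, e₁ ∉ Om T := by
    by_contra hall
    push Not at hall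
    have := Subgroup.card_le_of_le (show Esub T ≤ Om T from hall)
    rw [h16, h.card] at this
    omega
  have he₂ : α e₁ ∈ Esub T := Esub_sinv α _ he₁
  -- no independent pairs
  have hI : ∀ t : T, ⁅t, e₁⁆ ≠ 1 → ⁅t, α e₁⁆ ≠ 1 → ⁅t, e₁⁆ ≠ ⁅t, α e₁⁆ → False := by
    intro t ha1 hb1 hab
    obtain ⟨h1, h2⟩ := indep_eq h h16 hCc hsq he₁ t ha1 hb1 hab
    exact false_of_inverting h h16 he₁ hne t h1 h2
  rw [Subgroup.eq_top_iff']
  intro t
  by_contra htC
  obtain ⟨a, ha⟩ : ∃ a : T, a = ⁅t, e₁⁆ := ⟨_, rfl⟩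
  obtain ⟨b, hb⟩ : ∃ b : T, b = ⁅t, α e₁⁆ := ⟨_, rfl⟩
  have haΩ : a ∈ Om T := ha ▸ Esub_comm' he₁ t
  have hbΩ : b ∈ Om T := hb ▸ Esub_comm' he₂ t
  have hnot : ¬ (a = 1 ∧ b = 1) := by
    rintro ⟨h1, h2⟩
    apply htC
    show t ∈ Subgroup.centralizer (Esub T : Set T)
    rw [mem_centralizer_Esub h h16 he₁ hne]
    exact ⟨ha ▸ h1, hb ▸ h2⟩
  obtain ⟨c1, c2⟩ := comm_alpha h h16 he₁ hne t
  rw [← ha] at c1
  rw [← ha, ← hb] at c2
  -- the pair of `t * α t`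
  have hr1 : ⁅t * α t, e₁⁆ = a * α (a * b) := by
    rw [comm_mul_eq e₁ (fun g => Esub_comm' he₁ g), ← ha, c2]
  have hr2 : ⁅t * α t, α e₁⁆ = b * α a := by
    rw [comm_mul_eq _ (fun g => Esub_comm' he₂ g), ← hb, c1]
  have hfix : ∀ x : T, x ∈ Om T → x ≠ 1 → x * α x ≠ 1 := by
    intro x hx hx1 e
    apply h.f3.ne_of_ne_one hx1
    have : α x = x⁻¹ := eq_inv_of_mul_eq_one_right e
    rw [this, Om_inv hx]
  by_cases ha1 : a = 1
  · have hb1 : b ≠ 1 := fun e => hnot ⟨ha1, e⟩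
    apply hI (t * α t)
    · rw [hr1, ha1, one_mul, one_mul]; exact F3.map_ne_one hb1
    · rw [hr2, ha1, map_one, mul_one]; exact hb1
    · rw [hr1, hr2, ha1, one_mul, one_mul, map_one, mul_one]
      exact h.f3.ne_of_ne_one hb1
  · by_cases hb1 : b = 1
    · apply hI (t * α t)
      · rw [hr1, hb1, mul_one]; exact hfix a haΩ ha1
      · rw [hr2, hb1, one_mul]; exact F3.map_ne_one ha1
      · rw [hr1, hr2, hb1, mul_one, one_mul]
        intro e
        exact ha1 (mul_eq_right.mp e)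
    · by_cases hab : a = b
      · apply hI (t * α t)
        · rw [hr1, ← hab, Om_mul_self haΩ, map_one, mul_one]; exact ha1
        · rw [hr2, ← hab]; exact hfix a haΩ ha1
        · rw [hr1, hr2, ← hab, Om_mul_self haΩ, map_one, mul_one]
          intro e
          exact F3.map_ne_one ha1 (left_eq_mul.mp e)
      · exact hI t (ha ▸ ha1) (hb ▸ hb1) (by rw [← ha, ← hb]; exact hab)

end caseG

end Cfsg.Agent.Lib.Helper4.Tw
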