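import Mathlib
import Cfsg.Agent.Lib.Helper4.Tw9

set_option autoImplicit false

/-! # The structure theorem: `T` commutative or `T / Om T` elementary abelian (for S1237) -/

namespace Cfsg.Agent.Lib.Helper4.Tw

open Cfsg.Agent.Lib.Helper7.Q64 (SInv)
open Cfsg.Agent.Lib.Helper1 (CommCentral)
open scoped commutatorElement

universe u

section caseF

variable {T : Type u} [Group T] [Finite T] {α : MulAut T}

omit [Finite T] in
theorem Om_le_Csub : Om T ≤ Csub T := by
  intro w hw
  rw [mem_Csub]
  intro e _
  exact Om_comm hw e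

/-- the case `C_T(E) = E ≠ T` -/
theorem elem_of_Csub_le (h : Hyp α) (h16 : Nat.card (Esub T) = 16) (hCeq : Csub T ≤ Esub T)
    (hCT : Csub T ≠ ⊤) : Elem T := by
  obtain ⟨e₁, he₁, hne⟩ : ∃ e₁ ∈ Esub T, e₁ ∉ Om T := by
    by_contra hall
    push Not at hall
    have := Subgroup.card_le_of_le (show Esub T ≤ Om T from hall)
    rw [h16, h.card] at this
    omega
  have he₂ : α e₁ ∈ Esub T := Esub_sinv α _ he₁
  let Ψ : T →* ↥(Om T) × ↥(Om T) :=
    (commHom e₁ (fun g => Esub_comm' he₁ g)).prod (commHom (α e₁) (fun g => Esub_comm' he₂ g))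
  have hker : Ψ.ker = Csub T := by
    ext t
    rw [MonoidHom.mem_ker]
    show (⟨⟨⁅t, e₁⁆, _⟩, ⟨⁅t, α e₁⁆, _⟩⟩ : ↥(Om T) × ↥(Om T)) = 1 ↔ t ∈ Csub T
    rw [Prod.mk_eq_one, Subtype.ext_iff, Subtype.ext_iff]
    exact (mem_centralizer_Esub h h16 he₁ hne t).symm
  have hidx : (Csub T).index = Nat.card Ψ.range := by rw [← hker]; exact Subgroup.index_ker Ψ
  have hdvd : Nat.card Ψ.range ∣ 16 := by
    have h1 := Subgroup.card_subgroup_dvd_card Ψ.range
    rwa [Nat.card_prod, h.card] at h1
  have hmod := h.f3.index_mod (Csub T) (Csub_sinv α)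
  have hne1 : (Csub T).index ≠ 1 := fun e => hCT (Subgroup.index_eq_one.mp e)
  rw [hidx] at hmod hne1
  have hcases : Nat.card Ψ.range = 4 ∨ Nat.card Ψ.range = 16 := by
    have hle : Nat.card Ψ.range ≤ 16 := Nat.le_of_dvd (by norm_num) hdvd
    obtain ⟨n, hn⟩ : ∃ n : ℕ, n = Nat.card Ψ.range := ⟨_, rfl⟩
    rw [← hn] at hdvd hmod hne1 hle ⊢
    interval_cases n <;> omega
  rcases hcases with h4 | h16'
  · -- index four
    have hCE : Csub T = Esub T := le_antisymm hCeq (Esub_le_Csub h h16)
    have hT64 : Nat.card T = 64 := by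
      have h1 := (Csub T).card_mul_index
      rw [hidx, h4, hCE, h16] at h1
      omega
    have hQ16 : Nat.card (T ⧸ Om T) = 16 := by
      have h1 := Subgroup.card_eq_card_quotient_mul_card_subgroup (Om T)
      rw [hT64, h.card] at h1
      omega
    obtain ⟨β, hβ, hβf⟩ := h.f3.quot (Om T) (Om_sinv α)
    have hY4 : Nat.card (Om (T ⧸ Om T)) = 4 := by
      have h1 := card_Esub (T := T)
      rw [h16, h.card] at h1
      omega
    have hqc : ∀ a b : T ⧸ Om T, a * b = b * a := by
      apply hβf.comm_of_center_index
      have h1 := (Subgroup.center (T ⧸ Om T)).card_mul_index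
      have h2 : Nat.card (Om (T ⧸ Om T)) ≤ Nat.card (Subgroup.center (T ⧸ Om T)) :=
        Subgroup.card_le_of_le Om_le_center
      rw [hQ16] at h1
      rw [hY4] at h2
      by_contra hlt
      push Not at hlt
      have : 4 * 5 ≤ Nat.card (Subgroup.center (T ⧸ Om T)) *
          (Subgroup.center (T ⧸ Om T)).index := Nat.mul_le_mul h2 hlt
      omega
    have hq : ∀ x y : T, ⁅x, y⁆ ∈ Om T := by
      intro x y
      rw [← QuotientGroup.eq_one_iff]
      have h2 := map_commutatorElement (QuotientGroup.mk' (Om T)) x y
      rw [QuotientGroup.mk'_apply] at h2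
      rw [h2]
      exact commutatorElement_eq_one_iff_mul_comm.mpr (hqc _ _)
    have cc : CommCentral T := commCentral_of_comm_mem hq
    by_cases hall : ∀ t : T, t ^ 2 ∈ Om T
    · exact ⟨hall, hq⟩
    · exfalso
      push Not at hall
      obtain ⟨t, ht⟩ := hall
      have htE : t ^ 2 ∈ Esub T := hCeq (sq_mem_Csub t)
      have htZ : t ^ 2 ∈ Subgroup.center T := by
        rw [Subgroup.mem_center_iff]
        intro g
        have h1 : ⁅t ^ 2, g⁆ = 1 := by rw [cc.comm_pow_left]; exact Om_sq (hq t g)
        exact (commutatorElement_eq_one_iff_mul_comm.mp h1).symm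
      have hDinv : SInv α (Subgroup.center T ⊓ Esub T) :=
        F3.sinv_inf F3.center_sinv (Esub_sinv α)
      have hDle : Nat.card ↥(Subgroup.center T ⊓ Esub T) ≤ 16 := by
        rw [← h16]; exact Subgroup.card_le_of_le inf_le_right
      have hΩD : Om T ≤ Subgroup.center T ⊓ Esub T := le_inf Om_le_center Om_le_Esub
      have h4le := Subgroup.card_le_of_le hΩD
      rw [h.card] at h4le
      have hD16 : Nat.card ↥(Subgroup.center T ⊓ Esub T) = 16 := by
        rcases h.card_cases _ hDinv (le_trans hDle (by norm_num)) with e | e | e | e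
        · omega
        · exfalso
          have heq : Om T = Subgroup.center T ⊓ Esub T :=
            Subgroup.eq_of_le_of_card_ge hΩD (by rw [e, h.card])
          apply ht
          rw [heq]
          exact ⟨htZ, htE⟩
        · exact e
        · omega
      have heq : Subgroup.center T ⊓ Esub T = Esub T :=
        Subgroup.eq_of_le_of_card_ge inf_le_right (by rw [hD16, h16])
      apply hCT
      rw [Subgroup.eq_top_iff']
      intro g
      rw [mem_Csub]
      intro e he
      have : e ∈ Subgroup.center T ⊓ Esub T := by rw [heq]; exact he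
      exact (Subgroup.mem_center_iff.mp this.1 g).symm
  · -- index sixteen: the inverting coset
    exfalso
    have htop : Ψ.range = ⊤ :=
      Subgroup.eq_top_of_card_eq _ (by rw [h16', Nat.card_prod, h.card])
    have hmem : ((⟨e₁ ^ 2, Esub_sq he₁⟩, ⟨(α e₁) ^ 2, Esub_sq he₂⟩) : ↥(Om T) × ↥(Om T)) ∈
        Ψ.range := by rw [htop]; exact Subgroup.mem_top _
    obtain ⟨t, ht⟩ := hmem
    have h1 : ⁅t, e₁⁆ = e₁ ^ 2 := congrArg (fun p : ↥(Om T) × ↥(Om T) => (p.1 : T)) ht
    have h2 : ⁅t, α e₁⁆ = (α e₁) ^ 2 := congrArg (fun p : ↥(Om T) × ↥(Om T) => (p.2 : T)) ht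
    exact false_of_inverting h h16 he₁ hne t h1 h2

end caseF

/-- the structure theorem -/
theorem main_structure : ∀ n : ℕ, ∀ (T : Type u) [Group T] [Finite T] (α : MulAut T),
    Nat.card T = n → Hyp α → ((∀ a b : T, a * b = b * a) ∨ Elem T) := by
  intro n
  induction n using Nat.strong_induction_on with
  | _ n IH =>
  intro T _ _ α hn h
  by_cases hab : ∀ a b : T, a * b = b * a
  · exact Or.inl hab
  -- `E` is bigger than `Om`
  have hex : ∃ x : T, x ∉ Om T := by
    by_contra hall
    push Not at hall
    apply hab
    intro a b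
    exact (Om_comm (hall b) a)
  obtain ⟨x₀, hx₀E, hx₀⟩ := exists_mem_Esub h.pg hex
  have hE4 : 4 < Nat.card (Esub T) := by
    by_contra hle
    push Not at hle
    have heq : Om T = Esub T := Subgroup.eq_of_le_of_card_ge Om_le_Esub (by rw [h.card]; exact hle)
    exact hx₀ (heq ▸ hx₀E)
  have hE128 : Nat.card (Esub T) ≤ 128 :=
    card_le_of_elem_sub h (Esub T) Om_le_Esub (fun x hx => Esub_sq hx)
      (fun x hx y _ => Esub_comm hx y)
  rcases h.card_cases (Esub T) (Esub_sinv α) hE128 with e | e | e | e
  · omega
  · omega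
  · -- `|E| = 16`
    by_cases hCT : Csub T = ⊤
    · left
      have hEZ : Esub T ≤ Subgroup.center T := by
        intro x hx
        rw [Subgroup.mem_center_iff]
        intro g
        have : g ∈ Csub T := by rw [hCT]; exact Subgroup.mem_top g
        exact ((mem_Csub g).mp this x hx).symm
      obtain ⟨β, hβ, hβh⟩ := h.quot_of_central hEZ e
      have hlt : Nat.card (T ⧸ Om T) < n := by
        have h1 := Subgroup.card_eq_card_quotient_mul_card_subgroup (Om T)
        rw [hn, h.card] at h1
        have : 0 < Nat.card (T ⧸ Om T) := Nat.card_pos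
        omega
      exact comm_of_central h hEZ e (IH _ hlt (T ⧸ Om T) β rfl hβh)
    · right
      obtain ⟨β, hβ, hβh⟩ := h.sub (Csub T) (Csub_sinv α) Om_le_Csub
      have hlt : Nat.card (Csub T) < n := by
        rw [← hn]
        apply lt_of_le_of_ne (Subgroup.card_le_card_group _)
        intro e'
        exact hCT (Subgroup.eq_top_of_card_eq _ e')
      have hEC := Esub_le_Csub h e
      have hCc : ∀ a ∈ Csub T, ∀ b ∈ Csub T, a * b = b * a := by
        have hsub : ∀ a b : ↥(Csub T), a * b = b * a := by
          rcases IH _ hlt ↥(Csub T) β rfl hβh with hc | hE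
          · exact hc
          · obtain ⟨hsqC, hcmC⟩ := elem_sub_iff h.cen (Csub T) hE
            have hC128 := card_le_of_elem_sub h (Csub T) Om_le_Csub hsqC hcmC
            have hC16 : 16 ≤ Nat.card (Csub T) := by
              rw [← e]; exact Subgroup.card_le_of_le hEC
            rcases h.card_cases (Csub T) (Csub_sinv α) hC128 with e' | e' | e' | e'
            · omega
            · omega
            · have heq : Esub T = Csub T := Subgroup.eq_of_le_of_card_ge hEC (by rw [e', e])
              intro a b
              apply Subtype.ext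
              have ha : (a : T) ∈ Esub T := by rw [heq]; exact a.2
              have hb : (b : T) ∈ Esub T := by rw [heq]; exact b.2
              exact Esub_commute h e a ha b hb
            · apply hβh.f3.comm_of_center_index
              have h1 := (Subgroup.center ↥(Csub T)).card_mul_index
              rw [e'] at h1
              have h2 : 16 ≤ Nat.card (Subgroup.center ↥(Csub T)) := by
                rw [← e]
                apply Nat.card_le_card_of_injective
                  (fun x : ↥(Esub T) => (⟨⟨(x : T), hEC x.2⟩, by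
                    rw [Subgroup.mem_center_iff]
                    intro g
                    exact Subtype.ext ((mem_Csub (g : T)).mp g.2 x x.2).symm⟩ :
                      ↥(Subgroup.center ↥(Csub T))))
                intro a b hab'
                have := congrArg (fun z : ↥(Subgroup.center ↥(Csub T)) => ((z : ↥(Csub T)) : T)) hab'
                exact Subtype.ext this
              by_contra hlt'
              push Not at hlt'
              have : 16 * 5 ≤ Nat.card (Subgroup.center ↥(Csub T)) *
                  (Subgroup.center ↥(Csub T)).index := Nat.mul_le_mul h2 hlt'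
              omega
        intro a ha b hb
        exact congrArg Subtype.val (hsub ⟨a, ha⟩ ⟨b, hb⟩)
      by_cases hCE : ∃ c ∈ Csub T, c ∉ Esub T
      · exact absurd (Csub_eq_top h e hCc hCE) hCT
      · push Not at hCE
        exact elem_of_Csub_le h e hCE hCT
  · -- `|E| = 64`
    exact Or.inr (elem_of_card_Esub h e)

end Cfsg.Agent.Lib.Helper4.Tw
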