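import Mathlib
import Cfsg.Agent.Lib.Helper4.Tw10

set_option autoImplicit false

/-! # The nonabelian case: `|T| = 64` and `α³ = 1` (for S1237) -/

namespace Cfsg.Agent.Lib.Helper4.Tw

open Cfsg.Agent.Lib.Helper7.Q64 (SInv)
open Cfsg.Agent.Lib.Helper1 (CommCentral)
open scoped commutatorElement

universe u

variable {T : Type u} [Group T] [Finite T] {α : MulAut T}

theorem card_eq_sixty_four (h : Hyp α) (hna : ¬ ∀ a b : T, a * b = b * a) (hE : Elem T) :
    Nat.card T = 64 := by
  have h128 := card_le_of_elem h.cen h.card hE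
  have hc := h.card_cases ⊤ F3.sinv_top (by rw [Subgroup.card_top]; exact h128)
  rw [Subgroup.card_top] at hc
  have hZ4 : 4 ≤ Nat.card (Subgroup.center T) := by
    rw [← h.card]; exact Subgroup.card_le_of_le Om_le_center
  have hZle := Subgroup.card_le_card_group (Subgroup.center T)
  have hidx := (Subgroup.center T).card_mul_index
  rcases hc with e | e | e | e
  · omega
  · exfalso
    apply hna
    apply h.f3.comm_of_center_index
    have hpos : (Subgroup.center T).index ≠ 0 := Subgroup.index_ne_zero_of_finite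
    have : Nat.card (Subgroup.center T) = 4 := by omega
    rw [this, e] at hidx
    omega
  · exfalso
    apply hna
    apply h.f3.comm_of_center_index
    rw [e] at hidx
    by_contra hlt
    push Not at hlt
    have : 4 * 5 ≤ Nat.card (Subgroup.center T) * (Subgroup.center T).index :=
      Nat.mul_le_mul hZ4 hlt
    omega
  · exact e

/-- the cube of `α` fixes an element outside `Om` -/
theorem exists_fixed_cube (h : Hyp α) (hE : Elem T) (h64 : Nat.card T = 64) :
    ∃ x : T, x ∉ Om T ∧ α (α (α x)) = x := by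
  classical
  have : Fintype T := Fintype.ofFinite _
  have : Fact (Nat.Prime 3) := ⟨by norm_num⟩
  -- an involution
  obtain ⟨w, hwΩ, hw1⟩ : ∃ w ∈ Om T, w ≠ 1 := by
    by_contra hall
    push Not at hall
    have hbot : Om T = ⊥ := (Subgroup.eq_bot_iff_forall _).mpr hall
    have := h.card
    rw [hbot, Subgroup.card_bot] at this
    omega
  obtain ⟨r1, r2⟩ := h.Om_rel hwΩ hw1
  have d1 : α w ≠ w := h.f3.ne_of_ne_one hw1
  have d2 : α (α w) ≠ α w := fun e => d1 (α.injective e)
  have d3 : α (α w) ≠ w := fun e => hw1 (h.f3.sq_fpf w e)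
  have hαw : α w ∈ Om T := Om_sinv α _ hwΩ
  have hααw : α (α w) ∈ Om T := Om_sinv α _ hαw
  have hfour := h.four_of_indep hwΩ hαw hw1 (F3.map_ne_one hw1) d1.symm
  rw [r1] at hfour
  -- the sixty elements outside `Om`
  obtain ⟨s, hs⟩ : ∃ s : Finset T, s = Finset.univ.filter (fun x : T => x ∉ Om T) := ⟨_, rfl⟩
  have hmem_s : ∀ x : T, x ∈ s ↔ x ∉ Om T := by
    intro x; rw [hs]; simp
  have hs60 : s.card = 60 := by
    have h1 := Finset.card_filter_add_card_filter_not (s := (Finset.univ : Finset T))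
      (fun x : T => x ∈ Om T)
    have h2 : (Finset.univ.filter (fun x : T => x ∈ Om T)).card = 4 := by
      rw [← h.card, Nat.card_eq_fintype_card, Fintype.card_subtype]
    rw [h2, Finset.card_univ, ← Nat.card_eq_fintype_card, h64, ← hs] at h1
    omega
  have hmaps : ∀ x ∈ s, x ^ 2 ∈ ({w, α w, α (α w)} : Finset T) := by
    intro x hx
    have hx' := (hmem_s x).mp hx
    have h1 : x ^ 2 ≠ 1 := fun e => hx' (mem_Om_of_sq h.cen e)
    simp only [Finset.mem_insert, Finset.mem_singleton]
    rcases hfour _ (hE.1 x) with e | e | e | e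
    · exact absurd e h1
    · exact Or.inl e
    · exact Or.inr (Or.inl e)
    · exact Or.inr (Or.inr e)
  have hfib := Finset.card_eq_sum_card_fiberwise hmaps
  rw [Finset.sum_insert (by simp [d1.symm, d3.symm]), Finset.sum_insert (by simp [d2.symm]),
    Finset.sum_singleton] at hfib
  have hbij : ∀ b : T, (s.filter (fun a => a ^ 2 = α b)).card = (s.filter (fun a => a ^ 2 = b)).card := by
    intro b
    symm
    apply Finset.card_bij (fun x _ => α x)
    · intro x hx
      rw [Finset.mem_filter] at hx ⊢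
      refine ⟨?_, by rw [← map_pow, hx.2]⟩
      rw [hmem_s] at hx ⊢
      intro hαx
      exact hx.1 ((F3.sinv_iff (Om_sinv α) x).mp hαx)
    · intro x _ y _ hxy
      exact α.injective hxy
    · intro y hy
      rw [Finset.mem_filter] at hy
      obtain ⟨x, rfl⟩ := α.surjective y
      refine ⟨x, ?_, rfl⟩
      rw [Finset.mem_filter]
      refine ⟨?_, ?_⟩
      · rw [hmem_s] at hy ⊢
        intro hx
        exact hy.1 (Om_sinv α _ hx)
      · have := hy.2
        rw [← map_pow] at this
        exact α.injective this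
  rw [hbij (α w), hbij w, hs60] at hfib
  have h20 : (s.filter (fun a => a ^ 2 = w)).card = 20 := by omega
  -- the cube of `α` acts on this fibre
  obtain ⟨a, ha⟩ := h.f3.pw
  have hstab : ∀ x ∈ s.filter (fun a => a ^ 2 = w), α (α (α x)) ∈ s.filter (fun a => a ^ 2 = w) := by
    intro x hx
    rw [Finset.mem_filter] at hx ⊢
    refine ⟨?_, by rw [← map_pow, ← map_pow, ← map_pow, hx.2, r2]⟩
    rw [hmem_s] at hx ⊢
    intro hαx
    exact hx.1 ((F3.sinv_iff (Om_sinv α) x).mp ((F3.sinv_iff (Om_sinv α) _).mp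
      ((F3.sinv_iff (Om_sinv α) _).mp hαx)))
  let f : Function.End ↥(s.filter (fun a => a ^ 2 = w)) := fun y => ⟨α (α (α (y : T))), hstab _ y.2⟩
  have hfn : ∀ (n : ℕ) (y : ↥(s.filter (fun a => a ^ 2 = w))),
      (((f ^ n) y : ↥(s.filter (fun a => a ^ 2 = w))) : T) = ((α ^ 3) ^ n) (y : T) := by
    intro n
    induction n with
    | zero => intro y; rfl
    | succ n ih =>
      intro y
      rw [pow_succ', pow_succ', MulAut.mul_apply]
      show α (α (α (((f ^ n) y : ↥(s.filter (fun a => a ^ 2 = w))) : T))) = _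
      rw [ih]
      rfl
  have hf : f ^ 3 ^ a = 1 := by
    apply funext
    intro y
    apply Subtype.ext
    rw [hfn, ← pow_mul, mul_comm, pow_mul, ha, one_pow]
    rfl
  have key := Equiv.Perm.card_fixedPoints_modEq (f := f) hf
  rw [Fintype.card_coe, h20] at key
  have hne : Nonempty ↥(Function.fixedPoints f) := by
    by_contra hemp
    rw [not_nonempty_iff] at hemp
    rw [Fintype.card_eq_zero] at key
    exact absurd key (by decide)
  obtain ⟨⟨y, hy⟩⟩ := hne
  refine ⟨(y : T), ?_, congrArg Subtype.val hy⟩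
  have := (Finset.mem_filter.mp y.2).1
  exact (hmem_s _).mp this

/-- the cube of `α` is trivial -/
theorem cube_eq (h : Hyp α) (hE : Elem T) (h64 : Nat.card T = 64) :
    ∀ x : T, α (α (α x)) = x := by
  have : Fact (Nat.Prime 2) := ⟨Nat.prime_two⟩
  -- the fixed points of `α³`
  let F : Subgroup T :=
    { carrier := {x | α (α (α x)) = x}
      one_mem' := by simp
      mul_mem' := by
        intro a b ha hb
        show α (α (α (a * b))) = a * b
        rw [map_mul, map_mul, map_mul, ha, hb]
      inv_mem' := by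
        intro a ha
        show α (α (α a⁻¹)) = a⁻¹
        rw [map_inv, map_inv, map_inv, ha] }
  have hFmem : ∀ x : T, x ∈ F ↔ α (α (α x)) = x := fun x => Iff.rfl
  have hFinv : SInv α F := by
    intro x hx
    rw [hFmem] at hx ⊢
    rw [hx]
  have hΩF : Om T ≤ F := by
    intro w hw
    rw [hFmem]
    by_cases hw1 : w = 1
    · rw [hw1]; simp
    · exact (h.Om_rel hw hw1).2
  obtain ⟨x₀, hx₀, hx₀F⟩ := exists_fixed_cube h hE h64
  have hF4 : 4 < Nat.card F := by
    by_contra hle
    push Not at hle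
    have heq : Om T = F := Subgroup.eq_of_le_of_card_ge hΩF (by rw [h.card]; exact hle)
    exact hx₀ (heq ▸ (hFmem x₀).mpr hx₀F)
  have hFn : F.Normal := by
    constructor
    intro n hn g
    have h1 : g * n * g⁻¹ = ⁅g, n⁆ * n := by rw [commutatorElement_def]; group
    rw [h1]
    exact F.mul_mem (hΩF (hE.2 g n)) hn
  -- `α³` is trivial modulo `F`
  have hmod : ∀ x : T, x⁻¹ * α (α (α x)) ∈ F := by
    have hle : Nat.card F ≤ 128 := le_trans (Subgroup.card_le_card_group F) (by rw [h64]; norm_num)
    rcases h.card_cases F hFinv hle with e | e | e | e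
    · omega
    · omega
    · obtain ⟨β, hβ, hβf⟩ := h.f3.quot F hFinv
      have hq4 : Nat.card (T ⧸ F) = 4 := by
        have h1 := Subgroup.card_eq_card_quotient_mul_card_subgroup F
        rw [h64, e] at h1
        omega
      intro x
      by_cases hx : (QuotientGroup.mk x : T ⧸ F) = 1
      · have hxF : x ∈ F := (QuotientGroup.eq_one_iff x).mp hx
        rw [(hFmem x).mp hxF, inv_mul_cancel]
        exact one_mem _
      · have h3 := (hβf.four hq4 hx).1
        rw [hβ, hβ, hβ] at h3
        exact QuotientGroup.eq.mp h3.symm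
    · intro x
      have htop : F = ⊤ := Subgroup.eq_top_of_card_eq _ (by rw [e, h64])
      rw [htop]
      exact Subgroup.mem_top _
  intro x
  obtain ⟨y, hy⟩ : ∃ y : T, y = x⁻¹ * α (α (α x)) := ⟨_, rfl⟩
  have hyF : y ∈ F := hy ▸ hmod x
  have hαx : (α ^ 3) x = x * y := by
    rw [hy, pow_succ, pow_two, MulAut.mul_apply, MulAut.mul_apply]; group
  have hαy : (α ^ 3) y = y := by
    rw [pow_succ, pow_two, MulAut.mul_apply, MulAut.mul_apply]
    exact (hFmem y).mp hyF
  have hiter : ∀ k : ℕ, ((α ^ 3) ^ k) x = x * y ^ k := by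
    intro k
    induction k with
    | zero => simp
    | succ k ih =>
      rw [pow_succ', MulAut.mul_apply, ih, map_mul, map_pow, hαx, hαy, pow_succ', mul_assoc]
  obtain ⟨a, ha⟩ := h.f3.pw
  have h1 := hiter (3 ^ a)
  rw [← pow_mul, mul_comm, pow_mul, ha, one_pow] at h1
  have hy3 : y ^ (3 ^ a) = 1 := by
    have : x = x * y ^ 3 ^ a := h1
    exact (left_eq_mul.mp this)
  obtain ⟨m, hm⟩ := (IsPGroup.iff_orderOf.mp h.pg) y
  have hdvd : orderOf y ∣ 3 ^ a := orderOf_dvd_of_pow_eq_one hy3
  rw [hm] at hdvd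
  have hcop : Nat.Coprime (2 ^ m) (3 ^ a) := Nat.Coprime.pow _ _ (by norm_num)
  have h2m : 2 ^ m = 1 := Nat.Coprime.eq_one_of_dvd hcop hdvd
  rw [h2m, orderOf_eq_one_iff] at hm
  rw [hm, mul_one, pow_succ, pow_two, MulAut.mul_apply, MulAut.mul_apply] at hαx
  exact hαx

end Cfsg.Agent.Lib.Helper4.Tw
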