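import Mathlib
import Cfsg.Agent.Lib.Helper4.Tw11
import Cfsg.Agent.Lib.Helper4.Tw12
import Cfsg.Agent.Lib.Helper1.MC2
import Cfsg.Prelude.Def_CaseTheorems

set_option autoImplicit false

/-! # S1237: conclusion from the standing hypotheses, and the reduction to them -/

namespace Cfsg.Agent.Lib.Helper4.Tw

open Cfsg.Agent.Lib.Helper7.Q64 (SInv FPF3)
open Cfsg.Agent.Lib.Helper1 (CommCentral)
open scoped commutatorElement

universe u

section conclusion

variable {T : Type u} [Group T] [Finite T] {α : MulAut T}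

open Cfsg.Agent.Lib.Helper7.R33 in
theorem hyp_conclusion (h : Hyp α) :
    (∃ n : ℕ, 1 ≤ n ∧ Nonempty (T ≃* Multiplicative (ZMod (2 ^ n) × ZMod (2 ^ n)))) ∨
      Nonempty (M64 ≃* T) := by
  by_cases hab : ∀ a b : T, a * b = b * a
  · left
    obtain ⟨v, hv⟩ := h.gen_of_comm hab
    have hgen : Cfsg.Agent.Lib.Helper1.MC.Gen v (α v) := by
      intro x
      obtain ⟨i, j, hij⟩ := hv x
      exact ⟨i, j, by rw [zpow_natCast, zpow_natCast]; exact hij⟩
    have hno : Cfsg.Agent.Lib.Helper1.MC.NoInv α := by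
      intro M hM hinv
      have h1 := h.f3.index_mod M hinv
      rw [hM] at h1
      omega
    obtain ⟨n, ⟨e⟩⟩ := Cfsg.Agent.Lib.Helper1.MC.abelian_case h.pg hab v (α v) hgen α hno
    refine ⟨n, ?_, ⟨e.trans (MulEquiv.prodMultiplicative _ _).symm⟩⟩
    have hc : Nat.card T = 2 ^ n * 2 ^ n := by
      rw [Nat.card_congr e.toEquiv, Nat.card_prod,
        Nat.card_congr (Multiplicative.toAdd (α := ZMod (2 ^ n))), Nat.card_zmod]
    have h4 : 4 ≤ Nat.card T := by
      rw [← h.card]; exact Subgroup.card_le_card_group _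
    by_contra hn
    have hn0 : n = 0 := by omega
    rw [hn0] at hc
    simp at hc
    omega
  · right
    have hE : Elem T := by
      rcases main_structure (Nat.card T) T α rfl h with hc | hE
      · exact absurd hc hab
      · exact hE
    have h64 := card_eq_sixty_four h hab hE
    have hf : FPF3 α := ⟨cube_eq h hE h64, h.f3.fpf⟩
    have S := Cfsg.Agent.Lib.Helper7.Q64.sp64_of h64 hab hf
    exact iso_of_aniso S h64 h.cen

end conclusion

section reduction

variable {T : Type u} [Group T] [Finite T]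

/-- two independent elements exhaust a four-group `Om T` -/
theorem Om_four_of_indep (hcard : Nat.card (Om T) = 4) {a b : T} (ha : a ∈ Om T) (hb : b ∈ Om T)
    (ha1 : a ≠ 1) (hb1 : b ≠ 1) (hab : a ≠ b) :
    ∀ w ∈ Om T, w = 1 ∨ w = a ∨ w = b ∨ w = a * b := by
  classical
  have : Fintype ↥(Om T) := Fintype.ofFinite _
  have habΩ : a * b ∈ Om T := (Om T).mul_mem ha hb
  have d1 : a * b ≠ 1 := by
    intro e
    apply hab
    have : a = b⁻¹ := eq_inv_of_mul_eq_one_left e
    rw [this, Om_inv hb]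
  have d2 : a * b ≠ a := fun e => hb1 (mul_eq_left.mp e)
  have d3 : a * b ≠ b := fun e => ha1 (mul_eq_right.mp e)
  have hS : ({⟨1, (Om T).one_mem⟩, ⟨a, ha⟩, ⟨b, hb⟩, ⟨a * b, habΩ⟩} : Finset ↥(Om T)).card = 4 := by
    rw [Finset.card_insert_of_notMem, Finset.card_insert_of_notMem,
      Finset.card_insert_of_notMem, Finset.card_singleton]
    all_goals
      simp only [Finset.mem_insert, Finset.mem_singleton, Subtype.mk.injEq, not_or]
      first
        | exact ⟨ha1.symm, hb1.symm, d1.symm⟩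
        | exact ⟨hab, d2.symm⟩
        | exact d3.symm
  have huniv := Finset.eq_univ_of_card _
    (hS.trans (by rw [← hcard, Nat.card_eq_fintype_card]))
  intro w hw
  have hm : (⟨w, hw⟩ : ↥(Om T)) ∈ (Finset.univ : Finset ↥(Om T)) := Finset.mem_univ _
  rw [← huniv] at hm
  simp only [Finset.mem_insert, Finset.mem_singleton, Subtype.mk.injEq] at hm
  exact hm

/-- the reduction of the hypotheses of S1237 to the standing hypotheses -/
theorem exists_hyp (hT : IsPGroup 2 T) (h2 : Cfsg.PRankLE 2 2 T) (h1 : ¬ Cfsg.PRankLE 2 1 T)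
    (φ : MulAut T)
    (htrans : ∀ s t : T, orderOf s = 2 → orderOf t = 2 → ∃ k : ℕ, (φ ^ k) s = t) :
    ∃ α : MulAut T, Hyp α := by
  have : Fact (Nat.Prime 2) := ⟨Nat.prime_two⟩
  have hord : ∀ x : T, x ^ 2 = 1 → x ≠ 1 → orderOf x = 2 := fun x hx hx1 =>
    orderOf_eq_prime hx hx1
  -- a four-group
  unfold Cfsg.PRankLE at h1
  push Not at h1
  obtain ⟨A, hAc, hA2, hAcard⟩ := h1
  have hA3 : 2 < Nat.card A := by simpa using hAcard
  obtain ⟨s, t, hsA, htA, hs1, ht1, hst⟩ : ∃ s t : T, s ∈ A ∧ t ∈ A ∧ s ≠ 1 ∧ t ≠ 1 ∧ s ≠ t := by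
    have : Fintype ↥A := Fintype.ofFinite _
    rw [Nat.card_eq_fintype_card] at hA3
    obtain ⟨a, b, c, hab, hac, hbc⟩ := Fintype.two_lt_card_iff.mp hA3
    have hab' : (a : T) ≠ (b : T) := fun e => hab (Subtype.ext e)
    have hac' : (a : T) ≠ (c : T) := fun e => hac (Subtype.ext e)
    have hbc' : (b : T) ≠ (c : T) := fun e => hbc (Subtype.ext e)
    by_cases ha : (a : T) = 1
    · exact ⟨b, c, b.2, c.2, fun e => hab' (ha.trans e.symm), fun e => hac' (ha.trans e.symm), hbc'⟩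
    · by_cases hb : (b : T) = 1
      · exact ⟨a, c, a.2, c.2, ha, fun e => hbc' (hb.trans e.symm), hac'⟩
      · exact ⟨a, b, a.2, b.2, ha, hb, hab'⟩
  have hs2 : s ^ 2 = 1 := hA2 s hsA
  have ht2 : t ^ 2 = 1 := hA2 t htA
  -- a central involution
  have hnt : Nontrivial T := ⟨⟨s, 1, hs1⟩⟩
  have hcn : Nontrivial (Subgroup.center T) := hT.center_nontrivial
  obtain ⟨k, hk⟩ := (hT.to_subgroup (Subgroup.center T)).exists_card_eq
  have hk0 : k ≠ 0 := by
    intro e
    rw [e, pow_zero] at hk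
    have := Finite.one_lt_card (α := ↥(Subgroup.center T))
    omega
  have hdvd : 2 ∣ Nat.card ↥(Subgroup.center T) := by rw [hk]; exact dvd_pow_self 2 hk0
  obtain ⟨z, hz⟩ := exists_prime_orderOf_dvd_card' 2 hdvd
  have hz' : orderOf (z : T) = 2 := by rw [Subgroup.orderOf_coe]; exact hz
  have hpowZ : ∀ (n : ℕ) (x : T), x ∈ Subgroup.center T → (φ ^ n) x ∈ Subgroup.center T :=
    fun n x hx => F3.pow_apply_mem (F3.center_sinv (α := φ)) n x hx
  have hcen : ∀ x : T, x ^ 2 = 1 → x ∈ Subgroup.center T := by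
    intro x hx
    by_cases hx1 : x = 1
    · rw [hx1]; exact one_mem _
    · obtain ⟨n, hn⟩ := htrans (z : T) x hz' (hord x hx hx1)
      rw [← hn]
      exact hpowZ n _ z.2
  -- `Om T` has order four
  have hΩ4 : Nat.card (Om T) = 4 := by
    have hmc : IsMulCommutative ↥(Om T) := ⟨⟨fun a b => Subtype.ext (Om_comm b.2 (a : T))⟩⟩
    have hle : Nat.card (Om T) ≤ 2 ^ 2 := h2 (Om T) hmc (fun a ha => Om_sq ha)
    have hAΩ : A ≤ Om T := fun a ha => mem_Om_of_sq hcen (hA2 a ha)
    have hge := Subgroup.card_le_of_le hAΩ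
    obtain ⟨j, hj⟩ := (hT.to_subgroup (Om T)).exists_card_eq
    rw [hj] at hle hge ⊢
    have hj2 : j ≤ 2 := by
      by_contra hlt
      push Not at hlt
      have : 2 ^ 3 ≤ 2 ^ j := Nat.pow_le_pow_right (by norm_num) hlt
      omega
    interval_cases j <;> omega
  -- `φ` fixes no involution
  have hφfix : ∀ x : T, x ^ 2 = 1 → x ≠ 1 → φ x ≠ x := by
    intro x hx hx1 hφx
    have hall : ∀ n : ℕ, (φ ^ n) x = x := by
      intro n
      induction n with
      | zero => simp
      | succ n ih => rw [pow_succ, MulAut.mul_apply, hφx, ih]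
    have e1 : s = x := by
      obtain ⟨n, hn⟩ := htrans x s (hord x hx hx1) (hord s hs2 hs1)
      rw [← hn, hall]
    have e2 : t = x := by
      obtain ⟨n, hn⟩ := htrans x t (hord x hx hx1) (hord t ht2 ht1)
      rw [← hn, hall]
    exact hst (e1.trans e2.symm)
  have hφΩ : ∀ x : T, x ∈ Om T → φ x ∈ Om T := Om_sinv φ
  -- the action on involutions is a three-cycle
  have hcyc : ∀ x : T, x ^ 2 = 1 → x ≠ 1 → φ (φ x) ≠ x ∧ φ (φ (φ x)) = x := by
    intro x hx hx1
    have hxΩ : x ∈ Om T := mem_Om_of_sq hcen hx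
    have hφx1 : φ x ≠ 1 := F3.map_ne_one hx1
    have hφxΩ := hφΩ x hxΩ
    have hne := hφfix x hx hx1
    have hfour := Om_four_of_indep hΩ4 hxΩ hφxΩ hx1 hφx1 hne.symm
    have hφφx1 : φ (φ x) ≠ 1 := F3.map_ne_one hφx1
    have hφφne : φ (φ x) ≠ φ x := hφfix (φ x) (Om_sq hφxΩ) hφx1
    have hp : φ (φ x) = x * φ x := by
      rcases hfour _ (hφΩ _ hφxΩ) with e | e | e | e
      · exact absurd e hφφx1
      · exfalso
        -- then `φ` fixes `x * φ x`
        have hpΩ : x * φ x ∈ Om T := (Om T).mul_mem hxΩ hφxΩ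
        have hp1 : x * φ x ≠ 1 := by
          intro e'
          apply hne
          have : φ x = x⁻¹ := eq_inv_of_mul_eq_one_right e'
          rw [this, Om_inv hxΩ]
        apply hφfix (x * φ x) (Om_sq hpΩ) hp1
        rw [map_mul, e]
        exact (Om_comm hxΩ (φ x))
      · exact absurd e hφφne
      · exact e
    refine ⟨?_, ?_⟩
    · rw [hp]
      intro e
      exact hφx1 (mul_eq_left.mp e)
    · rw [hp, map_mul, hp, ← mul_assoc, Om_comm hxΩ (φ x), mul_assoc, Om_mul_self hφxΩ, mul_one]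
  -- the `3`-part of `φ`
  have hfinA : Finite (MulAut T) :=
    Finite.of_injective (fun f : MulAut T => (f : T → T)) (fun f g hfg => MulEquiv.ext (congrFun hfg))
  have hm : orderOf φ ≠ 0 := (orderOf_pos φ).ne'
  obtain ⟨a, m', hm'3, hmeq⟩ := Nat.exists_eq_pow_mul_and_not_dvd hm 3 (by norm_num)
  obtain ⟨α, hα⟩ : ∃ α : MulAut T, α = φ ^ m' := ⟨_, rfl⟩
  have hαpw : α ^ (3 ^ a) = 1 := by
    rw [hα, ← pow_mul, mul_comm, ← hmeq, pow_orderOf_eq_one]
  have hαinv : ∀ x : T, x ^ 2 = 1 → x ≠ 1 → α x ≠ x := by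
    intro x hx hx1
    obtain ⟨hc2, hc3⟩ := hcyc x hx hx1
    have h3 : ∀ j : ℕ, (φ ^ (3 * j)) x = x := by
      intro j
      induction j with
      | zero => simp
      | succ j ih =>
        rw [mul_add, mul_one, pow_add, MulAut.mul_apply]
        have : (φ ^ 3) x = x := by
          rw [pow_succ, pow_two, MulAut.mul_apply, MulAut.mul_apply]; exact hc3
        rw [this, ih]
    have hsplit : (φ ^ m') x = (φ ^ (m' % 3)) x := by
      conv_lhs => rw [← Nat.mod_add_div m' 3, pow_add, MulAut.mul_apply, h3]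
    rw [hα, hsplit]
    have hlt : m' % 3 < 3 := Nat.mod_lt _ (by norm_num)
    have hne0 : m' % 3 ≠ 0 := fun e => hm'3 (Nat.dvd_of_mod_eq_zero e)
    obtain ⟨r, hr⟩ : ∃ r : ℕ, r = m' % 3 := ⟨_, rfl⟩
    rw [← hr] at hlt hne0 ⊢
    interval_cases r
    · exact absurd rfl hne0
    · rw [pow_one]; exact hφfix x hx hx1
    · rw [pow_two, MulAut.mul_apply]; exact hc2
  have hfpf : ∀ x : T, α x = x → x = 1 := by
    intro x hx
    by_contra hx1
    obtain ⟨j, hj⟩ := (IsPGroup.iff_orderOf.mp hT) x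
    have hj0 : j ≠ 0 := by
      intro e
      rw [e, pow_zero, orderOf_eq_one_iff] at hj
      exact hx1 hj
    obtain ⟨j', rfl⟩ := Nat.exists_eq_succ_of_ne_zero hj0
    have hy2 : (x ^ (2 ^ j')) ^ 2 = 1 := by
      rw [← pow_mul, ← pow_succ, ← hj, pow_orderOf_eq_one]
    have hy1 : x ^ (2 ^ j') ≠ 1 := by
      intro e
      have h1 := orderOf_dvd_of_pow_eq_one e
      rw [hj] at h1
      have h2 := Nat.le_of_dvd (by positivity) h1
      have h3 : 2 ^ j' < 2 ^ (j' + 1) := Nat.pow_lt_pow_right (by norm_num) (by omega)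
      omega
    apply hαinv _ hy2 hy1
    rw [map_pow, hx]
  exact ⟨α, hT, ⟨⟨a, hαpw⟩, hfpf⟩, hcen, hΩ4⟩

end reduction

end Cfsg.Agent.Lib.Helper4.Tw
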