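import Mathlib
import Cfsg.Agent.Lib.Helper5.Tw6Ev.Defs
import Cfsg.Agent.Lib.Helper5.ChevTwistBN
import Cfsg.Agent.Lib.Helper5.Tw2E6BN
import Cfsg.Agent.Lib.Helper5.Tw2E6H
import Cfsg.Agent.Lib.Helper5.ChevWKer
import Cfsg.Agent.Lib.Helper5.ChevNormal
import Cfsg.Agent.Lib.Helper6.Char2WGL
import Cfsg.Agent.Lib.Helper1.TorusCent
import Cfsg.Agent.Lib.Helper4.D4InvB

set_option autoImplicit false
set_option maxHeartbeats 4000000

/-!
# Farm 2E6EV (S2182), unit B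

An involution of `N ∩ ²E₆(q)` (`q` even) is conjugate under `H ∩ ²E₆(q)` to `n_w`, `w` an
involutive word in the orbits.
-/

namespace Cfsg.Agent.Lib.Helper4.Tw6Ev

open Cfsg Cfsg.Lie Cfsg.Agent.Lib.Helper5.ChevSym Cfsg.Agent.Lib.Helper5.ChevStruct
  Cfsg.Agent.Lib.Helper5.Tw2E6 Cfsg.Agent.Lib.Helper5.Tw6Ev

variable {K : Type*} [Field K] [Fintype K] [CharP K 2] {q : ℕ} (hq : IsPrimePow q)
  (hK : Fintype.card K = q ^ 2) (f : K →+* K) (hf : ∀ x, f x = x ^ q) (hf2 : ∀ x, f (f x) = x)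

include hK in
theorem h4_q_even6 : 2 ∣ q := by
  obtain ⟨n, -, hn⟩ := FiniteField.card K 2
  have h : 2 ∣ q ^ 2 := by
    rw [← hK, hn]
    exact dvd_pow_self 2 n.ne_zero
  exact Nat.Prime.dvd_of_dvd_pow Nat.prime_two h

include hq hK in
/-- `H ∩ ²E₆(q)` has odd order for even `q` -/
theorem h4_card_diag_twisted_odd6 :
    Odd (Nat.card ↥(chevE6.diagonalSubgroup K ⊓ twistedE6 K q)) := by
  have hc := card_diag_twisted (K := K) hq hK
  obtain ⟨k, hk⟩ := h4_q_even6 (K := K) hK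
  have hk1 : 1 ≤ k := by
    have := hq.two_le
    omega
  obtain ⟨j, rfl⟩ : ∃ j, k = j + 1 := ⟨k - 1, by omega⟩
  subst hk
  have e1 : 2 * (j + 1) - 1 = 2 * j + 1 := by omega
  have hodd : Odd ((2 * (j + 1) - 1) ^ 4 * (2 * (j + 1) + 1) ^ 2) := by
    rw [e1]
    apply Odd.mul
    · exact Odd.pow ⟨j, rfl⟩
    · exact Odd.pow ⟨j + 1, rfl⟩
  exact Odd.of_dvd_nat hodd (Dvd.intro_left _ hc)

include hq hK f hf hf2 in
/-- Unit B: an involution of `N ∩ ²E₆(q)` is conjugate (under `H ∩ ²E₆(q)`) to `n_w`,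
`w` an involutive word in the orbits -/
theorem B_N_invol (n : GL chevE6.Idx K) (hn : n ∈ chevE6.monomialSubgroup K)
    (hnG : n ∈ twistedE6 K q) (h2 : n * n = 1) :
    ∃ k ∈ twistedE6 K q, ∃ Js : List (List ℕ), (∀ J ∈ Js, J ∈ orbits) ∧
      k * n * k⁻¹ = wGL chevE6 hE6 Js.flatten ∧
      ∀ r < 72, wAct chevE6 (Js.flatten ++ Js.flatten) r = r := by
  have hyp := hyp6 hq hK f hf hf2
  obtain ⟨Js, hJs, h, hh, e⟩ := twisted_monomial chevE6 hE6 gE6 chkGraphPerm_gE6 hyp.hG hyp.hS f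
    rho6 hyp.hrho orbits hyp.hO (twistedE6 K q) hyp.hG1 hyp.hn n hn hnG
  have hst := stable_flatten chevE6 hE6 gE6 orbits hyp.hO Js hJs
  have hwd : Wd chevE6 Js.flatten := hst.1
  have hwN : (wGL chevE6 hE6 Js.flatten : GL chevE6.Idx K) ∈ chevE6.monomialSubgroup K :=
    wGL_mem chevE6 hE6 _ hwd
  have hwG : (wGL chevE6 hE6 Js.flatten : GL chevE6.Idx K) ∈ twistedE6 K q :=
    wGL_flatten_mem chevE6 hE6 orbits _ hyp.hn Js hJs
  obtain ⟨hhD, hhG⟩ := Subgroup.mem_inf.1 hh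
  have hconj := (conj_monomial_diag_mem chevE6 hE6 _ hwN h hhD).2
  have hww_diag : (wGL chevE6 hE6 (Js.flatten ++ Js.flatten) : GL chevE6.Idx K)
      ∈ chevE6.diagonalSubgroup K := by
    rw [wGL_append]
    have e0 : wGL chevE6 hE6 Js.flatten * h * (wGL chevE6 hE6 Js.flatten * h) = 1 := by
      rw [← e]; exact h2
    have e1 : (wGL chevE6 hE6 Js.flatten : GL chevE6.Idx K) * wGL chevE6 hE6 Js.flatten
        = (((wGL chevE6 hE6 Js.flatten)⁻¹ * h * wGL chevE6 hE6 Js.flatten) * h)⁻¹ := by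
      apply eq_inv_of_mul_eq_one_left
      calc (wGL chevE6 hE6 Js.flatten : GL chevE6.Idx K) * wGL chevE6 hE6 Js.flatten *
            ((wGL chevE6 hE6 Js.flatten)⁻¹ * h * wGL chevE6 hE6 Js.flatten * h)
          = wGL chevE6 hE6 Js.flatten * h * (wGL chevE6 hE6 Js.flatten * h) := by group
        _ = 1 := e0
    rw [e1]
    exact inv_mem (mul_mem hconj hhD)
  have hact : ∀ r < 72, wAct chevE6 (Js.flatten ++ Js.flatten) r = r :=
    act_of_wGL_mem_diagonal (F := K) chevE6 hE6 _ (hwd.append hwd) hww_diag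
  have hww : (wGL chevE6 hE6 Js.flatten : GL chevE6.Idx K) * wGL chevE6 hE6 Js.flatten = 1 := by
    rw [← wGL_append]
    exact Cfsg.Agent.Lib.Helper6.Char2WGL.h6_wGL_eq_one_char2 chevE6 hE6 _ (hwd.append hwd) hact
  have hodd := h4_card_diag_twisted_odd6 (K := K) hq hK
  have hfin : Finite ↥(chevE6.diagonalSubgroup K ⊓ twistedE6 K q) := by
    apply Nat.finite_of_card_ne_zero
    intro h0
    rw [h0] at hodd
    exact (by decide : ¬ Odd 0) hodd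
  have hab : ∀ x ∈ chevE6.diagonalSubgroup K ⊓ twistedE6 K q,
      ∀ y ∈ chevE6.diagonalSubgroup K ⊓ twistedE6 K q, x * y = y * x :=
    fun x hx y hy => Cfsg.Agent.Lib.Helper1.TorusCent.diag_comm chevE6 hE6 x y
      (Subgroup.mem_inf.1 hx).1 (Subgroup.mem_inf.1 hy).1
  have hnorm : ∀ x ∈ chevE6.diagonalSubgroup K ⊓ twistedE6 K q,
      n * x * n⁻¹ ∈ chevE6.diagonalSubgroup K ⊓ twistedE6 K q := by
    intro x hx
    obtain ⟨hx1, hx2⟩ := Subgroup.mem_inf.1 hx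
    exact Subgroup.mem_inf.2 ⟨(conj_monomial_diag_mem chevE6 hE6 n hn x hx1).1,
      (twistedE6 K q).mul_mem ((twistedE6 K q).mul_mem hnG hx2) ((twistedE6 K q).inv_mem hnG)⟩
  have hh' : n⁻¹ * wGL chevE6 hE6 Js.flatten ∈ chevE6.diagonalSubgroup K ⊓ twistedE6 K q := by
    have e2 : n⁻¹ * wGL chevE6 hE6 Js.flatten = h⁻¹ := by rw [e]; group
    rw [e2]
    exact inv_mem hh
  obtain ⟨k, hk, hk2⟩ := Cfsg.Agent.Lib.Helper4.D4Inv.invol_lift_conj
    (chevE6.diagonalSubgroup K ⊓ twistedE6 K q) hab hodd n (wGL chevE6 hE6 Js.flatten) h2 hww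
    hnorm hh'
  exact ⟨k, (Subgroup.mem_inf.1 hk).2, Js, hJs, hk2, hact⟩

end Cfsg.Agent.Lib.Helper4.Tw6Ev
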