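import Mathlib
import Cfsg.Agent.Lib.Helper5.Tw6Ev.Defs
import Cfsg.Agent.Lib.Helper5.ChevTwistBN
import Cfsg.Agent.Lib.Helper5.Tw2E6BN
import Cfsg.Agent.Lib.Helper6.Char2WGL

set_option autoImplicit false
set_option maxHeartbeats 4000000

/-!
# Farm 2E6EV (S2182), unit C

Conjugation of an involutive `n_w` (`w` a word in the orbits) to one of the seven
representatives, given the table unit `T_reps` (taken as a hypothesis `hT`).
-/

namespace Cfsg.Agent.Lib.Helper4.Tw6Ev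

open Cfsg Cfsg.Lie Cfsg.Agent.Lib.Helper5.ChevSym Cfsg.Agent.Lib.Helper5.ChevStruct
  Cfsg.Agent.Lib.Helper5.Tw2E6 Cfsg.Agent.Lib.Helper5.Tw6Ev Cfsg.Agent.Lib.Helper6.Char2WGL

variable {K : Type*} [Field K] [CharP K 2]

/-- in characteristic two `n_w` only depends on the action of `w` (copy of helper6's
`A1h_wGL_congr`, to keep the import closure small) -/
theorem h4_wGL_congr (D : ChevalleyDatum) (hD : D ∈ Seven) (a b : List ℕ)
    (ha : Wd D a) (hb : Wd D b) (h : ∀ r < D.nroots, wAct D a r = wAct D b r) :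
    (wGL D hD a : GL D.Idx K) = wGL D hD b := by
  have h1 := h6_wGL_congr_char2 (K := K) D hD a b ha hb (fun r hr => by
    rw [wAct_append, h _ (wAct_lt D hD _ hb.reverse r hr)]
    exact wAct_reverse D hD b hb r hr)
  have h2 := h6_wGL_congr_char2 (K := K) D hD b b hb hb (fun r hr => by
    rw [wAct_append]
    exact wAct_reverse D hD b hb r hr)
  rw [← h2] at h1
  exact mul_right_cancel h1

/-- in characteristic two `(n_w)⁻¹ = n_{w⁻¹}` -/
theorem h4_wGL_inv (D : ChevalleyDatum) (hD : D ∈ Seven) (a : List ℕ) (ha : Wd D a) :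
    ((wGL D hD a)⁻¹ : GL D.Idx K) = wGL D hD a.reverse := by
  have h2 := h6_wGL_congr_char2 (K := K) D hD a a ha ha (fun r hr => by
    rw [wAct_append]
    exact wAct_reverse D hD a ha r hr)
  exact inv_eq_of_mul_eq_one_right h2

variable {q : ℕ} (f : K →+* K) (hf : ∀ x, f x = x ^ q)

include f hf in
/-- Unit C, with the table unit `T_reps` as a hypothesis -/
theorem C_conj_rep_of
    (hT : ∀ Js : List (List ℕ), (∀ J ∈ Js, J ∈ orbits) →
      (∀ r < 72, wAct chevE6 (Js.flatten ++ Js.flatten) r = r) →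
      (∃ r < 72, wAct chevE6 Js.flatten r ≠ r) →
      ∃ Us : List (List ℕ), (∀ J ∈ Us, J ∈ orbits) ∧ ∃ j < 7, ∀ r < 72,
        wAct chevE6 (Us.flatten ++ Js.flatten ++ Us.flatten.reverse) r = wAct chevE6 (rep j) r)
    (Js : List (List ℕ)) (hJs : ∀ J ∈ Js, J ∈ orbits)
    (h2 : ∀ r < 72, wAct chevE6 (Js.flatten ++ Js.flatten) r = r)
    (hne : (wGL chevE6 hE6 Js.flatten : GL chevE6.Idx K) ≠ 1) :
    ∃ g ∈ twistedE6 K q, ∃ j < 7,
      g * wGL chevE6 hE6 Js.flatten * g⁻¹ = wGL chevE6 hE6 (rep j) := by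
  have hstJ := stable_flatten chevE6 hE6 gE6 orbits orbsOK6 Js hJs
  have hwdJ : Wd chevE6 Js.flatten := hstJ.1
  have hr : ∃ r < 72, wAct chevE6 Js.flatten r ≠ r := by
    by_contra hcon
    push Not at hcon
    exact hne (h6_wGL_eq_one_char2 chevE6 hE6 _ hwdJ hcon)
  obtain ⟨Us, hUs, j, hj, hact⟩ := hT Js hJs h2 hr
  have hstU := stable_flatten chevE6 hE6 gE6 orbits orbsOK6 Us hUs
  have hwdU : Wd chevE6 Us.flatten := hstU.1
  have hwdR : Wd chevE6 (rep j) :=
    (stable_flatten chevE6 hE6 gE6 orbits orbsOK6 (repJ j) (repJ_mem j hj)).1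
  refine ⟨wGL chevE6 hE6 Us.flatten,
    wGL_flatten_mem chevE6 hE6 orbits _ (nJ_mem f hf) Us hUs, j, hj, ?_⟩
  rw [h4_wGL_inv chevE6 hE6 _ hwdU, ← wGL_append, ← wGL_append]
  exact h4_wGL_congr chevE6 hE6 _ _ ((hwdU.append hwdJ).append hwdU.reverse) hwdR hact

end Cfsg.Agent.Lib.Helper4.Tw6Ev
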