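import Mathlib
import Cfsg.Agent.Lib.Helper4.TwAutB3a
import Cfsg.Agent.Lib.Helper4.TwAutA2a
import Cfsg.Agent.Lib.Helper6.TwAutT2
import Cfsg.Agent.Lib.Helper6.TwAutB2

set_option autoImplicit false
set_option linter.unusedVariables false
set_option linter.unusedSectionVars false

/-!
TWISTED-OUT farm, unit B3: a node goes to a node.
-/

namespace Cfsg.Agent.Lib.Helper4.TwAut

open Cfsg Cfsg.Lie Cfsg.Agent.Lib.Helper5.ChevStruct Cfsg.Agent.Lib.Helper5.ChevSym
open Cfsg.Agent.Lib.Helper5.TwAut Cfsg.Agent.Lib.Helper5.RankOneHom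

variable {K : Type*} [Field K] [Fintype K] (D : ChevalleyDatum) (hD : D ∈ Seven) (G : GraphData)
  (hp : checkGraphPerm D G = true) (f : K →+* K) (rho : Equiv.Perm (Fin D.rank))
  (orbs : List (List ℕ)) (G1 : Subgroup (GL D.Idx K)) (m : ℕ)
  (hyp : TwAutHyp D hD G hp f rho orbs G1 m)

include hyp in
/-- B3 : a node goes to a node -/
theorem exists_node_map (θ : ↥G1 ≃* ↥G1)
    (hU : MapsT G1 θ (D.posUnipotent K) (D.posUnipotent K))
    (hV : MapsT G1 θ (D.negUnipotent K) (D.negUnipotent K)) (J : List ℕ) (hJ : J ∈ orbs) :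
    ∃ (J' : List ℕ) (hJ' : J' ∈ orbs),
      ((bnT hyp).parabolic {nT hyp J hJ}).map θ.toMonoidHom = (bnT hyp).parabolic {nT hyp J' hJ'} ∧
      MapsT G1 θ (rootSetSub D K (negJ D J)) (rootSetSub D K (negJ D J')) :=
  h4_exists_node_map D hD G hp f rho orbs G1 m hyp
    (fun J hJ g hg hgV =>
      Cfsg.Agent.Lib.Helper6.TwAutB2.parabolic_inf_neg_T D hD G hp f rho orbs G1 m hyp J hJ g hg hgV)
    (fun J hJ g hg hg1 =>
      Cfsg.Agent.Lib.Helper6.TwAutT2.exists_yT_of_mem D hD G hp f rho orbs G1 m hyp J hJ g hg hg1)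
    θ (mapsT_borel D hD G hp f rho orbs G1 m hyp θ hU) hV J hJ

end Cfsg.Agent.Lib.Helper4.TwAut
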