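import Mathlib
import Cfsg.Agent.Lib.Helper4.TwAutT4a
import Cfsg.Agent.Lib.Helper1.TwAutT1
import Cfsg.Agent.Lib.Helper2.TwAutT3

set_option autoImplicit false

/-!
TWISTED-OUT farm, unit T4: the kernel of the rank-one homomorphism of a node is central.
(`relT` is helper2's proof of the rank-one relations; `Rel` is a proposition, so any other
proof of it gives the same homomorphism.)
-/

namespace Cfsg.Agent.Lib.Helper4.TwAut

open Cfsg Cfsg.Lie Cfsg.Agent.Lib.Helper5.ChevStruct Cfsg.Agent.Lib.Helper5.ChevSym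
open Cfsg.Agent.Lib.Helper5.TwAut Cfsg.Agent.Lib.Helper5.RankOneHom
open Cfsg.Agent.Lib.Helper2.TwAut

variable {K : Type*} [Field K] [Fintype K] (D : ChevalleyDatum) (hD : D ∈ Seven) (G : GraphData)
  (hp : checkGraphPerm D G = true) (f : K →+* K) (rho : Equiv.Perm (Fin D.rank))
  (orbs : List (List ℕ)) (G1 : Subgroup (GL D.Idx K)) (m : ℕ)
  (hyp : TwAutHyp D hD G hp f rho orbs G1 m)

include hyp in
/-- T4, for an arbitrary proof of the rank-one relations -/
theorem relT_ker' (J : List ℕ) (hJ : J ∈ orbs)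
    (R : Rel (fun t : K => xT D hD f J t) (fun t : K => yT D hD f J t)
      (fun s : K => hT D hD f J s) (wGL D hD J))
    (M : Matrix.SpecialLinearGroup (Fin 2) K) (hM : R.hom M = 1) : M = 1 ∨ M = -1 :=
  h4_relT_ker D hD f J (hyp.bn.hO.wd J hJ) R
    (Cfsg.Agent.Lib.Helper1.TwAut.xT_injective D hD G hp f rho orbs G1 m hyp J hJ)
    (Cfsg.Agent.Lib.Helper1.TwAut.yT_injective D hD G hp f rho orbs G1 m hyp J hJ) M hM

include hyp in
/-- T4 -/
theorem relT_ker (J : List ℕ) (hJ : J ∈ orbs) (M : Matrix.SpecialLinearGroup (Fin 2) K)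
    (hM : (relT D hD G hp f rho orbs G1 m hyp J hJ).hom M = 1) : M = 1 ∨ M = -1 :=
  relT_ker' D hD G hp f rho orbs G1 m hyp J hJ _ M hM

end Cfsg.Agent.Lib.Helper4.TwAut
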