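import Mathlib

set_option autoImplicit false

/-! Interface for the S3670 (G2) farm: a `2`-transitive configuration `(G, B, U, t, w)` of the kind
realised by `PSU(3,3)` acting on its `28` isotropic points (`B` a point stabiliser, `U` its normal
Sylow `3`-subgroup, `⟨t⟩` the two-point stabiliser, `w` swapping the two points). -/

namespace Cfsg.Agent.Lib.Helper4.U33X

/-- the configuration: `G = B ∪ BwB`, `B = U ⋊ ⟨t⟩`, `B ∩ wBw⁻¹ = ⟨t⟩`, `w⁻¹ t w = t⁵`,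
`C_U(t) = 1`, `|G| = 6048`, `|G : B| = 28`, `|U| = 27`, `|t| = 8`. -/
structure Cfg (G : Type*) [Group G] (B U : Subgroup G) (t w : G) : Prop where
  card_G : Nat.card G = 6048
  index_B : B.index = 28
  two_trans : ∀ g : G, g ∈ B ∨ ∃ b ∈ B, ∃ b' ∈ B, g = b * w * b'
  U_le : U ≤ B
  U_normal : ∀ b ∈ B, ∀ u ∈ U, b * u * b⁻¹ ∈ U
  card_U : Nat.card U = 27
  t_mem : t ∈ B
  order_t : orderOf t = 8
  B_eq : ∀ b ∈ B, ∃ u ∈ U, ∃ i : ℕ, b = u * t ^ i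
  inter : ∀ x ∈ B, w⁻¹ * x * w ∈ B → x ∈ Subgroup.zpowers t
  conj_t : w⁻¹ * t * w = t ^ 5
  cent : ∀ u ∈ U, u * t = t * u → u = 1

end Cfsg.Agent.Lib.Helper4.U33X
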