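import Mathlib
import Cfsg.Agent.Lib.Helper4.U35pMain

/-! Data and kernel checks for the minimal index of `U3(5)` (generated): the Sylow 5-subgroup of the point
stabiliser of the action on 126 points, listed by words, and the action of an element of order 8 on it. -/

namespace Cfsg.Agent.Lib.Helper4.U35Min

open Cfsg.Agent.Lib.Helper4.TC Cfsg.Agent.Lib.Helper4.TCD Cfsg.Agent.Lib.Helper4.TCD.U35pA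

set_option maxRecDepth 100000
set_option Elab.async false

def uw : List Nat := [2, 1, 1, 2, 0, 0, 0]
def s1w : List Nat := [0, 2, 0, 2]
def x1w : List Nat := [1, 2, 2, 1, 1, 2]
def x2w : List Nat := [0, 0, 3, 0, 0, 3, 1, 3]
noncomputable def iw (w : List Nat) : List Nat := invWord D.inv w
noncomputable def zw : List Nat := x1w ++ x2w ++ iw x1w ++ iw x2w
def pw (k : Nat) (w : List Nat) : List Nat := (List.replicate k w).flatten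
noncomputable def cjw (g w : List Nat) : List Nat := g ++ w ++ iw g
noncomputable def cmw (a b : List Nat) : List Nat := a ++ b ++ iw a ++ iw b
noncomputable def eqOn (w₁ w₂ : List Nat) : Bool :=
  allBelow (fun p => Nat.beq (Tab.act T D w₁ p) (Tab.act T D w₂ p)) 126
def goodW (w : List Nat) : Bool := w.all (fun x => Nat.ble (Nat.succ x) 4)
def plist : List (List Nat) := [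
  [],
  [1, 2, 2, 1, 1, 2],
  [3, 0, 0, 2, 2, 0],
  [0, 0, 3, 0, 0, 3, 1, 3],
  [0, 2, 2, 0, 3, 0, 2, 0],
  [1, 2, 1, 2, 2, 0, 0, 3],
  [1, 3, 1, 2, 1, 2, 2, 1],
  [2, 0, 2, 1, 1, 2, 1, 1],
  [2, 1, 1, 2, 2, 0, 3, 0],
  [0, 3, 1, 1, 2, 1, 3, 0, 0],
  [1, 1, 2, 0, 3, 0, 0, 2, 1],
  [1, 3, 0, 0, 3, 1, 2, 0, 3],
  [2, 1, 3, 0, 2, 1, 1, 2, 0],
  [0, 0, 2, 0, 2, 1, 2, 2, 0, 3],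
  [0, 2, 0, 3, 0, 0, 2, 2, 0, 3],
  [0, 2, 1, 3, 1, 2, 1, 1, 1, 3],
  [0, 2, 2, 0, 0, 0, 2, 2, 1, 3],
  [0, 2, 2, 0, 3, 0, 3, 1, 1, 2],
  [1, 2, 0, 0, 0, 2, 2, 0, 0, 2],
  [1, 2, 1, 1, 2, 1, 3, 0, 2, 2],
  [1, 2, 2, 0, 2, 2, 0, 3, 1, 3],
  [1, 2, 2, 0, 2, 2, 1, 2, 1, 1],
  [1, 3, 1, 2, 0, 0, 2, 2, 1, 3],
  [2, 0, 0, 0, 3, 0, 2, 0, 3, 1],
  [2, 0, 2, 1, 2, 2, 1, 1, 1, 2],
  [2, 0, 2, 1, 2, 2, 1, 2, 2, 0],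
  [2, 0, 2, 2, 1, 1, 1, 2, 2, 1],
  [2, 0, 2, 2, 1, 1, 3, 0, 2, 0],
  [2, 1, 2, 2, 1, 1, 2, 1, 3, 1],
  [2, 2, 1, 2, 0, 3, 0, 0, 3, 0],
  [3, 0, 0, 0, 2, 2, 0, 3, 1, 3],
  [3, 0, 0, 2, 1, 2, 1, 2, 2, 1],
  [3, 1, 1, 2, 2, 1, 1, 1, 3, 0],
  [0, 0, 2, 0, 3, 1, 1, 1, 3, 0, 0],
  [0, 0, 2, 2, 0, 0, 3, 1, 2, 0, 2],
  [0, 2, 0, 3, 1, 1, 1, 2, 0, 2, 1],
  [0, 3, 1, 1, 3, 1, 2, 0, 3, 0, 3],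
  [0, 3, 1, 3, 0, 0, 0, 2, 1, 3, 1],
  [1, 1, 2, 0, 0, 0, 2, 1, 3, 1, 1],
  [1, 1, 2, 1, 1, 3, 1, 2, 1, 2, 2],
  [1, 1, 3, 0, 2, 1, 2, 1, 2, 1, 3],
  [1, 1, 3, 1, 1, 3, 1, 1, 2, 2, 0],
  [1, 2, 1, 1, 3, 0, 3, 0, 0, 0, 3],
  [1, 2, 1, 3, 1, 3, 0, 0, 3, 0, 2],
  [1, 2, 2, 0, 0, 2, 0, 0, 2, 0, 0],
  [1, 3, 1, 1, 1, 2, 0, 3, 1, 1, 3],
  [2, 0, 2, 1, 3, 0, 0, 0, 3, 0, 2],
  [2, 0, 2, 2, 0, 3, 0, 0, 0, 3, 1],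
  [2, 0, 3, 1, 3, 0, 0, 3, 1, 2, 2],
  [2, 1, 1, 1, 2, 1, 2, 0, 0, 3, 0],
  [2, 1, 1, 2, 1, 3, 0, 0, 3, 0, 2],
  [2, 1, 2, 1, 3, 0, 2, 0, 0, 2, 1],
  [2, 1, 3, 0, 2, 1, 1, 3, 1, 1, 2],
  [2, 2, 0, 0, 2, 1, 1, 1, 2, 1, 2],
  [2, 2, 0, 2, 1, 1, 2, 0, 2, 1, 3],
  [2, 2, 0, 3, 0, 2, 0, 0, 3, 0, 0],
  [2, 2, 1, 1, 1, 2, 0, 2, 2, 0, 2],
  [3, 0, 0, 0, 2, 0, 0, 0, 3, 0, 2],
  [3, 0, 0, 2, 0, 0, 3, 1, 2, 0, 3],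
  [3, 0, 3, 0, 0, 0, 3, 1, 1, 2, 2],
  [3, 1, 2, 1, 1, 1, 3, 1, 1, 1, 2],
  [3, 1, 2, 1, 1, 2, 0, 3, 0, 0, 3],
  [3, 1, 2, 2, 1, 3, 0, 0, 0, 2, 2],
  [0, 0, 0, 2, 2, 0, 3, 1, 1, 3, 0, 0],
  [0, 0, 2, 0, 3, 1, 1, 3, 0, 0, 2, 1],
  [0, 0, 2, 1, 1, 1, 2, 1, 1, 3, 0, 0],
  [0, 0, 2, 1, 1, 3, 1, 1, 2, 2, 1, 1],
  [0, 0, 3, 0, 0, 0, 2, 0, 3, 1, 1, 2],
  [0, 0, 3, 0, 3, 0, 2, 0, 3, 0, 0, 3],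
  [0, 2, 0, 0, 0, 2, 1, 2, 1, 3, 0, 2],
  [0, 2, 0, 2, 2, 1, 2, 2, 1, 1, 2, 2],
  [0, 2, 1, 1, 1, 2, 0, 0, 0, 2, 2, 1],
  [0, 2, 1, 1, 3, 0, 0, 3, 0, 3, 0, 2],
  [0, 2, 1, 2, 2, 1, 2, 2, 1, 1, 3, 0],
  [0, 2, 1, 3, 1, 1, 2, 2, 0, 3, 0, 3],
  [0, 2, 2, 1, 1, 1, 3, 0, 0, 0, 3, 1],
  [0, 3, 0, 0, 2, 0, 0, 0, 3, 1, 2, 0],
  [0, 3, 0, 2, 2, 0, 0, 2, 0, 0, 3, 0],
  [0, 3, 1, 1, 2, 0, 0, 2, 1, 3, 1, 1],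
  [0, 3, 1, 2, 2, 1, 1, 3, 0, 3, 1, 2],
  [1, 1, 1, 2, 1, 2, 0, 0, 2, 2, 0, 2],
  [1, 1, 1, 3, 0, 3, 0, 0, 2, 1, 1, 3],
  [1, 1, 2, 0, 0, 3, 0, 0, 0, 3, 1, 1],
  [1, 1, 2, 1, 2, 1, 1, 3, 1, 2, 1, 2],
  [1, 2, 0, 0, 2, 0, 0, 2, 1, 3, 1, 3],
  [1, 2, 0, 0, 3, 1, 3, 0, 2, 0, 3, 0],
  [1, 2, 1, 3, 1, 2, 0, 2, 1, 1, 3, 0],
  [1, 3, 0, 2, 1, 1, 1, 3, 1, 1, 2, 1],
  [1, 3, 1, 2, 2, 1, 1, 3, 1, 1, 3, 0],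
  [2, 0, 0, 3, 1, 1, 2, 1, 2, 0, 0, 0],
  [2, 0, 3, 1, 1, 2, 1, 2, 2, 0, 2, 2],
  [2, 1, 1, 2, 1, 1, 3, 1, 2, 0, 0, 2],
  [2, 1, 1, 2, 1, 3, 1, 2, 1, 2, 1, 1],
  [2, 1, 1, 2, 2, 1, 2, 1, 3, 0, 2, 2],
  [2, 1, 2, 1, 2, 2, 0, 0, 2, 0, 3, 1],
  [2, 1, 3, 1, 2, 1, 2, 0, 0, 2, 1, 3],
  [2, 2, 0, 0, 2, 2, 0, 2, 2, 1, 3, 1],
  [2, 2, 1, 2, 0, 3, 0, 0, 2, 1, 1, 2],
  [2, 2, 1, 2, 0, 3, 0, 2, 2, 0, 0, 3],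
  [2, 2, 1, 2, 2, 0, 3, 0, 0, 2, 1, 3],
  [3, 0, 0, 2, 1, 3, 1, 1, 1, 2, 1, 1],
  [3, 0, 0, 3, 1, 1, 2, 1, 3, 0, 2, 2],
  [3, 0, 2, 1, 2, 1, 2, 1, 1, 3, 0, 2],
  [3, 0, 3, 0, 2, 0, 0, 3, 0, 3, 0, 0],
  [3, 1, 1, 3, 0, 2, 0, 0, 3, 0, 0, 3],
  [3, 1, 2, 0, 3, 0, 3, 1, 1, 1, 3, 1],
  [3, 1, 2, 2, 1, 1, 3, 0, 3, 0, 0, 0],
  [0, 0, 2, 1, 1, 1, 2, 1, 3, 0, 0, 2, 1],
  [0, 0, 3, 0, 0, 2, 0, 3, 0, 0, 0, 3, 1],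
  [0, 0, 3, 1, 1, 2, 1, 2, 1, 1, 3, 0, 3],
  [0, 2, 1, 1, 1, 2, 1, 3, 1, 1, 2, 1, 1],
  [0, 2, 2, 1, 2, 1, 2, 1, 1, 3, 1, 2, 1],
  [0, 3, 0, 2, 0, 0, 3, 0, 3, 0, 2, 2, 1],
  [0, 3, 0, 3, 0, 3, 0, 0, 3, 1, 3, 0, 3],
  [0, 3, 1, 1, 2, 0, 3, 0, 0, 0, 3, 1, 1],
  [1, 1, 2, 2, 1, 1, 2, 0, 3, 1, 2, 1, 2],
  [1, 2, 2, 1, 3, 0, 0, 2, 1, 3, 1, 1, 3],
  [2, 0, 0, 2, 0, 3, 1, 1, 2, 0, 2, 2, 0],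
  [2, 1, 2, 0, 0, 3, 0, 3, 0, 0, 2, 1, 1],
  [2, 1, 2, 0, 2, 1, 1, 2, 1, 2, 1, 2, 1],
  [3, 0, 2, 1, 2, 2, 1, 2, 1, 1, 1, 2, 0],
  [0, 0, 0, 3, 0, 3, 0, 3, 1, 1, 2, 0, 3, 0],
  [0, 0, 2, 1, 2, 1, 3, 1, 2, 0, 2, 2, 0, 0],
  [0, 0, 3, 1, 2, 0, 3, 0, 0, 2, 1, 2, 0, 0],
  [1, 1, 3, 0, 3, 1, 1, 2, 1, 3, 0, 2, 1, 1] ]
def tags : List Nat := [0, 8, 8, 8, 7, 9, 7, 8, 9, 7, 7, 6, 6, 6, 7, 9, 9, 8, 6, 6, 7, 6, 8, 9, 9, 7, 9, 8, 7, 6, 9, 8, 6, 7, 8, 9, 6, 9, 7, 7, 6, 7, 9, 8, 7, 6, 8, 8, 8, 9, 6, 6, 6, 6, 8, 7, 9, 8, 6, 6, 8, 6, 9, 3, 6, 9, 2, 9, 7, 8, 7, 8, 8, 9, 6, 8, 6, 9, 6, 7, 7, 9, 9, 7, 7, 8, 8, 6, 7, 9, 6, 8, 7, 9, 6, 7, 7, 9, 9, 6, 9, 9, 8, 7, 8, 8, 7, 9, 9, 8, 9, 4, 1, 7, 9, 6, 8, 8, 8, 7, 6, 6, 6, 7, 7]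

def plw (i : Nat) : List Nat := plist.getD i []
def tg (i : Nat) : Nat := tags.getD i 0

/-- the check for one listed element: it is a power of `z`, or its commutator with its conjugate under `u`
is a nontrivial power of `z` -/
noncomputable def chk1 (i : Nat) : Bool :=
  bsel (Nat.ble 5 (tg i)) (eqOn (plw i) (pw (tg i) zw))
    (band (eqOn (cmw (plw i) (cjw uw (plw i))) (pw (tg i - 5) zw))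
      (band (Nat.ble 6 (tg i)) (bsel (Nat.beq (Tab.act T D (cmw (plw i) (cjw uw (plw i))) 1) 1) true false)))

theorem c_good : band (goodW uw) (band (goodW s1w) (band (goodW x1w) (band (goodW x2w) (plist.all goodW)))) = true := by
  decide +kernel
theorem c_len : plist.length = 125 := by decide +kernel
theorem c_mem : allBelow (fun i => Nat.beq (Tab.act T D (plw i) 0) 0) 125 = true := by decide +kernel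
theorem c_mem2 : band (Nat.beq (Tab.act T D x1w 0) 0) (band (Nat.beq (Tab.act T D x2w 0) 0) (Nat.beq (Tab.act T D uw 0) 0)) = true := by
  decide +kernel
theorem c_x1 : eqOn (pw 5 x1w) [] = true := by decide +kernel
theorem c_x2 : eqOn (pw 5 x2w) [] = true := by decide +kernel
theorem c_z5 : eqOn (pw 5 zw) [] = true := by decide +kernel
theorem c_u8 : eqOn (pw 8 uw) [] = true := by decide +kernel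
theorem c_u4 : Nat.beq (Tab.act T D (pw 4 uw) 1) 1 = false := by decide +kernel
theorem c_z1 : Nat.beq (Tab.act T D zw 1) 1 = false := by decide +kernel
theorem c_n1a : eqOn (cjw s1w zw) (pw 1 zw) = true := by decide +kernel
theorem c_n1b : eqOn (cjw (iw s1w) zw) (pw 1 zw) = true := by decide +kernel
theorem c_n2a : eqOn (cjw uw zw) (pw 3 zw) = true := by decide +kernel
theorem c_n2b : eqOn (cjw (iw uw) zw) (pw 2 zw) = true := by decide +kernel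
theorem c_inj : allBelow (fun i => allBelow (fun j =>
    bsel (Nat.beq (Tab.act T D (plw i) 1) (Tab.act T D (plw j) 1)) true false) i) 125 = true := by decide +kernel
theorem c_pl5 : allBelow (fun i => eqOn (pw 5 (plw i)) []) 125 = true := by decide +kernel
theorem c_chk : allBelow chk1 125 = true := by decide +kernel

end Cfsg.Agent.Lib.Helper4.U35Min
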