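import Mathlib
import Cfsg.Agent.Lib.Helper4.U35MinData
import Cfsg.Agent.Lib.Helper4.MinIdxLib
import Cfsg.Agent.Lib.Helper4.TCD_U35pB_Fin

/-!
The minimal index of a proper subgroup of the presented group `U35p` (the unitary group `U3(5)`) is 50.

The point stabiliser `N` of the action on 126 points has order 1000; every subgroup of `N` of order more than 20
contains the centre `Z` of the Sylow 5-subgroup of `N`.  A subgroup `H` of order more than `126 * 20` meets every
conjugate of `N` in a subgroup of order more than 20, so it contains all conjugates of `Z`, and is the whole group.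
-/

namespace Cfsg.Agent.Lib.Helper4.U35Min

open Cfsg.Agent.Lib.Helper4.TC Cfsg.Agent.Lib.Helper4.TCD Cfsg.Agent.Lib.Helper4.TCD.U35pA
open Cfsg.Agent.Lib.Helper4.U35pMain Cfsg.Agent.Lib.Helper4.TC.Log

/-- a subgroup with the index of a point stabiliser that fixes the point is the point stabiliser -/
theorem mem_of_fix {G : Type*} [Group G] [Finite G] (H : Subgroup G) {N : ℕ} (φ : G →* Equiv.Perm (Fin N))
    (z : Fin N) (hfix : ∀ h ∈ H, φ h z = z) (hidx : H.index = N) (htrans : ∀ j : Fin N, ∃ g : G, φ g z = j)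
    (g : G) (hg : φ g z = z) : g ∈ H := by
  let _ : MulAction G (Fin N) := MulAction.compHom (Fin N) φ
  have hsm : ∀ (γ : G) (i : Fin N), γ • i = φ γ i := fun _ _ => rfl
  have hpt : MulAction.IsPretransitive G (Fin N) := by
    constructor
    intro i j
    obtain ⟨a, ha⟩ := htrans i
    obtain ⟨b, hb⟩ := htrans j
    refine ⟨b * a⁻¹, ?_⟩
    have h1 : (φ a)⁻¹ i = z := Equiv.Perm.inv_eq_iff_eq.2 ha.symm
    rw [hsm, map_mul, map_inv, Equiv.Perm.mul_apply, h1, hb]
  have hle : H ≤ MulAction.stabilizer G z := fun h hh => by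
    rw [MulAction.mem_stabilizer_iff, hsm]; exact hfix h hh
  have hidx' : (MulAction.stabilizer G z).index = N := by
    rw [MulAction.index_stabilizer, MulAction.orbit_eq_univ, Set.ncard_univ, Nat.card_fin]
  have heq : H = MulAction.stabilizer G z := by
    apply Subgroup.eq_of_le_of_card_ge hle
    have h1 := H.index_mul_card
    have h2 := (MulAction.stabilizer G z).index_mul_card
    rw [hidx] at h1
    rw [hidx'] at h2
    have hN0 : 0 < N := Fin.pos z
    have : N * Nat.card (MulAction.stabilizer G z) = N * Nat.card H := by rw [h1, h2]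
    exact (Nat.eq_of_mul_eq_mul_left hN0 this).le
  rw [heq, MulAction.mem_stabilizer_iff, hsm]
  exact hg

/-- conjugation by `s` and by its inverse keeps the cyclic group in place -/
theorem mem_normalizer_zpowers {G : Type*} [Group G] (s z : G) (h1 : s * z * s⁻¹ ∈ Subgroup.zpowers z)
    (h2 : s⁻¹ * z * s ∈ Subgroup.zpowers z) : s ∈ Subgroup.normalizer (Subgroup.zpowers z : Set G) := by
  rw [Subgroup.mem_normalizer_iff]
  intro h
  constructor
  · intro hh
    obtain ⟨j, rfl⟩ := Subgroup.mem_zpowers_iff.1 hh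
    have : s * z ^ j * s⁻¹ = (s * z * s⁻¹) ^ j := by rw [conj_zpow]
    rw [this]
    exact Subgroup.zpow_mem _ h1 j
  · intro hh
    obtain ⟨j, hj⟩ := Subgroup.mem_zpowers_iff.1 hh
    have : h = (s⁻¹ * z * s⁻¹⁻¹) ^ j := by
      rw [conj_zpow, hj]; group
    rw [this, inv_inv]
    exact Subgroup.zpow_mem _ h2 j

abbrev G : Type := PU35p.P.Grp
noncomputable abbrev gR : ℕ → G := PU35p.P.gR
abbrev NN : Subgroup G := Inst.subG PU35p.P subs

def Good (w : List ℕ) : Prop := ∀ x ∈ w, x < 4

theorem good_of {w : List ℕ} (h : goodW w = true) : Good w := by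
  intro x hx
  exact ble_succ (List.all_eq_true.1 h x hx)

theorem good_nil : Good [] := by intro x hx; simp at hx

theorem good_append {a b : List ℕ} (ha : Good a) (hb : Good b) : Good (a ++ b) := by
  intro x hx
  rcases List.mem_append.1 hx with h | h
  · exact ha x h
  · exact hb x h

theorem good_iw {a : List ℕ} (ha : Good a) : Good (iw a) := by
  intro x hx
  rw [iw, invWord, List.mem_reverse, List.mem_map] at hx
  obtain ⟨y, hy, rfl⟩ := hx
  exact inst.hC.inv_lt (ha y hy)

theorem good_pw {a : List ℕ} (ha : Good a) (k : ℕ) : Good (pw k a) := by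
  intro x hx
  rw [pw, List.mem_flatten] at hx
  obtain ⟨l, hl, hxl⟩ := hx
  rw [List.eq_of_mem_replicate hl] at hxl
  exact ha x hxl

theorem good_cjw {g w : List ℕ} (hg : Good g) (hw : Good w) : Good (cjw g w) :=
  good_append (good_append hg hw) (good_iw hg)

theorem good_cmw {a b : List ℕ} (ha : Good a) (hb : Good b) : Good (cmw a b) :=
  good_append (good_append (good_append ha hb) (good_iw ha)) (good_iw hb)

theorem wordP_iw {w : List ℕ} (hw : Good w) : wordP gR (iw w) = (wordP gR w)⁻¹ := by
  have h1 : wordP (Inst.gE PU35p.P subs) (iw w) = (wordP (Inst.gE PU35p.P subs) w)⁻¹ :=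
    wordP_invWord (Inst.gE PU35p.P subs) D.inv inst.sem.hinv w
  rw [inst.gE_word _ (good_iw hw), inst.gE_word _ hw] at h1
  exact h1

theorem wordP_pw (w : List ℕ) (k : ℕ) : wordP gR (pw k w) = (wordP gR w) ^ k :=
  wordP_replicate_flatten gR k w

theorem wordP_cjw {g w : List ℕ} (hg : Good g) : wordP gR (cjw g w) = wordP gR g * wordP gR w * (wordP gR g)⁻¹ := by
  rw [cjw, wordP_append, wordP_append, wordP_iw hg]

theorem wordP_cmw {a b : List ℕ} (ha : Good a) (hb : Good b) :
    wordP gR (cmw a b) = wordP gR a * wordP gR b * (wordP gR a)⁻¹ * (wordP gR b)⁻¹ := by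
  rw [cmw, wordP_append, wordP_append, wordP_append, wordP_iw ha, wordP_iw hb]

theorem hinj : Function.Injective inst.phi := order_aux.2.1

theorem phi_val {w : List ℕ} (hw : Good w) (p : Fin 126) : (inst.phi (wordP gR w) p).1 = Tab.act T D w p.1 :=
  inst.phi_word w hw p

theorem eq_of_eqOn {w₁ w₂ : List ℕ} (h₁ : Good w₁) (h₂ : Good w₂) (h : eqOn w₁ w₂ = true) :
    wordP gR w₁ = wordP gR w₂ := by
  apply hinj
  ext p
  rw [phi_val h₁ p, phi_val h₂ p]
  exact beq_eq (allBelow_eq_true.1 h p.1 p.2)

theorem ne_one_of_move {w : List ℕ} (hw : Good w) (p : ℕ) (hp : p < 126)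
    (h : Nat.beq (Tab.act T D w p) p = false) : wordP gR w ≠ 1 := by
  intro h1
  have := phi_val hw ⟨p, hp⟩
  rw [h1, map_one] at this
  have e : Tab.act T D w p = p := by rw [← this]; rfl
  rw [e] at h
  simp at h

theorem mem_NN {w : List ℕ} (hw : Good w) (h : Nat.beq (Tab.act T D w 0) 0 = true) : wordP gR w ∈ NN := by
  have hfin : Finite G := order_aux.1
  apply mem_of_fix NN inst.phi ⟨0, inst.hC.hN⟩ inst.hfix inst.index_eq
  · intro j
    obtain ⟨σ, hσ⟩ := inst.range_pretransitive.exists_smul_eq ⟨0, inst.hC.hN⟩ j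
    obtain ⟨σ', γ, rfl⟩ := σ
    exact ⟨γ, hσ⟩
  · apply Fin.ext
    have := inst.phi_word w hw ⟨0, inst.hC.hN⟩
    rw [this]
    exact beq_eq h


theorem card_G : Nat.card G = 126000 := order_aux.2.2

theorem card_NN : Nat.card NN = 1000 := by
  have hfin : Finite G := order_aux.1
  have h := NN.index_mul_card
  rw [inst.index_eq, card_G] at h
  have h126 : T.N = 126 := rfl
  rw [h126] at h
  omega

theorem g_all : Good uw ∧ Good s1w ∧ Good x1w ∧ Good x2w ∧ plist.all goodW = true := by
  have h := c_good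
  rw [band_eq_true, band_eq_true, band_eq_true, band_eq_true] at h
  exact ⟨good_of h.1, good_of h.2.1, good_of h.2.2.1, good_of h.2.2.2.1, h.2.2.2.2⟩

theorem g_uw : Good uw := g_all.1
theorem g_s1w : Good s1w := g_all.2.1
theorem g_x1w : Good x1w := g_all.2.2.1
theorem g_x2w : Good x2w := g_all.2.2.2.1

theorem g_zw : Good zw :=
  good_append (good_append (good_append g_x1w g_x2w) (good_iw g_x1w)) (good_iw g_x2w)

theorem good_plw (i : ℕ) : Good (plw i) := by
  rw [plw, List.getD_eq_getElem?_getD]
  cases h : plist[i]? with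
  | none => exact good_nil
  | some w =>
    exact good_of (List.all_eq_true.1 g_all.2.2.2.2 w (List.mem_of_getElem? h))

theorem c_mem2' : Nat.beq (Tab.act T D x1w 0) 0 = true ∧ Nat.beq (Tab.act T D x2w 0) 0 = true ∧
    Nat.beq (Tab.act T D uw 0) 0 = true := by
  have h := c_mem2
  rw [band_eq_true, band_eq_true] at h
  exact h

noncomputable def x₁ : NN := ⟨wordP gR x1w, mem_NN g_x1w c_mem2'.1⟩
noncomputable def x₂ : NN := ⟨wordP gR x2w, mem_NN g_x2w c_mem2'.2.1⟩
noncomputable def uu : NN := ⟨wordP gR uw, mem_NN g_uw c_mem2'.2.2⟩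
noncomputable def zz : NN := x₁ * x₂ * x₁⁻¹ * x₂⁻¹
noncomputable def pl (i : Fin 125) : NN :=
  ⟨wordP gR (plw i.1), mem_NN (good_plw _) (allBelow_eq_true.1 c_mem i.1 i.2)⟩

noncomputable def zG : G := wordP gR zw

theorem zz_val : (zz : G) = zG := by
  rw [zG, zw, wordP_append, wordP_append, wordP_append, wordP_iw g_x1w, wordP_iw g_x2w]
  rfl

theorem wordP_nil' : wordP gR [] = 1 := by simp [wordP]

theorem pow_eq_one_of {w : List ℕ} (hw : Good w) (k : ℕ) (h : eqOn (pw k w) [] = true) :
    (wordP gR w) ^ k = 1 := by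
  rw [← wordP_pw, eq_of_eqOn (good_pw hw k) good_nil h, wordP_nil']

theorem zG_pow (k : ℕ) : zG ^ k = wordP gR (pw k zw) := by rw [zG, wordP_pw]

theorem zG_ne_one : zG ≠ 1 := ne_one_of_move g_zw 1 (by norm_num) c_z1

theorem NN_le_normalizer : NN ≤ Subgroup.normalizer (Subgroup.zpowers zG : Set G) := by
  rw [NN, Inst.subG, Subgroup.closure_le]
  rintro s ⟨u, hu, rfl⟩
  have hu' : u = s1w ∨ u = uw := by
    simp only [subs, List.mem_cons, List.not_mem_nil, or_false] at hu
    exact hu
  have key : ∀ (w : List ℕ) (hw : Good w) (a b : ℕ), eqOn (cjw w zw) (pw a zw) = true →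
      eqOn (cjw (iw w) zw) (pw b zw) = true →
      wordP gR w ∈ Subgroup.normalizer (Subgroup.zpowers zG : Set G) := by
    intro w hw a b ha hb
    apply mem_normalizer_zpowers
    · have h1 := eq_of_eqOn (good_cjw hw g_zw) (good_pw g_zw a) ha
      rw [wordP_cjw hw, ← zG_pow] at h1
      rw [zG] at h1 ⊢
      rw [h1]
      exact Subgroup.pow_mem _ (Subgroup.mem_zpowers _) a
    · have h1 := eq_of_eqOn (good_cjw (good_iw hw) g_zw) (good_pw g_zw b) hb
      rw [wordP_cjw (good_iw hw), wordP_iw hw, inv_inv, ← zG_pow] at h1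
      rw [zG] at h1 ⊢
      rw [h1]
      exact Subgroup.pow_mem _ (Subgroup.mem_zpowers _) b
  rcases hu' with rfl | rfl
  · exact key s1w g_s1w _ _ c_n1a c_n1b
  · exact key uw g_uw _ _ c_n2a c_n2b

theorem act_inj (i j : ℕ) (hi : i < 125) (hj : j < i) :
    Tab.act T D (plw i) 1 ≠ Tab.act T D (plw j) 1 := by
  have h := allBelow_eq_true.1 (allBelow_eq_true.1 c_inj i hi) j hj
  intro e
  rw [e] at h
  have : Nat.beq (Tab.act T D (plw j) 1) (Tab.act T D (plw j) 1) = true := by simp
  rw [this] at h
  simp at h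

theorem pl_inj : Function.Injective pl := by
  intro i j hij
  have h1 : wordP gR (plw i.1) = wordP gR (plw j.1) := congrArg Subtype.val hij
  have h2 : Tab.act T D (plw i.1) 1 = Tab.act T D (plw j.1) 1 := by
    have a := phi_val (good_plw i.1) ⟨1, by norm_num⟩
    have b := phi_val (good_plw j.1) ⟨1, by norm_num⟩
    rw [h1] at a
    rw [← a, ← b]
  rcases lt_trichotomy i.1 j.1 with h | h | h
  · exact absurd h2.symm (act_inj j.1 i.1 j.2 h)
  · exact Fin.ext h
  · exact absurd h2 (act_inj i.1 j.1 i.2 h)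

/-- the large subgroups of the point stabiliser contain `zG` -/
theorem sub_main (L : Subgroup G) (hL : L ≤ NN) (hc : 20 < Nat.card L) : Subgroup.zpowers zG ≤ L := by
  have hfin : Finite G := order_aux.1
  have hfinN : Finite NN := inferInstance
  have key := MinIdx.sub1000 (M := NN) card_NN x₁ x₂ zz uu
    (by
      apply Subtype.ext
      rw [Subgroup.coe_pow]
      exact pow_eq_one_of g_x1w 5 c_x1)
    (by
      apply Subtype.ext
      rw [Subgroup.coe_pow]
      exact pow_eq_one_of g_x2w 5 c_x2)
    rfl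
    (by
      apply Subtype.ext
      rw [Subgroup.coe_pow, zz_val]
      exact pow_eq_one_of g_zw 5 c_z5)
    (by
      apply Subtype.ext
      rw [Subgroup.coe_pow]
      exact pow_eq_one_of g_uw 8 c_u8)
    (by
      intro h
      have h1 : (wordP gR uw) ^ 4 = 1 := by
        have := congrArg Subtype.val h
        rwa [Subgroup.coe_pow] at this
      rw [← wordP_pw] at h1
      exact ne_one_of_move (good_pw g_uw 4) 1 (by norm_num) c_u4 h1)
    (by
      intro g
      have hg := NN_le_normalizer g.2
      rw [Subgroup.mem_normalizer_iff] at hg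
      have h1 := (hg zG).1 (Subgroup.mem_zpowers zG)
      obtain ⟨j, hj⟩ := Subgroup.mem_zpowers_iff.1 h1
      rw [Subgroup.mem_zpowers_iff]
      refine ⟨j, ?_⟩
      apply Subtype.ext
      rw [Subgroup.coe_zpow, zz_val, hj]
      simp [zz_val])
    pl pl_inj
    (by
      intro i
      apply Subtype.ext
      rw [Subgroup.coe_pow]
      exact pow_eq_one_of (good_plw i.1) 5 (allBelow_eq_true.1 c_pl5 i.1 i.2))
    (by
      intro i
      have h := allBelow_eq_true.1 c_chk i.1 i.2
      rw [chk1] at h
      cases hb : Nat.ble 5 (tg i.1) with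
      | false =>
        left
        rw [hb, bsel_false] at h
        have h1 := eq_of_eqOn (good_plw i.1) (good_pw g_zw _) h
        rw [← zG_pow] at h1
        rw [Subgroup.mem_zpowers_iff]
        refine ⟨(tg i.1 : ℤ), ?_⟩
        apply Subtype.ext
        rw [Subgroup.coe_zpow, zz_val, zpow_natCast]
        exact h1.symm
      | true =>
        right
        rw [hb, bsel_true, band_eq_true, band_eq_true] at h
        obtain ⟨h1, _, h3⟩ := h
        have hgc : Good (cmw (plw i.1) (cjw uw (plw i.1))) :=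
          good_cmw (good_plw _) (good_cjw g_uw (good_plw _))
        have e1 := eq_of_eqOn hgc (good_pw g_zw _) h1
        rw [← zG_pow, wordP_cmw (good_plw _) (good_cjw g_uw (good_plw _)), wordP_cjw g_uw] at e1
        have hval : ((pl i * (uu * pl i * uu⁻¹) * (pl i)⁻¹ * (uu * pl i * uu⁻¹)⁻¹ : NN) : G) =
            wordP gR (plw i.1) * (wordP gR uw * wordP gR (plw i.1) * (wordP gR uw)⁻¹) *
              (wordP gR (plw i.1))⁻¹ * (wordP gR uw * wordP gR (plw i.1) * (wordP gR uw)⁻¹)⁻¹ := rfl
        constructor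
        · rw [Subgroup.mem_zpowers_iff]
          refine ⟨((tg i.1 - 5 : ℕ) : ℤ), ?_⟩
          apply Subtype.ext
          rw [Subgroup.coe_zpow, zz_val, zpow_natCast, hval]
          exact e1.symm
        · intro hone
          have h4 := congrArg Subtype.val hone
          rw [hval] at h4
          have hmove : Nat.beq (Tab.act T D (cmw (plw i.1) (cjw uw (plw i.1))) 1) 1 = false := by
            cases hq : Nat.beq (Tab.act T D (cmw (plw i.1) (cjw uw (plw i.1))) 1) 1 with
            | false => rfl
            | true => rw [hq, bsel_true] at h3; exact absurd h3 (by simp)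
          apply ne_one_of_move hgc 1 (by norm_num) hmove
          rw [wordP_cmw (good_plw _) (good_cjw g_uw (good_plw _)), wordP_cjw g_uw]
          exact h4)
    (L.subgroupOf NN)
    (by
      rw [Nat.card_congr (Subgroup.subgroupOfEquivOfLe hL).toEquiv]
      exact hc)
  rw [Subgroup.mem_subgroupOf, zz_val] at key
  rw [Subgroup.zpowers_le]
  exact key

/-- every proper subgroup has index at least 50 -/
theorem min_index (H : Subgroup G) (hH : H ≠ ⊤) : 50 ≤ H.index := by
  have hfin : Finite G := order_aux.1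
  have hs : IsSimpleGroup G := simple_aux
  by_contra hlt
  rw [not_le] at hlt
  apply hH
  apply MinIdx.eq_top_of_card_gt NN (Subgroup.zpowers zG) 126 20 inst.index_eq
  · intro h
    apply zG_ne_one
    have : zG ∈ Subgroup.zpowers zG := Subgroup.mem_zpowers zG
    rw [h, Subgroup.mem_bot] at this
    exact this
  · exact sub_main
  · have h1 := H.index_mul_card
    rw [card_G] at h1
    have h2 : H.index * Nat.card H ≤ 49 * Nat.card H := Nat.mul_le_mul_right _ (by omega)
    omega

/-- a subgroup of index 50 -/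
theorem exists_index : ∃ H : Subgroup G, H.index = 50 := ⟨_, TCD.U35pB.index_eq⟩

end Cfsg.Agent.Lib.Helper4.U35Min
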