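import Mathlib
import Cfsg.Prelude.Def_Classical
import Cfsg.Agent.Lib.Helper4.MatWord
import Cfsg.Agent.Lib.Helper4.TC20
import Cfsg.Agent.Lib.Helper4.U42pMain
import Cfsg.Agent.Lib.Helper4.RepLib
import Cfsg.Agent.Lib.Helper5.SympCard

/-!
The presented group `U42p` of order 25920 is isomorphic to `PSp₄(3)`: explicit symplectic matrices over the
field with three elements satisfy the relators up to sign.
-/

namespace Cfsg.Agent.Lib.Helper4.U42Sp

open Matrix Cfsg.Agent.Lib.Helper4.TC Cfsg.Agent.Lib.Helper4.TC.Log Cfsg.Agent.Lib.Helper4.MatWord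

abbrev Idx := Fin 2 ⊕ Fin 2

/-- the images of the letters -/
def Ac : Matrix Idx Idx (ZMod 3) :=
  Matrix.fromBlocks !![0, -1; 0, 0] !![0, 1; -1, 0] !![0, -1; 1, 0] !![0, 0; -1, 0]
def Bc : Matrix Idx Idx (ZMod 3) :=
  Matrix.fromBlocks !![0, 1; 0, -1] !![0, 0; 1, 0] !![-1, 1; -1, -1] !![0, 1; 1, 0]
def Bci : Matrix Idx Idx (ZMod 3) :=
  Matrix.fromBlocks !![0, 1; 1, 0] !![0, -1; 0, 0] !![1, 1; -1, 1] !![0, 0; 1, -1]

/-- the matrices of the letters -/
def Mc : ℕ → Matrix Idx Idx (ZMod 3)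
  | 0 => Ac
  | 1 => Ac
  | 2 => Bc
  | 3 => Bci
  | _ => 1

set_option maxRecDepth 100000 in
theorem c_symp : ∀ l, l < 4 → Mc l * J (Fin 2) (ZMod 3) * (Mc l)ᵀ = J (Fin 2) (ZMod 3) := by decide +kernel

set_option maxRecDepth 100000 in
theorem c_rel : ∀ L ∈ PU42p.P.real ++ [[0, 1], [1, 0], [2, 3], [3, 2]],
    (L.map Mc).prod = 1 ∨ (L.map Mc).prod = -1 := by
  decide +kernel

set_option maxRecDepth 100000 in
theorem c_ne : Mc 0 * Mc 2 ≠ Mc 2 * Mc 0 := by decide +kernel

section Hom

variable {K : Type*} [Field K] [Fintype K]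

theorem charP_three (hK : Fintype.card K = 3) : CharP K 3 := by
  obtain ⟨p, hp⟩ := CharP.exists K
  obtain ⟨n, hpr, hc⟩ := FiniteField.card K p
  rw [hK] at hc
  have h2 : p ∣ 3 := by
    rw [hc]
    exact dvd_pow_self p n.ne_zero
  have : p = 3 := (Nat.prime_dvd_prime_iff_eq hpr Nat.prime_three).1 h2
  subst this
  exact hp

theorem J_map {R S : Type*} [CommRing R] [CommRing S] (φ : R →+* S) :
    (J (Fin 2) R).map φ = J (Fin 2) S := by
  unfold J
  rw [Matrix.fromBlocks_map]
  congr 1
  · exact (φ.mapMatrix (m := Fin 2)).map_zero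
  · have := (φ.mapMatrix (m := Fin 2)).map_neg 1
    rw [(φ.mapMatrix (m := Fin 2)).map_one] at this
    exact this
  · exact (φ.mapMatrix (m := Fin 2)).map_one
  · exact (φ.mapMatrix (m := Fin 2)).map_zero

/-- the symplectic matrix that is the image of an explicit matrix -/
def mkSp (φ : ZMod 3 →+* K) (M : Matrix Idx Idx (ZMod 3))
    (hs : M * J (Fin 2) (ZMod 3) * Mᵀ = J (Fin 2) (ZMod 3)) : symplecticGroup (Fin 2) K :=
  ⟨M.map φ, by
    rw [SymplecticGroup.mem_iff, ← J_map φ, ← Matrix.transpose_map, ← Matrix.map_mul, ← Matrix.map_mul, hs]⟩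

/-- the images of the letters in the symplectic group -/
def gS (φ : ZMod 3 →+* K) (l : ℕ) : symplecticGroup (Fin 2) K :=
  if h : l < 4 then mkSp φ (Mc l) (c_symp l h) else 1

theorem coe_gS (φ : ZMod 3 →+* K) (l : ℕ) : ((gS φ l : symplecticGroup (Fin 2) K) : Matrix Idx Idx K) = (Mc l).map φ := by
  unfold gS
  split_ifs with h
  · rfl
  · have : Mc l = 1 := by
      match l, h with
      | 0, h => exact absurd (by norm_num) h
      | 1, h => exact absurd (by norm_num) h
      | 2, h => exact absurd (by norm_num) h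
      | 3, h => exact absurd (by norm_num) h
      | (n + 4), _ => rfl
    rw [this]
    exact ((φ.mapMatrix (m := Idx)).map_one).symm

theorem coe_wordP (φ : ZMod 3 →+* K) (L : List ℕ) :
    ((wordP (gS φ) L : symplecticGroup (Fin 2) K) : Matrix Idx Idx K) = ((L.map Mc).prod).map φ := by
  induction L with
  | nil => exact ((φ.mapMatrix (m := Idx)).map_one).symm
  | cons x L ih =>
    rw [wordP_cons, List.map_cons, List.prod_cons, Matrix.map_mul, ← ih, ← coe_gS]
    rfl

theorem neg_one_mem_center (x : symplecticGroup (Fin 2) K) (hx : (x : Matrix Idx Idx K) = -1) :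
    x ∈ Subgroup.center (symplecticGroup (Fin 2) K) := by
  rw [Subgroup.mem_center_iff]
  intro y
  apply Subtype.ext
  show (y : Matrix Idx Idx K) * (x : Matrix Idx Idx K) = (x : Matrix Idx Idx K) * (y : Matrix Idx Idx K)
  rw [hx, mul_neg_one, neg_one_mul]

/-- the images of the letters in the projective symplectic group -/
def gP (φ : ZMod 3 →+* K) (l : ℕ) : Cfsg.PSp 2 K := QuotientGroup.mk (gS φ l)

theorem wordP_gP (φ : ZMod 3 →+* K) (L : List ℕ) :
    wordP (gP φ) L = QuotientGroup.mk (wordP (gS φ) L) := by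
  induction L with
  | nil => rfl
  | cons x L ih => rw [wordP_cons, wordP_cons, ih]; rfl

theorem wordP_gP_eq_one (φ : ZMod 3 →+* K) (L : List ℕ)
    (h : (L.map Mc).prod = 1 ∨ (L.map Mc).prod = -1) : wordP (gP φ) L = 1 := by
  rw [wordP_gP, QuotientGroup.eq_one_iff]
  rcases h with h | h
  · have : wordP (gS φ) L = 1 := by
      apply Subtype.ext
      rw [coe_wordP, h]
      exact (φ.mapMatrix (m := Idx)).map_one
    rw [this]
    exact one_mem _
  · apply neg_one_mem_center
    rw [coe_wordP, h]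
    have := (φ.mapMatrix (m := Idx)).map_neg 1
    rw [(φ.mapMatrix (m := Idx)).map_one] at this
    exact this

theorem exists_hom (φ : ZMod 3 →+* K) :
    ∃ ψ : PU42p.P.Grp →* Cfsg.PSp 2 K, ∀ l, l < 4 → ψ (PU42p.P.gR l) = gP φ l := by
  apply exists_hom_of_letters PU42p.P PU42p.valid (gP φ)
  · intro l hl
    have hl : l < 4 := hl
    have h := wordP_gP_eq_one φ [l, PU42p.P.invR l]
    rw [wordP_cons, wordP_cons, wordP_nil, mul_one] at h
    apply h
    interval_cases l
    · exact c_rel [0, 1] (by simp)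
    · exact c_rel [1, 0] (by simp)
    · exact c_rel [2, 3] (by simp)
    · exact c_rel [3, 2] (by simp)
  · intro L hL
    exact wordP_gP_eq_one φ L (c_rel L (List.mem_append_left _ hL))

theorem card_Sp (hK : Fintype.card K = 3) : Nat.card (symplecticGroup (Fin 2) K) = 51840 := by
  rw [Cfsg.Agent.Lib.Helper5.SympCard.card_symplecticGroup, hK]
  decide

theorem card_PSp_le (hK : Fintype.card K = 3) : Nat.card (Cfsg.PSp 2 K) ≤ 25920 := by
  classical
  have := charP_three hK
  have h1 := Subgroup.card_eq_card_quotient_mul_card_subgroup (Subgroup.center (symplecticGroup (Fin 2) K))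
  rw [card_Sp hK] at h1
  have hneg : (-1 : Matrix Idx Idx K) ∈ symplecticGroup (Fin 2) K :=
    SymplecticGroup.neg_mem (one_mem _)
  have hne : (⟨-1, hneg⟩ : symplecticGroup (Fin 2) K) ≠ 1 := by
    intro h
    have h2 := congrArg Subtype.val h
    have h3 := congrFun (congrFun h2 (Sum.inl 0)) (Sum.inl 0)
    simp only [Matrix.neg_apply, Matrix.one_apply_eq, Submonoid.coe_one] at h3
    have h4 : (2 : K) = 0 := by linear_combination -h3
    have h5 : (3 : K) = 0 := CharP.ofNat_eq_zero K 3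
    have h6 : (1 : K) = 0 := by linear_combination h5 - h4
    exact one_ne_zero h6
  have hc : 2 ≤ Nat.card (Subgroup.center (symplecticGroup (Fin 2) K)) := by
    have hnt : Nontrivial (Subgroup.center (symplecticGroup (Fin 2) K)) :=
      ⟨⟨⟨⟨-1, hneg⟩, neg_one_mem_center _ rfl⟩, 1, fun h => hne (congrArg Subtype.val h)⟩⟩
    exact Finite.one_lt_card_iff_nontrivial.2 hnt
  nlinarith

/-- the presented group is the projective symplectic group -/
theorem equiv_PSp (hK : Fintype.card K = 3) : Nonempty (PU42p.P.Grp ≃* Cfsg.PSp 2 K) := by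
  have := charP_three hK
  let φ : ZMod 3 →+* K := ZMod.castHom (dvd_refl 3) K
  obtain ⟨ψ, hψ⟩ := exists_hom φ
  obtain ⟨fG, _, hcard⟩ := U42pMain.order_aux
  have hinj : Function.Injective ψ := by
    apply RepLib.injective_of_simple U42pMain.simple_aux ψ (PU42p.P.gR 0)
    rw [hψ 0 (by norm_num)]
    intro h
    have h1 : gS φ 0 ∈ Subgroup.center (symplecticGroup (Fin 2) K) := (QuotientGroup.eq_one_iff _).1 h
    rw [Subgroup.mem_center_iff] at h1
    have h2 := congrArg Subtype.val (h1 (gS φ 2))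
    have h3 : (Mc 2 * Mc 0).map φ = (Mc 0 * Mc 2).map φ := by
      rw [Matrix.map_mul, Matrix.map_mul, ← coe_gS, ← coe_gS]
      exact h2
    exact c_ne (Matrix.map_injective φ.injective h3).symm
  have hfin : Finite (Cfsg.PSp 2 K) := inferInstance
  have hle := card_PSp_le hK
  have hge : 25920 ≤ Nat.card (Cfsg.PSp 2 K) := by
    rw [← hcard]
    exact Nat.card_le_card_of_injective ψ hinj
  have hbij : Function.Bijective ψ := by
    rw [Nat.bijective_iff_injective_and_card]
    exact ⟨hinj, by rw [hcard]; omega⟩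
  exact ⟨MulEquiv.ofBijective ψ hbij⟩

end Hom

end Cfsg.Agent.Lib.Helper4.U42Sp
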