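import Cfsg.Agent.Lib.Helper4.UnipCount1

/-!
# Counting nilpotent matrices: the Fitting decomposition in matrix form
-/

namespace Cfsg.Agent.Lib.Helper4.UnipCount

open Matrix Module

variable {F : Type*} [Field F] {n : ℕ}

/-- the standard splitting of `Fin n` -/
def eKM {k m n : ℕ} (hkm : k + m = n) : Fin k ⊕ Fin m ≃ Fin n :=
  finSumFinEquiv.trans (finCongr hkm)

theorem fitting_matrix (A : Matrix (Fin n) (Fin n) F) :
    ∃ (k m : ℕ) (hkm : k + m = n) (N : Matrix (Fin k) (Fin k) F) (B : Matrix (Fin m) (Fin m) F)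
      (P : GL (Fin n) F), IsNilpotent N ∧ IsUnit B ∧
      A = (P : Matrix (Fin n) (Fin n) F) *
        Matrix.reindex (eKM hkm) (eKM hkm) (Matrix.fromBlocks N 0 0 B) *
        ((P⁻¹ : GL (Fin n) F) : Matrix (Fin n) (Fin n) F) := by
  classical
  obtain ⟨f, hf⟩ : ∃ f : (Fin n → F) →ₗ[F] (Fin n → F), f = Matrix.toLin' A := ⟨_, rfl⟩
  have hev := (LinearMap.eventually_isCompl_ker_pow_range_pow f).and
    (LinearMap.eventually_iSup_ker_pow_eq f)
  obtain ⟨m₀, hc, hsup⟩ := hev.exists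
  obtain ⟨U, hUdef⟩ : ∃ U, U = LinearMap.ker (f ^ m₀) := ⟨_, rfl⟩
  obtain ⟨W, hWdef⟩ : ∃ W, W = LinearMap.range (f ^ m₀) := ⟨_, rfl⟩
  rw [← hUdef, ← hWdef] at hc
  have hcomm : ∀ x, (f ^ m₀) (f x) = f ((f ^ m₀) x) := by
    intro x
    rw [← Module.End.mul_apply, ← pow_succ, pow_succ', Module.End.mul_apply]
  have hU : ∀ x ∈ U, f x ∈ U := by
    intro x hx
    rw [hUdef, LinearMap.mem_ker] at hx ⊢
    rw [hcomm, hx, map_zero]
  have hW : ∀ x ∈ W, f x ∈ W := by
    intro x hx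
    rw [hWdef] at hx ⊢
    obtain ⟨y, rfl⟩ := hx
    exact ⟨f y, hcomm y⟩
  obtain ⟨fU, hfU⟩ : ∃ fU : U →ₗ[F] U, fU = f.restrict hU := ⟨_, rfl⟩
  obtain ⟨fW, hfW⟩ : ∃ fW : W →ₗ[F] W, fW = f.restrict hW := ⟨_, rfl⟩
  have hfU_apply : ∀ u : U, ((fU u : U) : Fin n → F) = f u := by
    intro u; rw [hfU]; rfl
  have hfW_apply : ∀ w : W, ((fW w : W) : Fin n → F) = f w := by
    intro w; rw [hfW]; rfl
  have hnil : IsNilpotent fU := by
    refine ⟨m₀, ?_⟩
    rw [hfU, Module.End.pow_restrict]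
    apply LinearMap.ext
    intro u
    apply Subtype.ext
    rw [LinearMap.restrict_apply]
    have hle : U ≤ LinearMap.ker (f ^ m₀) := le_of_eq hUdef
    have := hle u.2
    rw [LinearMap.mem_ker] at this
    simpa using this
  have hunit : IsUnit fW := by
    rw [LinearMap.isUnit_iff_ker_eq_bot, LinearMap.ker_eq_bot']
    intro w hw
    have hw1 : f (w : Fin n → F) = 0 := by rw [← hfW_apply, hw]; rfl
    obtain ⟨y, hy⟩ : (w : Fin n → F) ∈ LinearMap.range (f ^ m₀) := by rw [← hWdef]; exact w.2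
    have hy1 : y ∈ LinearMap.ker (f ^ (m₀ + 1)) := by
      rw [LinearMap.mem_ker, pow_succ', Module.End.mul_apply, hy, hw1]
    have hy2 : y ∈ LinearMap.ker (f ^ m₀) := by
      rw [← hsup]
      exact (le_iSup (fun i => LinearMap.ker (f ^ i)) (m₀ + 1)) hy1
    rw [LinearMap.mem_ker, hy] at hy2
    exact Subtype.ext hy2
  -- bases
  obtain ⟨k, hk⟩ : ∃ k, k = finrank F U := ⟨_, rfl⟩
  obtain ⟨m, hm⟩ : ∃ m, m = finrank F W := ⟨_, rfl⟩
  have hkm : k + m = n := by
    rw [hk, hm, Submodule.finrank_add_eq_of_isCompl hc, Module.finrank_fin_fun]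
  let bU : Basis (Fin k) F U := Module.finBasisOfFinrankEq F U hk.symm
  let bW : Basis (Fin m) F W := Module.finBasisOfFinrankEq F W hm.symm
  let b : Basis (Fin k ⊕ Fin m) F (Fin n → F) :=
    (bU.prod bW).map (Submodule.prodEquivOfIsCompl U W hc)
  have hb_inl : ∀ j, b (Sum.inl j) = (bU j : Fin n → F) := by
    intro j
    simp [b, Submodule.coe_prodEquivOfIsCompl']
  have hb_inr : ∀ j, b (Sum.inr j) = (bW j : Fin n → F) := by
    intro j
    simp [b, Submodule.coe_prodEquivOfIsCompl']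
  have hrepr_U : ∀ (u : U) (i : Fin k ⊕ Fin m),
      b.repr (u : Fin n → F) i = Sum.elim (fun i => bU.repr u i) (fun _ => 0) i := by
    intro u i
    simp only [b, Basis.map_repr, LinearEquiv.trans_apply,
      Submodule.prodEquivOfIsCompl_symm_apply_left]
    cases i with
    | inl i => simp
    | inr i => simp
  have hrepr_W : ∀ (w : W) (i : Fin k ⊕ Fin m),
      b.repr (w : Fin n → F) i = Sum.elim (fun _ => 0) (fun i => bW.repr w i) i := by
    intro w i
    simp only [b, Basis.map_repr, LinearEquiv.trans_apply,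
      Submodule.prodEquivOfIsCompl_symm_apply_right]
    cases i with
    | inl i => simp
    | inr i => simp
  obtain ⟨N, hN⟩ : ∃ N, N = LinearMap.toMatrix bU bU fU := ⟨_, rfl⟩
  obtain ⟨B, hB⟩ : ∃ B, B = LinearMap.toMatrix bW bW fW := ⟨_, rfl⟩
  have hNnil : IsNilpotent N := by
    rw [hN]
    exact hnil.map (LinearMap.toMatrixAlgEquiv bU)
  have hBunit : IsUnit B := by
    rw [hB]
    exact hunit.map (LinearMap.toMatrixAlgEquiv bW)
  have hblock : LinearMap.toMatrix b b f = Matrix.fromBlocks N 0 0 B := by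
    ext i j
    rw [LinearMap.toMatrix_apply]
    cases j with
    | inl j =>
      rw [hb_inl, ← hfU_apply, hrepr_U]
      cases i with
      | inl i => simp [hN, LinearMap.toMatrix_apply]
      | inr i => simp
    | inr j =>
      rw [hb_inr, ← hfW_apply, hrepr_W]
      cases i with
      | inl i => simp
      | inr i => simp [hB, LinearMap.toMatrix_apply]
  -- reindex and change basis
  let b' : Basis (Fin n) F (Fin n → F) := b.reindex (eKM hkm)
  have hre : LinearMap.toMatrix b' b' f =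
      Matrix.reindex (eKM hkm) (eKM hkm) (LinearMap.toMatrix b b f) := by
    ext i j
    simp [b', LinearMap.toMatrix_apply, Basis.repr_reindex_apply]
  have hA : A = LinearMap.toMatrix (Pi.basisFun F (Fin n)) (Pi.basisFun F (Fin n)) f := by
    rw [LinearMap.toMatrix_eq_toMatrix', hf, LinearMap.toMatrix'_toLin']
  have h1 : (Pi.basisFun F (Fin n)).toMatrix b' * b'.toMatrix (Pi.basisFun F (Fin n)) = 1 :=
    Basis.toMatrix_mul_toMatrix_flip _ _
  have h2 : b'.toMatrix (Pi.basisFun F (Fin n)) * (Pi.basisFun F (Fin n)).toMatrix b' = 1 :=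
    Basis.toMatrix_mul_toMatrix_flip _ _
  refine ⟨k, m, hkm, N, B, ⟨_, _, h1, h2⟩, hNnil, hBunit, ?_⟩
  rw [← hblock, ← hre, hA]
  exact (basis_toMatrix_mul_linearMap_toMatrix_mul_basis_toMatrix _ _ _ _ f).symm

end Cfsg.Agent.Lib.Helper4.UnipCount
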