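import Cfsg.Agent.Lib.Helper4.UnipCount2
import Cfsg.Agent.Lib.Helper4.JordanGL

/-!
# Counting nilpotent matrices and unipotent elements (Fine-Herstein, Steinberg)
-/

namespace Cfsg.Agent.Lib.Helper4.UnipCount

open Matrix Polynomial

variable {F : Type*} [Field F] {n : ℕ}

/-- dimension of the nilpotent part -/
noncomputable def nilDim (A : Matrix (Fin n) (Fin n) F) : ℕ := A.charpoly.natTrailingDegree

lemma charpoly_nilpotent {κ : Type*} [Fintype κ] [DecidableEq κ] (N : Matrix κ κ F)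
    (hN : IsNilpotent N) : N.charpoly = X ^ Fintype.card κ := by
  rw [← sub_eq_zero]
  exact (Matrix.isNilpotent_charpoly_sub_pow_of_isNilpotent hN).eq_zero

lemma natTrailingDegree_charpoly_unit {μ : Type*} [Fintype μ] [DecidableEq μ] (B : Matrix μ μ F)
    (hB : IsUnit B) : B.charpoly.natTrailingDegree = 0 := by
  rw [Polynomial.natTrailingDegree_eq_zero]
  right
  have hdet : IsUnit B.det := (Matrix.isUnit_iff_isUnit_det _).1 hB
  intro h0
  rw [Matrix.det_eq_sign_charpoly_coeff, h0, mul_zero] at hdet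
  exact not_isUnit_zero hdet

lemma natTrailingDegree_Dset {κ μ : Type*} [Fintype κ] [DecidableEq κ] [Fintype μ]
    [DecidableEq μ] (M : Matrix (κ ⊕ μ) (κ ⊕ μ) F) (hM : M ∈ Dset F κ μ) :
    M.charpoly.natTrailingDegree = Fintype.card κ := by
  obtain ⟨N, B, hN, hB, rfl⟩ := hM
  rw [Matrix.charpoly_fromBlocks_zero₁₂, charpoly_nilpotent N hN,
    natTrailingDegree_mul (pow_ne_zero _ X_ne_zero) (Matrix.charpoly_monic B).ne_zero,
    natTrailingDegree_X_pow, natTrailingDegree_charpoly_unit B hB, add_zero]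

lemma charpoly_cact {ι : Type*} [Fintype ι] [DecidableEq ι] (g : GL ι F) (M : Matrix ι ι F) :
    (cact g M).charpoly = M.charpoly := by
  unfold cact
  rw [Matrix.coe_units_inv]
  exact Matrix.charpoly_units_conj g M

/-- matrices with given `nilDim` correspond to `Sset` -/
lemma mem_Sset_iff {k m : ℕ} (hkm : k + m = n) (A : Matrix (Fin n) (Fin n) F) :
    Matrix.reindexAlgEquiv F F (eKM hkm).symm A ∈ Sset F (Fin k) (Fin m) ↔ nilDim A = k := by
  constructor
  · rintro ⟨g, d, hd, hgd⟩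
    unfold nilDim
    have h1 : A.charpoly = (Matrix.reindexAlgEquiv F F (eKM hkm).symm A).charpoly :=
      (Matrix.charpoly_reindex _ _).symm
    rw [h1, ← hgd, charpoly_cact, natTrailingDegree_Dset d hd, Fintype.card_fin]
  · intro hA
    obtain ⟨k', m', hkm', N, B, P, hN, hB, hAeq⟩ := fitting_matrix A
    have hk' : nilDim A = k' := by
      unfold nilDim
      have hAeq' : A = cact P (Matrix.reindex (eKM hkm') (eKM hkm') (fromBlocks N 0 0 B)) := hAeq
      rw [hAeq', charpoly_cact, Matrix.charpoly_reindex,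
        natTrailingDegree_Dset _ ⟨N, B, hN, hB, rfl⟩, Fintype.card_fin]
    obtain rfl : k' = k := by rw [← hk', hA]
    obtain rfl : m' = m := by omega
    refine ⟨Units.map ((Matrix.reindexAlgEquiv F F (eKM hkm).symm) :
      Matrix (Fin n) (Fin n) F →* Matrix (Fin k' ⊕ Fin m') (Fin k' ⊕ Fin m') F) P,
      fromBlocks N 0 0 B, ⟨N, B, hN, hB, rfl⟩, ?_⟩
    unfold cact
    rw [hAeq, map_mul, map_mul]
    congr 1
    congr 1
    ext i j
    simp [Matrix.reindexAlgEquiv_apply]

lemma card_nilDim_eq [Finite F] {k m : ℕ} (hkm : k + m = n) :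
    Nat.card {A : Matrix (Fin n) (Fin n) F // nilDim A = k} =
      Nat.card (Sset F (Fin k) (Fin m)) := by
  apply Nat.card_congr
  exact (Matrix.reindexAlgEquiv F F (eKM hkm).symm).toEquiv.subtypeEquiv
    (fun A => (mem_Sset_iff hkm A).symm)

lemma card_GL_sum {k m : ℕ} (hkm : k + m = n) :
    Nat.card (GL (Fin k ⊕ Fin m) F) = Nat.card (GL (Fin n) F) :=
  Nat.card_congr (Units.mapEquiv (Matrix.reindexAlgEquiv F F (eKM hkm)).toMulEquiv).toEquiv

theorem card_nilDim_mul [Fintype F] {k m : ℕ} (hkm : k + m = n) :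
    Nat.card {A : Matrix (Fin n) (Fin n) F // nilDim A = k} * Nat.card (GL (Fin k) F) =
      Nat.card (GL (Fin n) F) * Nat.card {N : Matrix (Fin k) (Fin k) F // IsNilpotent N} := by
  have h := card_Sset (F := F) (κ := Fin k) (μ := Fin m)
  rw [← card_nilDim_eq hkm, card_GL_sum hkm] at h
  have hgm : 0 < Nat.card (GL (Fin m) F) := Nat.card_pos
  apply Nat.eq_of_mul_eq_mul_right hgm
  calc _ = Nat.card {A : Matrix (Fin n) (Fin n) F // nilDim A = k} *
        (Nat.card (GL (Fin k) F) * Nat.card (GL (Fin m) F)) := by ring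
    _ = _ := h
    _ = _ := by ring

lemma nilDim_le (A : Matrix (Fin n) (Fin n) F) : nilDim A ≤ n := by
  unfold nilDim
  have h1 := Polynomial.natTrailingDegree_le_natDegree (p := A.charpoly)
  rw [Matrix.charpoly_natDegree_eq_dim, Fintype.card_fin] at h1
  exact h1

theorem sum_card_nilDim [Fintype F] :
    ∑ k ∈ Finset.range (n + 1), Nat.card {A : Matrix (Fin n) (Fin n) F // nilDim A = k} =
      Fintype.card F ^ (n * n) := by
  classical
  have h := Finset.card_eq_sum_card_fiberwise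
    (s := (Finset.univ : Finset (Matrix (Fin n) (Fin n) F))) (t := Finset.range (n + 1))
    (f := nilDim) (by
      intro A _
      rw [Finset.mem_coe, Finset.mem_range]
      exact Nat.lt_succ_of_le (nilDim_le A))
  have h2 : (Finset.univ : Finset (Matrix (Fin n) (Fin n) F)).card = Fintype.card F ^ (n * n) := by
    rw [Finset.card_univ]
    show Fintype.card (Fin n → Fin n → F) = _
    rw [Fintype.card_fun, Fintype.card_fun, Fintype.card_fin, ← pow_mul]
  rw [← h2, h]
  apply Finset.sum_congr rfl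
  intro k _
  rw [Nat.card_eq_fintype_card, Fintype.card_subtype]

lemma card_GL_succ [Fintype F] (n : ℕ) :
    Nat.card (GL (Fin (n + 1)) F) =
      (Fintype.card F ^ (n + 1) - 1) * Fintype.card F ^ n * Nat.card (GL (Fin n) F) := by
  rw [Matrix.card_GL_field, Matrix.card_GL_field, Fin.prod_univ_succ]
  simp only [Fin.val_zero, pow_zero, Fin.val_succ]
  have : ∀ i : Fin n, Fintype.card F ^ (n + 1) - Fintype.card F ^ ((i : ℕ) + 1) =
      Fintype.card F * (Fintype.card F ^ n - Fintype.card F ^ (i : ℕ)) := by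
    intro i
    rw [Nat.mul_sub, pow_succ, pow_succ]
    ring_nf
  rw [Finset.prod_congr rfl (fun i _ => this i), Finset.prod_mul_distrib, Finset.prod_const,
    Finset.card_univ, Fintype.card_fin]
  ring

/-- **Fine–Herstein.** -/
theorem card_nilpotent [Fintype F] (n : ℕ) :
    Nat.card {N : Matrix (Fin n) (Fin n) F // IsNilpotent N} =
      Fintype.card F ^ (n * (n - 1)) := by
  obtain ⟨q, hq⟩ : ∃ q, q = Fintype.card F := ⟨_, rfl⟩
  have hq1 : 1 ≤ q := by rw [hq]; exact Fintype.card_pos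
  obtain ⟨g, hg⟩ : ∃ g : ℕ → ℕ, ∀ k, g k = Nat.card (GL (Fin k) F) := ⟨_, fun _ => rfl⟩
  obtain ⟨ν, hν⟩ : ∃ ν : ℕ → ℕ, ∀ k,
    ν k = Nat.card {N : Matrix (Fin k) (Fin k) F // IsNilpotent N} := ⟨_, fun _ => rfl⟩
  have hgpos : ∀ k, 0 < g k := by intro k; rw [hg]; exact Nat.card_pos
  have hS : ∀ n : ℕ, (∑ k ∈ Finset.range (n + 1), (ν k : ℚ) / (g k : ℚ)) =
      (q : ℚ) ^ (n * n) / (g n : ℚ) := by
    intro n
    have h1 : (∑ k ∈ Finset.range (n + 1),
        ((Nat.card {A : Matrix (Fin n) (Fin n) F // nilDim A = k} : ℕ) : ℚ)) = (q : ℚ) ^ (n * n) := by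
      rw [hq]
      exact_mod_cast sum_card_nilDim (F := F) (n := n)
    have h2 : ∀ k ∈ Finset.range (n + 1),
        ((Nat.card {A : Matrix (Fin n) (Fin n) F // nilDim A = k} : ℕ) : ℚ) =
          (g n : ℚ) * ((ν k : ℚ) / (g k : ℚ)) := by
      intro k hk
      have hkn : k + (n - k) = n := by
        have := Finset.mem_range.1 hk
        omega
      have h3 := card_nilDim_mul (F := F) hkn
      rw [← hg, ← hg, ← hν] at h3
      have hgk : (g k : ℚ) ≠ 0 := by exact_mod_cast (hgpos k).ne'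
      field_simp
      exact_mod_cast h3
    rw [Finset.sum_congr rfl h2, ← Finset.mul_sum] at h1
    have hgn : (g n : ℚ) ≠ 0 := by exact_mod_cast (hgpos n).ne'
    field_simp
    linarith
  rw [← hν, ← hq]
  cases n with
  | zero =>
    have h0 := hS 0
    rw [Finset.sum_range_one] at h0
    have hg0 : (g 0 : ℚ) ≠ 0 := by exact_mod_cast (hgpos 0).ne'
    field_simp at h0
    simp only [Nat.zero_mul, pow_zero] at h0 ⊢
    exact_mod_cast h0
  | succ n =>
    have h1 := hS (n + 1)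
    rw [Finset.sum_range_succ, hS n] at h1
    have hgs : (g (n + 1) : ℚ) = ((q : ℚ) ^ (n + 1) - 1) * (q : ℚ) ^ n * (g n : ℚ) := by
      have := card_GL_succ (F := F) n
      rw [← hg, ← hg, ← hq] at this
      rw [this]
      push_cast [Nat.one_le_pow _ _ hq1]
      ring
    have hgn : (g n : ℚ) ≠ 0 := by exact_mod_cast (hgpos n).ne'
    have hgn1 : (g (n + 1) : ℚ) ≠ 0 := by exact_mod_cast (hgpos (n + 1)).ne'
    have h2 : (ν (n + 1) : ℚ) = (q : ℚ) ^ ((n + 1) * (n + 1)) -
        (q : ℚ) ^ (n * n) * (((q : ℚ) ^ (n + 1) - 1) * (q : ℚ) ^ n) := by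
      have h3 : (ν (n + 1) : ℚ) / (g (n + 1) : ℚ) =
          (q : ℚ) ^ ((n + 1) * (n + 1)) / (g (n + 1) : ℚ) - (q : ℚ) ^ (n * n) / (g n : ℚ) := by
        linarith
      have h4 : (ν (n + 1) : ℚ) = (g (n + 1) : ℚ) *
          ((q : ℚ) ^ ((n + 1) * (n + 1)) / (g (n + 1) : ℚ) - (q : ℚ) ^ (n * n) / (g n : ℚ)) := by
        rw [← h3]; field_simp
      rw [h4, mul_sub, mul_div_cancel₀ _ hgn1, hgs]
      field_simp
    have h5 : (ν (n + 1) : ℚ) = (q : ℚ) ^ ((n + 1) * n) := by
      rw [h2]; ring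
    have h6 : n + 1 - 1 = n := by omega
    rw [h6]
    exact_mod_cast h5

/-- **Steinberg's count of unipotent elements of `GL_n(q)`.** -/
theorem card_unipotent [Fintype F] (p : ℕ) [Fact p.Prime] [CharP F p] (n : ℕ) :
    Nat.card {g : GL (Fin n) F // ∃ k : ℕ, orderOf g = p ^ k} =
      Fintype.card F ^ (n * (n - 1)) := by
  rw [← card_nilpotent (F := F) n]
  apply Nat.card_congr
  have hiff : ∀ g : GL (Fin n) F, (∃ k : ℕ, orderOf g = p ^ k) ↔
      IsNilpotent ((g : Matrix (Fin n) (Fin n) F) - 1) := by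
    intro g
    have h := JordanNil.unip_iff p g
    unfold JordanNil.Unip at h
    rw [h]
    constructor
    · rintro ⟨k, hk⟩
      exact ⟨k, (JordanNil.Nof_pow_eq_zero_iff g k).1 hk⟩
    · rintro ⟨k, hk⟩
      exact ⟨k, (JordanNil.Nof_pow_eq_zero_iff g k).2 hk⟩
  refine Equiv.ofBijective (fun g => ⟨(g.1 : Matrix (Fin n) (Fin n) F) - 1, (hiff g.1).1 g.2⟩) ?_
  constructor
  · intro g g' h
    have h' : (g.1 : Matrix (Fin n) (Fin n) F) - 1 = (g'.1 : Matrix (Fin n) (Fin n) F) - 1 :=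
      congrArg Subtype.val h
    exact Subtype.ext (Units.ext (sub_left_injective h'))
  · rintro ⟨N, hN⟩
    obtain ⟨u, hu⟩ := hN.isUnit_one_add
    have hu' : (u : Matrix (Fin n) (Fin n) F) - 1 = N := by rw [hu]; abel
    refine ⟨⟨u, (hiff u).2 (by rw [hu']; exact hN)⟩, ?_⟩
    exact Subtype.ext hu'

end Cfsg.Agent.Lib.Helper4.UnipCount
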