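import Cfsg.Agent.S5905
import Cfsg.Agent.Lib.Helper4.SwapWord

set_option autoImplicit false

/-! The even part of the imprimitive wreath product `S_a ≀ S_b` inside the alternating group:
three-cycle machinery. (helper4) -/

namespace Cfsg.Agent.Lib.Helper4.WreathAlt

open Equiv Cfsg.Agent.S5905 Cfsg.Agent.Lib.Helper4.SwapWord

section General

variable {G : Type*} [Group G]

theorem isCoatom_subgroupOf {H A : Subgroup G} (hHA : H ≤ A) (hne : H ≠ A)
    (h : ∀ L : Subgroup G, H ≤ L → L ≤ A → L ≠ H → L = A) : IsCoatom (H.subgroupOf A) := by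
  constructor
  · intro htop
    exact hne (le_antisymm hHA (Subgroup.subgroupOf_eq_top.mp htop))
  · intro K hK
    have hLA : K.map A.subtype ≤ A := Subgroup.map_subtype_le K
    have hHL : H ≤ K.map A.subtype := by
      intro x hx
      exact ⟨⟨x, hHA hx⟩, hK.le (Subgroup.mem_subgroupOf.mpr hx), rfl⟩
    have hK' : (K.map A.subtype).subgroupOf A = K :=
      Subgroup.comap_map_eq_self_of_injective A.subtype_injective K
    have hne' : K.map A.subtype ≠ H := by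
      intro hLH
      apply hK.ne
      rw [← hK', hLH]
    have := h _ hHL hLA hne'
    rw [← hK', this]
    exact Subgroup.subgroupOf_self A

end General

variable {Ω : Type*} [DecidableEq Ω]

/-- the three-cycle `(p q r)` -/
def c3 (p q r : Ω) : Perm Ω := swap p q * swap q r

theorem inj3 {p q r : Ω} (h1 : p ≠ q) (h2 : p ≠ r) (h3 : q ≠ r) :
    Function.Injective ![p, q, r] := by
  intro i j h
  fin_cases i <;> fin_cases j <;> simp_all

theorem inj4 {p q r m : Ω} (h1 : p ≠ q) (h2 : p ≠ r) (h3 : p ≠ m) (h4 : q ≠ r) (h5 : q ≠ m)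
    (h6 : r ≠ m) : Function.Injective ![p, q, r, m] := by
  intro i j h
  fin_cases i <;> fin_cases j <;> simp_all

theorem c3_rot {p q r : Ω} (h1 : p ≠ q) (h2 : p ≠ r) (h3 : q ≠ r) : c3 p q r = c3 q r p := by
  have key : (swap 0 1 * swap 1 2 : Perm (Fin 3)) = swap 1 2 * swap 2 0 := by decide
  have := congrArg (tupleHom ![p, q, r] (inj3 h1 h2 h3)) key
  simpa [c3, map_mul, tupleHom_swap] using this

theorem conj_swap (h : Perm Ω) (p q : Ω) : h * swap p q * h⁻¹ = swap (h p) (h q) := by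
  rw [Equiv.mul_swap_eq_swap_mul, mul_inv_cancel_right]

theorem conj_c3 (h : Perm Ω) (p q r : Ω) : h * c3 p q r * h⁻¹ = c3 (h p) (h q) (h r) := by
  rw [c3, c3, ← conj_swap, ← conj_swap]
  group

theorem swap_conj_c3 (p q r : Ω) : swap p q * c3 p q r * swap p q = (c3 p q r)⁻¹ := by
  rw [c3, mul_inv_rev, swap_inv, swap_inv, ← mul_assoc, swap_mul_self, one_mul]

theorem sign_c3 [Fintype Ω] {p q r : Ω} (h1 : p ≠ q) (h3 : q ≠ r) : Perm.sign (c3 p q r) = 1 := by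
  rw [c3, map_mul, Perm.sign_swap h1, Perm.sign_swap h3]; rfl

theorem c3_one_plus_two {p q r m : Ω} (h1 : p ≠ q) (h2 : p ≠ r) (h3 : p ≠ m) (h4 : q ≠ r)
    (h5 : q ≠ m) (h6 : r ≠ m) : c3 p q r = c3 p m r * c3 m p q := by
  have key : (swap 0 1 * swap 1 2 : Perm (Fin 4)) = (swap 0 3 * swap 3 2) * (swap 3 0 * swap 0 1) := by
    decide
  have := congrArg (tupleHom ![p, q, r, m] (inj4 h1 h2 h3 h4 h5 h6)) key
  simpa [c3, map_mul, tupleHom_swap] using this

variable [Fintype Ω] {b : ℕ} {f : Ω → Fin b}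

theorem c3_mem_W {p q r : Ω} (hpq : f p = f q) (hqr : f q = f r) : c3 p q r ∈ Wsub f :=
  (Wsub f).mul_mem (swap_mem f hpq) (swap_mem f hqr)

theorem c3_mem_Wplus {p q r : Ω} (h1 : p ≠ q) (h3 : q ≠ r) (hpq : f p = f q) (hqr : f q = f r) :
    c3 p q r ∈ Wsub f ⊓ alternatingGroup Ω :=
  ⟨c3_mem_W hpq hqr, Perm.mem_alternatingGroup.mpr (sign_c3 h1 h3)⟩

/-- Lemma T: one `(2+1)` three-cycle in `L` gives all of them. -/
theorem c3_mem_of_c3_mem {a : ℕ} (hf : ∀ i : Fin b, Nat.card {x : Ω // f x = i} = a)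
    (L : Subgroup (Perm Ω)) (hWL : Wsub f ⊓ alternatingGroup Ω ≤ L)
    {p q r : Ω} (hpq : p ≠ q) (hfpq : f p = f q) (hfpr : f p ≠ f r) (hc : c3 p q r ∈ L)
    {p₁ q₁ r₁ : Ω} (hpq₁ : p₁ ≠ q₁) (hfpq₁ : f p₁ = f q₁) (hfpr₁ : f p₁ ≠ f r₁) :
    c3 p₁ q₁ r₁ ∈ L := by
  obtain ⟨h₀, hh₀W, hh₀p, hh₀r⟩ := two_trans hf p r p₁ r₁ hfpr hfpr₁
  -- block of h₀ q
  have hfq : f (h₀ q) = f p₁ := by
    have := (hh₀W p q).mp hfpq
    rw [hh₀p] at this
    exact this.symm
  have hq_ne : h₀ q ≠ p₁ := by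
    rw [← hh₀p]
    exact fun h => hpq (h₀.injective h).symm
  obtain ⟨h, hh⟩ : ∃ h : Perm Ω, h = swap (h₀ q) q₁ * h₀ := ⟨_, rfl⟩
  have hhW : h ∈ Wsub f := by
    rw [hh]; exact (Wsub f).mul_mem (swap_mem f (hfq.trans hfpq₁)) hh₀W
  have hhp : h p = p₁ := by
    rw [hh, Perm.mul_apply, hh₀p, swap_apply_of_ne_of_ne hq_ne.symm hpq₁]
  have hhq : h q = q₁ := by
    rw [hh, Perm.mul_apply, swap_apply_left]
  have hhr : h r = r₁ := by
    rw [hh, Perm.mul_apply, hh₀r, swap_apply_of_ne_of_ne]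
    · intro e; apply hfpr₁; rw [e, hfq]
    · intro e; apply hfpr₁; rw [e, hfpq₁]
  have hconj : h * c3 p q r * h⁻¹ = c3 p₁ q₁ r₁ := by rw [conj_c3, hhp, hhq, hhr]
  rcases Int.units_eq_one_or (Perm.sign h) with hs | hs
  · have hhL : h ∈ L := hWL ⟨hhW, Perm.mem_alternatingGroup.mpr hs⟩
    rw [← hconj]
    exact L.mul_mem (L.mul_mem hhL hc) (L.inv_mem hhL)
  · have hh'W : h * swap p q ∈ Wsub f := (Wsub f).mul_mem hhW (swap_mem f hfpq)
    have hs' : Perm.sign (h * swap p q) = 1 := by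
      rw [map_mul, hs, Perm.sign_swap hpq]; rfl
    have hh'L : h * swap p q ∈ L := hWL ⟨hh'W, Perm.mem_alternatingGroup.mpr hs'⟩
    have h1 : (h * swap p q) * c3 p q r * (h * swap p q)⁻¹ ∈ L :=
      L.mul_mem (L.mul_mem hh'L hc) (L.inv_mem hh'L)
    have h2 : (h * swap p q) * c3 p q r * (h * swap p q)⁻¹ = (c3 p₁ q₁ r₁)⁻¹ := by
      calc (h * swap p q) * c3 p q r * (h * swap p q)⁻¹
          = h * (swap p q * c3 p q r * swap p q) * h⁻¹ := by
            rw [mul_inv_rev, swap_inv]; simp only [mul_assoc]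
        _ = h * (c3 p q r)⁻¹ * h⁻¹ := by rw [swap_conj_c3]
        _ = (h * c3 p q r * h⁻¹)⁻¹ := by simp [mul_assoc]
        _ = (c3 p₁ q₁ r₁)⁻¹ := by rw [hconj]
    rw [h2] at h1
    simpa using L.inv_mem h1

/-- From one `(2+1)` three-cycle, all three-cycles. -/
theorem isThreeCycle_mem {a : ℕ} (ha : 2 ≤ a)
    (hf : ∀ i : Fin b, Nat.card {x : Ω // f x = i} = a)
    (L : Subgroup (Perm Ω)) (hWL : Wsub f ⊓ alternatingGroup Ω ≤ L)
    {p q r : Ω} (hpq : p ≠ q) (hfpq : f p = f q) (hfpr : f p ≠ f r) (hc : c3 p q r ∈ L)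
    (σ : Perm Ω) (hσ : σ.IsThreeCycle) : σ ∈ L := by
  have hT : ∀ {p₁ q₁ r₁ : Ω}, p₁ ≠ q₁ → f p₁ = f q₁ → f p₁ ≠ f r₁ → c3 p₁ q₁ r₁ ∈ L :=
    fun h1 h2 h3 => c3_mem_of_c3_mem hf L hWL hpq hfpq hfpr hc h1 h2 h3
  have hsupp : σ.support.Nonempty := by
    rw [← Finset.card_pos, hσ.card_support]; norm_num
  obtain ⟨x, hx⟩ := hsupp
  have hnd := hσ.nodup_iff_mem_support.mpr hx
  have heq := hσ.eq_swap_mul_swap_iff_mem_support.mpr hx
  set y := σ x
  set z := σ y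
  have hxy : x ≠ y := by
    intro h; simp [h] at hnd
  have hxz : x ≠ z := by
    intro h; simp [h] at hnd
  have hyz : y ≠ z := by
    intro h; simp [h] at hnd
  have hσc : σ = c3 x y z := heq
  rw [hσc]
  by_cases h1 : f x = f y
  · by_cases h2 : f y = f z
    · exact hWL (c3_mem_Wplus hxy hyz h1 h2)
    · exact hT hxy h1 (fun h => h2 (h1.symm.trans h))
  · by_cases h2 : f y = f z
    · rw [c3_rot hxy hxz hyz]
      exact hT hyz h2 (fun h => h1 h.symm)
    · by_cases h3 : f x = f z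
      · rw [c3_rot hxy hxz hyz, c3_rot hyz hxy.symm hxz.symm]
        exact hT hxz.symm h3.symm (fun h => h2 h.symm)
      · -- three different blocks
        have hcard : 1 < Nat.card {t : Ω // f t = f x} := by rw [hf]; omega
        rw [Nat.card_eq_fintype_card, Fintype.one_lt_card_iff] at hcard
        obtain ⟨⟨m₁, hm₁⟩, ⟨m₂, hm₂⟩, hne⟩ := hcard
        have hne' : m₁ ≠ m₂ := fun h => hne (Subtype.ext h)
        obtain ⟨m, hm, hmx⟩ : ∃ m, f m = f x ∧ m ≠ x := by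
          by_cases hm₁x : m₁ = x
          · exact ⟨m₂, hm₂, fun h => hne' (hm₁x.trans h.symm)⟩
          · exact ⟨m₁, hm₁, hm₁x⟩
        have hmy : y ≠ m := fun h => h1 (by rw [h, hm])
        have hmz : z ≠ m := fun h => h3 (by rw [h, hm])
        rw [c3_one_plus_two hxy hxz hmx.symm hyz hmy hmz]
        refine L.mul_mem (hT hmx.symm hm.symm h3) (hT hmx hm (fun h => h1 (hm.symm.trans h)))

theorem alternatingGroup_le {a : ℕ} (ha : 2 ≤ a)
    (hf : ∀ i : Fin b, Nat.card {x : Ω // f x = i} = a)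
    (L : Subgroup (Perm Ω)) (hWL : Wsub f ⊓ alternatingGroup Ω ≤ L)
    {p q r : Ω} (hpq : p ≠ q) (hfpq : f p = f q) (hfpr : f p ≠ f r) (hc : c3 p q r ∈ L) :
    alternatingGroup Ω ≤ L := by
  rw [← Perm.closure_three_cycles_eq_alternating, Subgroup.closure_le]
  intro σ hσ
  exact isThreeCycle_mem ha hf L hWL hpq hfpq hfpr hc σ hσ

end Cfsg.Agent.Lib.Helper4.WreathAlt
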