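import Cfsg.Agent.Lib.Helper4.WreathAlt1

set_option autoImplicit false

/-! Finding a `(2+1)` three-cycle in a proper overgroup of the even wreath product: block size
at least three. (helper4) -/

namespace Cfsg.Agent.Lib.Helper4.WreathAlt

open Equiv Cfsg.Agent.S5905 Cfsg.Agent.Lib.Helper4.SwapWord

variable {Ω : Type*} [DecidableEq Ω] [Fintype Ω] {b : ℕ} {f : Ω → Fin b}

theorem card_fibre {a : ℕ} (hf : ∀ i : Fin b, Nat.card {x : Ω // f x = i} = a) (x : Ω) :
    (Finset.univ.filter fun t => f t = f x).card = a := by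
  rw [← hf (f x), Nat.card_eq_fintype_card, Fintype.card_subtype]

theorem exists_third {a : ℕ} (ha : 3 ≤ a) (hf : ∀ i : Fin b, Nat.card {x : Ω // f x = i} = a)
    (x y : Ω) : ∃ z, f z = f x ∧ z ≠ x ∧ z ≠ y := by
  have h1 := card_fibre hf x
  have h2 : 0 < (((Finset.univ.filter fun t => f t = f x).erase x).erase y).card := by
    have e1 := Finset.pred_card_le_card_erase (s := Finset.univ.filter fun t => f t = f x) (a := x)
    have e2 := Finset.pred_card_le_card_erase
      (s := (Finset.univ.filter fun t => f t = f x).erase x) (a := y)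
    omega
  obtain ⟨z, hz⟩ := Finset.card_pos.mp h2
  rw [Finset.mem_erase, Finset.mem_erase, Finset.mem_filter] at hz
  exact ⟨z, hz.2.2.2, hz.2.1, hz.1⟩

theorem c3_apply_left {p q r : Ω} (h1 : p ≠ q) (h2 : p ≠ r) : c3 p q r p = q := by
  rw [c3, Perm.mul_apply, swap_apply_of_ne_of_ne h1 h2, swap_apply_left]

theorem c3_apply_of_ne {p q r x : Ω} (h1 : x ≠ p) (h2 : x ≠ q) (h3 : x ≠ r) : c3 p q r x = x := by
  rw [c3, Perm.mul_apply, swap_apply_of_ne_of_ne h2 h3, swap_apply_of_ne_of_ne h1 h2]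

theorem c3_I4 {u v w m : Ω} (h1 : u ≠ v) (h2 : u ≠ w) (h3 : u ≠ m) (h4 : v ≠ w) (h5 : v ≠ m)
    (h6 : w ≠ m) : c3 u v w * (c3 m v w)⁻¹ = c3 u v m := by
  have key : ((swap 0 1 * swap 1 2) * (swap 3 1 * swap 1 2)⁻¹ : Perm (Fin 4)) =
      swap 0 1 * swap 1 3 := by decide
  have := congrArg (tupleHom ![u, v, w, m] (inj4 h1 h2 h3 h4 h5 h6)) key
  simpa [c3, map_mul, tupleHom_swap] using this

/-- Lemma S for block size at least three. -/
theorem exists_c3_of_three_le {a : ℕ} (ha : 3 ≤ a)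
    (hf : ∀ i : Fin b, Nat.card {x : Ω // f x = i} = a)
    (L : Subgroup (Perm Ω)) (hWL : Wsub f ⊓ alternatingGroup Ω ≤ L)
    (g : Perm Ω) (hgL : g ∈ L) {x y : Ω} (hxy : f x = f y) (hg : f (g x) ≠ f (g y)) :
    ∃ p q r : Ω, p ≠ q ∧ f p = f q ∧ f p ≠ f r ∧ c3 p q r ∈ L := by
  have hne : x ≠ y := fun h => hg (by rw [h])
  obtain ⟨z, hz, hzx, hzy⟩ := exists_third ha hf x y
  have hc : c3 x y z ∈ L := hWL (c3_mem_Wplus hne hzy.symm hxy (hxy.symm.trans hz.symm))
  have hc' : c3 (g x) (g y) (g z) ∈ L := by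
    rw [← conj_c3]
    exact L.mul_mem (L.mul_mem hgL hc) (L.inv_mem hgL)
  have huv : g x ≠ g y := fun h => hne (g.injective h)
  have huw : g x ≠ g z := fun h => hzx (g.injective h).symm
  have hvw : g y ≠ g z := fun h => hzy (g.injective h).symm
  by_cases h1 : f (g z) = f (g x)
  · refine ⟨g z, g x, g y, huw.symm, h1, fun h => hg (h1.symm.trans h), ?_⟩
    rw [c3_rot huw.symm hvw.symm huv]
    exact hc'
  · by_cases h2 : f (g z) = f (g y)
    · refine ⟨g y, g z, g x, hvw, h2.symm, fun h => hg h.symm, ?_⟩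
      rw [← c3_rot huv huw hvw]
      exact hc'
    · -- three different blocks
      obtain ⟨m, hm, hmu, -⟩ := exists_third ha hf (g x) (g x)
      obtain ⟨m₂, hm₂, hm₂u, hm₂m⟩ := exists_third ha hf (g x) m
      have hmv : g y ≠ m := fun h => hg (by rw [h, hm])
      have hmw : g z ≠ m := fun h => h1 (by rw [h, hm])
      have hm₂v : g y ≠ m₂ := fun h => hg (by rw [h, hm₂])
      have hm₂w : g z ≠ m₂ := fun h => h1 (by rw [h, hm₂])
      have hρ : c3 (g x) m m₂ ∈ L :=
        hWL (c3_mem_Wplus hmu.symm hm₂m.symm hm.symm (hm.trans hm₂.symm))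
      have hc'' : c3 m (g y) (g z) ∈ L := by
        have := L.mul_mem (L.mul_mem hρ hc') (L.inv_mem hρ)
        rw [conj_c3, c3_apply_left hmu.symm hm₂u.symm, c3_apply_of_ne huv.symm hmv hm₂v,
          c3_apply_of_ne huw.symm hmw hm₂w] at this
        exact this
      have h3 : c3 (g x) (g y) m ∈ L := by
        rw [← c3_I4 huv huw hmu.symm hvw hmv hmw]
        exact L.mul_mem hc' (L.inv_mem hc'')
      refine ⟨m, g x, g y, hmu, hm, fun h => hg (hm.symm.trans h), ?_⟩
      rw [c3_rot hmu hmv.symm huv]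
      exact h3

end Cfsg.Agent.Lib.Helper4.WreathAlt
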