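import Cfsg.Agent.Lib.Helper4.WreathAlt2

set_option autoImplicit false

/-! Block size two: mates, partners and basic membership lemmas. (helper4) -/

namespace Cfsg.Agent.Lib.Helper4.WreathAlt

open Equiv Cfsg.Agent.S5905 Cfsg.Agent.Lib.Helper4.SwapWord

variable {Ω : Type*} [DecidableEq Ω] [Fintype Ω] {b : ℕ} {f : Ω → Fin b}

theorem exists_mate (hf : ∀ i : Fin b, Nat.card {x : Ω // f x = i} = 2) (x : Ω) :
    ∃ y, y ≠ x ∧ f y = f x ∧ ∀ z, f z = f x → z = x ∨ z = y := by
  have h1 := card_fibre hf x
  rw [Finset.card_eq_two] at h1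
  obtain ⟨p, q, hpq, hS⟩ := h1
  have hmem : ∀ z, f z = f x ↔ z = p ∨ z = q := by
    intro z
    have : z ∈ (Finset.univ.filter fun t => f t = f x) ↔ z ∈ ({p, q} : Finset Ω) := by rw [hS]
    simpa using this
  rcases (hmem x).mp rfl with h | h
  · subst h
    exact ⟨q, hpq.symm, (hmem q).mpr (Or.inr rfl), fun z hz => (hmem z).mp hz⟩
  · subst h
    exact ⟨p, hpq, (hmem p).mpr (Or.inl rfl), fun z hz => ((hmem z).mp hz).symm⟩

theorem inj_of_lt_ne {k : ℕ} (v : Fin k → Ω) (h : ∀ i j, i < j → v i ≠ v j) :
    Function.Injective v := by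
  intro i j hij
  rcases lt_trichotomy i j with hlt | heq | hgt
  · exact absurd hij (h i j hlt)
  · exact heq
  · exact absurd hij.symm (h j i hgt)

section Two

variable (mate : Ω → Ω)
  (hm : ∀ x, mate x ≠ x ∧ f (mate x) = f x ∧ ∀ z, f z = f x → z = x ∨ z = mate x)

include hm

theorem eq_mate_of {x z : Ω} (h : f z = f x) (hne : z ≠ x) : z = mate x :=
  ((hm x).2.2 z h).resolve_left hne

theorem mate_mate (x : Ω) : mate (mate x) = x := by
  have := (hm (mate x)).2.2 x (hm x).2.1.symm
  rcases this with h | h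
  · exact absurd h.symm (hm x).1
  · exact h.symm

theorem e_mem (t s : Ω) : swap t (mate t) * swap s (mate s) ∈ Wsub f ⊓ alternatingGroup Ω := by
  rw [Subgroup.mem_inf]
  refine ⟨(Wsub f).mul_mem (swap_mem f (hm t).2.1.symm) (swap_mem f (hm s).2.1.symm), ?_⟩
  rw [Perm.mem_alternatingGroup, map_mul, Perm.sign_swap (hm t).1.symm,
    Perm.sign_swap (hm s).1.symm]
  rfl

theorem blockswap_mem {p q : Ω} (hpq : f p ≠ f q) :
    swap p q * swap (mate p) (mate q) ∈ Wsub f ⊓ alternatingGroup Ω := by
  have h1 : p ≠ q := fun h => hpq (by rw [h])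
  have h2 : mate p ≠ mate q := fun h => hpq (by rw [← (hm p).2.1, h, (hm q).2.1])
  have h3 : p ≠ mate q := fun h => hpq (by rw [h, (hm q).2.1])
  have h4 : q ≠ mate p := fun h => hpq (by rw [h, (hm p).2.1])
  have key : ∀ x, f ((swap p q * swap (mate p) (mate q)) x) = swap (f p) (f q) (f x) := by
    intro x
    rw [Perm.mul_apply]
    by_cases hx1 : x = p
    · subst hx1
      rw [swap_apply_of_ne_of_ne (hm x).1.symm h3, swap_apply_left, swap_apply_left]
    · by_cases hx2 : x = q
      · subst hx2
        rw [swap_apply_of_ne_of_ne h4 (hm x).1.symm, swap_apply_right, swap_apply_right]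
      · by_cases hx3 : x = mate p
        · subst hx3
          rw [swap_apply_left, swap_apply_of_ne_of_ne h3.symm (hm q).1, (hm q).2.1, (hm p).2.1,
            swap_apply_left]
        · by_cases hx4 : x = mate q
          · subst hx4
            rw [swap_apply_right, swap_apply_of_ne_of_ne (hm p).1 h4.symm, (hm q).2.1, (hm p).2.1,
              swap_apply_right]
          · rw [swap_apply_of_ne_of_ne hx3 hx4, swap_apply_of_ne_of_ne hx1 hx2]
            have hfp : f x ≠ f p := fun h => by
              rcases (hm p).2.2 x h with h' | h'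
              · exact hx1 h'
              · exact hx3 h'
            have hfq : f x ≠ f q := fun h => by
              rcases (hm q).2.2 x h with h' | h'
              · exact hx2 h'
              · exact hx4 h'
            rw [swap_apply_of_ne_of_ne hfp hfq]
  rw [Subgroup.mem_inf]
  refine ⟨?_, ?_⟩
  · intro x y
    rw [key x, key y]
    exact (swap (f p) (f q)).injective.eq_iff.symm
  · rw [Perm.mem_alternatingGroup, map_mul, Perm.sign_swap h1, Perm.sign_swap h2]
    rfl

/-- the partner of a point in the image matching -/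
def partner (mate : Ω → Ω) (g : Perm Ω) (t : Ω) : Ω := g (mate (g⁻¹ t))

theorem partner_partner (g : Perm Ω) (t : Ω) : partner mate g (partner mate g t) = t := by
  simp [partner, mate_mate mate hm]

theorem partner_ne (g : Perm Ω) (t : Ω) : partner mate g t ≠ t := by
  intro h
  have : mate (g⁻¹ t) = g⁻¹ t := by
    apply g.injective
    rw [← partner, h]; simp
  exact (hm _).1 this

theorem partner_apply (g : Perm Ω) (x : Ω) : partner mate g (g x) = g (mate x) := by
  simp [partner]

theorem pair_mem (L : Subgroup (Perm Ω)) (hWL : Wsub f ⊓ alternatingGroup Ω ≤ L)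
    (g : Perm Ω) (hgL : g ∈ L) (t s : Ω) :
    swap t (partner mate g t) * swap s (partner mate g s) ∈ L := by
  have h1 := hWL (e_mem mate hm (g⁻¹ t) (g⁻¹ s))
  have h2 := L.mul_mem (L.mul_mem hgL h1) (L.inv_mem hgL)
  have e : g * (swap (g⁻¹ t) (mate (g⁻¹ t)) * swap (g⁻¹ s) (mate (g⁻¹ s))) * g⁻¹ =
      swap t (partner mate g t) * swap s (partner mate g s) := by
    have e1 : swap t (partner mate g t) = g * swap (g⁻¹ t) (mate (g⁻¹ t)) * g⁻¹ := by
      rw [conj_swap]; simp [partner]
    have e2 : swap s (partner mate g s) = g * swap (g⁻¹ s) (mate (g⁻¹ s)) * g⁻¹ := by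
      rw [conj_swap]; simp [partner]
    rw [e1, e2]; group
  rw [e] at h2
  exact h2

end Two

end Cfsg.Agent.Lib.Helper4.WreathAlt
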