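import Cfsg.Agent.Lib.Helper4.WreathAlt3

set_option autoImplicit false

/-! Block size two: finding a `(2+1)` three-cycle. (helper4) -/

namespace Cfsg.Agent.Lib.Helper4.WreathAlt

open Equiv Cfsg.Agent.S5905 Cfsg.Agent.Lib.Helper4.SwapWord

variable {Ω : Type*} [DecidableEq Ω] [Fintype Ω] {b : ℕ} {f : Ω → Fin b}

omit [DecidableEq Ω] [Fintype Ω] in
theorem ne_of_f_ne {x y : Ω} (h : f x ≠ f y) : x ≠ y := fun e => h (by rw [e])

theorem exists_fin_notMem {b : ℕ} (S : Finset (Fin b)) (h : S.card < b) : ∃ i, i ∉ S := by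
  by_contra hcon
  push Not at hcon
  have h1 : Finset.univ ⊆ S := fun i _ => hcon i
  have h2 := Finset.card_le_card h1
  rw [Finset.card_univ, Fintype.card_fin] at h2
  omega

theorem exists_point_notMem (hf : ∀ i : Fin b, Nat.card {x : Ω // f x = i} = 2)
    (S : Finset (Fin b)) (h : S.card < b) : ∃ e : Ω, f e ∉ S := by
  obtain ⟨i, hi⟩ := exists_fin_notMem S h
  have h1 : 0 < Nat.card {x : Ω // f x = i} := by rw [hf]; norm_num
  rw [Nat.card_pos_iff] at h1
  obtain ⟨⟨e, he⟩⟩ := h1.1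
  exact ⟨e, by rw [he]; exact hi⟩

theorem swapword_I5 {u up ub z zb : Ω} (h01 : u ≠ up) (h02 : u ≠ ub) (h03 : u ≠ z) (h04 : u ≠ zb)
    (h12 : up ≠ ub) (h13 : up ≠ z) (h14 : up ≠ zb) (h23 : ub ≠ z) (h24 : ub ≠ zb) (h34 : z ≠ zb) :
    (swap u up * swap z zb) * (swap u ub * swap z zb) = swap u up * swap u ub := by
  have key : ((swap 0 1 * swap 3 4) * (swap 0 2 * swap 3 4) : Perm (Fin 5)) =
      swap 0 1 * swap 0 2 := by decide
  have hinj : Function.Injective ![u, up, ub, z, zb] := by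
    apply inj_of_lt_ne
    intro i j hij
    fin_cases i <;> fin_cases j <;> first | (exact absurd hij (by decide)) | (simp; assumption)
  have := congrArg (tupleHom ![u, up, ub, z, zb] hinj) key
  simpa [map_mul, tupleHom_swap] using this

theorem swapword_I6 {u up ub c cb : Ω} (h01 : u ≠ up) (h02 : u ≠ ub) (h03 : u ≠ c) (h04 : u ≠ cb)
    (h12 : up ≠ ub) (h13 : up ≠ c) (h14 : up ≠ cb) (h23 : ub ≠ c) (h24 : ub ≠ cb) (h34 : c ≠ cb) :
    (swap u up * swap ub c) * ((swap ub c * swap u cb) * (swap u up * swap ub c) *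
      (swap ub c * swap u cb)⁻¹) = swap u up * swap cb up := by
  have key : ((swap 0 1 * swap 2 3) * ((swap 2 3 * swap 0 4) * (swap 0 1 * swap 2 3) *
      (swap 2 3 * swap 0 4)⁻¹) : Perm (Fin 5)) = swap 0 1 * swap 4 1 := by decide
  have hinj : Function.Injective ![u, up, ub, c, cb] := by
    apply inj_of_lt_ne
    intro i j hij
    fin_cases i <;> fin_cases j <;> first | (exact absurd hij (by decide)) | (simp; assumption)
  have := congrArg (tupleHom ![u, up, ub, c, cb] hinj) key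
  simpa [map_mul, map_inv, tupleHom_swap] using this

theorem swapword_I7 {u up c cb e eb : Ω} (h01 : u ≠ up) (h02 : u ≠ c) (h03 : u ≠ cb) (h04 : u ≠ e)
    (h05 : u ≠ eb) (h12 : up ≠ c) (h13 : up ≠ cb) (h14 : up ≠ e) (h15 : up ≠ eb) (h23 : c ≠ cb)
    (h24 : c ≠ e) (h25 : c ≠ eb) (h34 : cb ≠ e) (h35 : cb ≠ eb) (h45 : e ≠ eb) :
    (swap u up * swap cb up) * ((swap c cb * swap e eb) * (swap u up * swap cb up) *
      (swap c cb * swap e eb)⁻¹)⁻¹ = swap c cb * swap cb u := by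
  have key : ((swap 0 1 * swap 3 1) * ((swap 2 3 * swap 4 5) * (swap 0 1 * swap 3 1) *
      (swap 2 3 * swap 4 5)⁻¹)⁻¹ : Perm (Fin 6)) = swap 2 3 * swap 3 0 := by decide
  have hinj : Function.Injective ![u, up, c, cb, e, eb] := by
    apply inj_of_lt_ne
    intro i j hij
    fin_cases i <;> fin_cases j <;> first | (exact absurd hij (by decide)) | (simp; assumption)
  have := congrArg (tupleHom ![u, up, c, cb, e, eb] hinj) key
  simpa [map_mul, map_inv, tupleHom_swap] using this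

theorem swapword_I8 {u up c cb : Ω} (h01 : u ≠ up) (h02 : u ≠ c) (h03 : u ≠ cb)
    (h12 : up ≠ c) (h13 : up ≠ cb) (h23 : c ≠ cb) :
    (swap u up * swap cb up) * (swap up u * swap c u) = swap c cb * swap cb u := by
  have key : ((swap 0 1 * swap 3 1) * (swap 1 0 * swap 2 0) : Perm (Fin 4)) =
      swap 2 3 * swap 3 0 := by decide
  have := congrArg (tupleHom ![u, up, c, cb] (inj4 h01 h02 h03 h12 h13 h23)) key
  simpa [map_mul, tupleHom_swap] using this

theorem swapword_I9 {u up ub z e p pb : Ω} (h01 : u ≠ up) (h02 : u ≠ ub) (h03 : u ≠ z) (h04 : u ≠ e)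
    (h05 : u ≠ p) (h06 : u ≠ pb) (h12 : up ≠ ub) (h13 : up ≠ z) (h14 : up ≠ e) (h15 : up ≠ p)
    (h16 : up ≠ pb) (h23 : ub ≠ z) (h24 : ub ≠ e) (h25 : ub ≠ p) (h26 : ub ≠ pb) (h34 : z ≠ e)
    (h35 : z ≠ p) (h36 : z ≠ pb) (h45 : e ≠ p) (h46 : e ≠ pb) (h56 : p ≠ pb) :
    (swap u up * swap z e) * ((swap u ub * swap p pb) * (swap u up * swap z e) *
      (swap u ub * swap p pb)⁻¹) = swap u up * swap ub up := by
  have key : ((swap 0 1 * swap 3 4) * ((swap 0 2 * swap 5 6) * (swap 0 1 * swap 3 4) *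
      (swap 0 2 * swap 5 6)⁻¹) : Perm (Fin 7)) = swap 0 1 * swap 2 1 := by decide
  have hinj : Function.Injective ![u, up, ub, z, e, p, pb] := by
    apply inj_of_lt_ne
    intro i j hij
    fin_cases i <;> fin_cases j <;> first | (exact absurd hij (by decide)) | (simp; assumption)
  have := congrArg (tupleHom ![u, up, ub, z, e, p, pb] hinj) key
  simpa [map_mul, map_inv, tupleHom_swap] using this

end Cfsg.Agent.Lib.Helper4.WreathAlt
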