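import Cfsg.Agent.Lib.Helper4.WreathAlt4

set_option autoImplicit false

/-! Block size two: the case analysis. (helper4) -/

namespace Cfsg.Agent.Lib.Helper4.WreathAlt

open Equiv Cfsg.Agent.S5905 Cfsg.Agent.Lib.Helper4.SwapWord

variable {Ω : Type*} [DecidableEq Ω] [Fintype Ω] {b : ℕ} {f : Ω → Fin b}

section Two

variable (mate : Ω → Ω)
  (hm : ∀ x, mate x ≠ x ∧ f (mate x) = f x ∧ ∀ z, f z = f x → z = x ∨ z = mate x)
  (L : Subgroup (Perm Ω)) (hWL : Wsub f ⊓ alternatingGroup Ω ≤ L) (g : Perm Ω) (hgL : g ∈ L)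

include hm hWL hgL

/-- Lemma D -/
theorem lemmaD {u : Ω} (hu : f (partner mate g u) ≠ f u)
    (hc1 : f (partner mate g (mate u)) ≠ f u)
    (hc2 : f (partner mate g (mate u)) ≠ f (partner mate g u)) :
    swap u (partner mate g u) * swap (mate (partner mate g (mate u))) (partner mate g u) ∈ L := by
  generalize hc : partner mate g (mate u) = c at hc1 hc2 ⊢
  generalize hup : partner mate g u = up at hu hc2 ⊢
  generalize hcb : mate c = cb
  obtain ⟨ub, hub⟩ : ∃ ub, ub = mate u := ⟨_, rfl⟩
  rw [← hub] at hc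
  have fub : f ub = f u := by rw [hub]; exact (hm u).2.1
  have fcb : f cb = f c := by rw [← hcb]; exact (hm c).2.1
  have h01 : u ≠ up := ne_of_f_ne hu.symm
  have h02 : u ≠ ub := by rw [hub]; exact (hm u).1.symm
  have h03 : u ≠ c := ne_of_f_ne hc1.symm
  have h04 : u ≠ cb := ne_of_f_ne (f := f) (by rw [fcb]; exact hc1.symm)
  have h12 : up ≠ ub := ne_of_f_ne (f := f) (by rw [fub]; exact hu)
  have h13 : up ≠ c := ne_of_f_ne hc2.symm
  have h14 : up ≠ cb := ne_of_f_ne (f := f) (by rw [fcb]; exact hc2.symm)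
  have h23 : ub ≠ c := ne_of_f_ne (f := f) (by rw [fub]; exact hc1.symm)
  have h24 : ub ≠ cb := ne_of_f_ne (f := f) (by rw [fub, fcb]; exact hc1.symm)
  have h34 : c ≠ cb := by rw [← hcb]; exact (hm c).1.symm
  have hs : swap u up * swap ub c ∈ L := by
    have := pair_mem mate hm L hWL g hgL u ub
    rwa [hup, hc] at this
  have hw : swap ub c * swap u cb ∈ L := by
    have := hWL (blockswap_mem mate hm (p := ub) (q := c) (by rw [fub]; exact hc1.symm))
    rwa [hub, mate_mate mate hm, ← hub, hcb] at this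
  rw [← swapword_I6 h01 h02 h03 h04 h12 h13 h14 h23 h24 h34]
  exact L.mul_mem hs (L.mul_mem (L.mul_mem hw hs) (L.inv_mem hw))


/-- case A: a common edge -/
theorem caseA {u z : Ω} (hu : f (partner mate g u) ≠ f u) (hzu : z ≠ u)
    (hzup : z ≠ partner mate g u) (hz : f (partner mate g z) = f z) :
    ∃ p q r : Ω, p ≠ q ∧ f p = f q ∧ f p ≠ f r ∧ c3 p q r ∈ L := by
  have hzb : partner mate g z = mate z :=
    eq_mate_of mate hm hz (partner_ne mate hm g z)
  have hfzu : f z ≠ f u := by
    intro h
    have h1 : z = mate u := eq_mate_of mate hm h hzu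
    have h2 : partner mate g z = u := by rw [hzb, h1, mate_mate mate hm]
    apply hzup
    rw [← h2, partner_partner mate hm]
  have hs := pair_mem mate hm L hWL g hgL u z
  rw [hzb] at hs
  have he := hWL (e_mem mate hm u z)
  generalize hup : partner mate g u = up at hu hzup hs
  have fub : f (mate u) = f u := (hm u).2.1
  have fzb : f (mate z) = f z := (hm z).2.1
  have h01 : u ≠ up := ne_of_f_ne hu.symm
  have h02 : u ≠ mate u := (hm u).1.symm
  have h03 : u ≠ z := hzu.symm
  have h04 : u ≠ mate z := ne_of_f_ne (f := f) (by rw [fzb]; exact hfzu.symm)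
  have h12 : up ≠ mate u := ne_of_f_ne (f := f) (by rw [fub]; exact hu)
  have h13 : up ≠ z := hzup.symm
  have h14 : up ≠ mate z := by
    intro h
    apply hzu
    have : partner mate g z = partner mate g u := by rw [hzb, hup, h]
    have h2 := congrArg (partner mate g) this
    rwa [partner_partner mate hm, partner_partner mate hm] at h2
  have h23 : mate u ≠ z := ne_of_f_ne (f := f) (by rw [fub]; exact hfzu.symm)
  have h24 : mate u ≠ mate z := ne_of_f_ne (f := f) (by rw [fub, fzb]; exact hfzu.symm)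
  have h34 : z ≠ mate z := (hm z).1.symm
  have h := L.mul_mem hs he
  rw [swapword_I5 h01 h02 h03 h04 h12 h13 h14 h23 h24 h34] at h
  refine ⟨u, mate u, up, h02, fub.symm, hu.symm, ?_⟩
  rw [← c3_rot h01.symm h12 h02, c3, swap_comm up u]
  exact h


/-- case B-ii with a fourth block available -/
theorem caseBii_four {u e : Ω} (hu : f (partner mate g u) ≠ f u)
    (hc1 : f (partner mate g (mate u)) ≠ f u)
    (hc2 : f (partner mate g (mate u)) ≠ f (partner mate g u))
    (he1 : f e ≠ f u) (he2 : f e ≠ f (partner mate g u))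
    (he3 : f e ≠ f (partner mate g (mate u))) :
    ∃ p q r : Ω, p ≠ q ∧ f p = f q ∧ f p ≠ f r ∧ c3 p q r ∈ L := by
  have hd := lemmaD mate hm L hWL g hgL hu hc1 hc2
  generalize hc : partner mate g (mate u) = c at hc1 hc2 he3 hd
  generalize hup : partner mate g u = up at hu hc2 he2 hd
  have hw := hWL (e_mem mate hm c e)
  have fcb : f (mate c) = f c := (hm c).2.1
  have feb : f (mate e) = f e := (hm e).2.1
  have h01 : u ≠ up := ne_of_f_ne hu.symm
  have h02 : u ≠ c := ne_of_f_ne hc1.symm
  have h03 : u ≠ mate c := ne_of_f_ne (f := f) (by rw [fcb]; exact hc1.symm)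
  have h04 : u ≠ e := ne_of_f_ne he1.symm
  have h05 : u ≠ mate e := ne_of_f_ne (f := f) (by rw [feb]; exact he1.symm)
  have h12 : up ≠ c := ne_of_f_ne hc2.symm
  have h13 : up ≠ mate c := ne_of_f_ne (f := f) (by rw [fcb]; exact hc2.symm)
  have h14 : up ≠ e := ne_of_f_ne he2.symm
  have h15 : up ≠ mate e := ne_of_f_ne (f := f) (by rw [feb]; exact he2.symm)
  have h23 : c ≠ mate c := (hm c).1.symm
  have h24 : c ≠ e := ne_of_f_ne he3.symm
  have h25 : c ≠ mate e := ne_of_f_ne (f := f) (by rw [feb]; exact he3.symm)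
  have h34 : mate c ≠ e := ne_of_f_ne (f := f) (by rw [fcb]; exact he3.symm)
  have h35 : mate c ≠ mate e := ne_of_f_ne (f := f) (by rw [fcb, feb]; exact he3.symm)
  have h45 : e ≠ mate e := (hm e).1.symm
  have h := L.mul_mem hd (L.inv_mem (L.mul_mem (L.mul_mem hw hd) (L.inv_mem hw)))
  rw [swapword_I7 h01 h02 h03 h04 h05 h12 h13 h14 h15 h23 h24 h25 h34 h35 h45] at h
  exact ⟨c, mate c, u, h23, fcb.symm, hc1, h⟩

end Two

/-- case B-ii with exactly three blocks -/
theorem caseBii_three {f : Ω → Fin 3} (mate : Ω → Ω)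
    (hm : ∀ x, mate x ≠ x ∧ f (mate x) = f x ∧ ∀ z, f z = f x → z = x ∨ z = mate x)
    (L : Subgroup (Perm Ω)) (hWL : Wsub f ⊓ alternatingGroup Ω ≤ L) (g : Perm Ω) (hgL : g ∈ L)
    {u : Ω} (hu : f (partner mate g u) ≠ f u)
    (hB : ∀ z, f (partner mate g z) ≠ f z)
    (hc2 : f (partner mate g (mate u)) ≠ f (partner mate g u)) :
    ∃ p q r : Ω, p ≠ q ∧ f p = f q ∧ f p ≠ f r ∧ c3 p q r ∈ L := by
  have key : ∀ i j k l : Fin 3, i ≠ j → i ≠ k → j ≠ k → l = i ∨ l = j ∨ l = k := by decide
  have hc1 : f (partner mate g (mate u)) ≠ f u := by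
    have := hB (mate u); rwa [(hm u).2.1] at this
  have hd := lemmaD mate hm L hWL g hgL hu hc1 hc2
  have hpp : partner mate g (partner mate g u) = u := partner_partner mate hm g u
  -- the partner of the mate of `up`
  have hc₂ : partner mate g (mate (partner mate g u)) = mate (partner mate g (mate u)) := by
    have h1 : f (partner mate g (mate (partner mate g u))) ≠ f (partner mate g u) := by
      have := hB (mate (partner mate g u)); rwa [(hm _).2.1] at this
    have hpc : partner mate g (partner mate g (mate (partner mate g u))) =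
        mate (partner mate g u) := partner_partner mate hm g _
    rcases key (f u) (f (partner mate g u)) (f (partner mate g (mate u)))
      (f (partner mate g (mate (partner mate g u)))) hu.symm hc1.symm hc2.symm with h | h | h
    · exfalso
      rcases (hm u).2.2 _ h with h' | h'
      · rw [h'] at hpc
        exact (hm _).1 hpc.symm
      · rw [h'] at hpc
        apply hc2
        rw [hpc, (hm _).2.1]
    · exact absurd h h1
    · rcases (hm (partner mate g (mate u))).2.2 _ h with h' | h'
      · exfalso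
        rw [h', partner_partner mate hm] at hpc
        apply hu
        rw [← (hm (partner mate g u)).2.1, ← hpc, (hm u).2.1]
      · exact h'
  have hd' := lemmaD mate hm L hWL g hgL (u := partner mate g u)
    (by rw [hpp]; exact hu.symm)
    (by rw [hc₂, (hm _).2.1]; exact hc2)
    (by rw [hc₂, (hm _).2.1, hpp]; exact hc1)
  rw [hpp, hc₂, mate_mate mate hm] at hd'
  generalize hc : partner mate g (mate u) = c at hc1 hc2 hd hd'
  generalize hup : partner mate g u = up at hu hc2 hd hd'
  have fcb : f (mate c) = f c := (hm c).2.1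
  have h01 : u ≠ up := ne_of_f_ne hu.symm
  have h02 : u ≠ c := ne_of_f_ne hc1.symm
  have h03 : u ≠ mate c := ne_of_f_ne (f := f) (by rw [fcb]; exact hc1.symm)
  have h12 : up ≠ c := ne_of_f_ne hc2.symm
  have h13 : up ≠ mate c := ne_of_f_ne (f := f) (by rw [fcb]; exact hc2.symm)
  have h23 : c ≠ mate c := (hm c).1.symm
  have h := L.mul_mem hd hd'
  rw [swapword_I8 h01 h02 h03 h12 h13 h23] at h
  exact ⟨c, mate c, u, h23, fcb.symm, hc1, h⟩

section TwoB

variable (mate : Ω → Ω)
  (hm : ∀ x, mate x ≠ x ∧ f (mate x) = f x ∧ ∀ z, f z = f x → z = x ∨ z = mate x)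
  (L : Subgroup (Perm Ω)) (hWL : Wsub f ⊓ alternatingGroup Ω ≤ L) (g : Perm Ω) (hgL : g ∈ L)

include hm in
theorem caseBi_aux {u z : Ω} (hii : f (partner mate g (mate u)) = f (partner mate g u))
    (hz1 : f z ≠ f u) (hz2 : f z ≠ f (partner mate g u)) :
    f (partner mate g z) ≠ f u ∧ f (partner mate g z) ≠ f (partner mate g u) := by
  have hpm : partner mate g (mate u) = mate (partner mate g u) := by
    apply eq_mate_of mate hm hii
    intro h
    have := congrArg (partner mate g) h
    rw [partner_partner mate hm, partner_partner mate hm] at this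
    exact (hm u).1 this
  constructor
  · intro h
    rcases (hm u).2.2 _ h with h' | h'
    · apply hz2
      rw [← h', partner_partner mate hm]
    · apply hz2
      rw [← hii, ← h', partner_partner mate hm]
  · intro h
    rcases (hm (partner mate g u)).2.2 _ h with h' | h'
    · apply hz1
      have := congrArg (partner mate g) h'
      rw [partner_partner mate hm, partner_partner mate hm] at this
      rw [this]
    · apply hz1
      rw [← hpm] at h'
      have := congrArg (partner mate g) h'
      rw [partner_partner mate hm, partner_partner mate hm] at this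
      rw [this, (hm u).2.1]

include hm hWL hgL in
/-- case B-i with a fifth block available -/
theorem caseBi {u z p : Ω} (hu : f (partner mate g u) ≠ f u)
    (hB : ∀ z, f (partner mate g z) ≠ f z)
    (hii : f (partner mate g (mate u)) = f (partner mate g u))
    (hz1 : f z ≠ f u) (hz2 : f z ≠ f (partner mate g u))
    (hp1 : f p ≠ f u) (hp2 : f p ≠ f (partner mate g u)) (hp3 : f p ≠ f z)
    (hp4 : f p ≠ f (partner mate g z)) :
    ∃ p q r : Ω, p ≠ q ∧ f p = f q ∧ f p ≠ f r ∧ c3 p q r ∈ L := by
  obtain ⟨he1, he2⟩ := caseBi_aux mate hm g hii hz1 hz2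
  have he3 := hB z
  have hs := pair_mem mate hm L hWL g hgL u z
  have hw := hWL (e_mem mate hm u p)
  generalize he : partner mate g z = e at he1 he2 he3 hp4 hs
  generalize hup : partner mate g u = up at hu hz2 hp2 he2 hs
  have fub : f (mate u) = f u := (hm u).2.1
  have fpb : f (mate p) = f p := (hm p).2.1
  have h01 : u ≠ up := ne_of_f_ne hu.symm
  have h02 : u ≠ mate u := (hm u).1.symm
  have h03 : u ≠ z := ne_of_f_ne hz1.symm
  have h04 : u ≠ e := ne_of_f_ne he1.symm
  have h05 : u ≠ p := ne_of_f_ne hp1.symm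
  have h06 : u ≠ mate p := ne_of_f_ne (f := f) (by rw [fpb]; exact hp1.symm)
  have h12 : up ≠ mate u := ne_of_f_ne (f := f) (by rw [fub]; exact hu)
  have h13 : up ≠ z := ne_of_f_ne hz2.symm
  have h14 : up ≠ e := ne_of_f_ne he2.symm
  have h15 : up ≠ p := ne_of_f_ne hp2.symm
  have h16 : up ≠ mate p := ne_of_f_ne (f := f) (by rw [fpb]; exact hp2.symm)
  have h23 : mate u ≠ z := ne_of_f_ne (f := f) (by rw [fub]; exact hz1.symm)
  have h24 : mate u ≠ e := ne_of_f_ne (f := f) (by rw [fub]; exact he1.symm)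
  have h25 : mate u ≠ p := ne_of_f_ne (f := f) (by rw [fub]; exact hp1.symm)
  have h26 : mate u ≠ mate p := ne_of_f_ne (f := f) (by rw [fub, fpb]; exact hp1.symm)
  have h34 : z ≠ e := ne_of_f_ne he3.symm
  have h35 : z ≠ p := ne_of_f_ne hp3.symm
  have h36 : z ≠ mate p := ne_of_f_ne (f := f) (by rw [fpb]; exact hp3.symm)
  have h45 : e ≠ p := ne_of_f_ne hp4.symm
  have h46 : e ≠ mate p := ne_of_f_ne (f := f) (by rw [fpb]; exact hp4.symm)
  have h56 : p ≠ mate p := (hm p).1.symm
  have h := L.mul_mem hs (L.mul_mem (L.mul_mem hw hs) (L.inv_mem hw))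
  rw [swapword_I9 h01 h02 h03 h04 h05 h06 h12 h13 h14 h15 h16 h23 h24 h25 h26 h34 h35 h36
    h45 h46 h56] at h
  refine ⟨mate u, u, up, h02.symm, fub, by rw [fub]; exact hu.symm, ?_⟩
  rw [c3_rot h02.symm h12.symm h01, c3, swap_comm up (mate u)]
  exact h

end TwoB

end Cfsg.Agent.Lib.Helper4.WreathAlt
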