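import Cfsg.Agent.Lib.Helper4.WreathAlt5

set_option autoImplicit false

/-! Block size two: the degree-four case and the final assembly. (helper4) -/

namespace Cfsg.Agent.Lib.Helper4.WreathAlt

open Equiv Cfsg.Agent.S5905 Cfsg.Agent.Lib.Helper4.SwapWord

variable {Ω : Type*} [DecidableEq Ω] [Fintype Ω]

set_option maxRecDepth 100000 in
theorem fin4_key : ∀ g₀ : Perm (Fin 4), Perm.sign g₀ = 1 → ∀ i j : Fin 4, i.val / 2 = j.val / 2 →
    (g₀ i).val / 2 ≠ (g₀ j).val / 2 → ∃ p q r : Fin 4, p ≠ q ∧ p.val / 2 = q.val / 2 ∧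
      p.val / 2 ≠ r.val / 2 ∧ g₀ = swap p q * swap q r := by decide

/-- degree four: an even permutation not preserving the partition is a three-cycle -/
theorem exists_c3_of_two_two {f : Ω → Fin 2} (hf : ∀ i : Fin 2, Nat.card {x : Ω // f x = i} = 2)
    (g : Perm Ω) (hsign : Perm.sign g = 1) {x y : Ω} (hxy : f x = f y) (hg : f (g x) ≠ f (g y)) :
    ∃ p q r : Ω, p ≠ q ∧ f p = f q ∧ f p ≠ f r ∧ g = c3 p q r := by
  let e : Ω ≃ Fin 4 := (coord hf).trans finProdFinEquiv
  have he : ∀ t : Ω, (f t).val = (e t).val / 2 := by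
    intro t
    have h1 := coord_fst hf t
    have h2 : (e t).val = ((coord hf t).2).val + 2 * ((coord hf t).1).val := by
      simp [e, finProdFinEquiv]
    rw [h2, ← h1]
    omega
  have hf_iff : ∀ s t : Ω, f s = f t ↔ (e s).val / 2 = (e t).val / 2 := by
    intro s t
    rw [← he, ← he, Fin.val_inj]
  let g₀ : Perm (Fin 4) := (e.symm.trans g).trans e
  have hg₀ : ∀ t : Ω, g₀ (e t) = e (g t) := by
    intro t; simp [g₀]
  have hs : Perm.sign g₀ = 1 := by
    rw [Perm.sign_symm_trans_trans]; exact hsign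
  obtain ⟨p, q, r, hpq, h1, h2, h3⟩ := fin4_key g₀ hs (e x) (e y) ((hf_iff x y).mp hxy)
    (by rw [hg₀, hg₀]; exact fun h => hg ((hf_iff _ _).mpr h))
  refine ⟨e.symm p, e.symm q, e.symm r, fun h => hpq (e.symm.injective h), ?_, ?_, ?_⟩
  · rw [hf_iff]; simpa using h1
  · intro h; rw [hf_iff] at h; apply h2; simpa using h
  · ext t
    have h4 : g t = e.symm (g₀ (e t)) := by rw [hg₀]; simp
    rw [h4, h3, c3]
    simp only [Perm.mul_apply]
    rw [Equiv.symm_apply_eq]
    rw [← e.injective.swap_apply, ← e.injective.swap_apply]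
    simp


variable {b : ℕ} {f : Ω → Fin b}

/-- Lemma S for block size two. -/
theorem exists_c3_of_two (hb : 2 ≤ b) (hb4 : b ≠ 4)
    (hf : ∀ i : Fin b, Nat.card {x : Ω // f x = i} = 2)
    (L : Subgroup (Perm Ω)) (hWL : Wsub f ⊓ alternatingGroup Ω ≤ L)
    (hLA : L ≤ alternatingGroup Ω)
    (g : Perm Ω) (hgL : g ∈ L) {x y : Ω} (hxy : f x = f y) (hg : f (g x) ≠ f (g y)) :
    ∃ p q r : Ω, p ≠ q ∧ f p = f q ∧ f p ≠ f r ∧ c3 p q r ∈ L := by
  by_cases hb2 : b = 2
  · subst hb2
    obtain ⟨p, q, r, h1, h2, h3, h4⟩ :=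
      exists_c3_of_two_two hf g (Perm.mem_alternatingGroup.mp (hLA hgL)) hxy hg
    exact ⟨p, q, r, h1, h2, h3, h4 ▸ hgL⟩
  choose mate hm using exists_mate hf
  have hne : x ≠ y := fun h => hg (by rw [h])
  have hy : y = mate x := eq_mate_of mate hm hxy.symm hne.symm
  have hu : f (partner mate g (g x)) ≠ f (g x) := by
    rw [partner_apply mate hm, ← hy]; exact fun h => hg h.symm
  generalize g x = u at hu
  by_cases hA : ∃ z, z ≠ u ∧ z ≠ partner mate g u ∧ f (partner mate g z) = f z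
  · obtain ⟨z, hz1, hz2, hz3⟩ := hA
    exact caseA mate hm L hWL g hgL hu hz1 hz2 hz3
  push Not at hA
  have hB : ∀ z, f (partner mate g z) ≠ f z := by
    intro z
    by_cases h1 : z = u
    · subst h1; exact hu
    by_cases h2 : z = partner mate g u
    · rw [h2, partner_partner mate hm]; exact hu.symm
    exact hA z h1 h2
  by_cases hii : f (partner mate g (mate u)) = f (partner mate g u)
  · -- B-i
    obtain ⟨z, hz⟩ := exists_point_notMem hf {f u, f (partner mate g u)}
      (lt_of_le_of_lt (Finset.card_le_two) (by omega))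
    simp only [Finset.mem_insert, Finset.mem_singleton, not_or] at hz
    obtain ⟨he1, he2⟩ := caseBi_aux mate hm g hii hz.1 hz.2
    by_cases hb3 : b = 3
    · exfalso
      subst hb3
      have key : ∀ i j k l : Fin 3, ¬ (i ≠ j ∧ i ≠ k ∧ i ≠ l ∧ j ≠ k ∧ j ≠ l ∧ k ≠ l) := by
        decide
      exact key (f u) (f (partner mate g u)) (f z) (f (partner mate g z)) ⟨hu.symm, Ne.symm hz.1,
        he1.symm, Ne.symm hz.2, he2.symm, (hB z).symm⟩
    · obtain ⟨p, hp⟩ := exists_point_notMem hf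
        {f u, f (partner mate g u), f z, f (partner mate g z)}
        (lt_of_le_of_lt (Finset.card_le_four) (by omega))
      simp only [Finset.mem_insert, Finset.mem_singleton, not_or] at hp
      exact caseBi mate hm L hWL g hgL hu hB hii hz.1 hz.2 hp.1 hp.2.1 hp.2.2.1 hp.2.2.2
  · -- B-ii
    have hc1 : f (partner mate g (mate u)) ≠ f u := by
      have := hB (mate u); rwa [(hm u).2.1] at this
    by_cases hb3 : b = 3
    · subst hb3
      exact caseBii_three mate hm L hWL g hgL hu hB hii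
    · obtain ⟨e, he⟩ := exists_point_notMem hf
        {f u, f (partner mate g u), f (partner mate g (mate u))}
        (lt_of_le_of_lt (Finset.card_le_three) (by omega))
      simp only [Finset.mem_insert, Finset.mem_singleton, not_or] at he
      exact caseBii_four mate hm L hWL g hgL hu hc1 hii he.1 he.2.1 he.2.2

/-- The even part of the imprimitive wreath product is maximal in the alternating group. -/
theorem isCoatom_wreath_alt (a b : ℕ) (ha : 2 ≤ a) (hb : 2 ≤ b) (f : Ω → Fin b)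
    (h8 : ¬ (a = 2 ∧ b = 4))
    (hf : ∀ i : Fin b, Nat.card {x : Ω // f x = i} = a) :
    IsCoatom ((Wsub f ⊓ alternatingGroup Ω).subgroupOf (alternatingGroup Ω)) := by
  have hfib : ∀ i : Fin b, ∃ x y : Ω, x ≠ y ∧ f x = i ∧ f y = i := by
    intro i
    have h1 : 1 < Nat.card {x : Ω // f x = i} := by rw [hf i]; omega
    rw [Nat.card_eq_fintype_card, Fintype.one_lt_card_iff] at h1
    obtain ⟨x, y, hxy⟩ := h1
    exact ⟨x.1, y.1, fun h => hxy (Subtype.ext h), x.2, y.2⟩
  apply isCoatom_subgroupOf inf_le_right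
  · -- proper
    intro htop
    obtain ⟨x, y, hxy, hx, hy⟩ := hfib ⟨0, by omega⟩
    obtain ⟨z, _, _, hz, _⟩ := hfib ⟨1, by omega⟩
    have hzx : f z ≠ f x := by
      rw [hz, hx]; intro h; have := congrArg Fin.val h; simp at this
    have hyz : y ≠ z := fun h => hzx (by rw [← h, hy, hx])
    have hxz : x ≠ z := fun h => hzx (by rw [h])
    have hmem : c3 x y z ∈ Wsub f ⊓ alternatingGroup Ω := by
      rw [htop, Perm.mem_alternatingGroup]; exact sign_c3 hxy hyz
    have h1 := (hmem.1 x y).mp (hx.trans hy.symm)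
    rw [c3_apply_left hxy hxz, c3, Perm.mul_apply, swap_apply_left,
      swap_apply_of_ne_of_ne hxz.symm hyz.symm] at h1
    exact hzx (by rw [← h1, hy, hx])
  · intro L hWL hLA hne
    apply le_antisymm hLA
    obtain ⟨g, hgL, hgW⟩ : ∃ g ∈ L, g ∉ Wsub f := by
      by_contra h
      push Not at h
      exact hne (le_antisymm (fun g hg => ⟨h g hg, hLA hg⟩) hWL)
    obtain ⟨g, hgL, x, y, hxy, hgxy⟩ : ∃ g ∈ L, ∃ x y : Ω, f x = f y ∧ f (g x) ≠ f (g y) := by
      have : ¬ ∀ x y : Ω, f x = f y ↔ f (g x) = f (g y) := hgW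
      push Not at this
      obtain ⟨x, y, hxy⟩ := this
      rcases hxy with ⟨h1, h2⟩ | ⟨h1, h2⟩
      · exact ⟨g, hgL, x, y, h1, h2⟩
      · refine ⟨g⁻¹, L.inv_mem hgL, g x, g y, h2, ?_⟩
        simpa using h1
    obtain ⟨p, q, r, hpq, hfpq, hfpr, hc⟩ :
        ∃ p q r : Ω, p ≠ q ∧ f p = f q ∧ f p ≠ f r ∧ c3 p q r ∈ L := by
      by_cases ha3 : 3 ≤ a
      · exact exists_c3_of_three_le ha3 hf L hWL g hgL hxy hgxy
      · have ha2 : a = 2 := by omega
        subst ha2
        exact exists_c3_of_two hb (fun h => h8 ⟨rfl, h⟩) hf L hWL hLA g hgL hxy hgxy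
    exact alternatingGroup_le ha hf L hWL hpq hfpq hfpr hc

end Cfsg.Agent.Lib.Helper4.WreathAlt
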