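import Cfsg.Agent.Lib.Helper4.WreathAlt1
import Cfsg.Agent.Lib.Helper4.AGL32

set_option autoImplicit false

/-! `(S₂ ≀ S₄) ∩ A₈` is not maximal in `A₈`. (helper4) -/

namespace Cfsg.Agent.Lib.Helper4.WreathAlt

open Equiv Cfsg.Agent.S5905 Cfsg.Agent.Lib.Helper4.AGL32

theorem not_isCoatom_subgroupOf {G : Type*} [Group G] {H L A : Subgroup G} (hHL : H ≤ L)
    (hLA : L ≤ A) {t : G} (ht : t ∈ L) (htH : t ∉ H) {c : G} (hc : c ∈ A) (hcL : c ∉ L) :
    ¬ IsCoatom (H.subgroupOf A) := by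
  intro hco
  have hle : H.subgroupOf A ≤ L.subgroupOf A := fun x hx => hHL hx
  have hne : H.subgroupOf A ≠ L.subgroupOf A := by
    intro h
    have h1 : (⟨t, hLA ht⟩ : A) ∈ L.subgroupOf A := ht
    rw [← h] at h1
    exact htH h1
  have h2 := hco.2 _ (lt_of_le_of_ne hle hne)
  have h3 : (⟨c, hc⟩ : A) ∈ L.subgroupOf A := by rw [h2]; trivial
  exact hcL h3

variable {Ω : Type*} [DecidableEq Ω] [Fintype Ω]

theorem not_isCoatom_wreath_two_four (f : Ω → Fin 4)
    (hf : ∀ i : Fin 4, Nat.card {x : Ω // f x = i} = 2) :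
    ¬ IsCoatom ((Wsub f ⊓ alternatingGroup Ω).subgroupOf (alternatingGroup Ω)) := by
  let ψ : Fin 4 ≃ B := (finProdFinEquiv (m := 2) (n := 2)).symm
  let φ : Ω ≃ V := (coord hf).trans (Equiv.prodCongr ψ (Equiv.refl _))
  have hφ : ∀ x y : Ω, f x = f y ↔ (φ x).1 = (φ y).1 := by
    intro x y
    have h1 : (φ x).1 = ψ (f x) := by rw [← coord_fst hf x]; rfl
    have h2 : (φ y).1 = ψ (f y) := by rw [← coord_fst hf y]; rfl
    rw [h1, h2, ψ.injective.eq_iff]
  have hΦ : ∀ (g : Perm Ω) (v : V), φ.permCongrHom g v = φ (g (φ.symm v)) := by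
    intro g v; rfl
  have hW : ∀ g : Perm Ω, g ∈ Wsub f ↔
      ∀ x y : V, x.1 = y.1 ↔ (φ.permCongrHom g x).1 = (φ.permCongrHom g y).1 := by
    intro g
    constructor
    · intro hg x y
      rw [hΦ, hΦ, ← hφ, ← hg, hφ]; simp
    · intro hg x y
      have := hg (φ x) (φ y)
      rw [hΦ, hΦ] at this
      simpa [hφ] using this
  have hsign : ∀ g : Perm Ω, Perm.sign (φ.permCongrHom g) = Perm.sign g := by
    intro g
    exact Perm.sign_permCongr φ g
  apply not_isCoatom_subgroupOf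
    (L := (affV ⊓ alternatingGroup V).comap φ.permCongrHom.toMonoidHom)
    (t := φ.permCongrHom.symm tV)
    (c := φ.permCongrHom.symm (swap ((0, 0), 0) ((0, 0), 1) * swap ((0, 0), 1) ((0, 1), 0)))
  case hHL =>
    rintro g ⟨hgW, hgA⟩
    rw [Subgroup.mem_comap]
    have hs : Perm.sign (φ.permCongrHom g) = 1 := by rw [hsign]; exact hgA
    exact ⟨affine_of_even _ ((hW g).mp hgW) hs, hs⟩
  case hLA =>
    intro g hg
    rw [Subgroup.mem_comap] at hg
    have h2 : φ.permCongrHom g ∈ alternatingGroup V := hg.2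
    rw [Perm.mem_alternatingGroup] at h2 ⊢
    rw [← hsign]; exact h2
  case ht =>
    rw [Subgroup.mem_comap]
    simp only [MulEquiv.coe_toMonoidHom, MulEquiv.apply_symm_apply]
    exact ⟨tV_mem, tV_sign⟩
  case htH =>
    intro h
    have := (hW _).mp h.1
    simp only [MulEquiv.apply_symm_apply] at this
    exact tV_not this
  case hc =>
    rw [Perm.mem_alternatingGroup, ← hsign]
    simp only [MulEquiv.apply_symm_apply]
    decide
  case hcL =>
    intro h
    rw [Subgroup.mem_comap] at h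
    simp only [MulEquiv.coe_toMonoidHom, MulEquiv.apply_symm_apply] at h
    exact c3_not_mem h.1

end Cfsg.Agent.Lib.Helper4.WreathAlt
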