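import Mathlib
import Cfsg.Agent.Lib.Helper4.TCD_Y532U1_Fin
import Cfsg.Agent.Lib.Helper4.TCD_Y532U2_Fin
import Cfsg.Agent.Lib.Helper4.TCD_Y532U3_Fin
import Cfsg.Agent.Lib.Helper4.TCD_Y532U4_Fin
import Cfsg.Agent.Lib.Helper4.TCD_Y532U5_Fin
import Cfsg.Agent.Lib.Helper4.TCD_Y532U6_Fin
import Cfsg.Agent.Lib.Helper4.TCD_Y532U7_Fin
import Cfsg.Agent.Lib.Helper4.TCD_Y532U8_Fin
import Cfsg.Agent.Lib.Helper4.TCD_Y532R_Fin
import Cfsg.Agent.Lib.Helper4.TCD_Y532L_Fin
import Cfsg.Agent.Lib.Helper4.TC14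

/-!
The group `Y₅₃₂` with the spider relation has order `2 · |Fi₂₃|`, its permutation representation on 63342
points is faithful, and hence the end node `f` of the long arm is the ninth power of the Coxeter element of
either of the two `E₇` subdiagrams; the spider relation with the arms permuted holds too.
-/

namespace Cfsg.Agent.Lib.Helper4.Y532Main

open Cfsg.Agent.Lib.Helper4.TC Cfsg.Agent.Lib.Helper4.TCD Cfsg.Agent.Lib.Helper4.TC.Log

/-- the order and the faithful permutation representation -/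
theorem order_aux : Finite PY532.P.Grp ∧ Function.Injective Y532R.prep.phi ∧
    Nat.card PY532.P.Grp = 8178940946586009600 := by
  have e0 : letG PY532.P [] = ⊥ := letG_nil _
  have f0 : Finite (letG PY532.P []) := by rw [e0]; infer_instance
  have c0 : Nat.card (letG PY532.P []) = 1 := by rw [e0]; exact Subgroup.card_bot
  obtain ⟨f8, c8⟩ := Y532U8.card_le f0
  obtain ⟨f7, c7⟩ := Y532U7.card_le f8
  obtain ⟨f6, c6⟩ := Y532U6.card_le f7
  obtain ⟨f5, c5⟩ := Y532U5.card_le f6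
  obtain ⟨f4, c4⟩ := Y532U4.card_le f5
  obtain ⟨f3, c3⟩ := Y532U3.card_le f4
  obtain ⟨f2, c2⟩ := Y532U2.card_le f3
  obtain ⟨f1, c1⟩ := Y532U1.card_le f2
  have htop : letG PY532.P [0, 1, 2, 3, 4, 5, 6, 7, 8, 9, 10] = ⊤ := letG_all PY532.P PY532.valid
  have fG : Finite PY532.P.Grp := by
    have h := f1
    rw [htop] at h
    exact Finite.of_equiv _ (Subgroup.topEquiv (G := PY532.P.Grp)).toEquiv
  have cG : Nat.card PY532.P.Grp ≤ 1 * (31671 * (28160 * (728 * (243 * (27 * (10 * (192 * 1))))))) := by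
    rw [← Subgroup.card_top (G := PY532.P.Grp), ← htop]
    calc Nat.card (letG PY532.P [0, 1, 2, 3, 4, 5, 6, 7, 8, 9, 10])
        ≤ 1 * Nat.card (letG PY532.P [0, 1, 2, 3, 4, 6, 7, 8, 9, 10]) := c1
      _ ≤ 1 * (31671 * Nat.card (letG PY532.P [0, 1, 2, 3, 6, 7, 8, 9, 10])) :=
          Nat.mul_le_mul_left _ c2
      _ ≤ 1 * (31671 * (28160 * Nat.card (letG PY532.P [0, 1, 2, 6, 7, 8, 9, 10]))) :=
          Nat.mul_le_mul_left _ (Nat.mul_le_mul_left _ c3)
      _ ≤ 1 * (31671 * (28160 * (728 * Nat.card (letG PY532.P [0, 1, 2, 6, 7, 9, 10])))) :=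
          Nat.mul_le_mul_left _ (Nat.mul_le_mul_left _ (Nat.mul_le_mul_left _ c4))
      _ ≤ 1 * (31671 * (28160 * (728 * (243 * Nat.card (letG PY532.P [0, 1, 2, 6, 7, 9]))))) :=
          Nat.mul_le_mul_left _ (Nat.mul_le_mul_left _ (Nat.mul_le_mul_left _ (Nat.mul_le_mul_left _ c5)))
      _ ≤ 1 * (31671 * (28160 * (728 * (243 * (27 * Nat.card (letG PY532.P [0, 1, 6, 7, 9])))))) :=
          Nat.mul_le_mul_left _ (Nat.mul_le_mul_left _ (Nat.mul_le_mul_left _ (Nat.mul_le_mul_left _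
            (Nat.mul_le_mul_left _ c6))))
      _ ≤ 1 * (31671 * (28160 * (728 * (243 * (27 * (10 * Nat.card (letG PY532.P [0, 1, 6, 9]))))))) :=
          Nat.mul_le_mul_left _ (Nat.mul_le_mul_left _ (Nat.mul_le_mul_left _ (Nat.mul_le_mul_left _
            (Nat.mul_le_mul_left _ (Nat.mul_le_mul_left _ c7)))))
      _ ≤ 1 * (31671 * (28160 * (728 * (243 * (27 * (10 * (192 * Nat.card (letG PY532.P []))))))))
          := Nat.mul_le_mul_left _ (Nat.mul_le_mul_left _ (Nat.mul_le_mul_left _ (Nat.mul_le_mul_left _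
            (Nat.mul_le_mul_left _ (Nat.mul_le_mul_left _ (Nat.mul_le_mul_left _ c8))))))
      _ = 1 * (31671 * (28160 * (728 * (243 * (27 * (10 * (192 * 1))))))) := by rw [c0]
  have hub : Nat.card PY532.P.Grp ≤ 8178940946586009600 := le_trans cG (by decide)
  obtain ⟨hinj, hcard⟩ := Y532R.prep.card_eq Y532L.S rfl rfl Y532L.htab0 Y532L.ok 8178940946586009600
    (by decide) Y532L.prod_eq fG hub
  exact ⟨fG, hinj, hcard⟩

theorem rel1 : wordP PY532.P.gR Y532R.wRel1 = 1 :=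
  Y532R.prep.word_eq_one order_aux.2.1 _ (by decide) Y532R.h_w_wRel1

theorem rel2 : wordP PY532.P.gR Y532R.wRel2 = 1 :=
  Y532R.prep.word_eq_one order_aux.2.1 _ (by decide) Y532R.h_w_wRel2

theorem sp213 : wordP PY532.P.gR Y532R.wSp213 = 1 :=
  Y532R.prep.word_eq_one order_aux.2.1 _ (by decide) Y532R.h_w_wSp213

theorem sp312 : wordP PY532.P.gR Y532R.wSp312 = 1 :=
  Y532R.prep.word_eq_one order_aux.2.1 _ (by decide) Y532R.h_w_wSp312

end Cfsg.Agent.Lib.Helper4.Y532Main
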