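import Mathlib
import Cfsg.Prelude.Def_Spor_M
import Cfsg.Agent.Lib.Helper4.TCP_Y532

/-!
Transfer of word identities from the group `Y₅₃₂` with the spider relation to the group `Y₅₅₅` with the spider
relation, along the embeddings of the graph `Y₅₃₂` into the graph `Y₅₅₅`.
-/

namespace Cfsg.Agent.Lib.Helper4.Y532T

open Cfsg.Spor Cfsg.Agent.Lib.Helper4.TC Cfsg.Agent.Lib.Helper4.TC.Log

/-- the spider relator of `Y₅₅₅` -/
abbrev spider : FreeGroup Bimonster.Gen :=
  (Bimonster.a * Bimonster.b1 * Bimonster.c1 * Bimonster.a * Bimonster.b2 * Bimonster.c2 * Bimonster.a *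
    Bimonster.b3 * Bimonster.c3) ^ 10

/-- the relators of `Y₅₅₅` with the spider relation only -/
abbrev BigRels : Set (FreeGroup Bimonster.Gen) := coxRelators Bimonster.edges ∪ {r' | r' ∈ [spider]}

/-- the group `Y₅₅₅` with the spider relation only -/
abbrev Big : Type := PresentedGroup BigRels

/-- the image of a generator -/
abbrev o (x : Bimonster.Gen) : Big := PresentedGroup.of x

theorem mem_nodes (x : Bimonster.Gen) : x ∈ coxNodes Bimonster.edges := by
  cases x <;> decide

theorem cox_rel (x y : Bimonster.Gen) : (o x * o y) ^ coxLabel Bimonster.edges x y = 1 := by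
  have h : (FreeGroup.of x * FreeGroup.of y) ^ coxLabel Bimonster.edges x y ∈ BigRels :=
    Or.inl ⟨x, mem_nodes x, y, mem_nodes y, rfl⟩
  have := PresentedGroup.one_of_mem h
  rwa [map_pow, map_mul] at this

theorem o_sq (x : Bimonster.Gen) : o x * o x = 1 := by
  have := cox_rel x x
  have e : coxLabel Bimonster.edges x x = 1 := by simp [coxLabel]
  rwa [e, pow_one] at this

theorem spider_eq : (o .a * o .b1 * o .c1 * o .a * o .b2 * o .c2 * o .a * o .b3 * o .c3) ^ 10 = 1 := by
  have h : spider ∈ BigRels := Or.inr (by simp)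
  have := PresentedGroup.one_of_mem h
  simp only [spider, map_pow, map_mul] at this
  exact this

/-- a map of generators that respects the Coxeter labels and the spider relation gives a homomorphism -/
theorem hom_exists (s : Y532.Gen → Bimonster.Gen)
    (hlab : ∀ x y, coxLabel Y532.edges x y = coxLabel Bimonster.edges (s x) (s y))
    (hsp : (o (s .a) * o (s .b) * o (s .c) * o (s .a) * o (s .g) * o (s .h) * o (s .a) * o (s .i) *
      o (s .j)) ^ 10 = 1) :
    ∃ ι : PY532.P.Grp →* Big, ∀ x, ι (PresentedGroup.of x) = o (s x) := by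
  have hrel : ∀ r ∈ PY532.P.rels, FreeGroup.lift (fun x => o (s x)) r = 1 := by
    intro r hr
    rcases hr with ⟨x, _, y, _, rfl⟩ | hr
    · rw [map_pow, map_mul, FreeGroup.lift_apply_of, FreeGroup.lift_apply_of]
      have : coxLabel PY532.P.edges x y = coxLabel Bimonster.edges (s x) (s y) := hlab x y
      rw [this]
      exact cox_rel _ _
    · have hr' : r ∈ Y532.extra := hr
      simp only [Y532.extra, List.mem_cons, List.not_mem_nil, or_false] at hr'
      subst hr'
      simp only [map_pow, map_mul, FreeGroup.lift_apply_of]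
      exact hsp
  exact ⟨PresentedGroup.toGroup hrel, fun x => PresentedGroup.toGroup.of hrel⟩

theorem gR_eq (l : ℕ) (hl : l < 11) : PY532.P.gR l = PresentedGroup.mk PY532.P.rels (PY532.dec l) :=
  CoxEnc.gR_lt (P := PY532.P) hl

/-- the image of a word under a homomorphism -/
theorem map_wordP {A B : Type*} [Group A] [Group B] (ι : A →* B) (g : ℕ → A) (u : List ℕ) :
    ι (wordP g u) = wordP (fun l => ι (g l)) u := by
  induction u with
  | nil => simp
  | cons x u ih => rw [wordP_cons, wordP_cons, map_mul, ih]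

/-- from `F W⁹ = 1` and `F² = 1` to `F (W⁹)⁻¹ = 1` -/
theorem inv_form {A : Type*} [Group A] (F W : A) (h : F * W = 1) (hF : F * F = 1) : F * W⁻¹ = 1 := by
  have hW : W = F⁻¹ := eq_inv_of_mul_eq_one_right h
  rw [hW, inv_inv, hF]

/-- the generator with a given number -/
def gen : ℕ → Y532.Gen
  | 0 => .a
  | 1 => .b
  | 2 => .c
  | 3 => .d
  | 4 => .e
  | 5 => .f
  | 6 => .g
  | 7 => .h
  | 8 => .m
  | 9 => .i
  | _ => .j

theorem gR_of (l : ℕ) (hl : l < 11) : PY532.P.gR l = PresentedGroup.of (gen l) := by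
  rw [gR_eq l hl]
  interval_cases l <;> rfl

theorem wordP_congr {A : Type*} [Group A] (g g' : ℕ → A) (u : List ℕ) (h : ∀ x ∈ u, g x = g' x) :
    wordP g u = wordP g' u := by
  induction u with
  | nil => rfl
  | cons x u ih =>
    rw [wordP_cons, wordP_cons, h x List.mem_cons_self, ih fun y hy => h y (List.mem_cons_of_mem _ hy)]

/-- the image of a word under a homomorphism given on the generators -/
theorem map_word (s : Y532.Gen → Bimonster.Gen) (ι : PY532.P.Grp →* Big)
    (hι : ∀ x, ι (PresentedGroup.of x) = o (s x)) (u : List ℕ) (hu : ∀ x ∈ u, x < 11) :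
    ι (wordP PY532.P.gR u) = wordP (fun l => o (s (gen l))) u := by
  rw [map_wordP]
  apply wordP_congr
  intro x hx
  rw [gR_of x (hu x hx), hι]

/-- the first embedding: arms 1, 2, 3 -/
def s123 : Y532.Gen → Bimonster.Gen
  | .a => .a
  | .b => .b1
  | .c => .c1
  | .d => .d1
  | .e => .e1
  | .f => .f1
  | .g => .b2
  | .h => .c2
  | .m => .d2
  | .i => .b3
  | .j => .c3

/-- the second embedding: arms 2, 1, 3 -/
def s213 : Y532.Gen → Bimonster.Gen
  | .a => .a
  | .b => .b2
  | .c => .c2
  | .d => .d2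
  | .e => .e2
  | .f => .f2
  | .g => .b1
  | .h => .c1
  | .m => .d1
  | .i => .b3
  | .j => .c3

/-- the third embedding: arms 3, 1, 2 -/
def s312 : Y532.Gen → Bimonster.Gen
  | .a => .a
  | .b => .b3
  | .c => .c3
  | .d => .d3
  | .e => .e3
  | .f => .f3
  | .g => .b1
  | .h => .c1
  | .m => .d1
  | .i => .b2
  | .j => .c2

theorem lab123 : ∀ x y, coxLabel Y532.edges x y = coxLabel Bimonster.edges (s123 x) (s123 y) := by
  intro x y
  cases x <;> cases y <;> decide

theorem lab213 : ∀ x y, coxLabel Y532.edges x y = coxLabel Bimonster.edges (s213 x) (s213 y) := by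
  intro x y
  cases x <;> cases y <;> decide

theorem lab312 : ∀ x y, coxLabel Y532.edges x y = coxLabel Bimonster.edges (s312 x) (s312 y) := by
  intro x y
  cases x <;> cases y <;> decide

/-- the two relations for the end node of the long arm, for a homomorphism given on the generators -/
theorem rels_of_hom (s : Y532.Gen → Bimonster.Gen) (ι : PY532.P.Grp →* Big)
    (hι : ∀ x, ι (PresentedGroup.of x) = o (s x))
    (h1 : wordP PY532.P.gR (5 :: (List.replicate 9 [0, 1, 6, 9, 2, 7, 3]).flatten) = 1)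
    (h2 : wordP PY532.P.gR (5 :: (List.replicate 9 [0, 1, 9, 6, 2, 10, 3]).flatten) = 1) :
    o (s .f) * ((o (s .a) * o (s .b) * o (s .g) * o (s .i) * o (s .c) * o (s .h) * o (s .d)) ^ 9)⁻¹ = 1 ∧
    o (s .f) * ((o (s .a) * o (s .b) * o (s .i) * o (s .g) * o (s .c) * o (s .j) * o (s .d)) ^ 9)⁻¹ = 1 := by
  constructor
  · apply inv_form _ _ _ (o_sq _)
    have hu : ∀ x ∈ (5 :: (List.replicate 9 [0, 1, 6, 9, 2, 7, 3]).flatten), x < 11 := by decide
    have := congrArg ι h1
    rw [map_word s ι hι _ hu, map_one, wordP_cons, wordP_replicate_flatten] at this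
    simpa only [wordP_cons, wordP_nil, gen, mul_one, mul_assoc] using this
  · apply inv_form _ _ _ (o_sq _)
    have hu : ∀ x ∈ (5 :: (List.replicate 9 [0, 1, 9, 6, 2, 10, 3]).flatten), x < 11 := by decide
    have := congrArg ι h2
    rw [map_word s ι hι _ hu, map_one, wordP_cons, wordP_replicate_flatten] at this
    simpa only [wordP_cons, wordP_nil, gen, mul_one, mul_assoc] using this

/-- the image of a spider word -/
theorem spider_of_hom (s : Y532.Gen → Bimonster.Gen) (ι : PY532.P.Grp →* Big)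
    (hι : ∀ x, ι (PresentedGroup.of x) = o (s x)) (x1 x2 x3 x4 x5 x6 : ℕ)
    (hx : ∀ x ∈ [0, x1, x2, 0, x3, x4, 0, x5, x6], x < 11)
    (h : wordP PY532.P.gR (List.replicate 10 [0, x1, x2, 0, x3, x4, 0, x5, x6]).flatten = 1) :
    (o (s .a) * o (s (gen x1)) * o (s (gen x2)) * o (s .a) * o (s (gen x3)) * o (s (gen x4)) * o (s .a) *
      o (s (gen x5)) * o (s (gen x6))) ^ 10 = 1 := by
  have hu : ∀ x ∈ (List.replicate 10 [0, x1, x2, 0, x3, x4, 0, x5, x6]).flatten, x < 11 := by
    intro x hx'
    simp only [List.mem_flatten, List.mem_replicate] at hx'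
    obtain ⟨l, ⟨_, rfl⟩, hl⟩ := hx'
    exact hx x hl
  have := congrArg ι h
  rw [map_word s ι hι _ hu, map_one, wordP_replicate_flatten] at this
  simpa only [wordP_cons, wordP_nil, gen, mul_one, mul_assoc] using this

/-- all the further relators of the Bimonster hold in `Y₅₅₅` with the spider relation -/
theorem all_rels
    (h1 : wordP PY532.P.gR (5 :: (List.replicate 9 [0, 1, 6, 9, 2, 7, 3]).flatten) = 1)
    (h2 : wordP PY532.P.gR (5 :: (List.replicate 9 [0, 1, 9, 6, 2, 10, 3]).flatten) = 1)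
    (h213 : wordP PY532.P.gR (List.replicate 10 [0, 6, 7, 0, 1, 2, 0, 9, 10]).flatten = 1)
    (h312 : wordP PY532.P.gR (List.replicate 10 [0, 9, 10, 0, 1, 2, 0, 6, 7]).flatten = 1) :
    ∀ r ∈ Bimonster.extra, PresentedGroup.mk BigRels r = 1 := by
  obtain ⟨ι1, hι1⟩ := hom_exists s123 lab123 spider_eq
  have sp213 := spider_of_hom s123 ι1 hι1 6 7 1 2 9 10 (by decide) h213
  have sp312 := spider_of_hom s123 ι1 hι1 9 10 1 2 6 7 (by decide) h312
  obtain ⟨ι2, hι2⟩ := hom_exists s213 lab213 sp213
  obtain ⟨ι3, hι3⟩ := hom_exists s312 lab312 sp312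
  obtain ⟨r1, r2⟩ := rels_of_hom s123 ι1 hι1 h1 h2
  obtain ⟨r3, r4⟩ := rels_of_hom s213 ι2 hι2 h1 h2
  obtain ⟨r5, r6⟩ := rels_of_hom s312 ι3 hι3 h1 h2
  intro r hr
  simp only [Bimonster.extra, List.mem_cons, List.not_mem_nil, or_false] at hr
  rcases hr with rfl | rfl | rfl | rfl | rfl | rfl | rfl
  · exact PresentedGroup.one_of_mem (Or.inr (by simp))
  · simp only [map_mul, map_inv, map_pow]; exact r1
  · simp only [map_mul, map_inv, map_pow]; exact r2
  · simp only [map_mul, map_inv, map_pow]; exact r3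
  · simp only [map_mul, map_inv, map_pow]; exact r4
  · simp only [map_mul, map_inv, map_pow]; exact r5
  · simp only [map_mul, map_inv, map_pow]; exact r6

end Cfsg.Agent.Lib.Helper4.Y532T
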