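import Mathlib
import Cfsg.Prelude.Def_LieExceptional
import Cfsg.Agent.Lib.Helper4.FrobPerm

set_option autoImplicit false

/-!
Zassenhaus groups: the Frobenius kernels of the point stabilisers lie in every nontrivial
normal subgroup.
-/

namespace Cfsg.Agent.Lib.Helper4.Zass

open Cfsg MulAction Cfsg.Agent.Lib.Helper4.FrobPerm

/-- elementary form of the Zassenhaus hypotheses -/
structure ZH (G Ω : Type*) [Group G] [MulAction G Ω] : Prop where
  faith : ∀ g : G, (∀ x : Ω, g • x = x) → g = 1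
  two : ∀ a b c d : Ω, a ≠ b → c ≠ d → ∃ g : G, g • a = c ∧ g • b = d
  three : ∀ g : G, ∀ a b c : Ω, a ≠ b → b ≠ c → a ≠ c → g • a = a → g • b = b → g • c = c → g = 1
  fix2 : ∃ g : G, g ≠ 1 ∧ ∃ a b : Ω, a ≠ b ∧ g • a = a ∧ g • b = b
  noreg : ∀ N : Subgroup G, N.Normal → (∀ a b : Ω, ∃ n ∈ N, n • a = b) →
    ∃ a : Ω, ∃ n ∈ N, n ≠ 1 ∧ n • a = a

variable {G Ω : Type*} [Group G] [MulAction G Ω]

lemma ZH.of (hZ : IsZassenhausGroup G Ω) : ZH G Ω := by
  obtain ⟨h1, h2, h3, h4, h5⟩ := hZ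
  refine ⟨?_, ?_, h3, h4, ?_⟩
  · intro g hg
    apply h1.eq_of_smul_eq_smul
    intro x
    rw [hg x, one_smul]
  · intro a b c d hab hcd
    exact (is_two_pretransitive_iff.1 h2) hab hcd
  · intro N hN ht
    have : IsPretransitive N Ω := ⟨fun a b => by
      obtain ⟨n, hn, h⟩ := ht a b
      exact ⟨⟨n, hn⟩, h⟩⟩
    obtain ⟨a, ha⟩ := h5 N hN this
    rw [Subgroup.ne_bot_iff_exists_ne_one] at ha
    obtain ⟨⟨n, hn⟩, hn1⟩ := ha
    refine ⟨a, n.1, n.2, ?_, ?_⟩
    · intro h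
      apply hn1
      apply Subtype.ext
      apply Subtype.ext
      exact h
    · exact hn

section

variable [Fintype Ω] (h : ZH G Ω)

include h

lemma ZH.card_gt : 2 < Fintype.card Ω := by
  classical
  obtain ⟨g, hg1, a, b, hab, hga, hgb⟩ := h.fix2
  have : ∃ c : Ω, g • c ≠ c := by
    by_contra hcon
    push Not at hcon
    exact hg1 (h.faith g hcon)
  obtain ⟨c, hc⟩ := this
  have hca : c ≠ a := by rintro rfl; exact hc hga
  have hcb : c ≠ b := by rintro rfl; exact hc hgb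
  have : ({a, b, c} : Finset Ω).card ≤ Fintype.card Ω := Finset.card_le_univ _
  rw [Finset.card_insert_of_notMem, Finset.card_insert_of_notMem, Finset.card_singleton] at this
  · omega
  · simp [hcb.symm]
  · simp [hab, hca.symm]

lemma ZH.finite : Finite G := by
  have hinj : Function.Injective (MulAction.toPermHom G Ω) := by
    rw [injective_iff_map_eq_one]
    intro g hg
    apply h.faith
    intro x
    have := congrArg (fun σ : Equiv.Perm Ω => σ x) hg
    simpa using this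
  exact Finite.of_injective _ hinj

lemma ZH.exists_ne (a : Ω) : ∃ b : Ω, b ≠ a := by
  classical
  have := h.card_gt
  by_contra hcon
  push Not at hcon
  have : Fintype.card Ω ≤ 1 := by
    rw [Fintype.card_le_one_iff]
    intro x y; rw [hcon x, hcon y]
  omega

lemma ZH.exists_ne₂ (a b : Ω) : ∃ c : Ω, c ≠ a ∧ c ≠ b := by
  classical
  have := h.card_gt
  by_contra hcon
  push Not at hcon
  have : Fintype.card Ω ≤ ({a, b} : Finset Ω).card := by
    apply Finset.card_le_card_of_surjOn (fun x => x)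
    intro x _
    simp only [Finset.coe_insert, Finset.coe_singleton, Set.mem_image, Set.mem_insert_iff,
      Set.mem_singleton_iff, exists_eq_right]
    by_cases hx : x = a
    · left; exact hx
    · right; exact hcon x hx
  have h2 : ({a, b} : Finset Ω).card ≤ 2 := Finset.card_le_two
  omega

/-- the data of the Frobenius kernel of `G_a` -/
structure KData (a : Ω) (K : Subgroup G) : Prop where
  mem : ∀ x, x ∈ K ↔ x • a = a ∧ (x = 1 ∨ ∀ b, b ≠ a → x • b ≠ b)
  conj : ∀ y : G, y • a = a → ∀ k ∈ K, y * k * y⁻¹ ∈ K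
  card : Nat.card K = Fintype.card Ω - 1
  trans : ∀ b c : Ω, b ≠ a → c ≠ a → ∃ k ∈ K, k • b = c
  dich : ∀ D : Subgroup G, D ≤ stabilizer G a → (∀ y : G, y • a = a → ∀ d ∈ D, y * d * y⁻¹ ∈ D) →
    K ≤ D ∨ D ≤ K

lemma ZH.exists_KData (a : Ω) : ∃ K : Subgroup G, KData a K := by
  haveI := h.finite
  have hres := frobStab (Y := G) a h.card_gt ?_ ?_ ?_
  · obtain ⟨K, h1, h2, h3, h4, h5⟩ := hres
    exact ⟨K, ⟨h1, h2, h3, h4, h5⟩⟩
  · intro b c hb hc
    exact h.two a b a c hb.symm hc.symm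
  · obtain ⟨g, hg1, a0, b0, hab, hga, hgb⟩ := h.fix2
    obtain ⟨b, hb⟩ := h.exists_ne a
    obtain ⟨x, hxa, hxb⟩ := h.two a0 b0 a b hab hb.symm
    refine ⟨x * g * x⁻¹, ?_, ?_, b, hb, ?_⟩
    · intro hcon
      apply hg1
      have : g = x⁻¹ * (x * g * x⁻¹) * x := by group
      rw [this, hcon]; group
    · rw [mul_smul, mul_smul, ← hxa, inv_smul_smul, hga]
    · rw [mul_smul, mul_smul, ← hxb, inv_smul_smul, hgb]
  · intro y hy1 hya b c hb hc hyb hyc
    by_contra hbc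
    exact hy1 (h.three y a b c hb.symm hbc hc.symm hya hyb hyc)

/-- a nontrivial normal subgroup is transitive -/
lemma ZH.normal_trans {N : Subgroup G} (hN : N.Normal) (hN1 : N ≠ ⊥) (c d : Ω) :
    ∃ n ∈ N, n • c = d := by
  by_cases hcd : c = d
  · exact ⟨1, one_mem _, by rw [one_smul, hcd]⟩
  rw [Subgroup.ne_bot_iff_exists_ne_one] at hN1
  obtain ⟨⟨n, hn⟩, hn1⟩ := hN1
  have hn1' : n ≠ 1 := fun hh => hn1 (Subtype.ext hh)
  have : ∃ a : Ω, n • a ≠ a := by
    by_contra hcon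
    push Not at hcon
    exact hn1' (h.faith n hcon)
  obtain ⟨a, ha⟩ := this
  obtain ⟨g, hga, hgb⟩ := h.two a (n • a) c d ha.symm hcd
  refine ⟨g * n * g⁻¹, hN.conj_mem n hn g, ?_⟩
  rw [mul_smul, mul_smul, ← hga, inv_smul_smul, hgb]

/-- no normal subgroup is a Frobenius group on `Ω` -/
lemma ZH.lemmaX {N : Subgroup G} (hN : N.Normal) (ht : ∀ a b : Ω, ∃ n ∈ N, n • a = b)
    (hfix : ∀ n ∈ N, n ≠ 1 → ∀ a b : Ω, n • a = a → n • b = b → a = b) : False := by
  haveI := h.finite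
  obtain ⟨a0, n0, hn0, hn01, hn0a⟩ := h.noreg N hN ht
  have hΔ : 1 < Fintype.card Ω := by have := h.card_gt; omega
  have h1 : ∀ α β : Ω, ∃ g : N, g • α = β := by
    intro α β
    obtain ⟨n, hn, hh⟩ := ht α β
    exact ⟨⟨n, hn⟩, hh⟩
  have h2 : ∃ g : N, g ≠ 1 ∧ ∃ α : Ω, g • α = α :=
    ⟨⟨n0, hn0⟩, fun hh => hn01 (congrArg Subtype.val hh), a0, hn0a⟩
  have h3 : ∀ g : N, g ≠ 1 → ∀ α β : Ω, g • α = α → g • β = β → α = β := by
    intro g hg α β hα hβ
    exact hfix g.1 g.2 (fun hh => hg (Subtype.ext hh)) α β hα hβ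
  obtain ⟨M0, hM0n, hM0mem, _, hM0t, _⟩ := frobPerm hΔ h1 h2 h3
  let M := M0.map N.subtype
  have hMn : M.Normal := by
    constructor
    rintro _ ⟨m, hm, rfl⟩ g
    have hmem : g * (m : G) * g⁻¹ ∈ N := hN.conj_mem m.1 m.2 g
    refine ⟨⟨g * (m : G) * g⁻¹, hmem⟩, ?_, rfl⟩
    rw [SetLike.mem_coe, hM0mem]
    rcases (hM0mem m).1 hm with hm1 | hm1
    · left
      apply Subtype.ext
      show g * (m : G) * g⁻¹ = 1
      rw [hm1]; simp
    · right
      intro ω hω
      have hω' : (g * (m : G) * g⁻¹) • ω = ω := hω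
      apply hm1 (g⁻¹ • ω)
      show (m : G) • (g⁻¹ • ω) = g⁻¹ • ω
      rw [mul_smul, mul_smul] at hω'
      rw [eq_inv_smul_iff]
      exact hω'
  have hMt : ∀ a b : Ω, ∃ n ∈ M, n • a = b := by
    intro a b
    obtain ⟨k, hk, hkab⟩ := hM0t a b
    exact ⟨k.1, ⟨k, hk, rfl⟩, hkab⟩
  obtain ⟨a, m, hm, hm1, hma⟩ := h.noreg M hMn hMt
  obtain ⟨m0, hm0, rfl⟩ := hm
  rcases (hM0mem m0).1 hm0 with hh | hh
  · apply hm1
    rw [hh]; rfl
  · exact hh a hma

/-- the Frobenius kernel of a point stabiliser lies in every nontrivial normal subgroup -/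
lemma ZH.K_le {a : Ω} {K : Subgroup G} (hK : KData a K) {N : Subgroup G} (hN : N.Normal)
    (hN1 : N ≠ ⊥) : K ≤ N := by
  have ht := h.normal_trans hN hN1
  have hDn : ∀ y : G, y • a = a → ∀ d ∈ N ⊓ stabilizer G a, y * d * y⁻¹ ∈ N ⊓ stabilizer G a := by
    intro y hya d hd
    rw [Subgroup.mem_inf] at hd ⊢
    obtain ⟨hdN, hda⟩ := hd
    refine ⟨hN.conj_mem d hdN y, ?_⟩
    rw [mem_stabilizer_iff] at hda ⊢
    rw [mul_smul, mul_smul]
    have : y⁻¹ • a = a := by rw [inv_smul_eq_iff, hya]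
    rw [this, hda, hya]
  rcases hK.dich (N ⊓ stabilizer G a) inf_le_right hDn with hh | hh
  · exact hh.trans inf_le_left
  · exfalso
    apply h.lemmaX hN ht
    intro n hn hn1 c d hnc hnd
    by_contra hcd
    obtain ⟨m, hm, hmc⟩ := ht c a
    have hconj : m * n * m⁻¹ ∈ N ⊓ stabilizer G a := by
      rw [Subgroup.mem_inf]
      refine ⟨hN.conj_mem n hn m, ?_⟩
      rw [mem_stabilizer_iff, mul_smul, mul_smul, ← hmc, inv_smul_smul, hnc]
    have hK' := (hK.mem _).1 (hh hconj)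
    rcases hK'.2 with h1 | h1
    · apply hn1
      have : n = m⁻¹ * (m * n * m⁻¹) * m := by group
      rw [this, h1]; group
    · apply h1 (m • d)
      · intro hmd
        apply hcd
        have : m • d = m • c := by rw [hmd, hmc]
        exact (smul_left_cancel m this).symm
      · rw [mul_smul, mul_smul, inv_smul_smul, hnd]

/-- a nontrivial normal subgroup is doubly transitive -/
lemma ZH.normal_two {N : Subgroup G} (hN : N.Normal) (hN1 : N ≠ ⊥) (a b c d : Ω) (hab : a ≠ b)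
    (hcd : c ≠ d) : ∃ n ∈ N, n • a = c ∧ n • b = d := by
  obtain ⟨n1, hn1, hn1a⟩ := h.normal_trans hN hN1 a c
  obtain ⟨K, hK⟩ := h.exists_KData c
  have hb' : n1 • b ≠ c := by
    intro hh
    apply hab
    rw [← hn1a] at hh
    exact (smul_left_cancel n1 hh).symm
  obtain ⟨k, hk, hkb⟩ := hK.trans (n1 • b) d hb' hcd.symm
  refine ⟨k * n1, mul_mem (h.K_le hK hN hN1 hk) hn1, ?_, ?_⟩
  · rw [mul_smul, hn1a]
    exact ((hK.mem k).1 hk).1
  · rw [mul_smul, hkb]

end

end Cfsg.Agent.Lib.Helper4.Zass
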